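import Groth.Agent.GrLib8.KChiArith
import Mathlib.RingTheory.KrullDimension.Module
import Mathlib.RingTheory.KrullDimension.Regular
import Mathlib.RingTheory.Ideal.AssociatedPrime.Finiteness
import Mathlib.RingTheory.Flat.Basic
import Mathlib.RingTheory.Localization.FractionRing
import Mathlib.RingTheory.Flat.Localization
import Mathlib.RingTheory.KrullDimension.NonZeroDivisors

/-!
# The Euler characteristic and the dimension
-/

set_option autoImplicit false
set_option linter.style.haveILetI false

universe u

open CategoryTheory Limits CochainComplex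
open scoped Pointwise

namespace Groth.Agent.GrLib8.KChi

variable {A : Type u} [CommRing A]

local notation "K(" fs ", " M ")" => CohIII.koszulCx M fs

theorem span_set_eq_ofList (x : A) (l : List A) :
    Ideal.span ({x} ∪ {a : A | a ∈ l}) = Ideal.ofList (x :: l) :=
  congrArg Ideal.span (Set.ext fun y => by simp)

theorem span_range_eq_ofList {k : ℕ} (x : Fin k → A) : Ideal.span (Set.range x) = Ideal.ofList (List.ofFn x) :=
  congrArg Ideal.span (Set.ext fun y => by simp [List.mem_ofFn])

/-- Support dimension of an extension. -/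
theorem supportDim_le_of_exact {N₁ N₂ N₃ : Type u} [AddCommGroup N₁] [Module A N₁] [AddCommGroup N₂] [Module A N₂]
    [AddCommGroup N₃] [Module A N₃] (f : N₁ →ₗ[A] N₂) (g : N₂ →ₗ[A] N₃) (hf : Function.Injective f)
    (hg : Function.Surjective g) (h : Function.Exact f g) :
    Module.supportDim A N₂ ≤ max (Module.supportDim A N₁) (Module.supportDim A N₃) := by
  refine iSup_le fun p => ?_
  have h0 : p.head.1 ∈ Module.support A N₁ ∪ Module.support A N₃ :=
    Module.support_of_exact h hf hg ▸ p.head.2
  have up : ∀ (N : Type u) [AddCommGroup N] [Module A N], p.head.1 ∈ Module.support A N →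
      (p.length : WithBot ℕ∞) ≤ Module.supportDim A N := fun N _ _ hN => by
    have hmem : ∀ i, (p i).1 ∈ Module.support A N := fun i =>
      Module.mem_support_mono (p.monotone (Fin.zero_le i)) hN
    exact Order.LTSeries.length_le_krullDim
      ({ length := p.length, toFun := fun i => ⟨(p i).1, hmem i⟩, step := fun i => p.step i } :
        LTSeries (Module.support A N))
  rcases h0 with h0 | h0
  · exact le_max_of_le_left (up N₁ h0)
  · exact le_max_of_le_right (up N₃ h0)

theorem withBot_le_succ {a b : WithBot ℕ∞} (h : a + 1 = b) (n : ℕ) :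
    (b ≤ ((n + 1 : ℕ) : WithBot ℕ∞) ↔ a ≤ (n : WithBot ℕ∞)) ∧
      (b < ((n + 1 : ℕ) : WithBot ℕ∞) ↔ a < (n : WithBot ℕ∞)) ∧ (b = ((n + 1 : ℕ) : WithBot ℕ∞) ↔ a = (n : WithBot ℕ∞)) := by
  subst h
  induction a using WithBot.recBotCoe with
  | bot =>
    simp
    exact WithBot.bot_ne_coe
  | coe a =>
    induction a using ENat.recTopCoe with
    | top =>
      change (((⊤ : ℕ∞) : WithBot ℕ∞) ≤ (((n + 1 : ℕ) : ℕ∞) : WithBot ℕ∞) ↔ ((⊤ : ℕ∞) : WithBot ℕ∞) ≤ ((n : ℕ∞) : WithBot ℕ∞)) ∧
        (((⊤ : ℕ∞) : WithBot ℕ∞) < (((n + 1 : ℕ) : ℕ∞) : WithBot ℕ∞) ↔ ((⊤ : ℕ∞) : WithBot ℕ∞) < ((n : ℕ∞) : WithBot ℕ∞)) ∧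
        (((⊤ : ℕ∞) : WithBot ℕ∞) = (((n + 1 : ℕ) : ℕ∞) : WithBot ℕ∞) ↔ ((⊤ : ℕ∞) : WithBot ℕ∞) = ((n : ℕ∞) : WithBot ℕ∞))
      simp only [WithBot.coe_le_coe, WithBot.coe_lt_coe, WithBot.coe_inj, top_le_iff, not_top_lt, ENat.natCast_ne_top,
        ENat.top_ne_natCast, and_self]
    | coe a =>
      have e : (((a : ℕ∞) : WithBot ℕ∞) + 1) = ((a + 1 : ℕ) : WithBot ℕ∞) := by push_cast; rfl
      rw [e]
      change ((((a + 1 : ℕ)) : WithBot ℕ∞) ≤ _ ↔ ((a : ℕ) : WithBot ℕ∞) ≤ _) ∧ (_ ↔ ((a : ℕ) : WithBot ℕ∞) < _) ∧
        (_ ↔ ((a : ℕ) : WithBot ℕ∞) = _)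
      simp only [Nat.cast_le, Nat.cast_lt, Nat.cast_inj]
      omega

variable [IsNoetherianRing A] [IsLocalRing A]

theorem chi_nil_eq (M : ModuleCat.{u} A) : chi M ([] : List A) = len A M := by
  rw [chi, finsum_eq_single _ (0 : ℤ) fun i hi => by
    rw [len_H_eq_zero M [] (by simp only [List.length_nil, Nat.cast_zero, neg_zero]; omega), mul_zero]]
  obtain ⟨e⟩ := Koszul15.nonempty_top_equiv ([] : List A) M
  rw [len_congr (e.trans (Submodule.quotEquivOfEqBot _ (by rw [Ideal.ofList_nil, Submodule.bot_smul])))]
  simp [sgn]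

/-- The three facts relating the characteristic and the dimension. -/
def DimSpec (l : List A) (M : ModuleCat.{u} A) : Prop :=
  Module.supportDim A M ≤ (l.length : WithBot ℕ∞) ∧
    (Module.supportDim A M < (l.length : WithBot ℕ∞) → chi M l = 0) ∧
    (Module.supportDim A M = (l.length : WithBot ℕ∞) → 0 < chi M l)

omit [IsNoetherianRing A] [IsLocalRing A] in
theorem DimSpec.nonneg {l : List A} {M : ModuleCat.{u} A} (h : DimSpec l M) : 0 ≤ chi M l := by
  rcases h.1.lt_or_eq with h' | h'
  · exact (h.2.1 h').ge
  · exact (h.2.2 h').le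

theorem dimSpec : ∀ (l : List A), (∀ x ∈ l, x ∈ IsLocalRing.maximalIdeal A) →
    ∀ (M : Type u) [AddCommGroup M] [Module A M] [Module.Finite A M], FL (ModuleCat.of A M) l →
      DimSpec l (ModuleCat.of A M)
  | [], _, M, _, _, _, hM => by
    have hfl : IsFiniteLength A M := by
      have h := (FL_iff (ModuleCat.of A M) []).1 hM
      exact (Submodule.quotEquivOfEqBot _ (by rw [Ideal.ofList_nil, Submodule.bot_smul])).isFiniteLength h
    have hle : Module.supportDim A M ≤ ((0 : ℕ) : WithBot ℕ∞) := by
      refine iSup_le fun p => ?_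
      by_contra hc
      have hpos : 0 < p.length := by
        by_contra h0
        exact hc (by rw [Nat.eq_zero_of_not_pos h0])
      have := p.step ⟨0, hpos⟩
      have e1 := KZ.support_subset_of_isFiniteLength hfl (p (Fin.castSucc ⟨0, hpos⟩)).2
      have e2 := KZ.support_subset_of_isFiniteLength hfl (p (Fin.succ ⟨0, hpos⟩)).2
      rw [Set.mem_singleton_iff] at e1 e2
      exact absurd (Subtype.ext (e1.trans e2.symm)) this.ne
    refine ⟨hle, fun h => ?_, fun h => ?_⟩
    · rw [chi_nil_eq]
      haveI : Subsingleton M := by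
        by_contra hne
        rw [not_subsingleton_iff_nontrivial] at hne
        haveI : Nonempty (Module.support A M) := Set.Nonempty.to_subtype (Module.nonempty_support_iff.2 hne)
        exact absurd h (not_lt.2 Order.krullDim_nonneg)
      exact len_of_subsingleton _
    · rw [chi_nil_eq, len]
      haveI : Nontrivial M := by
        by_contra hne
        rw [not_nontrivial_iff_subsingleton] at hne
        rw [Module.supportDim_eq_bot_of_subsingleton] at h
        simp at h
      have h0 : Module.length A M ≠ 0 := fun h => not_subsingleton M (Module.length_eq_zero_iff.1 h)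
      have h1 := Module.length_ne_top_iff.2 hfl
      have : (Module.length A M).toNat ≠ 0 := fun h => by
        rcases ENat.toNat_eq_zero.1 h with h | h
        exacts [h0 h, h1 h]
      show (0 : ℤ) < ((Module.length A M).toNat : ℤ)
      omega
  | x :: l, hl, M, _, _, hfin, hM => by
    have hx : x ∈ IsLocalRing.maximalIdeal A := hl x List.mem_cons_self
    have ih := dimSpec l fun y hy => hl y (List.mem_cons_of_mem _ hy)
    revert hM
    refine IsNoetherianRing.induction_on_isQuotientEquivQuotientPrime (A := A) (M := M) hfin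
      (motive := fun N _ _ _ => FL (ModuleCat.of A N) (x :: l) → DimSpec (x :: l) (ModuleCat.of A N)) ?_ ?_ ?_
    · intro N _ _ _ _ hN
      have hd : Module.supportDim A N < ((x :: l).length : WithBot ℕ∞) := by
        rw [Module.supportDim_eq_bot_of_subsingleton]
        exact WithBot.bot_lt_coe _
      refine ⟨hd.le, fun _ => chi_cons_of_kill hN fun z => Subsingleton.elim _ _, fun h => absurd h hd.ne⟩
    · intro N _ _ _ p e hN
      have hlen : ((x :: l).length : WithBot ℕ∞) = ((l.length + 1 : ℕ) : WithBot ℕ∞) := by rw [List.length_cons]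
      by_cases hxp : x ∈ p.asIdeal
      · have hk : ∀ z : N, x • z = 0 := fun z => e.injective (by
          rw [map_smul, map_zero]
          obtain ⟨r, hr⟩ := Ideal.Quotient.mk_surjective (e z)
          rw [← hr]
          show Ideal.Quotient.mk _ (x * r) = 0
          exact Ideal.Quotient.eq_zero_iff_mem.2 (Ideal.mul_mem_right _ _ hxp))
        have hN' : FL (ModuleCat.of A N) l := fun q hq => hN q (sup_le (le_sup_left.trans hq) (by
          rw [Ideal.ofList_cons]
          exact sup_le ((Ideal.span_singleton_le_iff_mem _).2 (hq (Submodule.mem_sup_left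
            (Module.mem_annihilator.2 hk)))) (le_sup_right.trans hq)))
        have h1 := (ih N hN').1
        have hd : Module.supportDim A N < ((x :: l).length : WithBot ℕ∞) := by
          rw [hlen]
          exact h1.trans_lt (by exact_mod_cast Nat.lt_succ_self _)
        exact ⟨hd.le, fun _ => chi_cons_of_kill hN hk, fun h => absurd h hd.ne⟩
      · have hreg : ∀ z : N, x • z = 0 → z = 0 := fun z hz => e.injective (by
          rw [map_zero]
          obtain ⟨r, hr⟩ := Ideal.Quotient.mk_surjective (e z)
          have h : x • e z = 0 := by rw [← map_smul, hz, map_zero]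
          rw [← hr] at h ⊢
          rw [Ideal.Quotient.eq_zero_iff_mem]
          exact (p.2.mem_or_mem (Ideal.Quotient.eq_zero_iff_mem.1 h)).resolve_left hxp)
        let N' := QuotSMulTop x N
        have hex : ∀ z : N, Submodule.mkQ (x • (⊤ : Submodule A N)) z = 0 ↔ ∃ y, x • y = z := fun z => by
          rw [Submodule.mkQ_apply, Submodule.Quotient.mk_eq_zero, Submodule.mem_smul_pointwise_iff_exists]
          simp
        have hN' : FL (ModuleCat.of A N') l := fun q hq => hN q (sup_le (fun a ha => hq (Submodule.mem_sup_left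
            (Module.mem_annihilator.2 fun z => by
              obtain ⟨z, rfl⟩ := Submodule.mkQ_surjective _ z
              rw [← map_smul, Module.mem_annihilator.1 ha z, map_zero]))) (by
          rw [Ideal.ofList_cons]
          refine sup_le ((Ideal.span_singleton_le_iff_mem _).2 (hq (Submodule.mem_sup_left
            (Module.mem_annihilator.2 fun z => ?_)))) (le_sup_right.trans hq)
          obtain ⟨z, rfl⟩ := Submodule.mkQ_surjective _ z
          rw [← map_smul]
          exact (hex _).2 ⟨z, rfl⟩))
        obtain ⟨h1, h2, h3⟩ := ih N' hN'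
        have hreg' : IsSMulRegular N x := isSMulRegular_iff_right_eq_zero_of_smul.2 hreg
        have hdim : Module.supportDim A N' + 1 = Module.supportDim A N :=
          Module.supportDim_quotSMulTop_succ_eq_supportDim hreg' hx
        have hchi : chi (ModuleCat.of A N) (x :: l) = chi (ModuleCat.of A N') l :=
          chi_cons_of_regular (M := ModuleCat.of A N) (M' := ModuleCat.of A N')
            (ModuleCat.ofHom (Submodule.mkQ _)) (Submodule.mkQ_surjective _) hreg hex
        obtain ⟨e1, e2, e3⟩ := withBot_le_succ hdim l.length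
        refine ⟨?_, fun h => ?_, fun h => ?_⟩
        · rw [hlen]; exact e1.2 h1
        · rw [hlen] at h; rw [hchi]; exact h2 (e2.1 h)
        · rw [hlen] at h; rw [hchi]; exact h3 (e3.1 h)
    · intro N₁ _ _ _ N₂ _ _ _ N₃ _ _ _ f g hf hg hfg h1 h3 hN
      have hN1 : FL (ModuleCat.of A N₁) (x :: l) := fun q hq => hN q (sup_le (fun a ha => hq (Submodule.mem_sup_left
        (Module.mem_annihilator.2 fun z => hf (by rw [map_smul, Module.mem_annihilator.1 ha, map_zero]))))
        (le_sup_right.trans hq))
      have hN3 : FL (ModuleCat.of A N₃) (x :: l) := fun q hq => hN q (sup_le (fun a ha => hq (Submodule.mem_sup_left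
        (Module.mem_annihilator.2 fun z => by
          obtain ⟨z, rfl⟩ := hg z
          rw [← map_smul, Module.mem_annihilator.1 ha z, map_zero])))
        (le_sup_right.trans hq))
      have hadd : chi (ModuleCat.of A N₂) (x :: l) =
          chi (ModuleCat.of A N₁) (x :: l) + chi (ModuleCat.of A N₃) (x :: l) :=
        chi_add (M₁ := ModuleCat.of A N₁) (M₂ := ModuleCat.of A N₂) (M₃ := ModuleCat.of A N₃)
          (ModuleCat.ofHom f) (ModuleCat.ofHom g) hf hg hfg hN1 hN hN3
      have d1 : Module.supportDim A N₁ ≤ Module.supportDim A N₂ := Module.supportDim_le_of_injective f hf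
      have d3 : Module.supportDim A N₃ ≤ Module.supportDim A N₂ := Module.supportDim_le_of_surjective g hg
      have d2 := supportDim_le_of_exact f g hf hg hfg
      obtain ⟨a1, b1, c1⟩ := h1 hN1
      obtain ⟨a3, b3, c3⟩ := h3 hN3
      refine ⟨d2.trans (max_le a1 a3), fun h => ?_, fun h => ?_⟩
      · rw [hadd, b1 (d1.trans_lt h), b3 (d3.trans_lt h), add_zero]
      · rw [hadd]
        have n1 := (h1 hN1).nonneg
        have n3 := (h3 hN3).nonneg
        rcases le_max_iff.1 (h.ge.trans d2) with h' | h'
        · have := c1 (le_antisymm a1 h'); omega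
        · have := c3 (le_antisymm a3 h'); omega

theorem chi_pow_list (M : ModuleCat.{u} A) [Module.Finite A M] : ∀ (L : List (A × ℕ)) (l₂ : List A),
    FL M (L.map Prod.fst ++ l₂) →
      FL M (L.map (fun q => q.1 ^ q.2) ++ l₂) ∧
        chi M (L.map (fun q => q.1 ^ q.2) ++ l₂) =
          ((L.map fun q => (q.2 : ℤ)).prod) * chi M (L.map Prod.fst ++ l₂)
  | [], l₂, h => ⟨h, by simp⟩
  | (x, m) :: L, l₂, h => by
    simp only [List.map_cons, List.cons_append, List.prod_cons] at h ⊢
    have hp : (x :: (L.map Prod.fst ++ l₂)).Perm (L.map Prod.fst ++ x :: l₂) := List.perm_middle.symm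
    obtain ⟨hF, hc⟩ := chi_pow_list M L (x :: l₂) (FL_perm M hp h)
    have hp' : (L.map (fun q => q.1 ^ q.2) ++ x :: l₂).Perm (x :: (L.map (fun q => q.1 ^ q.2) ++ l₂)) :=
      List.perm_middle
    have hF' := FL_perm M hp' hF
    have h1 : FL M ((1 : A) :: (L.map (fun q => q.1 ^ q.2) ++ l₂)) := fun q hq =>
      absurd ((Ideal.eq_top_iff_one _).2 (hq (Submodule.mem_sup_right
        (Ideal.subset_span (List.mem_cons_self (a := (1 : A))))))) q.2.ne_top
    obtain ⟨hP, hcp⟩ := chi_pow_cons hF' h1 m
    refine ⟨hP, ?_⟩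
    rw [hcp, ← chi_perm M hp', hc, chi_perm M hp]
    ring

theorem chi_eq_rank_mul [IsDomain A] (d : ℕ) (hd : ringKrullDim A = d) (l : List A) (hld : l.length = d)
    (hl : ∀ x ∈ l, x ∈ IsLocalRing.maximalIdeal A) (hA : FL (ModuleCat.of A A) l)
    (M : Type u) [AddCommGroup M] [Module A M] [hfin : Module.Finite A M] :
    chi (ModuleCat.of A M) l =
      (Module.finrank (FractionRing A) (TensorProduct A (FractionRing A) M) : ℤ) * chi (ModuleCat.of A A) l := by
  have hFL : ∀ (N : Type u) [AddCommGroup N] [Module A N] [Module.Finite A N], FL (ModuleCat.of A N) l :=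
    fun N _ _ _ q hq => hA q (sup_le (fun a ha => by
      have : a = 0 := by simpa using Module.mem_annihilator.1 ha 1
      exact this ▸ q.asIdeal.zero_mem) (le_sup_right.trans hq))
  refine IsNoetherianRing.induction_on_isQuotientEquivQuotientPrime (A := A) (M := M) hfin
    (motive := fun N _ _ _ => chi (ModuleCat.of A N) l =
      (Module.finrank (FractionRing A) (TensorProduct A (FractionRing A) N) : ℤ) * chi (ModuleCat.of A A) l) ?_ ?_ ?_
  · intro N _ _ _ _
    haveI : Subsingleton (TensorProduct A (FractionRing A) N) := ⟨fun a b => by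
      have h : ∀ t : TensorProduct A (FractionRing A) N, t = 0 := fun t => by
        induction t using TensorProduct.induction_on with
        | zero => rfl
        | tmul r n => rw [Subsingleton.elim n 0, TensorProduct.tmul_zero]
        | add _ _ h1 h2 => rw [h1, h2, add_zero]
      rw [h a, h b]⟩
    rw [Module.finrank_zero_of_subsingleton, Nat.cast_zero, zero_mul]
    refine (dimSpec l hl N (hFL N)).2.1 ?_
    rw [Module.supportDim_eq_bot_of_subsingleton]
    exact WithBot.bot_lt_coe _
  · intro N _ _ _ p e
    by_cases hp : p.asIdeal = ⊥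
    · let e' : N ≃ₗ[A] A := e.trans (Submodule.quotEquivOfEqBot _ hp)
      have h1 : Module.finrank (FractionRing A) (TensorProduct A (FractionRing A) N) = 1 := by
        rw [((LinearEquiv.baseChange A (FractionRing A) N A e').trans
          (TensorProduct.AlgebraTensorModule.rid A (FractionRing A) (FractionRing A))).finrank_eq,
          Module.finrank_self]
      rw [h1, Nat.cast_one, one_mul]
      have h0 : chi (ModuleCat.of A PUnit.{u + 1}) l = 0 := (dimSpec l hl PUnit.{u + 1} (hFL _)).2.1 (by
        rw [Module.supportDim_eq_bot_of_subsingleton]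
        exact WithBot.bot_lt_coe _)
      rw [chi_add (M₁ := ModuleCat.of A PUnit.{u + 1}) (M₂ := ModuleCat.of A N) (M₃ := ModuleCat.of A A)
        (ModuleCat.ofHom 0) (ModuleCat.ofHom e'.toLinearMap) (fun a b _ => Subsingleton.elim (α := PUnit.{u + 1}) a b)
        e'.surjective (fun z => ⟨fun hz => ⟨0, (e'.map_eq_zero_iff.1 hz).symm⟩, by
          rintro ⟨w, rfl⟩
          exact map_zero e'⟩) (hFL _) (hFL _) hA, h0, zero_add]
    · obtain ⟨r, hr, hr0⟩ := Submodule.exists_mem_ne_zero_of_ne_bot hp
      have hk : ∀ z : N, r • z = 0 := fun z => e.injective (by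
        rw [map_smul, map_zero]
        obtain ⟨t, ht⟩ := Ideal.Quotient.mk_surjective (e z)
        rw [← ht]
        show Ideal.Quotient.mk _ (r * t) = 0
        exact Ideal.Quotient.eq_zero_iff_mem.2 (Ideal.mul_mem_right _ _ hr))
      haveI : Subsingleton (TensorProduct A (FractionRing A) N) := ⟨fun a b => by
        have hu : IsUnit (algebraMap A (FractionRing A) r) := IsUnit.mk0 _ fun h =>
          hr0 (IsFractionRing.injective A (FractionRing A) (h.trans (map_zero _).symm))
        have h : ∀ t : TensorProduct A (FractionRing A) N, t = 0 := fun t => by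
          induction t using TensorProduct.induction_on with
          | zero => rfl
          | tmul s n =>
            obtain ⟨v, hv⟩ := hu.exists_right_inv
            rw [show s = r • (v * s) from by rw [Algebra.smul_def, ← mul_assoc, hv, one_mul],
              TensorProduct.smul_tmul, hk, TensorProduct.tmul_zero]
          | add _ _ h1 h2 => rw [h1, h2, add_zero]
        rw [h a, h b]⟩
      rw [Module.finrank_zero_of_subsingleton, Nat.cast_zero, zero_mul]
      refine (dimSpec l hl N (hFL N)).2.1 ?_
      rw [Module.supportDim_eq_of_equiv e, Module.supportDim_quotient_eq_ringKrullDim, hld]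
      have h1 : ringKrullDim (A ⧸ p.asIdeal) + 1 ≤ (d : WithBot ℕ∞) := by
        refine le_trans (add_le_add ?_ le_rfl) ((ringKrullDim_quotient_succ_le_of_nonZeroDivisor
          (mem_nonZeroDivisors_of_ne_zero hr0)).trans hd.le)
        exact ringKrullDim_le_of_surjective (Ideal.Quotient.factor ((Ideal.span_singleton_le_iff_mem _).2 hr))
          (Ideal.Quotient.factor_surjective _)
      rcases d with _ | d
      · haveI : Nontrivial (A ⧸ p.asIdeal) := Ideal.Quotient.nontrivial_iff.2 p.2.ne_top
        exact absurd ((add_le_add ringKrullDim_nonneg_of_nontrivial le_rfl).trans h1) (by norm_num)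
      · exact ((withBot_le_succ rfl d).1.1 h1).trans_lt (by exact_mod_cast Nat.lt_succ_self d)
  · intro N₁ _ _ _ N₂ _ _ _ N₃ _ _ _ f g hf hg hfg h1 h3
    have hadd : chi (ModuleCat.of A N₂) l = chi (ModuleCat.of A N₁) l + chi (ModuleCat.of A N₃) l :=
      chi_add (M₁ := ModuleCat.of A N₁) (M₂ := ModuleCat.of A N₂) (M₃ := ModuleCat.of A N₃)
        (ModuleCat.ofHom f) (ModuleCat.ofHom g) hf hg hfg (hFL N₁) (hFL N₂) (hFL N₃)
    let F := f.baseChange (FractionRing A)
    let G := g.baseChange (FractionRing A)
    have hF : Function.Injective F := Module.Flat.lTensor_preserves_injective_linearMap (M := FractionRing A) f hf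
    have hG : Function.Surjective G := LinearMap.lTensor_surjective (FractionRing A) hg
    have hFG : Function.Exact F G := lTensor_exact (FractionRing A) hfg hg
    have hk := G.finrank_range_add_finrank_ker
    rw [LinearMap.range_eq_top.2 hG, finrank_top, LinearMap.exact_iff.1 hFG,
      LinearMap.finrank_range_of_inj hF] at hk
    rw [hadd, h1, h3, ← hk]
    push_cast
    ring

end Groth.Agent.GrLib8.KChi
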