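import Groth.Agent.GrLib8.KChiBasic

/-!
# Arithmetic of the Euler characteristic
-/

set_option autoImplicit false
set_option linter.style.haveILetI false

universe u

open CategoryTheory Limits CochainComplex

namespace Groth.Agent.GrLib8.KChi

variable {A : Type u} [CommRing A]

local notation "K(" fs ", " M ")" => CohIII.koszulCx M fs

section Len

variable {N N' N'' : Type u} [AddCommGroup N] [Module A N] [AddCommGroup N'] [Module A N']
  [AddCommGroup N''] [Module A N'']

theorem fl_of_injective (f : N →ₗ[A] N') (hf : Function.Injective f) (h : IsFiniteLength A N') :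
    IsFiniteLength A N := by
  obtain ⟨_, _⟩ := isFiniteLength_iff_isNoetherian_isArtinian.1 h
  exact isFiniteLength_iff_isNoetherian_isArtinian.2 ⟨isNoetherian_of_injective f hf, isArtinian_of_injective f hf⟩

theorem fl_of_surjective (f : N →ₗ[A] N') (hf : Function.Surjective f) (h : IsFiniteLength A N) :
    IsFiniteLength A N' := by
  obtain ⟨_, _⟩ := isFiniteLength_iff_isNoetherian_isArtinian.1 h
  exact isFiniteLength_iff_isNoetherian_isArtinian.2
    ⟨isNoetherian_of_surjective f (LinearMap.range_eq_top.2 hf), isArtinian_of_surjective N f hf⟩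

/-- Lengths along an exact pair. -/
theorem len_exact (f : N →ₗ[A] N') (g : N' →ₗ[A] N'') (h : Function.Exact f g) (hfl : IsFiniteLength A N') :
    len A N' = len A (LinearMap.range f) + len A (LinearMap.range g) := by
  have h1 := fl_of_injective (LinearMap.range f).subtype Subtype.val_injective hfl
  have h3 := fl_of_surjective g.rangeRestrict g.surjective_rangeRestrict hfl
  have he : Function.Exact (LinearMap.range f).subtype g.rangeRestrict := fun b =>
    ⟨fun hb => ⟨⟨b, (h b).1 (congrArg Subtype.val hb)⟩, rfl⟩, fun ⟨a, ha⟩ => Subtype.ext ((h b).2 (ha ▸ a.2))⟩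
  rw [len, len, len, Module.length_eq_add_of_exact _ _ Subtype.val_injective g.surjective_rangeRestrict he,
    ENat.toNat_add (Module.length_ne_top_iff.2 h1) (Module.length_ne_top_iff.2 h3), Nat.cast_add]

theorem len_range (f : N →ₗ[A] N') (hfl : IsFiniteLength A N) :
    len A N = len A (LinearMap.ker f) + len A (LinearMap.range f) := by
  rw [len_exact (LinearMap.ker f).subtype f (LinearMap.exact_subtype_ker_map f) hfl]
  refine congrArg (· + _) (len_congr ?_).symm
  exact (LinearEquiv.ofInjective _ Subtype.val_injective)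

end Len

section Index

/-- Multiplication by `x`. -/
abbrev mulBy (x : A) (N : Type u) [AddCommGroup N] [Module A N] : N →ₗ[A] N := LinearMap.lsmul A N x

/-- Length of the cokernel of multiplication. -/
noncomputable def cok (x : A) (N : Type u) [AddCommGroup N] [Module A N] : ℤ :=
  len A (N ⧸ LinearMap.range (mulBy x N))

/-- Length of the kernel of multiplication. -/
noncomputable def kerLen (x : A) (N : Type u) [AddCommGroup N] [Module A N] : ℤ :=
  len A (LinearMap.ker (mulBy x N))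

/-- The index of multiplication. -/
noncomputable def ix (x : A) (N : Type u) [AddCommGroup N] [Module A N] : ℤ := cok x N - kerLen x N

/-- Kernel and cokernel of multiplication are of finite length. -/
def FLx (x : A) (N : Type u) [AddCommGroup N] [Module A N] : Prop :=
  IsFiniteLength A (N ⧸ LinearMap.range (mulBy x N)) ∧ IsFiniteLength A (LinearMap.ker (mulBy x N))

theorem ix_mul {N : Type u} [AddCommGroup N] [Module A N] (x y : A) (hx : FLx x N) (hy : FLx y N)
    (hxy : FLx (x * y) N) : ix (x * y) N = ix x N + ix y N := by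
  let f1 : LinearMap.ker (mulBy x N) →ₗ[A] LinearMap.ker (mulBy (x * y) N) := Submodule.inclusion fun z hz => by
    rw [LinearMap.mem_ker, LinearMap.lsmul_apply] at hz ⊢
    rw [mul_comm, mul_smul, hz, smul_zero]
  let f2 : LinearMap.ker (mulBy (x * y) N) →ₗ[A] LinearMap.ker (mulBy y N) :=
    LinearMap.codRestrict _ ((mulBy x N).comp (Submodule.subtype _)) fun z => by
      have := z.2
      rw [LinearMap.mem_ker, LinearMap.lsmul_apply] at this ⊢
      show y • x • (z : N) = 0
      rw [smul_smul, mul_comm, this]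
  let f3 : LinearMap.ker (mulBy y N) →ₗ[A] (N ⧸ LinearMap.range (mulBy x N)) :=
    (Submodule.mkQ _).comp (Submodule.subtype _)
  have hle : LinearMap.range (mulBy x N) ≤ (LinearMap.range (mulBy (x * y) N)).comap (mulBy y N) := by
    rintro _ ⟨z, rfl⟩
    exact ⟨z, by simp only [LinearMap.lsmul_apply]; rw [smul_smul, mul_comm]⟩
  let f4 : (N ⧸ LinearMap.range (mulBy x N)) →ₗ[A] (N ⧸ LinearMap.range (mulBy (x * y) N)) :=
    Submodule.mapQ _ _ (mulBy y N) hle
  have hle' : LinearMap.range (mulBy (x * y) N) ≤ LinearMap.range (mulBy y N) := by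
    rintro _ ⟨z, rfl⟩
    exact ⟨x • z, by simp only [LinearMap.lsmul_apply]; rw [smul_smul, mul_comm]⟩
  let f5 := Submodule.factor hle'
  have e12 : Function.Exact f1 f2 := fun z =>
    ⟨fun hz => ⟨⟨z, congrArg Subtype.val hz⟩, rfl⟩, by rintro ⟨w, rfl⟩; exact Subtype.ext w.2⟩
  have e23 : Function.Exact f2 f3 := fun z => by
    refine ⟨fun hz => ?_, ?_⟩
    · obtain ⟨w, hw⟩ := (Submodule.Quotient.mk_eq_zero _).1 hz
      refine ⟨⟨w, ?_⟩, Subtype.ext hw⟩
      have := z.2
      rw [LinearMap.mem_ker, LinearMap.lsmul_apply] at this ⊢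
      rw [mul_comm, mul_smul]
      exact (congrArg (y • ·) hw).trans this
    · rintro ⟨w, rfl⟩
      exact (Submodule.Quotient.mk_eq_zero _).2 ⟨w, rfl⟩
  have e34 : Function.Exact f3 f4 := fun z => by
    obtain ⟨z, rfl⟩ := Submodule.mkQ_surjective _ z
    refine ⟨fun hz => ?_, ?_⟩
    · obtain ⟨w, hw⟩ := (Submodule.Quotient.mk_eq_zero _).1 hz
      simp only [LinearMap.lsmul_apply] at hw
      refine ⟨⟨z - x • w, ?_⟩, ?_⟩
      · rw [LinearMap.mem_ker, LinearMap.lsmul_apply, smul_sub, smul_smul, mul_comm y x, hw, sub_self]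
      · exact (Submodule.Quotient.eq _).2 ⟨-w, by simp⟩
    · rintro ⟨w, hw⟩
      rw [← hw]
      exact (Submodule.Quotient.mk_eq_zero _).2 ⟨0, by
        have := w.2
        rw [LinearMap.mem_ker, LinearMap.lsmul_apply] at this
        simp [this]⟩
  have e45 : Function.Exact f4 f5 := fun z => by
    obtain ⟨z, rfl⟩ := Submodule.mkQ_surjective _ z
    refine ⟨fun hz => ?_, ?_⟩
    · obtain ⟨w, hw⟩ := (Submodule.Quotient.mk_eq_zero _).1 hz
      exact ⟨Submodule.mkQ _ w, congrArg (Submodule.Quotient.mk) hw⟩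
    · rintro ⟨w, hw⟩
      obtain ⟨w, rfl⟩ := Submodule.mkQ_surjective _ w
      rw [← hw]
      exact (Submodule.Quotient.mk_eq_zero _).2 ⟨w, rfl⟩
  have r1 : len A (LinearMap.range f1) = kerLen x N :=
    (len_congr (LinearEquiv.ofInjective f1 (Submodule.inclusion_injective _))).symm
  have r5 : len A (LinearMap.range f5) = cok y N :=
    len_congr (LinearEquiv.ofTop _ (LinearMap.range_eq_top.2 (Submodule.factor_surjective hle')))
  have q2 := len_exact f1 f2 e12 hxy.2
  have q3 := len_exact f2 f3 e23 hy.2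
  have q4 := len_exact f3 f4 e34 hx.1
  have q5 := len_exact f4 f5 e45 hxy.1
  rw [ix, ix, ix, cok, cok, kerLen, kerLen]
  rw [kerLen] at r1
  rw [cok] at r5
  rw [cok]
  rw [kerLen]
  linarith

theorem ix_zero {N : Type u} [AddCommGroup N] [Module A N] {x : A} (hx : ∀ z : N, x • z = 0) : ix x N = 0 := by
  have hf : mulBy x N = 0 := LinearMap.ext hx
  rw [ix, cok, kerLen, hf,
    len_congr (Submodule.quotEquivOfEqBot (LinearMap.range (0 : N →ₗ[A] N)) LinearMap.range_zero),
    len_congr (LinearEquiv.ofTop (LinearMap.ker (0 : N →ₗ[A] N)) LinearMap.ker_zero), sub_self]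

end Index

section Cons

variable [IsNoetherianRing A] [IsLocalRing A] {M : ModuleCat.{u} A} [Module.Finite A M] {l : List A} {f : A}

theorem flx_H (h : FL M (f :: l)) (i : ℤ) : FLx f (H M l i) := by
  constructor
  · obtain ⟨a, b, ha, -, -⟩ := exists_cone_maps f (M := M) (l := l) i
    have hk : LinearMap.range (mulBy f (H M l i)) = LinearMap.ker a := Submodule.ext fun x => (ha x).symm
    refine fl_of_injective ((LinearMap.range (mulBy f (H M l i))).liftQ a hk.le) ?_ (isFiniteLength_H h i)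
    rw [← LinearMap.ker_eq_bot]
    exact Submodule.ker_liftQ_eq_bot _ _ _ hk.ge
  · obtain ⟨j, rfl⟩ : ∃ j, j + 1 = i := ⟨i - 1, by omega⟩
    obtain ⟨a, b, -, -, hb⟩ := exists_cone_maps f (M := M) (l := l) j
    have hr : LinearMap.range b = LinearMap.ker (mulBy f (H M l (j + 1))) := Submodule.ext fun x => hb x
    exact fl_of_surjective ((LinearEquiv.ofEq _ _ hr).toLinearMap.comp b.rangeRestrict)
      ((LinearEquiv.ofEq _ _ hr).surjective.comp b.surjective_rangeRestrict) (isFiniteLength_H h j)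

theorem len_H_cons (h : FL M (f :: l)) (i : ℤ) :
    len A (H M (f :: l) i) = cok f (H M l i) + kerLen f (H M l (i + 1)) := by
  obtain ⟨a, b, ha, hab, hb⟩ := exists_cone_maps f (M := M) (l := l) i
  rw [len_exact a b hab (isFiniteLength_H h i)]
  refine congrArg₂ (· + ·) ?_ (len_congr (LinearEquiv.ofEq _ _ (Submodule.ext fun x => hb x)))
  refine (len_congr ?_).symm
  exact (Submodule.quotEquivOfEq _ _ (Submodule.ext fun x => (ha x).symm)).trans a.quotKerEquivRange

theorem cok_eq_zero_of_subsingleton {N : Type u} [AddCommGroup N] [Module A N] [Subsingleton N] :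
    cok f N = 0 ∧ kerLen f N = 0 :=
  ⟨len_of_subsingleton _, len_of_subsingleton _⟩

theorem chi_cons (h : FL M (f :: l)) : chi M (f :: l) = ∑ᶠ i : ℤ, sgn i * ix f (H M l i) := by
  have hz : ∀ i, (i < -(l.length : ℤ) ∨ 0 < i) → cok f (H M l i) = 0 ∧ kerLen f (H M l i) = 0 := fun i hi => by
    haveI := ModuleCat.subsingleton_of_isZero (isZero_H M l (i := i) hi.symm)
    exact cok_eq_zero_of_subsingleton
  have s1 : (Function.support fun i : ℤ => sgn i * cok f (H M l i)).Finite :=
    finite_support _ (-(l.length : ℤ)) 0 fun i hi => by rw [(hz i hi).1, mul_zero]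
  have s2 : (Function.support fun i : ℤ => sgn i * kerLen f (H M l i)).Finite :=
    finite_support _ (-(l.length : ℤ)) 0 fun i hi => by rw [(hz i hi).2, mul_zero]
  have s3 : (Function.support fun i : ℤ => sgn i * kerLen f (H M l (i + 1))).Finite :=
    finite_support _ (-(l.length : ℤ) - 1) (-1) fun i hi => by rw [(hz (i + 1) (by omega)).2, mul_zero]
  simp only [chi, len_H_cons h, mul_add, ix, mul_sub]
  rw [finsum_add_distrib s1 s3, finsum_sub_distrib s1 s2, sub_eq_add_neg]
  refine congrArg (_ + ·) ?_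
  rw [← finsum_neg_distrib]
  refine Eq.trans ?_ (finsum_comp_equiv (Equiv.addRight (1 : ℤ)) (f := fun i => -(sgn i * kerLen f (H M l i))))
  refine finsum_congr fun i => ?_
  show sgn i * _ = -(sgn (i + 1) * _)
  rw [sgn, sgn, Int.negOnePow_succ, Units.val_neg, neg_mul, neg_neg]
  rfl

theorem FL_mul {x y : A} (hx : FL M (x :: l)) (hy : FL M (y :: l)) : FL M ((x * y) :: l) := fun p hp => by
  have hxy : x * y ∈ p.asIdeal := hp (Submodule.mem_sup_right (by
    rw [Ideal.ofList_cons]; exact Submodule.mem_sup_left (Ideal.mem_span_singleton_self _)))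
  have hl : ∀ z, z ∈ p.asIdeal → killer M (z :: l) ≤ p.asIdeal := fun z hz => by
    refine sup_le (le_sup_left.trans hp) ?_
    rw [Ideal.ofList_cons]
    exact sup_le ((Ideal.span_singleton_le_iff_mem _).2 hz)
      ((le_sup_right.trans (Ideal.ofList_cons (x * y) l).ge).trans (le_sup_right.trans hp))
  rcases p.2.mem_or_mem hxy with h | h
  · exact hx p (hl x h)
  · exact hy p (hl y h)

theorem chi_mul {x y : A} (hx : FL M (x :: l)) (hy : FL M (y :: l)) :
    chi M ((x * y) :: l) = chi M (x :: l) + chi M (y :: l) := by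
  have hz : ∀ (z : A) (i : ℤ), (i < -(l.length : ℤ) ∨ 0 < i) → sgn i * ix z (H M l i) = 0 := fun z i hi => by
    haveI := ModuleCat.subsingleton_of_isZero (isZero_H M l (i := i) hi.symm)
    rw [ix, (cok_eq_zero_of_subsingleton).1, (cok_eq_zero_of_subsingleton).2, sub_zero, mul_zero]
  rw [chi_cons (FL_mul hx hy), chi_cons hx, chi_cons hy,
    ← finsum_add_distrib (finite_support _ _ _ (hz x)) (finite_support _ _ _ (hz y))]
  refine finsum_congr fun i => ?_
  rw [ix_mul x y (flx_H hx i) (flx_H hy i) (flx_H (FL_mul hx hy) i), mul_add]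

theorem chi_one_cons (h : FL M ((1 : A) :: l)) : chi M ((1 : A) :: l) = 0 := by
  have := chi_mul h h
  rw [one_mul] at this
  linarith

theorem chi_pow_cons (h : FL M (f :: l)) (h1 : FL M ((1 : A) :: l)) : ∀ m : ℕ,
    FL M (f ^ m :: l) ∧ chi M (f ^ m :: l) = m * chi M (f :: l)
  | 0 => ⟨by rwa [pow_zero], by rw [pow_zero, chi_one_cons h1, Nat.cast_zero, zero_mul]⟩
  | m + 1 => by
    obtain ⟨hF, hc⟩ := chi_pow_cons h h1 m
    rw [pow_succ]
    exact ⟨FL_mul hF h, by rw [chi_mul hF h, hc]; push_cast; ring⟩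

theorem chi_cons_of_kill (h : FL M (f :: l)) (hf : ∀ z : M, f • z = 0) : chi M (f :: l) = 0 := by
  rw [chi_cons h]
  refine finsum_eq_zero_of_forall_eq_zero fun i => ?_
  rw [ix_zero fun z => smul_H_eq_zero M l (Submodule.mem_sup_left (Module.mem_annihilator.2 hf)) i z, mul_zero]

omit [IsNoetherianRing A] [IsLocalRing A] [Module.Finite A M] in
theorem chi_cons_of_regular {M' : ModuleCat.{u} A} (π : M ⟶ M') (hπ : Function.Surjective π.hom)
    (hf : ∀ z : M, f • z = 0 → z = 0) (hex : ∀ z : M, π.hom z = 0 ↔ ∃ y, f • y = z) :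
    chi M (f :: l) = chi M' l := by
  have hz : (f • 𝟙 M) ≫ π = 0 := ModuleCat.hom_ext (LinearMap.ext fun x => (hex _).2 ⟨x, rfl⟩)
  have hS : (ShortComplex.mk _ _ hz).ShortExact :=
    { exact := (ShortComplex.ShortExact.moduleCat_exact_iff_function_exact _).2 hex
      mono_f := (ModuleCat.mono_iff_injective _).2 ((injective_iff_map_eq_zero _).2 hf)
      epi_g := (ModuleCat.epi_iff_surjective _).2 hπ }
  obtain ⟨hz', hK⟩ := Koszul15.kmap_shortExact _ _ hz hS l
  have hq' := mappingCone.quasiIso_descShortComplex hK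
  have e : mappingCone (Koszul15.kmap (f • 𝟙 M) l) = K(f :: l, M) := by rw [Koszul15.kmap_smul]; rfl
  refine finsum_congr fun i => congrArg (sgn i * ·) (len_congr (Iso.toLinearEquiv ?_))
  exact (HomologicalComplex.homologyMapIso (eqToIso e.symm) i) ≪≫
    asIso (HomologicalComplex.homologyMap (mappingCone.descShortComplex
      (ShortComplex.mk (Koszul15.kmap (f • 𝟙 M) l) (Koszul15.kmap π l) hz')) i)

end Cons

section Additive

variable [IsNoetherianRing A] [IsLocalRing A]

theorem chi_add {M₁ M₂ M₃ : ModuleCat.{u} A} [Module.Finite A M₁] [Module.Finite A M₂] [Module.Finite A M₃]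
    (g : M₁ ⟶ M₂) (g' : M₂ ⟶ M₃) (hg : Function.Injective g.hom) (hg' : Function.Surjective g'.hom)
    (hex : Function.Exact g.hom g'.hom) {l : List A} (h1 : FL M₁ l) (h2 : FL M₂ l) (h3 : FL M₃ l) :
    chi M₂ l = chi M₁ l + chi M₃ l := by
  have hz : g ≫ g' = 0 := ModuleCat.hom_ext (LinearMap.ext hex.apply_apply_eq_zero)
  have hS : (ShortComplex.mk _ _ hz).ShortExact :=
    { exact := (ShortComplex.ShortExact.moduleCat_exact_iff_function_exact _).2 hex
      mono_f := (ModuleCat.mono_iff_injective _).2 hg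
      epi_g := (ModuleCat.epi_iff_surjective _).2 hg' }
  obtain ⟨hz', hK⟩ := Koszul15.kmap_shortExact _ _ hz hS l
  let a : ∀ i, H M₁ l i →ₗ[A] H M₂ l i := fun i => (HomologicalComplex.homologyMap (Koszul15.kmap g l) i).hom
  let b : ∀ i, H M₂ l i →ₗ[A] H M₃ l i := fun i => (HomologicalComplex.homologyMap (Koszul15.kmap g' l) i).hom
  let δ : ∀ i, H M₃ l i →ₗ[A] H M₁ l (i + 1) := fun i => (hK.δ i (i + 1) rfl).hom
  have q1 : ∀ i, len A (H M₁ l (i + 1)) = len A (LinearMap.range (δ i)) + len A (LinearMap.range (a (i + 1))) :=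
    fun i => len_exact (δ i) (a (i + 1))
      ((ShortComplex.ShortExact.moduleCat_exact_iff_function_exact _).1 (hK.homology_exact₁ i (i + 1) rfl))
      (isFiniteLength_H h1 _)
  have q2 : ∀ i, len A (H M₂ l i) = len A (LinearMap.range (a i)) + len A (LinearMap.range (b i)) :=
    fun i => len_exact (a i) (b i)
      ((ShortComplex.ShortExact.moduleCat_exact_iff_function_exact _).1 (hK.homology_exact₂ i))
      (isFiniteLength_H h2 _)
  have q3 : ∀ i, len A (H M₃ l i) = len A (LinearMap.range (b i)) + len A (LinearMap.range (δ i)) :=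
    fun i => len_exact (b i) (δ i)
      ((ShortComplex.ShortExact.moduleCat_exact_iff_function_exact _).1 (hK.homology_exact₃ i (i + 1) rfl))
      (isFiniteLength_H h3 _)
  have hW : ∀ (M : ModuleCat.{u} A) (i : ℤ), i ∉ Finset.Icc (-(l.length : ℤ)) 0 → sgn i * len A (H M l i) = 0 :=
    fun M i hi => by rw [len_H_eq_zero M l (by rw [Finset.mem_Icc] at hi; omega), mul_zero]
  have hsum : ∀ (M : ModuleCat.{u} A), chi M l = ∑ i ∈ Finset.Icc (-(l.length : ℤ)) 0, sgn i * len A (H M l i) :=
    fun M => finsum_eq_finsetSum_of_support_subset _ fun i hi => by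
      by_contra hc
      exact hi (hW M i hc)
  let P : ℤ → ℤ := fun i => sgn i * (len A (LinearMap.range (a i)) - len A (LinearMap.range (b i)))
  have hδ : ∀ i, sgn i * (len A (H M₁ l i) + len A (H M₃ l i) - len A (H M₂ l i)) =
      sgn i * len A (LinearMap.range (δ i)) - sgn (i - 1) * len A (LinearMap.range (δ (i - 1))) := by
    intro i
    obtain ⟨j, rfl⟩ : ∃ j, j + 1 = i := ⟨i - 1, by omega⟩
    rw [q1 j, q2, q3, add_sub_cancel_right]
    simp only [sgn, Int.negOnePow_succ, Units.val_neg]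
    ring
  have key : ∑ i ∈ Finset.Icc (-(l.length : ℤ)) 0,
      sgn i * (len A (H M₁ l i) + len A (H M₃ l i) - len A (H M₂ l i)) = 0 := by
    rw [Finset.sum_congr rfl fun i _ => hδ i]
    have hout : ∀ i : ℤ, (i < -(l.length : ℤ) ∨ (-1 : ℤ) < i) → len A (LinearMap.range (δ i)) = 0 := fun i hi => by
      rcases hi with hi | hi
      · haveI := ModuleCat.subsingleton_of_isZero (isZero_H M₃ l (i := i) (Or.inr hi))
        haveI : Subsingleton (LinearMap.range (δ i)) := (δ i).surjective_rangeRestrict.subsingleton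
        exact len_of_subsingleton _
      · haveI := ModuleCat.subsingleton_of_isZero (isZero_H M₁ l (i := i + 1) (Or.inl (by omega)))
        exact len_of_subsingleton _
    have hout' : ∀ i : ℤ, i < -(l.length : ℤ) → len A (LinearMap.range (δ i)) = 0 := fun i hi => hout i (Or.inl hi)
    let G : ℤ → ℤ := fun i => sgn i * len A (LinearMap.range (δ i))
    have hG : ∀ n : ℕ, ∑ i ∈ Finset.Icc (-(n : ℤ)) 0, (G i - G (i - 1)) = G 0 - G (-(n : ℤ) - 1) := by
      intro n
      induction n with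
      | zero => simp
      | succ n ih =>
        have hins : Finset.Icc (-((n + 1 : ℕ) : ℤ)) 0 = insert (-((n + 1 : ℕ) : ℤ)) (Finset.Icc (-(n : ℤ)) 0) := by
          ext x; simp only [Finset.mem_Icc, Finset.mem_insert]; omega
        rw [hins, Finset.sum_insert (by simp), ih, show -((n + 1 : ℕ) : ℤ) = -(n : ℤ) - 1 by omega]
        ring
    refine (hG l.length).trans ?_
    simp only [G]
    rw [hout 0 (by omega), hout (-(l.length : ℤ) - 1) (by omega)]
    ring
  rw [hsum, hsum, hsum]
  simp only [mul_add, mul_sub, Finset.sum_add_distrib, Finset.sum_sub_distrib] at key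
  linarith

end Additive

section Swap

variable {K : CechLC.Cx A} (a b : A)

/-- Exchange the two inner summands of an iterated cone. -/
noncomputable def swapFun (n : ℤ) :
    (mappingCone (a • 𝟙 (mappingCone (b • 𝟙 K)))).X n →ₗ[A] (mappingCone (b • 𝟙 (mappingCone (a • 𝟙 K)))).X n :=
  ((mappingCone.inl (b • 𝟙 (mappingCone (a • 𝟙 K)))).v (n + 1) n (by omega)).hom ∘ₗ
      (-(((mappingCone.inl (a • 𝟙 K)).v (n + 1 + 1) (n + 1) (by omega)).hom ∘ₗ
          ((mappingCone.fst (b • 𝟙 K)).1.v (n + 1) (n + 1 + 1) rfl).hom ∘ₗ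
          ((mappingCone.fst (a • 𝟙 (mappingCone (b • 𝟙 K)))).1.v n (n + 1) rfl).hom) +
        ((mappingCone.inr (a • 𝟙 K)).f (n + 1)).hom ∘ₗ
          ((mappingCone.fst (b • 𝟙 K)).1.v n (n + 1) rfl).hom ∘ₗ
          ((mappingCone.snd (a • 𝟙 (mappingCone (b • 𝟙 K)))).v n n (add_zero n)).hom) +
    ((mappingCone.inr (b • 𝟙 (mappingCone (a • 𝟙 K)))).f n).hom ∘ₗ
      (((mappingCone.inl (a • 𝟙 K)).v (n + 1) n (by omega)).hom ∘ₗ
          ((mappingCone.snd (b • 𝟙 K)).v (n + 1) (n + 1) (add_zero _)).hom ∘ₗ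
          ((mappingCone.fst (a • 𝟙 (mappingCone (b • 𝟙 K)))).1.v n (n + 1) rfl).hom +
        ((mappingCone.inr (a • 𝟙 K)).f n).hom ∘ₗ
          ((mappingCone.snd (b • 𝟙 K)).v n n (add_zero n)).hom ∘ₗ
          ((mappingCone.snd (a • 𝟙 (mappingCone (b • 𝟙 K)))).v n n (add_zero n)).hom)

theorem fst_mk {L L' : CechLC.Cx A} (φ : L ⟶ L') (p : ℤ) (u : L.X (p + 1)) (v : L'.X p) :
    ((mappingCone.fst φ).1.v p (p + 1) rfl).hom
      (((mappingCone.inl φ).v (p + 1) p (by omega)).hom u + ((mappingCone.inr φ).f p).hom v) = u :=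
  (map_add _ _ _).trans ((congrArg₂ (· + ·) (ConcreteCategory.congr_hom (mappingCone.inl_v_fst_v φ (p + 1) p rfl) u)
    (ConcreteCategory.congr_hom (mappingCone.inr_f_fst_v φ p (p + 1) rfl) v)).trans (add_zero _))

theorem snd_mk {L L' : CechLC.Cx A} (φ : L ⟶ L') (p : ℤ) (u : L.X (p + 1)) (v : L'.X p) :
    ((mappingCone.snd φ).v p p (add_zero p)).hom
      (((mappingCone.inl φ).v (p + 1) p (by omega)).hom u + ((mappingCone.inr φ).f p).hom v) = v :=
  (map_add _ _ _).trans ((congrArg₂ (· + ·)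
    (ConcreteCategory.congr_hom (mappingCone.inl_v_snd_v φ (p + 1) p (by omega)) u)
    (ConcreteCategory.congr_hom (mappingCone.inr_f_snd_v φ p) v)).trans (zero_add _))

theorem swap_ff (n : ℤ) (z : (mappingCone (a • 𝟙 (mappingCone (b • 𝟙 K)))).X n) :
    ((mappingCone.fst (a • 𝟙 K)).1.v (n + 1) (n + 1 + 1) rfl).hom
      (((mappingCone.fst (b • 𝟙 (mappingCone (a • 𝟙 K)))).1.v n (n + 1) rfl).hom (swapFun a b n z)) =
      -(((mappingCone.fst (b • 𝟙 K)).1.v (n + 1) (n + 1 + 1) rfl).hom
          (((mappingCone.fst (a • 𝟙 (mappingCone (b • 𝟙 K)))).1.v n (n + 1) rfl).hom z)) := by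
  refine (congrArg _ (fst_mk _ _ _ _)).trans ?_
  simp only [LinearMap.add_apply, LinearMap.neg_apply, LinearMap.comp_apply]
  rw [← map_neg]
  exact fst_mk _ _ _ _

theorem swap_fs (n : ℤ) (z : (mappingCone (a • 𝟙 (mappingCone (b • 𝟙 K)))).X n) :
    ((mappingCone.snd (a • 𝟙 K)).v (n + 1) (n + 1) (add_zero _)).hom
      (((mappingCone.fst (b • 𝟙 (mappingCone (a • 𝟙 K)))).1.v n (n + 1) rfl).hom (swapFun a b n z)) =
      ((mappingCone.fst (b • 𝟙 K)).1.v n (n + 1) rfl).hom
          (((mappingCone.snd (a • 𝟙 (mappingCone (b • 𝟙 K)))).v n n (add_zero n)).hom z) := by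
  refine (congrArg _ (fst_mk _ _ _ _)).trans ?_
  simp only [LinearMap.add_apply, LinearMap.neg_apply, LinearMap.comp_apply]
  rw [← map_neg]
  exact snd_mk _ _ _ _

theorem swap_sf (n : ℤ) (z : (mappingCone (a • 𝟙 (mappingCone (b • 𝟙 K)))).X n) :
    ((mappingCone.fst (a • 𝟙 K)).1.v n (n + 1) rfl).hom
      (((mappingCone.snd (b • 𝟙 (mappingCone (a • 𝟙 K)))).v n n (add_zero n)).hom (swapFun a b n z)) =
      ((mappingCone.snd (b • 𝟙 K)).v (n + 1) (n + 1) (add_zero _)).hom
          (((mappingCone.fst (a • 𝟙 (mappingCone (b • 𝟙 K)))).1.v n (n + 1) rfl).hom z) :=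
  (congrArg _ (snd_mk _ _ _ _)).trans (fst_mk _ _ _ _)

theorem swap_ss (n : ℤ) (z : (mappingCone (a • 𝟙 (mappingCone (b • 𝟙 K)))).X n) :
    ((mappingCone.snd (a • 𝟙 K)).v n n (add_zero n)).hom
      (((mappingCone.snd (b • 𝟙 (mappingCone (a • 𝟙 K)))).v n n (add_zero n)).hom (swapFun a b n z)) =
      ((mappingCone.snd (b • 𝟙 K)).v n n (add_zero n)).hom
          (((mappingCone.snd (a • 𝟙 (mappingCone (b • 𝟙 K)))).v n n (add_zero n)).hom z) :=
  (congrArg _ (snd_mk _ _ _ _)).trans (snd_mk _ _ _ _)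

theorem swap_swap (n : ℤ) (z : (mappingCone (a • 𝟙 (mappingCone (b • 𝟙 K)))).X n) :
    swapFun b a n (swapFun a b n z) = z := by
  refine CechLC.cone_ext _ (CechLC.cone_ext _ ?_ ?_) (CechLC.cone_ext _ ?_ ?_)
  · rw [swap_ff, swap_ff, neg_neg]
  · rw [swap_fs, swap_sf]
  · rw [swap_sf, swap_fs]
  · rw [swap_ss, swap_ss]

attribute [local irreducible] swapFun

theorem d_fst {L : CechLC.Cx A} (φ : L ⟶ L) (p : ℤ) (w : (mappingCone φ).X p) :
    ((mappingCone.fst φ).1.v (p + 1) (p + 1 + 1) rfl).hom (((mappingCone φ).d p (p + 1)).hom w) =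
      -((L.d (p + 1) (p + 1 + 1)).hom (((mappingCone.fst φ).1.v p (p + 1) rfl).hom w)) :=
  ConcreteCategory.congr_hom (mappingCone.d_fst_v φ p (p + 1) (p + 1 + 1) rfl rfl) w

theorem d_snd {L : CechLC.Cx A} (c : A) (p : ℤ) (w : (mappingCone (c • 𝟙 L)).X p) :
    ((mappingCone.snd (c • 𝟙 L)).v (p + 1) (p + 1) (add_zero _)).hom (((mappingCone (c • 𝟙 L)).d p (p + 1)).hom w) =
      c • ((mappingCone.fst (c • 𝟙 L)).1.v p (p + 1) rfl).hom w +
        (L.d p (p + 1)).hom (((mappingCone.snd (c • 𝟙 L)).v p p (add_zero p)).hom w) :=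
  ConcreteCategory.congr_hom (mappingCone.d_snd_v (c • 𝟙 _) p (p + 1) rfl) w

theorem swap_d (n : ℤ) (z : (mappingCone (a • 𝟙 (mappingCone (b • 𝟙 K)))).X n) :
    ((mappingCone (b • 𝟙 (mappingCone (a • 𝟙 K)))).d n (n + 1)).hom (swapFun a b n z) =
      swapFun a b (n + 1) (((mappingCone (a • 𝟙 (mappingCone (b • 𝟙 K)))).d n (n + 1)).hom z) := by
  refine CechLC.cone_ext _ (CechLC.cone_ext _ ?_ ?_) (CechLC.cone_ext _ ?_ ?_) <;>
    simp only [swap_ff, swap_fs, swap_sf, swap_ss, d_fst, d_snd, map_neg, map_add, map_smul, neg_neg] <;>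
    module

theorem swap_comp (n : ℤ) : (swapFun (K := K) a b n) ∘ₗ swapFun b a n = LinearMap.id := by
  apply LinearMap.ext
  intro z
  rw [LinearMap.comp_apply, LinearMap.id_apply]
  exact swap_swap b a n z

/-- The two orders of taking cones of homotheties are isomorphic. -/
noncomputable def swapIso :
    mappingCone (a • 𝟙 (mappingCone (b • 𝟙 K))) ≅ mappingCone (b • 𝟙 (mappingCone (a • 𝟙 K))) :=
  HomologicalComplex.Hom.isoOfComponents
    (fun n => (LinearEquiv.ofLinear (swapFun a b n) (swapFun b a n) (swap_comp a b n)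
      (swap_comp b a n)).toModuleIso)
    (by
      rintro n _ rfl
      apply ModuleCat.hom_ext
      ext z
      simp only [ModuleCat.hom_comp, LinearMap.comp_apply]
      exact swap_d a b n z)

theorem nonempty_perm_iso (M : ModuleCat.{u} A) {l l' : List A} (h : l.Perm l') :
    Nonempty (K(l, M) ≅ K(l', M)) := by
  induction h with
  | nil => exact ⟨Iso.refl _⟩
  | cons x _ ih =>
    obtain ⟨e⟩ := ih
    exact ⟨coneIso _ _ e (by simp [Linear.smul_comp, Linear.comp_smul])⟩
  | swap x y l => exact ⟨swapIso (K := K(l, M)) y x⟩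
  | trans _ _ ih1 ih2 =>
    obtain ⟨e⟩ := ih1
    obtain ⟨e'⟩ := ih2
    exact ⟨e ≪≫ e'⟩

theorem chi_perm (M : ModuleCat.{u} A) {l l' : List A} (h : l.Perm l') : chi M l = chi M l' := by
  obtain ⟨e⟩ := nonempty_perm_iso M h
  exact chi_congr M l e

theorem FL_perm [IsLocalRing A] (M : ModuleCat.{u} A) {l l' : List A} (h : l.Perm l') (hl : FL M l) : FL M l' := by
  have : killer M l = killer M l' := by
    rw [killer, killer, Ideal.ofList, Ideal.ofList]
    simp only [h.mem_iff]
  intro p hp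
  exact hl p (this.symm ▸ hp)

end Swap

end Groth.Agent.GrLib8.KChi
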