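import Groth.Agent.GrLib8.CdOne
import Groth.Agent.LC.CohTorsion
import Mathlib.AlgebraicGeometry.Morphisms.Affine

/-!
# The punctured spectrum of an ideal of cohomological dimension one is affine
-/

set_option autoImplicit false
set_option linter.style.haveILetI false

universe u

open CategoryTheory Limits AlgebraicGeometry TopologicalSpace Opposite

namespace Groth.Agent.GrLib8.CdOneAffine

variable {A : Type u} [CommRing A]

local notation "X" => Spec (CommRingCat.of A)

/-- The constants on an open subset of the spectrum. -/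
noncomputable def ρ (V : (Spec (CommRingCat.of A)).Opens) : A →+* Γ(X, V) :=
  ((X).presheaf.map (homOfLE (le_top : V ≤ ⊤)).op).hom.comp (Scheme.ΓSpecIso (CommRingCat.of A)).inv.hom

theorem res_ρ {V W : (Spec (CommRingCat.of A)).Opens} (h : W ≤ V) (a : A) :
    (X).presheaf.map (homOfLE h).op (ρ V a) = ρ W a := by
  simp only [ρ, RingHom.coe_comp, Function.comp_apply, ← ConcreteCategory.comp_apply]
  rw [Category.assoc, ← (X).presheaf.map_comp]
  rfl

theorem isUnit_ρ (f : A) (V : (Spec (CommRingCat.of A)).Opens) (h : V ≤ PrimeSpectrum.basicOpen f) :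
    IsUnit (ρ V f) := by
  let s := (Scheme.ΓSpecIso (CommRingCat.of A)).inv f
  have hs : (X).basicOpen s = PrimeSpectrum.basicOpen f := AlgebraicGeometry.basicOpen_eq_of_affine (R := CommRingCat.of A) f
  have h1 := (RingedSpace.isUnit_res_basicOpen (X).toRingedSpace s).map
    ((X).presheaf.map (homOfLE (h.trans hs.ge : V ≤ (X).basicOpen s)).op).hom
  erw [← ConcreteCategory.comp_apply, ← (X).presheaf.map_comp] at h1
  exact h1

theorem mem_iff {f : Set A} {p : PrimeSpectrum A} :
    p ∈ LocCoh.puncturedOpen A (Ideal.span f) ↔ ∃ a ∈ f, p ∈ PrimeSpectrum.basicOpen a := by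
  show ¬ (p ∈ PrimeSpectrum.zeroLocus (R := A) (Ideal.span f : Set A)) ↔ _
  rw [PrimeSpectrum.zeroLocus_span, PrimeSpectrum.mem_zeroLocus, Set.not_subset]
  rfl

theorem isAffineOpen_of_decomposition {r : ℕ} (f : Fin r → A) (N : ℕ)
    (φ : Fin r → (↥(Ideal.span (Set.range f) ^ N) →ₗ[A] A))
    (h : ∀ x : ↥(Ideal.span (Set.range f) ^ N), (x : A) = ∑ j, f j * φ j x) :
    IsAffineOpen (LocCoh.puncturedOpen A (Ideal.span (Set.range f))) := by
  let U := LocCoh.puncturedOpen A (Ideal.span (Set.range f))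
  let D : Fin r → (Spec (CommRingCat.of A)).Opens := fun i => PrimeSpectrum.basicOpen (f i)
  have hD : ∀ i, D i ≤ U := fun i p hp => mem_iff.2 ⟨f i, ⟨i, rfl⟩, hp⟩
  have hcov : U ≤ iSup D := fun p hp => by
    obtain ⟨_, ⟨i, rfl⟩, hi⟩ := mem_iff.1 hp
    exact Opens.mem_iSup.2 ⟨i, hi⟩
  let x : Fin r → ↥(Ideal.span (Set.range f) ^ N) := fun i =>
    ⟨f i ^ N, Ideal.pow_mem_pow (Ideal.subset_span (Set.mem_range_self i)) N⟩
  have hu : ∀ i (V : (Spec (CommRingCat.of A)).Opens), V ≤ D i → IsUnit (ρ V (f i ^ N)) := fun i V hV => by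
    rw [map_pow]
    exact (isUnit_ρ (f i) V hV).pow N
  choose g hg using fun (j : Fin r) (i : Fin r) => (hu i (D i) le_rfl).exists_left_inv
  let sec : ∀ j i : Fin r, Γ(X, D i) := fun j i => ρ (D i) (φ j (x i)) * g j i
  have hsec : ∀ j i, sec j i * ρ (D i) (f i ^ N) = ρ (D i) (φ j (x i)) := fun j i => by
    rw [mul_assoc, hg, mul_one]
  have hcompat : ∀ j, TopCat.Presheaf.IsCompatible (X).sheaf.1 D (sec j) := by
    intro j i k
    let W := D i ⊓ D k
    refine ((hu i W inf_le_left).mul (hu k W inf_le_right)).mul_right_cancel ?_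
    have e1 : (X).presheaf.map (Opens.infLELeft (D i) (D k)).op (sec j i) * ρ W (f i ^ N) = ρ W (φ j (x i)) := by
      have := congrArg ((X).presheaf.map (Opens.infLELeft (D i) (D k)).op).hom (hsec j i)
      rw [map_mul] at this
      rwa [show ((X).presheaf.map (Opens.infLELeft (D i) (D k)).op).hom (ρ (D i) (f i ^ N)) = ρ W (f i ^ N) from
        res_ρ inf_le_left _, show ((X).presheaf.map (Opens.infLELeft (D i) (D k)).op).hom (ρ (D i) (φ j (x i))) =
        ρ W (φ j (x i)) from res_ρ inf_le_left _] at this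
    have e2 : (X).presheaf.map (Opens.infLERight (D i) (D k)).op (sec j k) * ρ W (f k ^ N) = ρ W (φ j (x k)) := by
      have := congrArg ((X).presheaf.map (Opens.infLERight (D i) (D k)).op).hom (hsec j k)
      rw [map_mul] at this
      rwa [show ((X).presheaf.map (Opens.infLERight (D i) (D k)).op).hom (ρ (D k) (f k ^ N)) = ρ W (f k ^ N) from
        res_ρ inf_le_right _, show ((X).presheaf.map (Opens.infLERight (D i) (D k)).op).hom (ρ (D k) (φ j (x k))) =
        ρ W (φ j (x k)) from res_ρ inf_le_right _] at this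
    have e3 : f k ^ N * φ j (x i) = f i ^ N * φ j (x k) := by
      rw [← smul_eq_mul, ← smul_eq_mul, ← map_smul, ← map_smul]
      exact congrArg (φ j) (Subtype.ext (mul_comm _ _))
    show (X).presheaf.map (Opens.infLELeft (D i) (D k)).op (sec j i) * (ρ W (f i ^ N) * ρ W (f k ^ N)) =
      (X).presheaf.map (Opens.infLERight (D i) (D k)).op (sec j k) * (ρ W (f i ^ N) * ρ W (f k ^ N))
    rw [← mul_assoc, e1, mul_comm (ρ W (f i ^ N)), ← mul_assoc, e2, ← map_mul, ← map_mul, mul_comm, e3, mul_comm]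
  have hGex : ∀ j, ∃ G : Γ(X, U), ∀ i, (X).presheaf.map (homOfLE (hD i)).op G = sec j i := fun j =>
    ((X).sheaf.existsUnique_gluing' D U (fun i => homOfLE (hD i)) hcov (sec j) (hcompat j)).exists
  choose G hG using hGex
  have hone : ∑ j, ρ U (f j) * G j = 1 := by
    refine (X).sheaf.eq_of_locally_eq' D U (fun i => homOfLE (hD i)) hcov _ _ fun i => ?_
    show ((X).presheaf.map (homOfLE (hD i)).op).hom _ = ((X).presheaf.map (homOfLE (hD i)).op).hom _
    rw [map_sum, map_one]
    refine (hu i (D i) le_rfl).mul_right_cancel ?_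
    rw [one_mul, Finset.sum_mul]
    conv_rhs => rw [show f i ^ N = ∑ j, f j * φ j (x i) from h (x i), map_sum]
    refine Finset.sum_congr rfl fun j _ => ?_
    rw [map_mul, show ((X).presheaf.map (homOfLE (hD i)).op).hom (G j) = sec j i from hG j i,
      show ((X).presheaf.map (homOfLE (hD i)).op).hom (ρ U (f j)) = ρ (D i) (f j) from res_ρ (hD i) _,
      mul_assoc, hsec, map_mul]
  refine isAffineOpen_of_isAffineOpen_basicOpen U (Set.range fun j => ρ U (f j)) ?_ ?_
  · rw [Ideal.eq_top_iff_one, ← hone]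
    exact Ideal.sum_mem _ fun j _ => Ideal.mul_mem_right _ _ (Ideal.subset_span ⟨j, rfl⟩)
  · rintro _ ⟨j, rfl⟩
    have : (X).basicOpen (ρ U (f j)) = D j := by
      refine ((X).basicOpen_res _ (homOfLE (le_top : U ≤ ⊤)).op).trans ?_
      rw [AlgebraicGeometry.basicOpen_eq_of_affine]
      exact inf_eq_right.2 (hD j)
    rw [this]
    exact IsAffineOpen.Spec_basicOpen (R := CommRingCat.of A) (f j)

theorem nonempty_and_isAffine [IsNoetherianRing A] (I : Ideal A) (h1 : LocCoh.CdLE A I 1) (h0 : ¬ LocCoh.CdLE A I 0) :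
    Nonempty (↑(LocCoh.puncturedOpen A I) : Scheme.{u}) ∧ IsAffine (↑(LocCoh.puncturedOpen A I) : Scheme.{u}) := by
  obtain ⟨r, f, rfl⟩ := Submodule.fg_iff_exists_fin_generating_family.1 (IsNoetherian.noetherian I)
  refine ⟨?_, ?_⟩
  · by_contra he
    rw [not_nonempty_iff] at he
    refine h0 fun M _ _ i hi => ?_
    obtain ⟨j, rfl⟩ : ∃ j, i = j + 1 := ⟨i - 1, by omega⟩
    have hle : Ideal.span (Set.range f) ≤ nilradical A := by
      intro a ha
      rw [nilradical_eq_sInf, Submodule.mem_sInf]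
      intro p hp
      by_contra hap
      exact IsEmpty.false (α := (↑(LocCoh.puncturedOpen A (Ideal.span (Set.range f))) : Scheme.{u}))
        ⟨⟨p, hp⟩, fun h => hap (h ha)⟩
    obtain ⟨n, hn⟩ := IsNoetherianRing.isNilpotent_nilradical A
    have hI : Ideal.span (Set.range f) ^ n = ⊥ := by
      rw [eq_bot_iff]; exact (Ideal.pow_right_mono hle n).trans hn.le
    exact LC.subsingleton_of_torsion (Ideal.span (Set.range f)) j (ModuleCat.of A M) fun m => ⟨n, fun a ha => by
      rw [hI] at ha; rw [(Submodule.mem_bot A).1 ha, zero_smul]⟩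
  · obtain ⟨c, φ, hφ⟩ := CdOne.exists_unit_decomposition r f h1
    exact isAffineOpen_of_decomposition f (c + 1) φ hφ

end Groth.Agent.GrLib8.CdOneAffine
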