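import Groth.Agent.LC.HlvtMain
import Groth.Agent.CplAway6.Basic
import Groth.Agent.FormCat.OnePlus
import Groth.Agent.GrLib8.CdOneAffine
import Groth.Agent.H23.DiagDim

/-!
# Cohomological dimension over excellent normal local rings
-/

set_option autoImplicit false
set_option linter.style.haveILetI false

universe u

open IsLocalRing AlgebraicGeometry

namespace Groth.Agent.GrLib8.HlvtNormal

/-- The completion of an excellent normal local domain is a domain. -/
theorem isDomain_completion (A : Type u) [CommRing A] [IsDomain A] [IsLocalRing A] [IsNoetherianRing A]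
    [IsIntegrallyClosed A] (hA : EGA4.IsExcellent A) : IsDomain (AdicCompletion (maximalIdeal A) A) := by
  let A' := AdicCompletion (maximalIdeal A) A
  haveI : IsNoetherianRing A' := FormalFib6.isNoetherianRing_adicCompletion A (maximalIdeal A)
  haveI : Nontrivial A' :=
    haveI : Nontrivial (A ⧸ maximalIdeal A) := Ideal.Quotient.nontrivial_iff.mpr (maximalIdeal.isMaximal A).ne_top
    (AdicCompletion.evalOneₐ (maximalIdeal A)).toRingHom.domain_nontrivial
  have hN : EGA4.IsNormalRing A' := FlatLoc6.normal_of_isNormalHom A A'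
    (FlatLoc6.isNormalHom_of_isRegularHom (h := S0600.result A hA.2.2.1 (maximalIdeal A)))
    (fun p _ => ⟨IsLocalization.isDomain_localization p.primeCompl_le_nonZeroDivisors,
      isIntegrallyClosed_of_isLocalization _ p.primeCompl p.primeCompl_le_nonZeroDivisors⟩)
  haveI : IsLocalRing A' := inferInstance
  refine FormCat.isDomain_of_normal_of_idem A' hN fun e he => ?_
  have he' : e * (1 - e) = 0 := by rw [mul_sub, mul_one, he.eq, sub_self]
  rcases IsLocalRing.isUnit_or_isUnit_of_add_one (add_sub_cancel e 1) with h | h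
  · exact Or.inr (by rw [h.mul_right_eq_zero, sub_eq_zero] at he'; exact he'.symm)
  · exact Or.inl (h.mul_left_eq_zero.1 he')

/-- Hartshorne–Lichtenbaum: the cohomological dimension drops. -/
theorem exists_cdLE (A : Type u) [CommRing A] [IsDomain A] [IsLocalRing A] [IsNoetherianRing A]
    [IsIntegrallyClosed A] (hA : EGA4.IsExcellent A) (I : Ideal A) (hI : (1 : WithBot ℕ∞) ≤ ringKrullDim (A ⧸ I)) :
    ∃ d : ℕ, ringKrullDim A = ((d + 1 : ℕ) : WithBot ℕ∞) ∧ LocCoh.CdLE A I d := by
  obtain ⟨N, -, -, hN, -⟩ := CohenLib.exists_fin_sop A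
  have h1 : (1 : WithBot ℕ∞) ≤ ringKrullDim A :=
    hI.trans (ringKrullDim_le_of_surjective _ Ideal.Quotient.mk_surjective)
  rw [hN] at h1
  have hN1 : 1 ≤ N := by exact_mod_cast h1
  refine ⟨N - 1, by rw [hN, Nat.sub_add_cancel hN1], LC.cdLE_of_ring I fun i hi => ?_⟩
  rcases (show N ≤ i by omega).eq_or_lt with rfl | hlt
  · let A' := AdicCompletion (maximalIdeal A) A
    haveI := isDomain_completion A hA
    refine LC.subsingleton_H_hlvt I hN fun p hp _ => ?_
    obtain rfl : p = ⊥ := by
      have h := hp.2 (y := (⊥ : Ideal A')) ⟨Ideal.bot_prime, le_rfl⟩ bot_le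
      exact le_antisymm h bot_le
    refine hI.trans (le_of_eq ?_)
    haveI : IsNoetherianRing A' := FormalFib6.isNoetherianRing_adicCompletion A (maximalIdeal A)
    have : IsLocalHom (algebraMap A A') := AdicCompletion.algebraMap_isLocalHom_of_fg (IsNoetherian.noetherian _)
    have hne : I ≠ ⊤ := fun e => by
      subst e
      haveI : Subsingleton (A ⧸ (⊤ : Ideal A)) := Ideal.Quotient.subsingleton_iff.2 rfl
      rw [ringKrullDim_eq_bot_of_subsingleton] at hI
      simp at hI
    haveI : Nontrivial (A ⧸ I) := Ideal.Quotient.nontrivial_iff.2 hne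
    haveI : IsLocalRing (A ⧸ I) := .of_surjective' (Ideal.Quotient.mk I) Ideal.Quotient.mk_surjective
    obtain ⟨da, -, -, hda, -⟩ := CohenLib.exists_fin_sop (A ⧸ I)
    have hN' : ringKrullDim A' = N := by
      rw [← hN]
      exact Hensel.ringKrullDim_eq_of_flat_of_map_maximalIdeal_eq (R := A) (S := A')
        (AdicCompletion.maximalIdeal_eq_map (R := A)).symm
    have hflat : (algebraMap A A').Flat := RingHom.flat_algebraMap_iff.2 inferInstance
    obtain ⟨c, hc, hsum⟩ := H23.DiagDim.dim_quot_map_add (algebraMap A A') hflat I hne hN hda hN'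
    have hdc : da = c := by omega
    rw [hda, sup_bot_eq, hc, hdc]
  · exact LC.cdLE_of_ringKrullDim_le I hN.le (ModuleCat.of A A) i hlt

theorem cd_lt_dim (A : Type u) [CommRing A] [IsDomain A] [IsLocalRing A] [IsNoetherianRing A]
    [IsIntegrallyClosed A] (hA : EGA4.IsExcellent A) (I : Ideal A) (hI : (1 : WithBot ℕ∞) ≤ ringKrullDim (A ⧸ I)) :
    (∀ (M : Type u) [AddCommGroup M] [Module A M] (i : ℕ), ringKrullDim A ≤ (i : WithBot ℕ∞) →
      Subsingleton (LocCoh.H I i M)) ∧
    (ringKrullDim A = 2 → IsAffine (↑(LocCoh.puncturedOpen A I) : Scheme.{u})) := by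
  obtain ⟨d, hd, hcd⟩ := exists_cdLE A hA I hI
  refine ⟨fun M _ _ i hi => hcd M i (by rw [hd] at hi; exact_mod_cast hi), fun h2 => ?_⟩
  obtain rfl : d = 1 := by
    rw [hd] at h2
    have : d + 1 = 2 := by exact_mod_cast h2
    omega
  obtain ⟨r, f, rfl⟩ := Submodule.fg_iff_exists_fin_generating_family.1 (IsNoetherian.noetherian I)
  obtain ⟨c, φ, hφ⟩ := CdOne.exists_unit_decomposition r f hcd
  exact CdOneAffine.isAffineOpen_of_decomposition f (c + 1) φ hφ

end Groth.Agent.GrLib8.HlvtNormal

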