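import Groth.Agent.SuppFamLib.Derived
import Mathlib.Topology.Sheaves.Flasque

/-!
# Sections with supports in a flasque sheaf form a flasque sheaf
-/

set_option autoImplicit false
set_option linter.style.haveILetI false

universe u

open CategoryTheory CategoryTheory.Limits Opposite TopologicalSpace TopCat

noncomputable section

namespace Groth.Agent.GrLib8.SuppFlasque

variable {X : TopCat.{u}} (A : CohTop.Ab X)

/-- Glue a section with zero along two opens. -/
theorem exists_glue_zero (U V : Opens X) (s : A.obj.obj (op V))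
    (hs : A.obj.map (homOfLE (inf_le_right : U ⊓ V ≤ V)).op s = 0) :
    ∃ t : A.obj.obj (op (U ⊔ V)), A.obj.map (homOfLE (le_sup_left : U ≤ U ⊔ V)).op t = 0 ∧
      A.obj.map (homOfLE (le_sup_right : V ≤ U ⊔ V)).op t = s := by
  let W : ULift.{u} Bool → Opens X := fun b => if b.down then U else V
  have hs' : ∀ {C : Opens X} (h : C ≤ V), C ≤ U → A.obj.map (homOfLE h).op s = 0 := by
    intro C h hCU
    rw [← SuppFamLib.res_res A (inf_le_right : U ⊓ V ≤ V) (le_inf hCU h) s, hs, map_zero]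
  let sf : ∀ b : ULift.{u} Bool, A.obj.obj (op (W b)) := fun b => match b with
    | ⟨true⟩ => (0 : A.obj.obj (op U))
    | ⟨false⟩ => s
  have hcompat : Presheaf.IsCompatible A.obj W sf := by
    rintro ⟨⟨⟩⟩ ⟨⟨⟩⟩
    · rfl
    · refine (hs' inf_le_left inf_le_right).trans ?_
      exact (map_zero _).symm
    · refine (map_zero _).trans ?_
      exact (hs' inf_le_right inf_le_left).symm
    · rfl
  obtain ⟨t, ht, -⟩ := TopCat.Sheaf.existsUnique_gluing' A W (U ⊔ V)
    (fun b => homOfLE (by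
      rcases b with ⟨⟨⟩⟩
      · exact le_sup_right
      · exact le_sup_left))
    (sup_le (le_iSup W ⟨true⟩) (le_iSup W ⟨false⟩)) sf hcompat
  exact ⟨t, ht ⟨true⟩, ht ⟨false⟩⟩

theorem isFlasque_sectSupp [TopCat.Sheaf.IsFlasque A] (U : Opens X) :
    TopCat.Sheaf.IsFlasque ((LocCohZ.sectSuppF U).obj A) := by
  constructor
  rintro ⟨V⟩ ⟨V'⟩ i
  rw [AddCommGrpCat.epi_iff_surjective]
  intro x
  let η := (TopCat.Sheaf.pullbackPushforwardAdjunction AddCommGrpCat.{u} (CohCx.incl U)).unit.app A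
  let s : A.obj.obj (op V') := ((kernel.ι η).hom.app (op V')).hom x
  have hs := (SuppFamLib.unit_app_eq_zero_iff U A V' s).1 ((SuppFamLib.exists_kernel_section_iff η V' s).1 ⟨x, rfl⟩)
  obtain ⟨t, htU, htV⟩ := exists_glue_zero A U V' s hs
  obtain ⟨g, hg⟩ := (AddCommGrpCat.epi_iff_surjective _).1
    (Presheaf.IsFlasque.epi (F := A.obj) (homOfLE (le_top : U ⊔ V' ≤ ⊤)).op) t
  let g' : A.obj.obj (op V) := A.obj.map (homOfLE (le_top : V ≤ ⊤)).op g
  have hg' : A.obj.map (homOfLE (inf_le_right : U ⊓ V ≤ V)).op g' = 0 := by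
    rw [show g' = A.obj.map (homOfLE (le_top : V ≤ ⊤)).op g from rfl, SuppFamLib.res_res,
      ← SuppFamLib.res_res A (le_top : U ≤ ⊤) (inf_le_left : U ⊓ V ≤ U),
      ← SuppFamLib.res_res A (le_top : U ⊔ V' ≤ ⊤) (le_sup_left : U ≤ U ⊔ V')]
    refine (congrArg _ ((congrArg _ hg).trans htU)).trans (map_zero _)
  obtain ⟨y, hy⟩ := (SuppFamLib.exists_kernel_section_iff η V g').2 ((SuppFamLib.unit_app_eq_zero_iff U A V g').2 hg')
  refine ⟨y, SuppFamLib.kernel_ι_injective η V' ?_⟩
  refine (ConcreteCategory.congr_hom ((kernel.ι η).hom.naturality i) y).trans ?_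
  have hle : V' ≤ V := leOfHom i.unop
  show A.obj.map i (((kernel.ι η).hom.app (op V)).hom y) = s
  refine (congrArg (fun z => (A.obj.map i).hom z) hy).trans ?_
  rw [show i = (homOfLE hle).op from rfl]
  show A.obj.map (homOfLE hle).op (A.obj.map (homOfLE (le_top : V ≤ ⊤)).op g) = s
  rw [SuppFamLib.res_res, ← SuppFamLib.res_res A (le_top : U ⊔ V' ≤ ⊤) (le_sup_right : V' ≤ U ⊔ V')]
  exact (congrArg _ hg).trans htV

end Groth.Agent.GrLib8.SuppFlasque
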