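import Groth.Prelude.Def_LocCohZ

/-!
# The long exact sequence of cohomology with supports (Ext side)
-/

universe u

open CategoryTheory CategoryTheory.Limits TopologicalSpace

namespace Groth.Agent.GrLib8.LocZ

variable {X : TopCat.{u}} (F : CohTop.Ab X) {W V : Opens X} (h : W ≤ V)

/-- `H^i(V) → H^i(W) → H^{i+1}_Z(V)` is exact. -/
theorem exists_res_of_delta_eq_zero (i : ℕ) (x : CohTop.HU F i W) (hx : LocCohZ.delta F i h x = 0) :
    ∃ y : CohTop.HU F i V, CohTop.res F i h y = x :=
  Abelian.Ext.contravariant_sequence_exact₁ (LocCohZ.zqSeq_shortExact h) F x (by omega) hx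

/-- `H^i(W) → H^{i+1}_Z(V) → H^{i+1}(V)` is exact. -/
theorem exists_delta_of_toHU_eq_zero (i : ℕ) (x : LocCohZ.HZ F (i + 1) h)
    (hx : LocCohZ.toHU F (i + 1) h x = 0) :
    ∃ y : CohTop.HU F i W, LocCohZ.delta F i h y = x :=
  Abelian.Ext.contravariant_sequence_exact₃ (LocCohZ.zqSeq_shortExact h) F x hx (by omega)

/-- `H^i_Z(V) → H^i(V) → H^i(W)` is exact. -/
theorem exists_toHU_of_res_eq_zero (i : ℕ) (x : CohTop.HU F i V) (hx : CohTop.res F i h x = 0) :
    ∃ y : LocCohZ.HZ F i h, LocCohZ.toHU F i h y = x :=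
  Abelian.Ext.contravariant_sequence_exact₂ (LocCohZ.zqSeq_shortExact h) F x hx

theorem delta_surjective (i : ℕ) [Subsingleton (CohTop.HU F (i + 1) V)] :
    Function.Surjective (LocCohZ.delta F i h) :=
  fun x => exists_delta_of_toHU_eq_zero F h i x (Subsingleton.elim _ _)

theorem delta_injective (i : ℕ) [Subsingleton (CohTop.HU F i V)] :
    Function.Injective (LocCohZ.delta F i h) := by
  refine (injective_iff_map_eq_zero _).2 fun x hx => ?_
  obtain ⟨y, rfl⟩ := exists_res_of_delta_eq_zero F h i x hx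
  rw [Subsingleton.elim y 0, map_zero]

end Groth.Agent.GrLib8.LocZ
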