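import Groth.Agent.SuppFamLib.Derived
import Groth.Agent.GrLib8.LocZLES
import Groth.Agent.SiteBase.Top

/-!
# `ℋ^q_Z(F)` is the sheafification of the presheaf `V ↦ H^q_{V ∩ Z}(V, F)`; both vanish in the same range
-/

set_option autoImplicit false
set_option linter.style.haveILetI false

universe u

open CategoryTheory CategoryTheory.Limits Opposite TopologicalSpace TopCat Topology

noncomputable section

namespace Groth.Agent.GrLib8.HZshPre

variable {X : TopCat.{u}} (U : Opens X)

local notation "JX" => Opens.grothendieckTopology X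

/-- The free sheaves with supports in `X ∖ U`, as a functor of the open. -/
def P : Opens X ⥤ CohTop.Ab X where
  obj V := LocCohZ.zq (inf_le_left : V ⊓ U ≤ V)
  map {A B} f := LocCohZ.zqMap (inf_le_left : B ⊓ U ≤ B) (inf_le_left : A ⊓ U ≤ A)
    (inf_le_inf_right U (leOfHom f)) (leOfHom f)
  map_id A := SuppFam.zqMap_id _
  map_comp f g := (SuppFam.zqMap_comp _ _ _ _ _ _ _).symm

/-- The sections of `Γ_Z F` inside those of `F`. -/
def incl0 (F : CohTop.Ab X) (V : Opens X) :
    ((LocCohZ.sectSuppF U).obj F).obj.obj (op V) →+ F.obj.obj (op V) :=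
  ((kernel.ι ((TopCat.Sheaf.pullbackPushforwardAdjunction AddCommGrpCat.{u} (CohCx.incl U)).unit.app F)).hom.app (op V)).hom

theorem incl0_injective (F : CohTop.Ab X) (V : Opens X) : Function.Injective (incl0 U F V) :=
  SuppFamLib.kernel_ι_injective _ V

theorem range_incl0 (F : CohTop.Ab X) (V : Opens X) (s : F.obj.obj (op V)) :
    (∃ t, incl0 U F V t = s) ↔ F.obj.map (homOfLE (inf_le_left : V ⊓ U ≤ V)).op s = 0 := by
  refine (SuppFamLib.exists_kernel_section_iff _ V s).trans
    ((SuppFamLib.unit_app_eq_zero_iff U F V s).trans ?_)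
  refine (SuppFamLib.res_eq_zero_iff F (inf_comm V U).le (inf_comm U V).le _).symm.trans
    (Iff.of_eq (congrArg (fun z => z = 0) ?_))
  exact SuppFamLib.res_res F _ _ s

theorem incl0_map {F G : CohTop.Ab X} (g : F ⟶ G) (V : Opens X)
    (t : ((LocCohZ.sectSuppF U).obj F).obj.obj (op V)) :
    incl0 U G V ((((LocCohZ.sectSuppF U).map g).hom.app (op V)).hom t) =
      (g.hom.app (op V)).hom (incl0 U F V t) := by
  have hk : (LocCohZ.sectSuppF U).map g ≫
      kernel.ι ((TopCat.Sheaf.pullbackPushforwardAdjunction AddCommGrpCat.{u} (CohCx.incl U)).unit.app G) =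
      kernel.ι ((TopCat.Sheaf.pullbackPushforwardAdjunction AddCommGrpCat.{u} (CohCx.incl U)).unit.app F) ≫ g :=
    kernel.lift_ι _ _ _
  exact congrArg (fun a => (a.hom.app (op V)).hom t) hk

theorem incl0_res (F : CohTop.Ab X) {A B : Opens X} (f : A ⟶ B)
    (t : ((LocCohZ.sectSuppF U).obj F).obj.obj (op B)) :
    incl0 U F A (((LocCohZ.sectSuppF U).obj F).obj.map f.op t) = F.obj.map f.op (incl0 U F B t) :=
  ConcreteCategory.congr_hom
    ((kernel.ι ((TopCat.Sheaf.pullbackPushforwardAdjunction AddCommGrpCat.{u} (CohCx.incl U)).unit.app F)).hom.naturality f.op) t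

/-- A morphism out of `ℤ_V/ℤ_{V∩U}` as a section. -/
def evq (F : CohTop.Ab X) (V : Opens X) : ((P U).obj V ⟶ F) →+ F.obj.obj (op V) :=
  (CohFree.evalGen JX V F).comp (Preadditive.leftComp F (cokernel.π _))

theorem evq_injective (F : CohTop.Ab X) (V : Opens X) : Function.Injective (evq U F V) := by
  intro a b hab
  apply coequalizer.hom_ext
  exact (CohFree.homEquivSect JX V F).injective hab

theorem range_evq (F : CohTop.Ab X) (V : Opens X) (s : F.obj.obj (op V)) :
    (∃ φ, evq U F V φ = s) ↔ F.obj.map (homOfLE (inf_le_left : V ⊓ U ≤ V)).op s = 0 := by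
  constructor
  · rintro ⟨φ, rfl⟩
    refine (CohFree.evalGen_freeSheafMap_comp JX (homOfLE (inf_le_left : V ⊓ U ≤ V)) F (cokernel.π _ ≫ φ)).symm.trans ?_
    rw [cokernel.condition_assoc, zero_comp, map_zero]
  · intro hs
    have hz : CohCx.freeSheafMap JX (homOfLE (inf_le_left : V ⊓ U ≤ V)) ≫ CohFree.ofSect JX V F s = 0 := by
      apply (CohFree.homEquivSect JX (V ⊓ U) F).injective
      rw [map_zero, CohFree.homEquivSect_apply, CohFree.evalGen_freeSheafMap_comp, CohFree.evalGen_ofSect]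
      exact hs
    refine ⟨cokernel.desc _ _ hz, ?_⟩
    refine (congrArg (CohFree.evalGen JX V F) (cokernel.π_desc _ _ hz)).trans ?_
    exact CohFree.evalGen_ofSect JX _ F s

theorem exists_eq (F : CohTop.Ab X) (V : Opens X) (φ : (P U).obj V ⟶ F) :
    ∃ t, incl0 U F V t = evq U F V φ :=
  (range_incl0 U F V _).2 ((range_evq U F V _).1 ⟨φ, rfl⟩)

/-- The presentation of sections with supports. -/
def σ (F : CohTop.Ab X) (V : Opens X) :
    ((P U).obj V ⟶ F) ≃+ ((LocCohZ.sectSuppF U).obj F).obj.obj (op V) :=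
  AddEquiv.ofBijective
    (AddMonoidHom.mk' (fun φ => (exists_eq U F V φ).choose) fun a b => incl0_injective U F V
      ((exists_eq U F V (a + b)).choose_spec.trans ((map_add _ a b).trans (Eq.trans
        (congrArg₂ (· + ·) (exists_eq U F V a).choose_spec.symm (exists_eq U F V b).choose_spec.symm)
        (map_add _ _ _).symm))))
    ⟨fun a b hab => evq_injective U F V (by
      rw [← (exists_eq U F V a).choose_spec, ← (exists_eq U F V b).choose_spec]
      exact congrArg (incl0 U F V) hab),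
    fun t => by
      obtain ⟨φ, hφ⟩ := (range_evq U F V _).2 ((range_incl0 U F V _).1 ⟨t, rfl⟩)
      exact ⟨φ, incl0_injective U F V ((exists_eq U F V φ).choose_spec.trans hφ)⟩⟩

theorem incl0_σ (F : CohTop.Ab X) (V : Opens X) (φ : (P U).obj V ⟶ F) :
    incl0 U F V (σ U F V φ) = evq U F V φ :=
  (exists_eq U F V φ).choose_spec

/-- `Γ_Z` as a presheaf valued functor is represented by the `ℤ_V/ℤ_{V∩U}`. -/
def pres : SiteBase.HomPres (P U) (LocCohZ.sectSuppF U ⋙ sheafToPresheaf JX AddCommGrpCat.{u}) where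
  σ F V := σ U F V
  σ_comp {F G} V φ g := incl0_injective U G V (by
    refine (incl0_σ U G V _).trans ?_
    refine Eq.trans ?_ (incl0_map U g V _).symm
    rw [incl0_σ]
    rfl)
  σ_map {F A B} f φ := incl0_injective U F B (by
    refine (incl0_σ U F B _).trans ?_
    refine Eq.trans ?_ (incl0_res U F f _).symm
    rw [incl0_σ]
    refine Eq.trans ?_ (CohFree.evalGen_freeSheafMap_comp JX f F (cokernel.π _ ≫ φ))
    show CohFree.evalGen JX B F (cokernel.π _ ≫ LocCohZ.zqMap (inf_le_left : A ⊓ U ≤ A) (inf_le_left : B ⊓ U ≤ B) (inf_le_inf_right U (leOfHom f)) (leOfHom f) ≫ φ) = _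
    rw [LocCohZ.zqMap, cokernel.π_desc_assoc, Category.assoc]
    rfl)

/-- Sheafifying the underlying presheaf changes nothing. -/
def sheafifyIso : LocCohZ.sectSuppF U ≅
    (LocCohZ.sectSuppF U ⋙ sheafToPresheaf JX AddCommGrpCat.{u}) ⋙ presheafToSheaf JX AddCommGrpCat.{u} :=
  (Functor.rightUnitor _).symm ≪≫ Functor.isoWhiskerLeft _ (asIso (sheafificationAdjunction JX AddCommGrpCat.{u}).counit).symm ≪≫
    (Functor.associator _ _ _).symm

/-- The presheaf `V ↦ H^q_{V∩Z}(V, F)`, functorially in `F`. -/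
abbrev pre (q : ℕ) : CohTop.Ab X ⥤ (Opens X)ᵒᵖ ⥤ AddCommGrpCat.{u} := SiteBase.HomPres.extPsh (P U) q

/-- `ℋ^q_Z` is the sheafified cohomology presheaf with supports. -/
def hzshIso (q : ℕ) : LocCohZ.HZsh U q ≅ pre U q ⋙ presheafToSheaf JX AddCommGrpCat.{u} :=
  SiteBase.rightDerivedCongr (sheafifyIso U) q ≪≫
    SiteBase.rightDerivedCompIso (LocCohZ.sectSuppF U ⋙ sheafToPresheaf JX AddCommGrpCat.{u}) (presheafToSheaf JX AddCommGrpCat.{u}) q ≪≫
    Functor.isoWhiskerRight ((pres U).rightDerivedIso q) _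

/-- The restriction of classes with supports to a smaller open. -/
abbrev resV (F : CohTop.Ab X) (i : ℕ) {V W : Opens X} (h : W ≤ V) :
    LocCohZ.HZ F i (inf_le_left : V ⊓ U ≤ V) →+ LocCohZ.HZ F i (inf_le_left : W ⊓ U ≤ W) :=
  LocCohZ.resZ F i (inf_le_left : V ⊓ U ≤ V) (inf_le_left : W ⊓ U ≤ W) (inf_le_inf_right U h) h

/-- A class is locally zero. -/
def LocallyZero (F : CohTop.Ab X) (i : ℕ) {V : Opens X} (x : LocCohZ.HZ F i (inf_le_left : V ⊓ U ≤ V)) : Prop :=
  ∀ y ∈ V, ∃ (W : Opens X) (h : W ≤ V), y ∈ W ∧ resV U F i h x = 0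

theorem locallyZero_of_isZero (F : CohTop.Ab X) (i : ℕ) (hz : IsZero ((LocCohZ.HZsh U i).obj F))
    {V : Opens X} (x : LocCohZ.HZ F i (inf_le_left : V ⊓ U ≤ V)) : LocallyZero U F i x := by
  have hz' : IsZero ((presheafToSheaf JX AddCommGrpCat.{u}).obj ((pre U i).obj F)) :=
    hz.of_iso ((hzshIso U i).app F).symm
  have hη : toSheafify JX ((pre U i).obj F) = 0 :=
    ((sheafToPresheaf JX AddCommGrpCat.{u}).map_isZero hz').eq_of_tgt _ _
  intro y hy
  have hmem := Presheaf.equalizerSieve_mem JX (toSheafify JX ((pre U i).obj F))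
    (X := op V) (x : ((pre U i).obj F).obj (op V)) 0 (by rw [hη]; simp)
  obtain ⟨W, f, hf, hyW⟩ := hmem y hy
  refine ⟨W, leOfHom f, hyW, ?_⟩
  exact hf.trans (map_zero _)

theorem isZero_of_locallyZero (F : CohTop.Ab X) (i : ℕ)
    (h : ∀ (V : Opens X) (x : LocCohZ.HZ F i (inf_le_left : V ⊓ U ≤ V)), LocallyZero U F i x) :
    IsZero ((LocCohZ.HZsh U i).obj F) := by
  refine IsZero.of_iso ?_ ((hzshIso U i).app F)
  refine SiteBase.isZero_sheafify (K := JX) _ fun V x => ?_
  refine ⟨⟨fun W f => resV U F i (leOfHom f) x = 0, fun {A B f} hf g => ?_⟩, fun y hy => ?_, fun W g hg => hg⟩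
  · have := congrArg (resV U F i (leOfHom g)) hf
    rw [map_zero] at this
    exact ((SuppFam.resZ_comp F i _ _ _ _ _ _ _ x).symm.trans this)
  · obtain ⟨W, hW, hyW, hx⟩ := h V x y hy
    exact ⟨W, homOfLE hW, hx, hyW⟩

theorem isZero_of_subsingleton (F : CohTop.Ab X) (i : ℕ)
    (h : ∀ V : Opens X, Subsingleton (LocCohZ.HZ F i (inf_le_left : V ⊓ U ≤ V))) :
    IsZero ((LocCohZ.HZsh U i).obj F) :=
  isZero_of_locallyZero U F i fun V x y hy => ⟨V, le_rfl, hy, (h V).elim _ _⟩

theorem locallyZero_zero (F : CohTop.Ab X) {V : Opens X} (x : LocCohZ.HZ F 0 (inf_le_left : V ⊓ U ≤ V))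
    (hx : LocallyZero U F 0 x) : x = 0 := by
  let φ : (P U).obj V ⟶ F := Abelian.Ext.addEquiv₀ x
  suffices h : evq U F V φ = 0 by
    have h' : φ = 0 := evq_injective U F V (h.trans (map_zero _).symm)
    exact Abelian.Ext.addEquiv₀.injective (h'.trans (map_zero Abelian.Ext.addEquiv₀).symm)
  refine TopCat.Presheaf.section_ext F V _ _ fun y hy => ?_
  obtain ⟨W, hW, hyW, hx⟩ := hx y hy
  rw [map_zero, ← TopCat.Presheaf.germ_res_apply F.obj (homOfLE hW) y hyW]
  have h2 : F.obj.map (homOfLE hW).op (evq U F V φ) = 0 := by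
    obtain ⟨t, ht⟩ : ∃ t : (P U).obj W ⟶ F, t = (P U).map (homOfLE hW) ≫ φ := ⟨_, rfl⟩
    have h3 : t = 0 := by
      subst ht
      have := congrArg Abelian.Ext.addEquiv₀ hx
      rw [map_zero] at this
      refine Eq.trans ?_ this
      apply Abelian.Ext.addEquiv₀.symm.injective
      refine Eq.trans ?_ (AddEquiv.symm_apply_apply _ _).symm
      refine (Abelian.Ext.mk₀_comp_mk₀ _ _).symm.trans ?_
      exact congrArg (fun z => (Abelian.Ext.mk₀ _).comp z (zero_add 0)) (Abelian.Ext.addEquiv₀.symm_apply_apply x)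
    have h4 := (pres U).σ_map (homOfLE hW) φ
    have h5 := congrArg (incl0 U F W) h4
    rw [← ht, h3, map_zero, map_zero] at h5
    exact ((incl0_res U F (homOfLE hW) _).trans (congrArg _ (incl0_σ U F V φ))).symm.trans h5.symm
  rw [h2, map_zero]

theorem sect_eq_zero (F : CohTop.Ab X)
    (h0 : ∀ V : Opens X, Subsingleton (LocCohZ.HZ F 0 (inf_le_left : V ⊓ U ≤ V)))
    {V : Opens X} (s : F.obj.obj (op V)) (hs : F.obj.map (homOfLE (inf_le_left : V ⊓ U ≤ V)).op s = 0) :
    s = 0 := by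
  obtain ⟨φ, rfl⟩ := (range_evq U F V s).2 hs
  have h' : φ = 0 := Abelian.Ext.addEquiv₀.symm.injective ((h0 V).elim _ _)
  exact (congrArg (evq U F V) h').trans (map_zero _)

/-- Direct images from `U` have no cohomology with supports. -/
theorem subsingleton_HZ_push (G : CohTop.Ab (TopCat.of U)) [Injective G] (i : ℕ) (V : Opens X) :
    Subsingleton (LocCohZ.HZ ((CohTop.push (CohCx.incl U)).obj G) i (inf_le_left : V ⊓ U ≤ V)) := by
  haveI : Injective ((CohTop.push (CohCx.incl U)).obj G) := SiteBase.injective_push (CohCx.incl U) G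
  cases i with
  | succ n => exact subsingleton_of_forall_eq 0 fun x => Abelian.Ext.eq_zero_of_injective x
  | zero =>
    refine (LocCohZ.sect0Equiv _ _).toEquiv.subsingleton_congr.2 (subsingleton_of_forall_eq 0 fun s => ?_)
    apply Subtype.ext
    exact (SuppFamLib.res_eq_zero_iff G
      (show (Opens.map (CohCx.incl U)).obj (V ⊓ U) ≤ (Opens.map (CohCx.incl U)).obj V from fun y hy => hy.1)
      (fun y hy => ⟨hy, y.2⟩) _).1 s.2

/-- Embedding a sheaf without sections supported in `X ∖ U` into one without cohomology with supports. -/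
theorem exists_shift (F : CohTop.Ab X)
    (h0 : ∀ V : Opens X, Subsingleton (LocCohZ.HZ F 0 (inf_le_left : V ⊓ U ≤ V))) :
    ∃ (S : ShortComplex (CohTop.Ab X)) (_ : S.ShortExact), S.X₁ = F ∧
      ∀ (i : ℕ) (V : Opens X), Subsingleton (LocCohZ.HZ S.X₂ i (inf_le_left : V ⊓ U ≤ V)) := by
  let η := (TopCat.Sheaf.pullbackPushforwardAdjunction AddCommGrpCat.{u} (CohCx.incl U)).unit.app F
  let G := Injective.under ((CohTop.pull (CohCx.incl U)).obj F)
  let ι : F ⟶ (CohTop.push (CohCx.incl U)).obj G :=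
    η ≫ (CohTop.push (CohCx.incl U)).map (Injective.ι _)
  haveI : Mono η := by
    apply Preadditive.mono_of_kernel_zero
    have hk : ∀ V : Opens X, ∀ t : (kernel η).obj.obj (op V), t = 0 := fun V t =>
      incl0_injective U F V ((sect_eq_zero U F h0 _ ((range_incl0 U F V _).1 ⟨t, rfl⟩)).trans (map_zero _).symm)
    apply CategoryTheory.Sheaf.hom_ext
    ext V t
    rw [hk V.unop t, map_zero]
    rfl
  haveI hR : (TopCat.Sheaf.pushforward AddCommGrpCat.{u} (CohCx.incl U)).IsRightAdjoint :=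
    (TopCat.Sheaf.pullbackPushforwardAdjunction AddCommGrpCat.{u} (CohCx.incl U)).isRightAdjoint
  have h2 : Mono ((CohTop.push (CohCx.incl U)).map (Injective.ι ((CohTop.pull (CohCx.incl U)).obj F))) :=
    haveI : (TopCat.Sheaf.pushforward AddCommGrpCat.{u} (CohCx.incl U)).PreservesMonomorphisms :=
      Functor.preservesMonomorphisms_of_adjunction (TopCat.Sheaf.pullbackPushforwardAdjunction AddCommGrpCat.{u} (CohCx.incl U))
    @Functor.map_mono _ _ _ _ (TopCat.Sheaf.pushforward AddCommGrpCat.{u} (CohCx.incl U)) this _ _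
      (Injective.ι ((CohTop.pull (CohCx.incl U)).obj F)) (Injective.ι_mono _)
  haveI : Mono ι := @mono_comp _ _ _ _ _ η ‹Mono η› _ h2
  exact ⟨ShortComplex.mk ι (cokernel.π ι) (cokernel.condition _),
    { exact := ShortComplex.exact_of_g_is_cokernel _ (cokernelIsCokernel _)
      mono_f := ‹_›
      epi_g := inferInstanceAs (Epi (cokernel.π ι)) }, rfl, fun i V => subsingleton_HZ_push U G i V⟩

/-- If all lower cohomology presheaves with supports vanish, a locally zero class is zero. -/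
theorem eq_zero_of_locallyZero : ∀ (n : ℕ) (F : CohTop.Ab X),
    (∀ (V : Opens X) (j : ℕ), j < n → Subsingleton (LocCohZ.HZ F j (inf_le_left : V ⊓ U ≤ V))) →
    ∀ (V : Opens X) (x : LocCohZ.HZ F n (inf_le_left : V ⊓ U ≤ V)), LocallyZero U F n x → x = 0
  | 0, F, _, V, x, hx => locallyZero_zero U F x hx
  | n + 1, F, h, V, x, hx => by
    obtain ⟨S, hS, rfl, hI⟩ := exists_shift U F fun V => h V 0 (Nat.succ_pos n)
    have hd : ∀ (m : ℕ) (A : Opens X),
        Function.Bijective (hS.extClass.postcomp (LocCohZ.zq (inf_le_left : A ⊓ U ≤ A))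
          (show m + 1 = m + 1 from rfl)) := by
      intro m A
      refine ⟨(injective_iff_map_eq_zero _).2 fun a ha => ?_, fun a => ?_⟩
      · obtain ⟨b, rfl⟩ := Abelian.Ext.covariant_sequence_exact₃ _ hS a rfl ha
        rw [(hI m A).elim b 0, Abelian.Ext.zero_comp]
      · exact Abelian.Ext.covariant_sequence_exact₁ _ hS a ((hI (m + 1) A).elim _ _) rfl
    have hQ : ∀ (A : Opens X) (j : ℕ), j < n → Subsingleton (LocCohZ.HZ S.X₃ j (inf_le_left : A ⊓ U ≤ A)) :=
      fun A j hj => (Equiv.ofBijective _ (hd j A)).subsingleton_congr.2 (h A (j + 1) (by omega))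
    obtain ⟨y, rfl⟩ := (hd n V).2 x
    rw [eq_zero_of_locallyZero n S.X₃ hQ V y ?_, map_zero]
    intro p hp
    obtain ⟨W, hW, hpW, hz⟩ := hx p hp
    refine ⟨W, hW, hpW, (hd n W).1 ?_⟩
    rw [map_zero]
    refine Eq.trans ?_ hz
    exact Abelian.Ext.comp_assoc _ _ _ (zero_add n) rfl (by omega)

theorem isZero_iff_subsingleton (F : CohTop.Ab X) (n : ℕ) :
    (∀ i : ℕ, i < n → IsZero ((LocCohZ.HZsh U i).obj F)) ↔
      ∀ (V : Opens X) (i : ℕ), i < n → Subsingleton (LocCohZ.HZ F i (inf_le_left : V ⊓ U ≤ V)) := by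
  refine ⟨fun h V i => ?_, fun h i hi => isZero_of_subsingleton U F i fun V => h V i hi⟩
  induction i using Nat.strong_induction_on generalizing V with
  | _ i ih =>
    intro hi
    exact subsingleton_of_forall_eq 0 fun x => eq_zero_of_locallyZero U i F
      (fun A j hj => ih j hj A (by omega)) V x (locallyZero_of_isZero U F i (h i hi) x)

end Groth.Agent.GrLib8.HZshPre
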