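import Groth.Agent.GrLib8.Star
import Mathlib.Algebra.DirectSum.Decomposition
import Mathlib.LinearAlgebra.Prod
import Mathlib.LinearAlgebra.Quotient.Basic

/-!
# Constructions of graded modules
-/

set_option autoImplicit false

universe u v w

open DirectSum

namespace Groth.Agent.GrLib8

section Indep

variable {ι : Type w} [DecidableEq ι] {M : Type v} [AddCommGroup M]

/-- Homogeneous parts of different degrees are independent. -/
def GIndep (𝒢 : ι → AddSubgroup M) : Prop :=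
  ∀ (s : Finset ι) (c : ι → M), (∀ g ∈ s, c g ∈ 𝒢 g) → ∑ g ∈ s, c g = 0 → ∀ g ∈ s, c g = 0

theorem gIndep_of_decomposition {τ : Type*} [SetLike τ M] [AddSubgroupClass τ M] (ℳ : ι → τ) [Decomposition ℳ] :
    GIndep fun g => AddSubgroup.ofClass (ℳ g) := by
  intro s c hc hsum g hg
  have h := congrArg (fun x => (decompose ℳ x g : M)) hsum
  simp only [decompose_zero, DirectSum.zero_apply, ZeroMemClass.coe_zero] at h
  rw [decompose_sum] at h
  have h2 : (((∑ i ∈ s, decompose ℳ (c i)) g : ℳ g) : M) = ∑ i ∈ s, (decompose ℳ (c i) g : M) :=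
    map_sum ((AddSubgroupClass.subtype (ℳ g)).comp (DFinsupp.evalAddMonoidHom (β := fun i => ℳ i) g))
      (fun i => decompose ℳ (c i)) s
  rw [h2, Finset.sum_eq_single g (fun i hi hne => decompose_of_mem_ne ℳ (hc i hi) hne)
    (fun h => absurd hg h), decompose_of_mem_same ℳ (hc g hg)] at h
  exact h

theorem isInternal_of (𝒢 : ι → AddSubgroup M) (hspan : ∀ x : M, x ∈ (⨆ g, 𝒢 g)) (hind : GIndep 𝒢) :
    DirectSum.IsInternal 𝒢 := by
  classical
  refine ⟨(injective_iff_map_eq_zero (DirectSum.coeAddMonoidHom 𝒢)).2 fun x hx => ?_, fun x => ?_⟩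
  · rw [DirectSum.coeAddMonoidHom_eq_dfinsuppSum] at hx
    have h := hind x.support (fun g => (x g : M)) (fun g _ => (x g).2) hx
    refine DFinsupp.ext fun g => Subtype.ext ?_
    by_cases hg : g ∈ x.support
    · exact h g hg
    · rw [DFinsupp.notMem_support_iff.1 hg]; rfl
  · refine AddSubgroup.iSup_induction 𝒢 (C := fun y => ∃ a, DirectSum.coeAddMonoidHom 𝒢 a = y) (hspan x)
      (fun g y hy => ⟨DirectSum.of (fun g => 𝒢 g) g ⟨y, hy⟩, DirectSum.coeAddMonoidHom_of 𝒢 g _⟩)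
      ⟨0, map_zero _⟩ fun a b ⟨a', ha⟩ ⟨b', hb⟩ => ⟨a' + b', by rw [map_add, ha, hb]⟩

theorem mem_iSup_of_decomposition {τ : Type*} [SetLike τ M] [AddSubgroupClass τ M] (ℳ : ι → τ) [Decomposition ℳ]
    (x : M) : x ∈ ⨆ g, AddSubgroup.ofClass (ℳ g) := by
  classical
  rw [← sum_support_decompose ℳ x]
  exact AddSubgroup.sum_mem _ fun g _ => AddSubgroup.mem_iSup_of_mem g (SetLike.coe_mem _)

/-- A decomposition from spanning and independence. -/
@[instance_reducible] noncomputable def decompositionOf (𝒢 : ι → AddSubgroup M) (hspan : ∀ x : M, x ∈ (⨆ g, 𝒢 g))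
    (hind : GIndep 𝒢) : Decomposition 𝒢 :=
  (isInternal_of 𝒢 hspan hind).chooseDecomposition

end Indep

variable {ι : Type} [AddCommGroup ι] [DecidableEq ι]
variable {R : Type u} [CommRing R] {σ : Type u} [SetLike σ R] [AddSubgroupClass σ R] (𝒜 : ι → σ) [GradedRing 𝒜]

/-- Bundle a module with independent spanning pieces. -/
noncomputable def gmodOf (M : Type u) [AddCommGroup M] [Module R M] (𝒢 : ι → AddSubgroup M)
    (hspan : ∀ x : M, x ∈ (⨆ g, 𝒢 g)) (hind : GIndep 𝒢)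
    (hsmul : ∀ {i g : ι} {a : R} {x : M}, a ∈ 𝒜 i → x ∈ 𝒢 g → a • x ∈ 𝒢 (i + g)) : GrLC.GMod.{u} 𝒜 :=
  @GrLC.GMod.mk ι _ _ R _ σ _ _ 𝒜 _ M _ _ 𝒢 (decompositionOf 𝒢 hspan hind) ⟨fun ⦃_ _⦄ {_ _} ha hx => hsmul ha hx⟩

variable {M N : Type u} [AddCommGroup M] [Module R M] {τ : Type u} [SetLike τ M] [AddSubgroupClass τ M] (ℳ : ι → τ) [Decomposition ℳ]
  [SetLike.GradedSMul 𝒜 ℳ]
variable [AddCommGroup N] [Module R N] {τ' : Type u} [SetLike τ' N] [AddSubgroupClass τ' N] (𝒩 : ι → τ') [Decomposition 𝒩] [SetLike.GradedSMul 𝒜 𝒩]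

/-! ### Quotients -/

/-- Pieces of a quotient. -/
def quotPieces (K : Submodule R M) : ι → AddSubgroup (M ⧸ K) :=
  fun g => (AddSubgroup.ofClass (ℳ g)).map K.mkQ.toAddMonoidHom

omit [SetLike.GradedSMul 𝒜 ℳ] [AddCommGroup ι] in
theorem quot_span (K : Submodule R M) (x : M ⧸ K) : x ∈ ⨆ g, quotPieces ℳ K g := by
  classical
  obtain ⟨y, rfl⟩ := Submodule.Quotient.mk_surjective K x
  change K.mkQ y ∈ _
  rw [← sum_support_decompose ℳ y, map_sum]
  exact AddSubgroup.sum_mem _ fun g _ => AddSubgroup.mem_iSup_of_mem g ⟨_, SetLike.coe_mem _, rfl⟩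

omit [SetLike.GradedSMul 𝒜 ℳ] [AddCommGroup ι] in
theorem quot_indep (K : Submodule R M) (hK : K.IsHomogeneous ℳ) : GIndep (quotPieces ℳ K) := by
  classical
  intro s c hc hsum g hg
  choose! z hz hzc using hc
  have h1 : ∑ i ∈ s, z i ∈ K := by
    rw [← Submodule.Quotient.mk_eq_zero, ← Submodule.mkQ_apply, map_sum, ← hsum]
    exact Finset.sum_congr rfl fun i hi => hzc i hi
  have h2 := hK g h1
  rw [decompose_sum] at h2
  have h3 : (((∑ i ∈ s, decompose ℳ (z i)) g : ℳ g) : M) = ∑ i ∈ s, (decompose ℳ (z i) g : M) :=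
    map_sum ((AddSubgroupClass.subtype (ℳ g)).comp (DFinsupp.evalAddMonoidHom (β := fun i => ℳ i) g))
      (fun i => decompose ℳ (z i)) s
  rw [h3, Finset.sum_eq_single g (fun i hi hne => decompose_of_mem_ne ℳ (hz i hi) hne)
    (fun h => absurd hg h), decompose_of_mem_same ℳ (hz g hg)] at h2
  rw [← hzc g hg]
  exact (Submodule.Quotient.mk_eq_zero K).2 h2

/-- The quotient by a homogeneous submodule. -/
noncomputable def quotGMod (K : Submodule R M) (hK : K.IsHomogeneous ℳ) : GrLC.GMod.{u} 𝒜 :=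
  gmodOf 𝒜 (M ⧸ K) (quotPieces ℳ K) (quot_span ℳ K) (quot_indep ℳ K hK) (by
    rintro i g a _ ha ⟨x, hx, rfl⟩
    exact ⟨a • x, SetLike.GradedSMul.smul_mem (B := ℳ) ha hx, map_smul K.mkQ a x⟩)

omit [SetLike.GradedSMul 𝒜 ℳ] [GradedRing 𝒜] [AddCommGroup ι] [Decomposition ℳ] in
theorem isGrHom_mkQ (K : Submodule R M) : GrLC.IsGrHom ℳ (quotPieces ℳ K) K.mkQ :=
  fun _ x hx => ⟨x, hx, rfl⟩

/-! ### Submodules -/

/-- Pieces of a submodule. -/
def subPieces (P : Submodule R M) : ι → AddSubgroup P :=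
  fun g => (AddSubgroup.ofClass (ℳ g)).comap P.subtype.toAddMonoidHom

omit [SetLike.GradedSMul 𝒜 ℳ] [AddCommGroup ι] in
theorem sub_span (P : Submodule R M) (hP : P.IsHomogeneous ℳ) (x : P) : x ∈ ⨆ g, subPieces ℳ P g := by
  classical
  have h : x = ∑ g ∈ (decompose ℳ (x : M)).support, (⟨(decompose ℳ (x : M) g : M), hP g x.2⟩ : P) :=
    Subtype.ext (by rw [AddSubmonoidClass.coe_finsetSum]; exact (sum_support_decompose ℳ (x : M)).symm)
  rw [h]
  exact AddSubgroup.sum_mem _ fun g _ => AddSubgroup.mem_iSup_of_mem g (SetLike.coe_mem (decompose ℳ (x : M) g))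

omit [SetLike.GradedSMul 𝒜 ℳ] [AddCommGroup ι] in
theorem sub_indep (P : Submodule R M) : GIndep (subPieces ℳ P) := fun s c hc hsum g hg =>
  Subtype.ext (gIndep_of_decomposition ℳ s (fun i => (c i : M)) hc
    ((AddSubmonoidClass.coe_finsetSum c s).symm.trans (congrArg Subtype.val hsum)) g hg)

/-- A homogeneous submodule. -/
noncomputable def subGMod (P : Submodule R M) (hP : P.IsHomogeneous ℳ) : GrLC.GMod.{u} 𝒜 :=
  gmodOf 𝒜 P (subPieces ℳ P) (sub_span ℳ P hP) (sub_indep ℳ P) (fun ha hx => SetLike.GradedSMul.smul_mem (B := ℳ) ha hx)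

/-- Bundle a grading by any type of additive subgroups. -/
noncomputable def gmodPieces : GrLC.GMod.{u} 𝒜 :=
  gmodOf 𝒜 M (fun g => AddSubgroup.ofClass (ℳ g)) (mem_iSup_of_decomposition ℳ) (gIndep_of_decomposition ℳ)
    (fun ha hx => SetLike.GradedSMul.smul_mem (B := ℳ) ha hx)

/-! ### Products -/

/-- Pieces of a product. -/
def prodPieces : ι → AddSubgroup (M × N) := fun g => (AddSubgroup.ofClass (ℳ g)).prod (AddSubgroup.ofClass (𝒩 g))

/-- The product. -/
noncomputable def prodGMod : GrLC.GMod.{u} 𝒜 :=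
  gmodOf 𝒜 (M × N) (prodPieces ℳ 𝒩)
    (fun x => by
      classical
      have h1 : (x.1, (0 : N)) ∈ ⨆ g, prodPieces ℳ 𝒩 g := by
        have e : (x.1, (0 : N)) = ∑ g ∈ (decompose ℳ x.1).support, (((decompose ℳ x.1 g : M)), (0 : N)) := by
          refine Prod.ext ?_ ?_
          · rw [Prod.fst_sum]; exact (sum_support_decompose ℳ x.1).symm
          · rw [Prod.snd_sum]; exact (Finset.sum_const_zero).symm
        rw [e]
        exact AddSubgroup.sum_mem _ fun g _ => AddSubgroup.mem_iSup_of_mem g ⟨SetLike.coe_mem _, zero_mem _⟩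
      have h2 : ((0 : M), x.2) ∈ ⨆ g, prodPieces ℳ 𝒩 g := by
        have e : ((0 : M), x.2) = ∑ g ∈ (decompose 𝒩 x.2).support, ((0 : M), (decompose 𝒩 x.2 g : N)) := by
          refine Prod.ext ?_ ?_
          · rw [Prod.fst_sum]; exact (Finset.sum_const_zero).symm
          · rw [Prod.snd_sum]; exact (sum_support_decompose 𝒩 x.2).symm
        rw [e]
        exact AddSubgroup.sum_mem _ fun g _ => AddSubgroup.mem_iSup_of_mem g ⟨zero_mem _, SetLike.coe_mem _⟩
      have := AddSubgroup.add_mem _ h1 h2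
      simpa using this)
    (fun s c hc hsum g hg => Prod.ext
      (gIndep_of_decomposition ℳ s (fun i => (c i).1) (fun i hi => (hc i hi).1)
        ((Prod.fst_sum).symm.trans (congrArg Prod.fst hsum)) g hg)
      (gIndep_of_decomposition 𝒩 s (fun i => (c i).2) (fun i hi => (hc i hi).2)
        ((Prod.snd_sum).symm.trans (congrArg Prod.snd hsum)) g hg))
    (fun ha hx => ⟨SetLike.GradedSMul.smul_mem (B := ℳ) ha hx.1, SetLike.GradedSMul.smul_mem (B := 𝒩) ha hx.2⟩)

/-! ### Shifts -/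

/-- The shift `M(d)`. -/
noncomputable def shiftGMod (d : ι) : GrLC.GMod.{u} 𝒜 :=
  gmodOf 𝒜 M (fun g => AddSubgroup.ofClass (ℳ (g + d)))
    (fun x => by
      refine AddSubgroup.iSup_induction (fun g => AddSubgroup.ofClass (ℳ g)) (C := fun y => y ∈ ⨆ g, AddSubgroup.ofClass (ℳ (g + d))) (mem_iSup_of_decomposition ℳ x)
        (fun g y hy => AddSubgroup.mem_iSup_of_mem (g - d) (show y ∈ ℳ (g - d + d) by rw [sub_add_cancel]; exact hy)) (zero_mem _)
        (fun a b ha hb => add_mem ha hb))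
    (fun s c hc hsum g hg => by
      have h := gIndep_of_decomposition ℳ (s.map (addRightEmbedding d)) (fun g' => c (g' - d))
        (fun g' hg' => by
          obtain ⟨i, hi, rfl⟩ := Finset.mem_map.1 hg'
          simpa using hc i hi)
        (by rw [Finset.sum_map]; simpa using hsum) (g + d) (Finset.mem_map.2 ⟨g, hg, rfl⟩)
      simpa using h)
    (fun {i g a x} ha hx => by
      have h := SetLike.GradedSMul.smul_mem (B := ℳ) ha hx
      rwa [vadd_eq_add, ← add_assoc] at h)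

end Groth.Agent.GrLib8
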