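import Groth.Agent.GrLib8.StarInj
import Mathlib.Algebra.Homology.DerivedCategory.Ext.ExactSequences
import Mathlib.Algebra.Homology.DerivedCategory.Ext.EnoughInjectives
import Mathlib.Algebra.Category.ModuleCat.Projective

/-!
# `Ext` into a *injective module
-/

set_option autoImplicit false

universe u

open DirectSum CategoryTheory

namespace Groth.Agent.GrLib8

variable {ι : Type} [AddCommGroup ι] [DecidableEq ι]
variable {R : Type u} [CommRing R] {σ : Type u} [SetLike σ R] [AddSubgroupClass σ R] {𝒜 : ι → σ} [GradedRing 𝒜]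
variable {I : Type u} [AddCommGroup I] [Module R I] (ℐ : ι → AddSubgroup I) [Decomposition ℐ]
  [SetLike.GradedSMul 𝒜 ℐ]

section Component

variable {K : Type u} [AddCommGroup K] [Module R K] (𝒦 : ι → AddSubgroup K) [Decomposition 𝒦]
  [SetLike.GradedSMul 𝒜 𝒦]

/-- The homogeneous component of degree `d` of a linear map, as an additive map. -/
noncomputable def compAddHom (φ : K →ₗ[R] I) (d : ι) : K →+ I :=
  (DirectSum.toAddMonoid fun g => ((ℐ (g + d)).subtype.comp
    ((DFinsupp.evalAddMonoidHom (β := fun i => ℐ i) (g + d)).comp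
      ((decomposeAddEquiv ℐ).toAddMonoidHom.comp (φ.toAddMonoidHom.comp (𝒦 g).subtype))))).comp
    (decomposeAddEquiv 𝒦).toAddMonoidHom

omit [SetLike.GradedSMul 𝒜 ℐ] [SetLike.GradedSMul 𝒜 𝒦] in
theorem compAddHom_of_mem (φ : K →ₗ[R] I) (d : ι) {g : ι} {k : K} (hk : k ∈ 𝒦 g) :
    compAddHom ℐ 𝒦 φ d k = (decompose ℐ (φ k) (g + d) : I) := by
  show DirectSum.toAddMonoid _ (decompose 𝒦 k) = _
  rw [show decompose 𝒦 k = DirectSum.of (fun i => 𝒦 i) g ⟨k, hk⟩ from decompose_coe 𝒦 ⟨k, hk⟩,
    DirectSum.toAddMonoid_of]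
  rfl

/-- The homogeneous component of degree `d` of a linear map. -/
noncomputable def compHom (φ : K →ₗ[R] I) (d : ι) : K →ₗ[R] I :=
  { compAddHom ℐ 𝒦 φ d with
    map_smul' := fun r k => by
      show compAddHom ℐ 𝒦 φ d (r • k) = r • compAddHom ℐ 𝒦 φ d k
      classical
      rw [← sum_support_decompose 𝒜 r, Finset.sum_smul, map_sum, Finset.sum_smul]
      refine Finset.sum_congr rfl fun i _ => ?_
      generalize hb : (decompose 𝒜 r i : R) = b
      have hbi : b ∈ 𝒜 i := hb ▸ SetLike.coe_mem _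
      induction k using DirectSum.Decomposition.inductionOn 𝒦 with
      | zero => simp
      | homogeneous t =>
        rename_i g
        rw [compAddHom_of_mem ℐ 𝒦 φ d (SetLike.GradedSMul.smul_mem hbi t.2), compAddHom_of_mem ℐ 𝒦 φ d t.2,
          map_smul, decompose_smul_of_mem_left 𝒜 ℐ hbi, vadd_eq_add,
          show i + g + d - i = g + d by abel]
      | add x y hx hy => rw [smul_add, map_add, hx, hy, map_add, smul_add] }

theorem isGrHomDeg_compHom (φ : K →ₗ[R] I) (d : ι) : GrLC.IsGrHomDeg 𝒦 ℐ (compHom ℐ 𝒦 (𝒜 := 𝒜) φ d) d := by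
  intro g k hk
  show compAddHom ℐ 𝒦 φ d k ∈ _
  rw [compAddHom_of_mem ℐ 𝒦 φ d hk]
  exact SetLike.coe_mem _

/-- A map from a finite graded module is a sum of homogeneous maps. -/
theorem exists_sum_compHom [Module.Finite R K] (φ : K →ₗ[R] I) :
    ∃ D : Finset ι, φ = ∑ d ∈ D, compHom ℐ 𝒦 (𝒜 := 𝒜) φ d := by
  classical
  obtain ⟨n, t, e, ht, htop⟩ := exists_homogeneous_generators 𝒦 (R := R)
  refine ⟨Finset.univ.biUnion fun j => (decompose ℐ (φ (t j))).support.image fun g => g - e j, ?_⟩
  refine LinearMap.ext_on_range htop fun j => ?_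
  rw [LinearMap.sum_apply]
  refine ((sum_support_decompose ℐ (φ (t j))).symm).trans ?_
  symm
  refine Eq.trans (Finset.sum_congr rfl fun d _ => compAddHom_of_mem ℐ 𝒦 φ d (ht j)) ?_
  rw [← Finset.sum_image (f := fun g => (decompose ℐ (φ (t j)) g : I)) (g := fun d => e j + d)
    (fun a _ b _ h => add_left_cancel h)]
  symm
  refine Finset.sum_subset (fun g hg => Finset.mem_image.2 ⟨g - e j, ?_, add_sub_cancel _ _⟩) fun g _ hg => ?_
  · exact Finset.mem_biUnion.2 ⟨j, Finset.mem_univ j, Finset.mem_image.2 ⟨g, hg, rfl⟩⟩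
  · rw [DFinsupp.notMem_support_iff.1 hg]; rfl

end Component

/-- A linear map from a finite homogeneous submodule extends. -/
theorem exists_extend (hI : GrLC.IsStarInj 𝒜 ℐ) (B : GrLC.GMod.{u} 𝒜) (K : Submodule R B.carrier)
    (hK : K.IsHomogeneous B.gr) [Module.Finite R K] (φ : K →ₗ[R] I) :
    ∃ ψ : B.carrier →ₗ[R] I, ψ ∘ₗ K.subtype = φ := by
  classical
  let KG := subGMod 𝒜 B.gr K hK
  let φ' : KG.carrier →ₗ[R] I := φ
  haveI : Module.Finite R KG.carrier := ‹Module.Finite R K›
  obtain ⟨D, hD⟩ := exists_sum_compHom ℐ KG.gr (𝒜 := 𝒜) φ'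
  let Φ : ι → (KG.carrier →ₗ[R] I) := fun d => compHom (K := KG.carrier) (𝒜 := 𝒜) ℐ KG.gr φ' d
  have hΦ : ∀ d, GrLC.IsGrHomDeg KG.gr ℐ (Φ d) d := fun d => isGrHomDeg_compHom (K := KG.carrier) (𝒜 := 𝒜) ℐ KG.gr φ' d
  have hex : ∀ d : ι, ∃ ψ : B.carrier →ₗ[R] I, ∀ k : KG.carrier, ψ (K.subtype k) = Φ d k := by
    intro d
    obtain ⟨h, -, hh⟩ := hI (shiftGMod 𝒜 KG.gr (-d)) (shiftGMod 𝒜 B.gr (-d)) K.subtype (fun j k hk => hk)
      Subtype.val_injective (Φ d) (fun j k hk => by
        have h := hΦ d (j + -d) k hk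
        rwa [neg_add_cancel_right] at h)
    exact ⟨h, fun k => LinearMap.congr_fun hh k⟩
  choose ψ hψ using hex
  refine ⟨∑ d ∈ D, ψ d, LinearMap.ext fun k => ?_⟩
  rw [LinearMap.comp_apply, LinearMap.sum_apply]
  refine (Finset.sum_congr rfl fun d _ => hψ d k).trans ?_
  have h2 := LinearMap.congr_fun hD k
  rw [LinearMap.sum_apply] at h2
  exact h2.symm

section Free

/-- Pieces of a free module with shifted generators. -/
def freePieces {n : ℕ} (e : Fin n → ι) : ι → AddSubgroup (Fin n → R) :=
  fun g => AddSubgroup.pi Set.univ fun j => AddSubgroup.ofClass (𝒜 (g - e j))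

/-- A free graded module. -/
noncomputable def freeGMod {n : ℕ} (e : Fin n → ι) : GrLC.GMod.{u} 𝒜 :=
  gmodOf 𝒜 (Fin n → R) (freePieces (𝒜 := 𝒜) e)
    (fun x => by
      classical
      rw [← Finset.univ_sum_single x]
      refine AddSubgroup.sum_mem _ fun j _ => ?_
      rw [← sum_support_decompose 𝒜 (x j), show Pi.single (M := fun _ : Fin n => R) j
        (∑ i ∈ (decompose 𝒜 (x j)).support, (decompose 𝒜 (x j) i : R)) =
          ∑ i ∈ (decompose 𝒜 (x j)).support, Pi.single j (decompose 𝒜 (x j) i : R) from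
        map_sum (AddMonoidHom.single (fun _ : Fin n => R) j) _ _]
      refine AddSubgroup.sum_mem _ fun i _ => AddSubgroup.mem_iSup_of_mem (i + e j) fun l _ => ?_
      rcases eq_or_ne l j with rfl | hl
      · show Pi.single (M := fun _ : Fin n => R) l _ l ∈ 𝒜 (i + e l - e l)
        rw [Pi.single_eq_same, add_sub_cancel_right]; exact SetLike.coe_mem _
      · show Pi.single (M := fun _ : Fin n => R) j _ l ∈ 𝒜 (i + e j - e l)
        rw [Pi.single_eq_of_ne hl]; exact zero_mem _)
    (fun s c hc hsum g hg => funext fun j => by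
      have h := gIndep_of_decomposition 𝒜 (s.map (addRightEmbedding (-e j))) (fun g' => c (g' + e j) j)
        (fun g' hg' => by
          obtain ⟨i, hi, rfl⟩ := Finset.mem_map.1 hg'
          simpa [sub_eq_add_neg] using hc i hi j trivial)
        (by rw [Finset.sum_map]; simpa [Finset.sum_apply] using congrFun hsum j) (g + -e j)
        (Finset.mem_map.2 ⟨g, hg, rfl⟩)
      simpa using h)
    (fun {i g a x} ha hx j _ => by
      have h : a * x j ∈ 𝒜 (i + (g - e j)) := SetLike.GradedMul.mul_mem ha (hx j trivial)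
      rwa [← add_sub_assoc] at h)

end Free

open CategoryTheory.Limits in
/-- `Ext^i(M, I) = 0` for finite graded `M`. -/
theorem subsingleton_ext [IsNoetherianRing R] (hI : GrLC.IsStarInj 𝒜 ℐ) : ∀ (i : ℕ) (M : GrLC.GMod.{u} 𝒜),
    Module.Finite R M.carrier →
      Subsingleton (Abelian.Ext.{u} (ModuleCat.of R M.carrier) (ModuleCat.of R I) (i + 1)) := by
  intro i
  induction i with
  | zero =>
    intro M hfin
    obtain ⟨n, t, e, ht, htop⟩ := exists_homogeneous_generators M.gr (R := R)
    let F := freeGMod (𝒜 := 𝒜) e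
    let π : F.carrier →ₗ[R] M.carrier := Fintype.linearCombination R t
    have hπ : GrLC.IsGrHom F.gr M.gr π := fun g x hx => by
      show Fintype.linearCombination R t (x : Fin n → R) ∈ _
      rw [Fintype.linearCombination_apply]
      refine AddSubgroup.sum_mem _ fun j _ => ?_
      have hxj : (x : Fin n → R) j ∈ 𝒜 (g - e j) := (show (x : Fin n → R) ∈ freePieces (𝒜 := 𝒜) e g from hx) j trivial
      have h := SetLike.GradedSMul.smul_mem (B := M.gr) hxj (ht j)
      rwa [vadd_eq_add, sub_add_cancel] at h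
    have hsur : Function.Surjective π := by
      rw [← LinearMap.range_eq_top]
      show LinearMap.range (Fintype.linearCombination R t) = ⊤
      rw [Fintype.range_linearCombination, htop]
    haveI : Module.Finite R F.carrier := inferInstanceAs (Module.Finite R (Fin n → R))
    haveI : Module.Free R F.carrier := inferInstanceAs (Module.Free R (Fin n → R))
    haveI : Module.Finite R (LinearMap.ker π) := inferInstance
    have hS := LinearMap.shortExact_shortComplexKer hsur
    haveI : Projective π.shortComplexKer.X₂ := (IsProjective.iff_projective (R := R) F.carrier).1 inferInstance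
    refine subsingleton_of_forall_eq 0 fun x => ?_
    obtain ⟨y, rfl⟩ := Abelian.Ext.contravariant_sequence_exact₃ hS (ModuleCat.of R I) x
      (Abelian.Ext.eq_zero_of_projective _) (n₀ := 0) rfl
    obtain ⟨φ, rfl⟩ := (Abelian.Ext.mk₀_bijective _ _).2 y
    obtain ⟨ψ, hψ⟩ := exists_extend ℐ hI F (LinearMap.ker π) (isHomogeneous_ker F.gr M.gr hπ) φ.hom
    have hf : φ = π.shortComplexKer.f ≫ ModuleCat.ofHom ψ := ModuleCat.hom_ext hψ.symm
    rw [hf, ← Abelian.Ext.mk₀_comp_mk₀, ShortComplex.ShortExact.extClass_comp_assoc]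
  | succ i ih =>
    intro M hfin
    obtain ⟨n, t, e, ht, htop⟩ := exists_homogeneous_generators M.gr (R := R)
    let F := freeGMod (𝒜 := 𝒜) e
    let π : F.carrier →ₗ[R] M.carrier := Fintype.linearCombination R t
    have hπ : GrLC.IsGrHom F.gr M.gr π := fun g x hx => by
      show Fintype.linearCombination R t (x : Fin n → R) ∈ _
      rw [Fintype.linearCombination_apply]
      refine AddSubgroup.sum_mem _ fun j _ => ?_
      have hxj : (x : Fin n → R) j ∈ 𝒜 (g - e j) := (show (x : Fin n → R) ∈ freePieces (𝒜 := 𝒜) e g from hx) j trivial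
      have h := SetLike.GradedSMul.smul_mem (B := M.gr) hxj (ht j)
      rwa [vadd_eq_add, sub_add_cancel] at h
    have hsur : Function.Surjective π := by
      rw [← LinearMap.range_eq_top]
      show LinearMap.range (Fintype.linearCombination R t) = ⊤
      rw [Fintype.range_linearCombination, htop]
    haveI : Module.Finite R F.carrier := inferInstanceAs (Module.Finite R (Fin n → R))
    haveI : Module.Free R F.carrier := inferInstanceAs (Module.Free R (Fin n → R))
    have hS := LinearMap.shortExact_shortComplexKer hsur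
    haveI : Projective π.shortComplexKer.X₂ := (IsProjective.iff_projective (R := R) F.carrier).1 inferInstance
    refine subsingleton_of_forall_eq 0 fun x => ?_
    obtain ⟨y, rfl⟩ := Abelian.Ext.contravariant_sequence_exact₃ hS (ModuleCat.of R I) x
      (Abelian.Ext.eq_zero_of_projective _) (n₀ := i + 1) (by omega)
    have h := ih (subGMod 𝒜 F.gr (LinearMap.ker π) (isHomogeneous_ker F.gr M.gr hπ))
      (inferInstanceAs (Module.Finite R (LinearMap.ker π)))
    rw [show y = 0 from @Subsingleton.elim _ h y 0, Abelian.Ext.comp_zero]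

end Groth.Agent.GrLib8
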