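import Groth.Agent.GrLib8.Res
import Groth.Agent.GrLib8.ExtVanish
import Groth.Agent.LC.CohAcyclic

/-!
# Graded local cohomology agrees with local cohomology
-/

set_option autoImplicit false

universe u

open DirectSum CategoryTheory

namespace Groth.Agent.GrLib8

variable {ι : Type} [AddCommGroup ι] [DecidableEq ι]
variable {R : Type u} [CommRing R] {σ : Type u} [SetLike σ R] [AddSubgroupClass σ R] {𝒜 : ι → σ} [GradedRing 𝒜]

theorem isHomogeneous_pow (a : HomogeneousIdeal 𝒜) (n : ℕ) : (a.toIdeal ^ n).IsHomogeneous 𝒜 := by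
  induction n with
  | zero => rw [pow_zero, Ideal.one_eq_top]; exact Ideal.IsHomogeneous.top 𝒜
  | succ n ih => rw [pow_succ]; exact ih.mul a.isHomogeneous

/-- *Injective modules are acyclic for local cohomology. -/
theorem subsingleton_H_of_isStarInj [IsNoetherianRing R] (a : HomogeneousIdeal 𝒜) (X : GrLC.GMod.{u} 𝒜)
    (hX : GrLC.IsStarInj 𝒜 X.gr) (j : ℕ) :
    Subsingleton ((localCohomology a.toIdeal (j + 1)).obj (ModuleCat.of R X.carrier)) := by
  refine subsingleton_of_forall_eq 0 fun z => ?_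
  obtain ⟨n, x, rfl⟩ := LC.exists_toH a.toIdeal (j + 1) z
  have h := subsingleton_ext X.gr hX j (quotGMod 𝒜 𝒜 (a.toIdeal ^ n) (isHomogeneous_pow a n))
    (inferInstanceAs (Module.Finite R (R ⧸ a.toIdeal ^ n)))
  rw [show x = 0 from @Subsingleton.elim _ h x 0, map_zero]

variable {M : Type u} [AddCommGroup M] [Module R M] {τ : Type u} [SetLike τ M] [AddSubgroupClass τ M] (ℳ : ι → τ) [Decomposition ℳ]
  [SetLike.GradedSMul 𝒜 ℳ]

/-- The short complex of cocycles of a resolution. -/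
noncomputable def cocycSC (E : GrLC.StarInjRes 𝒜 ℳ) (n : ℕ) : ShortComplex (ModuleCat.{u} R) :=
  ShortComplex.mk (X₁ := ModuleCat.of R (LinearMap.ker (E.d n))) (X₂ := ModuleCat.of R (E.X n).carrier)
    (X₃ := ModuleCat.of R (LinearMap.ker (E.d (n + 1))))
    (ModuleCat.ofHom (LinearMap.ker (E.d n)).subtype)
    (ModuleCat.ofHom ((E.d n).codRestrict _ fun x => (E.exact_succ n).ge ⟨x, rfl⟩))
    (ModuleCat.hom_ext (LinearMap.ext fun z => Subtype.ext z.2))

theorem cocycSC_shortExact (E : GrLC.StarInjRes 𝒜 ℳ) (n : ℕ) : (cocycSC ℳ E n).ShortExact where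
  exact := (ShortComplex.ShortExact.moduleCat_exact_iff_function_exact _).2 fun x => by
    show (E.d n).codRestrict _ _ x = 0 ↔ _
    exact ⟨fun h => ⟨⟨x, congrArg Subtype.val h⟩, rfl⟩, fun ⟨z, hz⟩ => hz ▸ Subtype.ext z.2⟩
  mono_f := (ModuleCat.mono_iff_injective _).2 Subtype.val_injective
  epi_g := (ModuleCat.epi_iff_surjective _).2 fun y => by
    obtain ⟨x, hx⟩ := (E.exact_succ n).le y.2
    exact ⟨x, Subtype.ext hx⟩

variable [IsNoetherianRing R]

theorem exists_shift (E : GrLC.StarInjRes 𝒜 ℳ) (a : HomogeneousIdeal 𝒜) : ∀ n j : ℕ,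
    Nonempty ((localCohomology a.toIdeal (j + 1)).obj (ModuleCat.of R (LinearMap.ker (E.d n))) ≃ₗ[R]
      (localCohomology a.toIdeal (n + (j + 1))).obj (ModuleCat.of R (LinearMap.ker (E.d 0))))
  | 0, j => by
    exact ⟨(eqToIso (congrArg (fun k => (localCohomology a.toIdeal k).obj (ModuleCat.of R (LinearMap.ker (E.d 0))))
      (Nat.zero_add (j + 1)).symm)).toLinearEquiv⟩
  | n + 1, j => by
    obtain ⟨e⟩ := exists_shift E a n (j + 1)
    let s := LC.shiftEquiv a.toIdeal (cocycSC_shortExact ℳ E n)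
      (fun i => subsingleton_H_of_isStarInj a (E.X n) (E.starInj n) i) j
    exact ⟨(s.trans e).trans (eqToIso (congrArg (fun k => (localCohomology a.toIdeal k).obj
      (ModuleCat.of R (LinearMap.ker (E.d 0)))) (by omega : n + (j + 1 + 1) = n + 1 + (j + 1)))).toLinearEquiv⟩

theorem nonempty_H_equiv (E : GrLC.StarInjRes 𝒜 ℳ) (a : HomogeneousIdeal 𝒜) (i : ℕ) :
    Nonempty (E.H a i ≃ₗ[R] (localCohomology a.toIdeal i).obj (ModuleCat.of R M)) := by
  let eM : M ≃ₗ[R] LinearMap.ker (E.d 0) :=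
    (LinearEquiv.ofInjective E.ε E.ε_injective).trans (LinearEquiv.ofEq _ _ E.exact_zero.symm)
  let eH := ((localCohomology a.toIdeal i).mapIso eM.toModuleIso).toLinearEquiv
  suffices Nonempty (E.H a i ≃ₗ[R] (localCohomology a.toIdeal i).obj (ModuleCat.of R (LinearMap.ker (E.d 0)))) by
    obtain ⟨e⟩ := this
    exact ⟨e.trans eH.symm⟩
  cases i with
  | zero =>
    let Z := LinearMap.ker (E.d 0)
    let c : E.cocyc a 0 →ₗ[R] DRing.torsionSub a.toIdeal Z :=
      { toFun := fun z => ⟨⟨z.1, z.2.2⟩, by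
          obtain ⟨k, hk⟩ := z.2.1
          exact ⟨k, fun r hr => Subtype.ext (hk r hr)⟩⟩
        map_add' := fun _ _ => rfl
        map_smul' := fun _ _ => rfl }
    have hc : Function.Bijective c := by
      refine ⟨fun z w h => Subtype.ext (congrArg (fun v => (v.1.1 : (E.X 0).carrier)) h), fun z => ?_⟩
      obtain ⟨k, hk⟩ := z.2
      exact ⟨⟨z.1.1, ⟨k, fun r hr => congrArg Subtype.val (hk r hr)⟩, z.1.2⟩, rfl⟩
    have hbot : (E.cobdy a 0).comap (E.cocyc a 0).subtype = ⊥ := by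
      rw [eq_bot_iff]
      intro z hz
      exact Subtype.ext hz
    exact ⟨((Submodule.quotEquivOfEqBot _ hbot).trans (LinearEquiv.ofBijective c hc)).trans
      (LC.H0Equiv a.toIdeal (ModuleCat.of R Z)).symm⟩
  | succ n =>
    obtain ⟨e⟩ := exists_shift ℳ E a n 0
    let hS := cocycSC_shortExact ℳ E n
    let Z := LinearMap.ker (E.d (n + 1))
    let c : E.cocyc a (n + 1) →ₗ[R] DRing.torsionSub a.toIdeal Z :=
      { toFun := fun z => ⟨⟨z.1, z.2.2⟩, by
          obtain ⟨k, hk⟩ := z.2.1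
          exact ⟨k, fun r hr => Subtype.ext (hk r hr)⟩⟩
        map_add' := fun _ _ => rfl
        map_smul' := fun _ _ => rfl }
    let p := LC.coker₁ a.toIdeal hS ∘ₗ c
    have hp : Function.Surjective p := by
      intro w
      obtain ⟨y, hy⟩ := LC.coker₁_surjective a.toIdeal hS
        (fun i => subsingleton_H_of_isStarInj a (E.X n) (E.starInj n) i) w
      obtain ⟨k, hk⟩ := y.2
      exact ⟨⟨y.1.1, ⟨k, fun r hr => congrArg Subtype.val (hk r hr)⟩, y.1.2⟩, hy⟩
    have hker : (E.cobdy a (n + 1)).comap (E.cocyc a (n + 1)).subtype = LinearMap.ker p := by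
      ext z
      rw [Submodule.mem_comap, LinearMap.mem_ker]
      show (z : (E.X (n + 1)).carrier) ∈ (GrLC.gam a.toIdeal (E.X n).carrier).map (E.d n) ↔ LC.coker₁ a.toIdeal hS (c z) = 0
      rw [LC.coker₁_eq_zero_iff]
      constructor
      · rintro ⟨x, hx, hxz⟩
        exact ⟨x, hx, Subtype.ext hxz⟩
      · rintro ⟨x, hx, hxz⟩
        exact ⟨x, hx, congrArg Subtype.val hxz⟩
    exact ⟨((Submodule.quotEquivOfEq _ _ hker).trans (p.quotKerEquivOfSurjective hp)).trans e⟩

end Groth.Agent.GrLib8
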