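import Groth.Agent.GrLib8.RegRes
import Mathlib.Algebra.Category.ModuleCat.Projective
import Mathlib.CategoryTheory.Abelian.Projective.Dimension

/-!
# Length of minimal resolutions and projective dimension
-/

set_option autoImplicit false
set_option linter.unusedSectionVars false

universe u

open DirectSum CategoryTheory

namespace Groth.Agent.GrLib8

variable {R : Type u} [CommRing R] {σ : Type u} [SetLike σ R] [AddSubgroupClass σ R] {𝒜 : ℤ → σ} [GradedRing 𝒜]
variable {A B C : Type u} [AddCommGroup A] [Module R A] [AddCommGroup B] [Module R B] [AddCommGroup C] [Module R C]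

theorem shortExact_of (j : A →ₗ[R] B) (p : B →ₗ[R] C) (hj : Function.Injective j) (hp : Function.Surjective p)
    (hex : Function.Exact j p) :
    (ShortComplex.mk (ModuleCat.ofHom j) (ModuleCat.ofHom p)
      (ModuleCat.hom_ext (LinearMap.ext fun z => (hex _).2 ⟨z, rfl⟩))).ShortExact where
  exact := (ShortComplex.ShortExact.moduleCat_exact_iff_function_exact _).2 hex
  mono_f := (ModuleCat.mono_iff_injective _).2 hj
  epi_g := (ModuleCat.epi_iff_surjective _).2 hp

theorem projective_of_free [Module.Free R B] : Projective (ModuleCat.of R B) :=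
  (IsProjective.iff_projective B).1 inferInstance

/-- Dimension shifting along a projective cover. -/
theorem pdLE_succ_iff (j : A →ₗ[R] B) (p : B →ₗ[R] C) (hj : Function.Injective j) (hp : Function.Surjective p)
    (hex : Function.Exact j p) [Module.Free R B] (n : ℕ) :
    HasProjectiveDimensionLE (ModuleCat.of R C) (n + 1) ↔ HasProjectiveDimensionLE (ModuleCat.of R A) n :=
  (shortExact_of j p hj hp hex).hasProjectiveDimensionLT_X₃_iff n projective_of_free

variable [IsNoetherianRing R] (hpos : ∀ n < 0, ∀ r ∈ 𝒜 n, r = 0)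

include hpos

/-- A minimal cover of a projective module is an isomorphism. -/
theorem subsingleton_of_projective {K F : GrLC.GMod.{u} 𝒜} {Z : Type u} [AddCommGroup Z] [Module R Z]
    [Module.Finite R K.carrier] [Module.Projective R Z] (j : K.carrier →ₗ[R] F.carrier) (p : F.carrier →ₗ[R] Z)
    (hj : Function.Injective j) (hp : Function.Surjective p) (hex : Function.Exact j p)
    (hmin : ∀ k, j k ∈ (GrSyz.irrel 𝒜).toIdeal • (⊤ : Submodule R F.carrier)) : Subsingleton K.carrier := by
  obtain ⟨s, hs⟩ := Module.projective_lifting_property p LinearMap.id hp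
  have hps : ∀ z, p (s z) = z := fun z => LinearMap.congr_fun hs z
  let e := LinearEquiv.ofInjective j hj
  let q : F.carrier →ₗ[R] K.carrier := e.symm.toLinearMap ∘ₗ
    (LinearMap.id - s ∘ₗ p).codRestrict (LinearMap.range j) fun x => (hex _).1 (by simp [hps])
  have hq : ∀ k, q (j k) = k := fun k => by
    refine e.symm_apply_eq.2 (Subtype.ext ?_)
    show j k - s (p (j k)) = j k
    rw [(hex _).2 ⟨k, rfl⟩, map_zero, sub_zero]
  have htop : (⊥ : Submodule R K.carrier) = ⊤ := by
    refine eq_top_of_sup_irrel 𝒜 hpos K.gr ⊥ (fun g x hx => ?_) (eq_top_iff.2 fun k _ => ?_)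
    · rw [Submodule.mem_bot] at hx ⊢
      rw [hx, decompose_zero, DirectSum.zero_apply, ZeroMemClass.coe_zero]
    · rw [bot_sup_eq]
      have h := Submodule.mem_map_of_mem (f := q) (hmin k)
      rw [Submodule.map_smul'', hq] at h
      exact Submodule.smul_mono le_rfl le_top h
  exact (Submodule.subsingleton_iff R).1 (subsingleton_of_bot_eq_top htop)

variable {M : Type u} [AddCommGroup M] [Module R M] {τ : Type u} [SetLike τ M] [AddSubgroupClass τ M] {ℳ : ℤ → τ}
  [Decomposition ℳ] [SetLike.GradedSMul 𝒜 ℳ]

omit [IsNoetherianRing R] hpos in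
theorem mem_irrel_smul_top {n : ℕ} (v : Fin n → R) (h : ∀ b, v b ∈ (GrSyz.irrel 𝒜).toIdeal) :
    v ∈ (GrSyz.irrel 𝒜).toIdeal • (⊤ : Submodule R (Fin n → R)) := by
  rw [← Finset.univ_sum_single v]
  refine Submodule.sum_mem _ fun b _ => ?_
  have : Pi.single (M := fun _ => R) b (v b) = v b • Pi.single (M := fun _ => R) b (1 : R) := by
    rw [← Pi.single_smul', smul_eq_mul, mul_one]
  rw [this]
  exact Submodule.smul_mem_smul (h b) Submodule.mem_top

/-- A minimal resolution has length equal to the projective dimension. -/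
theorem hasLengthLE_iff [Nontrivial R] (F : GrSyz.FreeRes 𝒜 ℳ) (hF : F.IsMinimal (GrSyz.irrel 𝒜).toIdeal) (n : ℕ) :
    F.HasLengthLE n ↔ HasProjectiveDimensionLE (ModuleCat.of R M) n := by
  classical
  obtain ⟨K, j, p₀, p, hj, ⟨hp₀, hs₀, hx₀⟩, hp, hm⟩ := exists_syz F
  obtain ⟨hm₀, hm⟩ := hm hF
  haveI : ∀ i, Module.Free R (freeGMod (𝒜 := 𝒜) (F.deg i)).carrier := fun i =>
    inferInstanceAs (Module.Free R (Fin (F.rk i) → R))
  haveI hfin : ∀ i, Module.Finite R (freeGMod (𝒜 := 𝒜) (F.deg i)).carrier := fun i =>
    inferInstanceAs (Module.Finite R (Fin (F.rk i) → R))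
  haveI : ∀ i, Module.Finite R (K i).carrier := fun i => Module.Finite.of_injective (j i) (hj i).2
  have hK : ∀ i, Subsingleton (K i).carrier → F.rk (i + 1) = 0 := fun i hi => by
    by_contra hne
    let b : Fin (F.rk (i + 1)) := ⟨0, by omega⟩
    have h1 := hm i (Pi.single b 1) (@Subsingleton.elim _ hi _ _) b
    rw [Pi.single_eq_same, mem_irrel_iff 𝒜 hpos, decompose_of_mem_same 𝒜 (SetLike.one_mem_graded 𝒜)] at h1
    exact one_ne_zero h1
  have hnext : ∀ i, Subsingleton (K i).carrier → Subsingleton (K (i + 1)).carrier := fun i hi => by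
    haveI : IsEmpty (Fin (F.rk (i + 1))) := (hK i hi) ▸ Fin.isEmpty'
    haveI : Subsingleton (freeGMod (𝒜 := 𝒜) (F.deg (i + 1))).carrier :=
      inferInstanceAs (Subsingleton (Fin (F.rk (i + 1)) → R))
    exact (hj (i + 1)).2.subsingleton
  have e₀ : ∀ q, HasProjectiveDimensionLE (ModuleCat.of R M) (q + 1) ↔
      HasProjectiveDimensionLE (ModuleCat.of R (K 0).carrier) q := fun q =>
    pdLE_succ_iff (j 0) (p₀ : _ →ₗ[R] M) (hj 0).2 hs₀ hx₀ q
  have e : ∀ i q, HasProjectiveDimensionLE (ModuleCat.of R (K i).carrier) (q + 1) ↔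
      HasProjectiveDimensionLE (ModuleCat.of R (K (i + 1)).carrier) q := fun i q =>
    pdLE_succ_iff (j (i + 1)) (p i) (hj (i + 1)).2 (hp i).2.1 (hp i).2.2 q
  constructor
  · intro hlen
    have hz : ∀ i, n ≤ i → Subsingleton (K i).carrier := fun i hi => by
      haveI : IsEmpty (Fin (F.rk (i + 1))) := (hlen (i + 1) (by omega)) ▸ Fin.isEmpty'
      haveI : Subsingleton (freeGMod (𝒜 := 𝒜) (F.deg (i + 1))).carrier :=
        inferInstanceAs (Subsingleton (Fin (F.rk (i + 1)) → R))
      exact (hp i).2.1.subsingleton
    have key : ∀ q i, n = i + q + 1 → HasProjectiveDimensionLE (ModuleCat.of R (K i).carrier) q := by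
      intro q
      induction q with
      | zero =>
        intro i hi
        haveI := hz (i + 1) (by omega)
        have hbij : Function.Bijective (p i) := by
          refine ⟨(injective_iff_map_eq_zero _).2 fun v hv => ?_, (hp i).2.1⟩
          obtain ⟨w, rfl⟩ := ((hp i).2.2 v).1 hv
          rw [Subsingleton.elim w 0, map_zero]
        haveI := Module.Free.of_equiv (LinearEquiv.ofBijective _ hbij)
        exact projective_iff_hasProjectiveDimensionLT_one.1 projective_of_free
      | succ q ih => exact fun i hi => (e i q).2 (ih (i + 1) (by omega))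
    rcases n with _ | n
    · haveI := hz 0 le_rfl
      have hbij : Function.Bijective (p₀ : _ →ₗ[R] M) := by
        refine ⟨(injective_iff_map_eq_zero _).2 fun v hv => ?_, hs₀⟩
        obtain ⟨w, rfl⟩ := (hx₀ v).1 hv
        rw [Subsingleton.elim w 0, map_zero]
      haveI : Module.Free R M := Module.Free.of_equiv (LinearEquiv.ofBijective _ hbij)
      exact projective_iff_hasProjectiveDimensionLT_one.1 projective_of_free
    · exact (e₀ n).2 (key n 0 (by omega))
  · intro hpd
    have key : ∀ q i, HasProjectiveDimensionLE (ModuleCat.of R (K i).carrier) q → Subsingleton (K (i + q + 1)).carrier := by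
      intro q
      induction q with
      | zero =>
        intro i hi
        haveI : Module.Projective R (K i).carrier :=
          (IsProjective.iff_projective _).2 (projective_iff_hasProjectiveDimensionLT_one.2 hi)
        exact subsingleton_of_projective hpos (j (i + 1)) (p i) (hj (i + 1)).2 (hp i).2.1 (hp i).2.2
          fun k => mem_irrel_smul_top _ (hm i _ ((hp i).2.2.apply_apply_eq_zero k))
      | succ q ih =>
        intro i hi
        rw [show i + (q + 1) + 1 = (i + 1) + q + 1 by omega]
        exact ih (i + 1) ((e i q).1 hi)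
    have hKn : Subsingleton (K n).carrier := by
      rcases n with _ | n
      · haveI : Module.Projective R M :=
          (IsProjective.iff_projective _).2 (projective_iff_hasProjectiveDimensionLT_one.2 hpd)
        haveI : Module.Projective R (gmodPieces 𝒜 ℳ).carrier := ‹Module.Projective R M›
        exact subsingleton_of_projective hpos (j 0) p₀ (hj 0).2 hs₀ hx₀
          fun k => mem_irrel_smul_top _ (hm₀ _ (hx₀.apply_apply_eq_zero k))
      · have := key n 0 ((e₀ n).1 hpd)
        rwa [zero_add] at this
    have hall : ∀ i, n ≤ i → Subsingleton (K i).carrier := fun i hi => by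
      induction i, hi using Nat.le_induction with
      | base => exact hKn
      | succ i _ ih => exact hnext i ih
    intro i hi
    obtain ⟨i, rfl⟩ : ∃ i', i = i' + 1 := ⟨i - 1, by omega⟩
    exact hK i (hall i (by omega))

end Groth.Agent.GrLib8
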