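import Groth.Agent.GrLib8.ABStep
import Groth.Agent.GrLib8.SyzLen

/-!
# Auslander–Buchsbaum for minimal graded resolutions
-/

set_option autoImplicit false
set_option linter.unusedSectionVars false

universe u

open DirectSum CategoryTheory

namespace Groth.Agent.GrLib8

variable {R : Type u} [CommRing R] [IsNoetherianRing R] {σ : Type u} [SetLike σ R] [AddSubgroupClass σ R] {𝒜 : ℤ → σ}
  [GradedRing 𝒜]
variable {M : Type u} [AddCommGroup M] [Module R M] [Module.Finite R M] {τ : Type u} [SetLike τ M] [AddSubgroupClass τ M]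
  {ℳ : ℤ → τ} [Decomposition ℳ] [SetLike.GradedSMul 𝒜 ℳ]

/-- Length plus depth of a minimal resolution. -/
theorem idealDepth_of_minimal (N : ℕ) (hN : 1 ≤ N) (hR : LocCoh.idealDepth (GrSyz.irrel 𝒜).toIdeal R = N)
    (F : GrSyz.FreeRes 𝒜 ℳ) (hF : F.IsMinimal (GrSyz.irrel 𝒜).toIdeal) (ℓ : ℕ) (hℓ : F.HasLengthLE ℓ)
    (hℓ' : F.rk ℓ ≠ 0) : ∃ e : ℕ, LocCoh.idealDepth (GrSyz.irrel 𝒜).toIdeal M = e ∧ ℓ + e = N := by
  classical
  let I := (GrSyz.irrel 𝒜).toIdeal
  obtain ⟨K, j, p₀, p, hj, ⟨-, hs₀, hx₀⟩, hp, hm⟩ := exists_syz F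
  obtain ⟨hm₀, hm⟩ := hm hF
  haveI hfin : ∀ i, Module.Finite R (freeGMod (𝒜 := 𝒜) (F.deg i)).carrier := fun i =>
    inferInstanceAs (Module.Finite R (Fin (F.rk i) → R))
  haveI : ∀ i, Module.Finite R (K i).carrier := fun i => Module.Finite.of_injective (j i) (hj i).2
  haveI : Module.Finite R (gmodPieces 𝒜 ℳ).carrier := inferInstanceAs (Module.Finite R M)
  have hfree : ∀ i, F.rk i ≠ 0 → LocCoh.idealDepth I (Fin (F.rk i) → R) = N := fun i hi => AB.idealDepth_pi I hR hi
  have hB : ∀ i, F.rk i ≠ 0 → (N : ℕ∞) ≤ LocCoh.idealDepth I (Fin (F.rk i) → R) := fun i hi => (hfree i hi).ge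
  have hKsub : ∀ i, F.rk (i + 1) = 0 → Subsingleton (K i).carrier := fun i hi => by
    haveI : IsEmpty (Fin (F.rk (i + 1))) := hi ▸ Fin.isEmpty'
    haveI : Subsingleton (freeGMod (𝒜 := 𝒜) (F.deg (i + 1))).carrier :=
      inferInstanceAs (Subsingleton (Fin (F.rk (i + 1)) → R))
    exact (hp i).2.1.subsingleton
  let φ : ∀ i, (Fin (F.rk (i + 1)) → R) →ₗ[R] (Fin (F.rk i) → R) := fun i => (j i) ∘ₗ (p i)
  -- the step at the end of the resolution: the source is free and the map has entries in the ideal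
  have step0 : ∀ (C : Type u) [AddCommGroup C] [Module R C] [Module.Finite R C] (i : ℕ),
      F.rk (i + 2) = 0 → F.rk (i + 1) ≠ 0 → ∀ (q : (Fin (F.rk i) → R) →ₗ[R] C),
      Function.Surjective q → Function.Exact (j i) q → (∀ v, q v = 0 → ∀ b, v b ∈ I) → F.rk i ≠ 0 →
      LocCoh.idealDepth I C = (N - 1 : ℕ) := by
    intro C _ _ _ i h2 h1 q hq hex hmin h0
    haveI := hKsub (i + 1) h2
    have hinj : Function.Injective (p i) := (injective_iff_map_eq_zero _).2 fun v hv => by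
      obtain ⟨w, rfl⟩ := ((hp i).2.2 v).1 hv
      rw [Subsingleton.elim w 0, map_zero]
    refine AB.depth_step I (φ i) q ((hj i).2.comp hinj) hq ?_ (hB i h0) (hfree (i + 1) h1) hN le_rfl fun _ => ?_
    · intro v
      refine (hex v).trans ⟨fun ⟨w, hw⟩ => ?_, fun ⟨w, hw⟩ => ⟨p i w, hw⟩⟩
      obtain ⟨u, rfl⟩ := (hp i).2.1 w
      exact ⟨u, hw⟩
    · obtain ⟨w, hw, hkill⟩ := AB.exists_socle I N (ModuleCat.of R (Fin (F.rk (i + 1)) → R))
        ((LC.idealDepth_eq_nat_iff I _ N).1 (hfree (i + 1) h1)).2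
      refine ⟨w, hw, AB.map_eq_zero_of_mem I _ (AB.ofHom_mem_smul_top I _ fun v => ?_) N w hkill⟩
      exact mem_irrel_smul_top _ fun b => hmin _ ((hex _).2 ⟨p i v, rfl⟩) b
  -- a nonzero rank at each step below the top
  have hK : ∀ q i, F.rk (i + 1 + q) ≠ 0 → F.HasLengthLE (i + 1 + q) →
      F.rk (i + 1) ≠ 0 ∧ ∃ e : ℕ, LocCoh.idealDepth I (K i).carrier = e ∧ q + e = N ∧ 1 ≤ e ∧ F.rk i ≠ 0 := by
    have hrk : ∀ i, Nontrivial (K i).carrier → F.rk (i + 1) ≠ 0 := fun i hi h =>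
      not_subsingleton (K i).carrier (hKsub i h)
    have hrk' : ∀ i, Nontrivial (K i).carrier → F.rk i ≠ 0 := fun i hi h => by
      haveI : IsEmpty (Fin (F.rk i)) := h ▸ Fin.isEmpty'
      haveI : Subsingleton (freeGMod (𝒜 := 𝒜) (F.deg i)).carrier :=
        inferInstanceAs (Subsingleton (Fin (F.rk i) → R))
      exact not_subsingleton (K i).carrier (hj i).2.subsingleton
    have hnt : ∀ i (e : ℕ), LocCoh.idealDepth I (K i).carrier = e → Nontrivial (K i).carrier := fun i e he => by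
      by_contra h
      haveI := not_nontrivial_iff_subsingleton.1 h
      obtain ⟨-, h2⟩ := (LC.idealDepth_eq_nat_iff I (K i).carrier e).1 he
      exact not_subsingleton _ (LC.subsingleton_H_of_subsingleton (I := I) (ModuleCat.of R (K i).carrier) e)
    have hone : ∀ i, F.rk i ≠ 0 → (1 : ℕ) ≤ LocCoh.idealDepth I (K i).carrier := fun i hi =>
      AB.one_le_idealDepth_of_injective I (j i) (hj i).2 hN (hB i hi)
    intro q
    induction q with
    | zero =>
      intro i hne hlen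
      haveI := hKsub (i + 1) (hlen (i + 2) (by omega))
      have hbij : Function.Bijective (p i) := ⟨(injective_iff_map_eq_zero _).2 fun v hv => by
        obtain ⟨w, rfl⟩ := ((hp i).2.2 v).1 hv
        rw [Subsingleton.elim w 0, map_zero], (hp i).2.1⟩
      have he : LocCoh.idealDepth I (K i).carrier = N :=
        (LC.idealDepth_congr I (LinearEquiv.ofBijective (p i) hbij)).symm.trans (hfree (i + 1) hne)
      exact ⟨hne, N, he, zero_add N, hN, hrk' i (hnt i N he)⟩
    | succ q ih =>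
      intro i hne hlen
      obtain ⟨h2, e, he, hqe, he1, h1⟩ := ih (i + 1) (by rwa [show i + 1 + 1 + q = i + 1 + (q + 1) by omega])
        (by rwa [show i + 1 + 1 + q = i + 1 + (q + 1) by omega])
      have hd : LocCoh.idealDepth I (K i).carrier = (e - 1 : ℕ) := by
        rcases q with _ | q
        · obtain rfl : e = N := by omega
          exact step0 _ (i + 1) (hlen (i + 3) (by omega)) h2 (p i) (hp i).2.1 (hp i).2.2
            (fun v hv => hm i v hv) h1
        · exact AB.depth_step I (j (i + 1)) (p i) (hj (i + 1)).2 (hp i).2.1 (hp i).2.2 (hB (i + 1) h1) he he1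
            (by omega) (fun h => absurd h (by omega))
      have hi := hrk' i (hnt i (e - 1) hd)
      have h1' := hone i hi
      rw [hd] at h1'
      exact ⟨h1, e - 1, hd, by omega, Nat.cast_le.1 h1', hi⟩
  rcases ℓ with _ | ℓ
  · haveI := hKsub 0 (hℓ 1 one_pos)
    have hbij : Function.Bijective (p₀ : _ →ₗ[R] M) := ⟨(injective_iff_map_eq_zero _).2 fun v hv => by
      obtain ⟨w, rfl⟩ := (hx₀ v).1 hv
      rw [Subsingleton.elim w 0, map_zero], hs₀⟩
    exact ⟨N, (LC.idealDepth_congr I (LinearEquiv.ofBijective (p₀ : _ →ₗ[R] M) hbij)).symm.trans (hfree 0 hℓ'),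
      zero_add N⟩
  · obtain ⟨h1, e, he, hqe, he1, h0⟩ := hK ℓ 0 (by rwa [show 0 + 1 + ℓ = ℓ + 1 by omega])
      (by rwa [show 0 + 1 + ℓ = ℓ + 1 by omega])
    refine ⟨e - 1, ?_, by omega⟩
    rcases ℓ with _ | ℓ
    · obtain rfl : e = N := by omega
      exact step0 M 0 (hℓ 2 (by omega)) h1 (p₀ : _ →ₗ[R] M) hs₀ hx₀ (fun v hv => hm₀ v hv) h0
    · exact AB.depth_step I (j 0) (p₀ : _ →ₗ[R] M) (hj 0).2 hs₀ hx₀ (hB 0 h0) he he1 (by omega)
        (fun h => absurd h (by omega))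

end Groth.Agent.GrLib8
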