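import Groth.Agent.GrLib8.StdPoly

/-!
# Descending vanishing along a filter-regular element
-/

set_option autoImplicit false
set_option linter.unusedSectionVars false

universe u

open DirectSum

namespace Groth.Agent.GrLib8

theorem endDeg_le_iff {H : Type u} [AddCommGroup H] (ℋ : ℤ → AddSubgroup H) (d : ℤ) :
    GrLC.endDeg ℋ ≤ ((d : WithTop ℤ) : WithBot (WithTop ℤ)) ↔ ∀ g, d < g → ℋ g = ⊥ := by
  unfold GrLC.endDeg
  rw [iSup₂_le_iff]
  constructor
  · intro h g hg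
    by_contra hne
    have h1 : g ≤ d := WithTop.coe_le_coe.1 (WithBot.coe_le_coe.1 (h g hne))
    omega
  · intro h g hne
    exact WithBot.coe_le_coe.2 (WithTop.coe_le_coe.2 (not_lt.1 fun hlt => hne (h g hlt)))

theorem Hgr_eq_bot_iff {ι : Type} [AddCommGroup ι] [DecidableEq ι] {R : Type u} [CommRing R] {σ : Type u}
    [SetLike σ R] [AddSubgroupClass σ R] {𝒜 : ι → σ} [GradedRing 𝒜] {M : Type u} [AddCommGroup M] [Module R M]
    {τ : Type u} [SetLike τ M] [AddSubgroupClass τ M] {ℳ : ι → τ} [Decomposition ℳ] [SetLike.GradedSMul 𝒜 ℳ]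
    (E : GrLC.StarInjRes 𝒜 ℳ) (a : HomogeneousIdeal 𝒜) (i : ℕ) (g : ι) :
    E.Hgr a i g = ⊥ ↔ E.Hcomp a i g = ⊥ := by
  rw [Hcomp_eq_bot_iff]
  exact AddSubgroup.eq_bot_iff_forall _

variable {R : Type u} [CommRing R] [IsNoetherianRing R] {σ : Type u} [SetLike σ R] [AddSubgroupClass σ R]
  {𝒜 : ℤ → σ} [GradedRing 𝒜] {a : HomogeneousIdeal 𝒜}

/-- If the quotient has no cohomology in high degrees, multiplication is injective there, so torsion vanishes. -/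
theorem hVan_of_filter {X Y : GrLC.GMod.{u} 𝒜} {x : R} (hx : x ∈ 𝒜 1) (hxa : x ∈ a.toIdeal)
    (π : X.carrier →ₗ[R] Y.carrier) (hπ : Function.Surjective π) (hπg : GrLC.IsGrHomDeg X.gr Y.gr π 0)
    (hker : LinearMap.ker π = LinearMap.range (x • (LinearMap.id : X.carrier →ₗ[R] X.carrier)))
    (htors : LocCoh.IsPowerTorsion a.toIdeal (Submodule.torsionBy R X.carrier x))
    (i : ℕ) (g₀ : ℤ) (hY : ∀ g, g₀ < g → HVan a Y i g) (g : ℤ) (hg : g₀ ≤ g) : HVan a X (i + 1) g := by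
  obtain ⟨T, Q, j, p, f, hT, hj, hp, hji, hps, hjp, hf, hfi, hfπ, hfp⟩ := exists_filter_seqs (X := X) (Y := Y) hx π hker htors
  intro E
  rw [Hcomp_eq_bot_iff]
  obtain ⟨-, hTX⟩ := exists_les j p hj hp hji hps hjp (starRes T.gr) E (starRes Q.gr) a
  obtain ⟨-, hQX⟩ := exists_les f π hf hπg hfi hπ hfπ (starRes Q.gr) E (starRes Y.gr) a
  obtain ⟨δ₁, -, e11, -, -⟩ := hTX (i + 1)
  obtain ⟨δ₂, hδ₂, -, -, e23⟩ := hQX i
  have hTsub := subsingleton_H_of_torsion (starRes T.gr) a hT i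
  have hpinj : ∀ z, hmap E (starRes Q.gr) a p hp (i + 1) z = 0 → z = 0 := fun z hz => by
    obtain ⟨w, hw⟩ := (e11 z).1 hz
    rw [← hw, @Subsingleton.elim _ hTsub w 0, map_zero]
  have hcomp : GrLC.IsGrHomDeg X.gr X.gr (f ∘ₗ p) 1 := isGrHomDeg_comp hp hf (zero_add 1)
  have hstep : ∀ g', g₀ ≤ g' → ∀ y ∈ E.Hgr a (i + 1) g',
      hmap E E a (f ∘ₗ p) hcomp (i + 1) y = 0 → y = 0 := by
    intro g' hg' y hy h0
    rw [← hmap_comp a (F := starRes Q.gr) hp hf hcomp (zero_add 1) (i + 1), LinearMap.comp_apply] at h0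
    refine hpinj y ?_
    have hy' := isGrHomDeg_hmap (E := E) (F := starRes Q.gr) a hp (i + 1) g' y hy
    rw [add_zero] at hy'
    obtain ⟨w, hw, hwe⟩ := exists_preimage_Hgr _ _ a δ₂ hδ₂ hy' ((e23 _).1 h0)
    rw [← hwe, (Hcomp_eq_bot_iff _ a i _).1 (hY _ (by omega) (starRes Y.gr)) w hw, map_zero]
  have hmul : ∀ z, hmap E E a (f ∘ₗ p) hcomp (i + 1) z = x • z := by
    intro z
    have hx1 : GrLC.IsGrHomDeg X.gr X.gr (x • (LinearMap.id : X.carrier →ₗ[R] X.carrier)) 1 :=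
      isGrHomDeg_smul_id hx
    rw [hmap_congr a hfp hcomp hx1 (i + 1), hmap_smul_id a hx1 hx]
    rfl
  intro y hy
  obtain ⟨z, rfl⟩ := toH_surj E a (i + 1) y
  obtain ⟨k, hk⟩ := z.2.1
  have hkill : x ^ k • E.toH a (i + 1) z = 0 := by
    rw [← map_smul, show x ^ k • z = 0 from Subtype.ext (hk _ (Ideal.pow_mem_pow hxa k)), map_zero]
  have main : ∀ (k : ℕ) (g' : ℤ), g₀ ≤ g' → ∀ y ∈ E.Hgr a (i + 1) g', x ^ k • y = 0 → y = 0 := by
    intro k
    induction k with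
    | zero => intro g' _ y _ h; rwa [pow_zero, one_smul] at h
    | succ k ih =>
      intro g' hg' y hy h
      refine hstep g' hg' y hy (ih (g' + 1) (by omega) _ (isGrHomDeg_hmap a hcomp (i + 1) g' y hy) ?_)
      rw [hmul, smul_smul, ← pow_succ]
      exact h
  exact main k g hg _ hy hkill

end Groth.Agent.GrLib8
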