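import Groth.Agent.GrLib8.EventVan
import Groth.Agent.GrLib8.FilterInj
import Mathlib.RingTheory.Regular.RegularSequence

/-!
# Bounds from regular sequences of linear forms; the polynomial ring
-/

set_option autoImplicit false
set_option linter.unusedSectionVars false

universe u

open DirectSum RingTheory.Sequence
open scoped Pointwise

namespace Groth.Agent.GrLib8

variable {R : Type u} [CommRing R] [IsNoetherianRing R] {σ : Type u} [SetLike σ R] [AddSubgroupClass σ R]
  {𝒜 : ℤ → σ} [GradedRing 𝒜] {a : HomogeneousIdeal 𝒜}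

/-- A regular sequence of linear forms with torsion quotient living in degrees `≤ c` bounds the regularity by `c`. -/
theorem hVan_of_regular_seq : ∀ (ys : List R) (X : GrLC.GMod.{u} 𝒜) [Module.Finite R X.carrier],
    (∀ y ∈ ys, y ∈ 𝒜 1) → (∀ y ∈ ys, y ∈ a.toIdeal) → IsWeaklyRegular X.carrier ys →
    (∀ m : X.carrier, ∃ k : ℕ, ∀ r ∈ a.toIdeal ^ k, r • m ∈ Ideal.ofList ys • (⊤ : Submodule R X.carrier)) →
    ∀ c : ℤ, (∀ g, c < g → ∀ m ∈ X.gr g, m ∈ Ideal.ofList ys • (⊤ : Submodule R X.carrier)) →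
    ∀ (i : ℕ) (g : ℤ), c < g + i → HVan a X i g
  | [] => fun X _ _ _ _ htors c hc i g hg => by
    simp only [Ideal.ofList_nil, Submodule.bot_smul, Submodule.mem_bot] at htors hc
    rcases i with _ | i
    · exact hVan_zero_of fun m _ hm => hc g (by simpa using hg) m hm
    · exact hVan_of_torsion (fun m => htors m) i g
  | y :: ys => fun X _ hy1 hya hreg htors c hc i g hg => by
    rw [isWeaklyRegular_cons_iff] at hreg
    have hy := hy1 y List.mem_cons_self
    rcases i with _ | i
    · refine hVan_zero_of fun m ⟨k, hk⟩ _ => ?_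
      exact (hreg.1.pow k).right_eq_zero_of_smul
        (hk _ (Ideal.pow_mem_pow (hya y List.mem_cons_self) k))
    obtain ⟨Y, π, _, hμ, hπg, hinj, hπ, hex, hl⟩ := exists_regular_seq hy hreg.1
    have hker : LinearMap.ker π = y • (⊤ : Submodule R X.carrier) := by
      rw [LinearMap.exact_iff.1 hex]
      refine Submodule.ext fun z => ⟨?_, ?_⟩
      · rintro ⟨w, rfl⟩; exact Submodule.smul_mem_pointwise_smul w y ⊤ Submodule.mem_top
      · intro hz
        obtain ⟨w, -, rfl⟩ := (Submodule.mem_smul_pointwise_iff_exists z y ⊤).1 hz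
        exact ⟨w, rfl⟩
    let eY : QuotSMulTop y X.carrier ≃ₗ[R] Y.carrier :=
      (Submodule.quotEquivOfEq _ _ hker.symm).trans (π.quotKerEquivOfSurjective hπ)
    have hregY : IsWeaklyRegular Y.carrier ys := (eY.isWeaklyRegular_congr ys).1 hreg.2
    have hmap : ∀ m, m ∈ Ideal.ofList (y :: ys) • (⊤ : Submodule R X.carrier) →
        π m ∈ Ideal.ofList ys • (⊤ : Submodule R Y.carrier) := fun m hm => by
      rw [Ideal.ofList_cons, Submodule.sup_smul] at hm
      obtain ⟨u, hu, v, hv, rfl⟩ := Submodule.mem_sup.1 hm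
      rw [Submodule.ideal_span_singleton_smul] at hu
      rw [map_add, LinearMap.mem_ker.1 (hker.ge hu), zero_add]
      have := Submodule.mem_map_of_mem (f := π) hv
      rw [Submodule.map_smul''] at this
      exact Submodule.smul_mono le_rfl le_top this
    refine hVan_of_regular hy zero_le_one (hya y List.mem_cons_self) π hμ hπg hinj hπ hex i (c - i)
      (fun g' hg' => hVan_of_regular_seq ys Y (fun z hz => hy1 z (List.mem_cons_of_mem _ hz))
        (fun z hz => hya z (List.mem_cons_of_mem _ hz)) hregY (fun m => ?_) c (fun g' hg' m hm => ?_) i g' (by omega)) g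
      (by push_cast at hg; omega)
    · obtain ⟨w, rfl⟩ := hπ m
      obtain ⟨k, hk⟩ := htors w
      exact ⟨k, fun r hr => (map_smul π r w) ▸ hmap _ (hk r hr)⟩
    · obtain ⟨w, hw, rfl⟩ := hl g' m hm
      exact hmap _ (hc g' hg' w hw)

omit [IsNoetherianRing R] [SetLike σ R] [AddSubgroupClass σ R] in
/-- The variables form a weakly regular sequence. -/
theorem isWeaklyRegular_X (k : Type u) [CommRing k] (n : ℕ) :
    IsWeaklyRegular (MvPolynomial (Fin n) k) (List.ofFn (MvPolynomial.X : Fin n → MvPolynomial (Fin n) k)) := by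
  classical
  refine ⟨fun i hi => IsSMulRegular.of_right_eq_zero_of_smul fun f hf => ?_⟩
  obtain ⟨f, rfl⟩ := Submodule.Quotient.mk_surjective _ f
  rw [← Submodule.Quotient.mk_smul, Submodule.Quotient.mk_eq_zero] at hf
  rw [Submodule.Quotient.mk_eq_zero]
  have hin : i < n := by simpa using hi
  have hJ : (Ideal.ofList ((List.ofFn (MvPolynomial.X : Fin n → MvPolynomial (Fin n) k)).take i) •
      (⊤ : Submodule (MvPolynomial (Fin n) k) (MvPolynomial (Fin n) k))) =
      Ideal.span (MvPolynomial.X '' {j : Fin n | (j : ℕ) < i}) := by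
    rw [smul_eq_mul, Ideal.mul_top]
    refine congrArg Ideal.span (Set.ext fun p => ?_)
    simp only [Set.mem_setOf_eq, Set.mem_image, List.mem_take_iff_getElem, List.getElem_ofFn]
    constructor
    · rintro ⟨j, hj, rfl⟩; exact ⟨⟨j, by simp at hj; omega⟩, by simp at hj ⊢; omega, rfl⟩
    · rintro ⟨j, hj, rfl⟩; exact ⟨j, by simp; omega, rfl⟩
  rw [hJ, MvPolynomial.mem_ideal_span_X_image] at hf ⊢
  intro d hd
  have hd' : Finsupp.single (⟨i, hin⟩ : Fin n) 1 + d ∈
      ((List.ofFn (MvPolynomial.X : Fin n → MvPolynomial (Fin n) k))[i] • f).support := by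
    rw [MvPolynomial.mem_support_iff, smul_eq_mul, List.getElem_ofFn, MvPolynomial.coeff_X_mul]
    exact MvPolynomial.mem_support_iff.1 hd
  obtain ⟨j, hj, hne⟩ := hf _ hd'
  refine ⟨j, hj, ?_⟩
  have hji : (⟨i, hin⟩ : Fin n) ≠ j := fun h => by rw [← h] at hj; exact lt_irrefl i hj
  rwa [Finsupp.add_apply, Finsupp.single_eq_of_ne' hji, zero_add] at hne

/-- The polynomial ring has regularity `≤ 0`. -/
theorem hVan_stdGr (k : Type u) [Field k] (n : ℕ) (i : ℕ) (g : ℤ) (hg : 0 < g + i) :
    HVan (GrSyz.irrel (GrSyz.stdGr k (Fin n))) (gmodPieces (GrSyz.stdGr k (Fin n)) (GrSyz.stdGr k (Fin n))) i g := by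
  classical
  let X := gmodPieces (GrSyz.stdGr k (Fin n)) (GrSyz.stdGr k (Fin n))
  haveI : Module.Finite (MvPolynomial (Fin n) k) X.carrier :=
    inferInstanceAs (Module.Finite (MvPolynomial (Fin n) k) (MvPolynomial (Fin n) k))
  have hX1 : ∀ j, (MvPolynomial.X j : MvPolynomial (Fin n) k) ∈ GrSyz.stdGr k (Fin n) 1 := fun j =>
    MvPolynomial.isWeightedHomogeneous_X k (fun _ : Fin n => (1 : ℤ)) j
  have hle : (GrSyz.irrel (GrSyz.stdGr k (Fin n))).toIdeal ≤
      Ideal.ofList (List.ofFn (MvPolynomial.X : Fin n → MvPolynomial (Fin n) k)) := by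
    refine Ideal.span_le.2 fun p ⟨m, hm, hp⟩ => ?_
    have : p ∈ Ideal.span (MvPolynomial.X '' (Set.univ : Set (Fin n))) := by
      rw [MvPolynomial.mem_ideal_span_X_image]
      intro d hd
      by_contra h
      push Not at h
      have hw := (GrSyz.mem_stdGr_iff k (Fin n) m p).1 hp (MvPolynomial.mem_support_iff.1 hd)
      rw [show d = 0 from Finsupp.ext fun j => h j trivial, map_zero] at hw
      omega
    exact Ideal.span_mono (by rintro _ ⟨j, -, rfl⟩; exact List.mem_ofFn.2 ⟨j, rfl⟩) this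
  have hy1 : ∀ y ∈ List.ofFn (MvPolynomial.X : Fin n → MvPolynomial (Fin n) k), y ∈ GrSyz.stdGr k (Fin n) 1 := by
    intro y hy; obtain ⟨j, rfl⟩ := List.mem_ofFn.1 hy; exact hX1 j
  have htop : ∀ (p : MvPolynomial (Fin n) k), p ∈ Ideal.ofList (List.ofFn MvPolynomial.X) →
      p ∈ Ideal.ofList (List.ofFn MvPolynomial.X) • (⊤ : Submodule (MvPolynomial (Fin n) k) (MvPolynomial (Fin n) k)) :=
    fun p hp => by rwa [smul_eq_mul, Ideal.mul_top]
  refine hVan_of_regular_seq _ X hy1 (fun y hy => mem_irrel_of_pos _ one_pos (hy1 y hy)) (isWeaklyRegular_X k n)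
    (fun m => ⟨1, fun r hr => htop _ (Ideal.mul_mem_right _ _ (hle (by rwa [pow_one] at hr)))⟩) 0
    (fun g' hg' m hm => htop _ (hle (mem_irrel_of_pos _ hg' hm))) i g hg

end Groth.Agent.GrLib8
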