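import Groth.Agent.GrLib8.ABGraded
import Groth.Agent.GrLib8.RegBound

/-!
# The depth of the polynomial ring along the irrelevant ideal
-/

set_option autoImplicit false
set_option linter.unusedSectionVars false

universe u

open DirectSum

namespace Groth.Agent.GrLib8

theorem irrel_stdGr_eq_ofList (k : Type u) [Field k] (n : ℕ) :
    (GrSyz.irrel (GrSyz.stdGr k (Fin n))).toIdeal =
      Ideal.ofList (List.ofFn (MvPolynomial.X : Fin n → MvPolynomial (Fin n) k)) := by
  classical
  refine le_antisymm ?_ (Ideal.span_le.2 fun y hy => ?_)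
  · refine Ideal.span_le.2 fun p ⟨m, hm, hp⟩ => ?_
    have : p ∈ Ideal.span (MvPolynomial.X '' (Set.univ : Set (Fin n))) := by
      rw [MvPolynomial.mem_ideal_span_X_image]
      intro d hd
      by_contra h
      push Not at h
      have hw := (GrSyz.mem_stdGr_iff k (Fin n) m p).1 hp (MvPolynomial.mem_support_iff.1 hd)
      rw [show d = 0 from Finsupp.ext fun j => h j trivial, map_zero] at hw
      omega
    exact Ideal.span_mono (by rintro _ ⟨j, -, rfl⟩; exact List.mem_ofFn.2 ⟨j, rfl⟩) this
  · obtain ⟨j, rfl⟩ := List.mem_ofFn.1 hy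
    exact mem_irrel_of_pos _ one_pos (MvPolynomial.isWeightedHomogeneous_X k (fun _ : Fin n => (1 : ℤ)) j)

theorem idealDepth_stdGr (k : Type u) [Field k] (n : ℕ) :
    LocCoh.idealDepth (GrSyz.irrel (GrSyz.stdGr k (Fin n))).toIdeal (MvPolynomial (Fin n) k) = n := by
  classical
  rw [irrel_stdGr_eq_ofList, AB.idealDepth_self_ofList _ (isWeaklyRegular_X k n), List.length_ofFn]
  intro htop
  have h1 : (1 : MvPolynomial (Fin n) k) ∈ RingHom.ker (MvPolynomial.constantCoeff (σ := Fin n) (R := k)) := by
    refine (show Ideal.ofList _ ≤ _ from Ideal.span_le.2 ?_) (htop ▸ Submodule.mem_top)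
    intro y hy
    obtain ⟨j, rfl⟩ := List.mem_ofFn.1 hy
    exact MvPolynomial.constantCoeff_X _ j
  simp [RingHom.mem_ker] at h1

end Groth.Agent.GrLib8
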