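import Groth.Agent.LC.DepthExt
import Groth.Agent.LC.CohCech

/-!
# Depth along minimal free presentations, by local cohomology
-/

set_option autoImplicit false
set_option linter.unusedSectionVars false

universe u

open CategoryTheory

namespace Groth.Agent.GrLib8.AB

variable {R : Type u} [CommRing R] (I : Ideal R)

theorem map_hom_add {X Y : ModuleCat.{u} R} (f g : X ⟶ Y) (i : ℕ) (z : (localCohomology I i).obj X) :
    ((localCohomology I i).map (f + g)).hom z =
      ((localCohomology I i).map f).hom z + ((localCohomology I i).map g).hom z := by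
  obtain ⟨n, x, rfl⟩ := LC.exists_toH I i z
  rw [LC.toH_natural, LC.toH_natural, LC.toH_natural, Abelian.Ext.mk₀_add, Abelian.Ext.comp_add, map_add]

theorem map_hom_zero {X Y : ModuleCat.{u} R} (i : ℕ) (z : (localCohomology I i).obj X) :
    ((localCohomology I i).map (0 : X ⟶ Y)).hom z = 0 := by
  have h := map_hom_add I (0 : X ⟶ Y) 0 i z
  rw [add_zero] at h
  exact left_eq_add.1 h

theorem map_comp_apply {X Y Z : ModuleCat.{u} R} (f : X ⟶ Y) (g : Y ⟶ Z) (i : ℕ) (z : (localCohomology I i).obj X) :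
    ((localCohomology I i).map (f ≫ g)).hom z =
      ((localCohomology I i).map g).hom (((localCohomology I i).map f).hom z) := by
  rw [Functor.map_comp]; rfl

/-- Maps in `I • Hom` kill the elements killed by `I`. -/
theorem map_eq_zero_of_mem {X Y : ModuleCat.{u} R} (φ : X ⟶ Y) (h : φ ∈ I • (⊤ : Submodule R (X ⟶ Y))) (i : ℕ)
    (w : (localCohomology I i).obj X) (hw : ∀ c ∈ I, c • w = 0) : ((localCohomology I i).map φ).hom w = 0 := by
  refine Submodule.smul_induction_on (p := fun χ => ((localCohomology I i).map χ).hom w = 0) h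
    (fun c hc ψ _ => ?_) (fun a b ha hb => ?_)
  · rw [show c • ψ = (c • 𝟙 X) ≫ ψ by rw [Linear.smul_comp, Category.id_comp], map_comp_apply, LC.map_smul_id,
      hw c hc, map_zero]
  · rw [map_hom_add, ha, hb, add_zero]

theorem ofHom_mem_smul_top {k : ℕ} {B : Type u} [AddCommGroup B] [Module R B] (j : (Fin k → R) →ₗ[R] B)
    (h : ∀ v, j v ∈ I • (⊤ : Submodule R B)) :
    ModuleCat.ofHom j ∈ I • (⊤ : Submodule R (ModuleCat.of R (Fin k → R) ⟶ ModuleCat.of R B)) := by
  classical
  let Ψ : Fin k → (B →ₗ[R] (ModuleCat.of R (Fin k → R) ⟶ ModuleCat.of R B)) := fun c =>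
    { toFun := fun m => ModuleCat.ofHom ((LinearMap.toSpanSingleton R B m) ∘ₗ LinearMap.proj c)
      map_add' := fun m m' => ModuleCat.hom_ext (LinearMap.ext fun v => smul_add _ _ _)
      map_smul' := fun r m => ModuleCat.hom_ext (LinearMap.ext fun v => smul_comm _ _ _) }
  have e : ModuleCat.ofHom j = ∑ c, Ψ c (j (Pi.single c 1)) := by
    refine ModuleCat.hom_ext ?_
    rw [ModuleCat.hom_sum]
    refine LinearMap.ext fun v => ?_
    rw [LinearMap.sum_apply]
    show j v = ∑ c, v c • j (Pi.single c 1)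
    simp_rw [← map_smul, ← map_sum]
    congr 1
    ext b
    simp [Finset.sum_apply, Pi.single_apply]
  rw [e]
  refine Submodule.sum_mem _ fun c _ => ?_
  have hmem := Submodule.mem_map_of_mem (f := Ψ c) (h (Pi.single c 1))
  rw [Submodule.map_smul''] at hmem
  exact Submodule.smul_mono le_rfl le_top hmem

theorem subsingleton_H_pi {i : ℕ} (h : Subsingleton ((localCohomology I i).obj (ModuleCat.of R R))) (k : ℕ) :
    Subsingleton ((localCohomology I i).obj (ModuleCat.of R (Fin k → R))) := by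
  refine subsingleton_of_forall_eq 0 fun z => ?_
  have key : ∀ s : Finset (Fin k), ((localCohomology I i).map (∑ b ∈ s,
      ModuleCat.ofHom (LinearMap.proj (R := R) (φ := fun _ : Fin k => R) b) ≫
        ModuleCat.ofHom (LinearMap.single R (fun _ : Fin k => R) b))).hom z = 0 := by
    classical
    intro s
    induction s using Finset.induction_on with
    | empty => rw [Finset.sum_empty, map_hom_zero]
    | insert b s hb ih =>
      rw [Finset.sum_insert hb, map_hom_add, ih, add_zero, map_comp_apply]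
      exact (congrArg _ (@Subsingleton.elim _ h (((localCohomology I i).map
        (ModuleCat.ofHom (LinearMap.proj (R := R) (φ := fun _ : Fin k => R) b))).hom z) 0)).trans (map_zero _)
  have hid : (∑ b : Fin k, ModuleCat.ofHom (LinearMap.proj (R := R) (φ := fun _ : Fin k => R) b) ≫
      ModuleCat.ofHom (LinearMap.single R (fun _ : Fin k => R) b)) = 𝟙 (ModuleCat.of R (Fin k → R)) := by
    refine ModuleCat.hom_ext ?_
    rw [ModuleCat.hom_sum]
    refine LinearMap.ext fun v => ?_
    rw [LinearMap.sum_apply]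
    exact Finset.univ_sum_single v
  have h1 := key Finset.univ
  rw [hid, CategoryTheory.Functor.map_id] at h1
  exact h1

theorem nontrivial_H_pi {i : ℕ} (h : Nontrivial ((localCohomology I i).obj (ModuleCat.of R R))) {k : ℕ} (b : Fin k) :
    Nontrivial ((localCohomology I i).obj (ModuleCat.of R (Fin k → R))) := by
  classical
  obtain ⟨z, hz⟩ := exists_ne (0 : (localCohomology I i).obj (ModuleCat.of R R))
  refine ⟨((localCohomology I i).map (ModuleCat.ofHom (LinearMap.single R (fun _ : Fin k => R) b))).hom z, 0, fun h0 => hz ?_⟩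
  have h1 := congrArg ((localCohomology I i).map
    (ModuleCat.ofHom (LinearMap.proj (R := R) (φ := fun _ : Fin k => R) b))).hom h0
  rw [map_zero, ← map_comp_apply] at h1
  have hid : ModuleCat.ofHom (LinearMap.single R (fun _ : Fin k => R) b) ≫
      ModuleCat.ofHom (LinearMap.proj (R := R) (φ := fun _ : Fin k => R) b) = 𝟙 (ModuleCat.of R R) :=
    ModuleCat.hom_ext (LinearMap.ext fun r => Pi.single_eq_same (M := fun _ : Fin k => R) b r)
  rw [hid, CategoryTheory.Functor.map_id] at h1
  exact h1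

variable [IsNoetherianRing R]

theorem idealDepth_pi {N : ℕ} (h : LocCoh.idealDepth I R = N) {k : ℕ} (hk : k ≠ 0) :
    LocCoh.idealDepth I (Fin k → R) = N := by
  obtain ⟨h1, h2⟩ := (LC.idealDepth_eq_nat_iff I R N).1 h
  exact (LC.idealDepth_eq_nat_iff I _ N).2
    ⟨fun i hi => subsingleton_H_pi I (h1 i hi) k, nontrivial_H_pi I h2 ⟨0, Nat.pos_of_ne_zero hk⟩⟩

theorem exists_socle (i : ℕ) (X : ModuleCat.{u} R) (h : Nontrivial ((localCohomology I i).obj X)) :
    ∃ w : (localCohomology I i).obj X, w ≠ 0 ∧ ∀ c ∈ I, c • w = 0 := by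
  obtain ⟨z, hz⟩ := exists_ne (0 : (localCohomology I i).obj X)
  obtain ⟨n, hn⟩ := LC.isPowerTorsion_obj I i X z
  induction n generalizing z with
  | zero => exact absurd (by simpa using hn 1 (by simp)) hz
  | succ n ih =>
    by_cases hall : ∀ c ∈ I ^ n, c • z = 0
    · exact ih z hz hall
    · push Not at hall
      obtain ⟨c, hc, hcz⟩ := hall
      exact ⟨c • z, hcz, fun d hd => by rw [smul_smul]; exact hn _ (pow_succ' I n ▸ Ideal.mul_mem_mul hd hc)⟩

variable {A B C : Type u} [AddCommGroup A] [Module R A] [Module.Finite R A] [AddCommGroup B] [Module R B]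
  [Module.Finite R B] [AddCommGroup C] [Module R C] [Module.Finite R C]

theorem one_le_idealDepth_of_injective (j : A →ₗ[R] B) (hj : Function.Injective j) {N : ℕ} (hN : 1 ≤ N)
    (hB : (N : ℕ∞) ≤ LocCoh.idealDepth I B) : (1 : ℕ) ≤ LocCoh.idealDepth I A := by
  refine (LC.le_idealDepth_iff_H I A 1).2 fun i hi => ?_
  obtain rfl : i = 0 := by omega
  have h0 := (LC.subsingleton_H0_iff I (ModuleCat.of R B)).1 ((LC.le_idealDepth_iff_H I B N).1 hB 0 (by omega))
  refine (LC.subsingleton_H0_iff I (ModuleCat.of R A)).2 ((Submodule.eq_bot_iff _).2 fun x hx => hj ?_)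
  obtain ⟨n, hn⟩ := hx
  rw [map_zero]
  exact (Submodule.eq_bot_iff _).1 h0 (j x) ⟨n, fun c hc => by rw [← map_smul, hn c hc, map_zero]⟩

/-- One step of Auslander–Buchsbaum. -/
theorem depth_step (j : A →ₗ[R] B) (p : B →ₗ[R] C) (hj : Function.Injective j) (hp : Function.Surjective p)
    (hex : Function.Exact j p) {N d : ℕ} (hB : (N : ℕ∞) ≤ LocCoh.idealDepth I B) (hA : LocCoh.idealDepth I A = d)
    (hd : 1 ≤ d) (hdN : d ≤ N)
    (hnon : d = N → ∃ w : (localCohomology I d).obj (ModuleCat.of R A), w ≠ 0 ∧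
      ((localCohomology I d).map (ModuleCat.ofHom j)).hom w = 0) :
    LocCoh.idealDepth I C = (d - 1 : ℕ) := by
  let S := ShortComplex.mk (ModuleCat.ofHom j) (ModuleCat.ofHom p)
    (ModuleCat.hom_ext (LinearMap.ext fun z => (hex _).2 ⟨z, rfl⟩))
  have hS : S.ShortExact :=
    { exact := (ShortComplex.ShortExact.moduleCat_exact_iff_function_exact _).2 hex
      mono_f := (ModuleCat.mono_iff_injective _).2 hj
      epi_g := (ModuleCat.epi_iff_surjective _).2 hp }
  obtain ⟨hA1, hA2⟩ := (LC.idealDepth_eq_nat_iff I A d).1 hA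
  have hB1 := (LC.le_idealDepth_iff_H I B N).1 hB
  obtain ⟨d, rfl⟩ : ∃ e, d = e + 1 := ⟨d - 1, by omega⟩
  obtain ⟨w, hw, hjw⟩ : ∃ w : (localCohomology I (d + 1)).obj (ModuleCat.of R A), w ≠ 0 ∧
      ((localCohomology I (d + 1)).map (ModuleCat.ofHom j)).hom w = 0 := by
    rcases hdN.eq_or_lt with h | h
    · exact hnon h
    · obtain ⟨w, hw⟩ := exists_ne (0 : (localCohomology I (d + 1)).obj (ModuleCat.of R A))
      exact ⟨w, hw, @Subsingleton.elim _ (hB1 _ h) _ _⟩
  refine (LC.idealDepth_eq_nat_iff I C d).2 ⟨fun i hi => subsingleton_of_forall_eq 0 fun z => ?_, ?_⟩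
  · obtain ⟨b, hb⟩ := (LC.exact₃ I i hS (i + 1) rfl z).1 (@Subsingleton.elim _ (hA1 (i + 1) (by omega)) _ _)
    rw [← hb, @Subsingleton.elim _ (hB1 i (by omega)) b 0, map_zero]
  · obtain ⟨y, hy⟩ := (LC.exact₁ I d hS (d + 1) rfl w).1 hjw
    exact ⟨y, 0, fun h => hw (by rw [← hy, h, map_zero])⟩

/-- A weakly regular sequence generating a proper ideal computes its depth. -/
theorem idealDepth_self_ofList (xs : List R) (h : RingTheory.Sequence.IsWeaklyRegular R xs)
    (hne : Ideal.ofList xs ≠ ⊤) : LocCoh.idealDepth (Ideal.ofList xs) R = xs.length := by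
  have hmem : ∀ r ∈ xs, r ∈ Ideal.ofList xs := fun r hr => Ideal.subset_span hr
  rw [← LC.idealDepth_quot_ofList (Ideal.ofList xs) h hmem]
  have h0 : LocCoh.idealDepth (Ideal.ofList xs) (R ⧸ (Ideal.ofList xs • ⊤ : Submodule R R)) = 0 := by
    refine LC.idealDepth_eq_zero_of_forall _ (fun htop => ?_) fun r hr hreg => ?_
    · refine hne ((Ideal.eq_top_iff_one _).2 ?_)
      have h1 : Submodule.Quotient.mk (1 : R) ∈
          Ideal.ofList xs • (⊤ : Submodule R (R ⧸ (Ideal.ofList xs • ⊤ : Submodule R R))) := htop.ge Submodule.mem_top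
      have h2 : (Ideal.ofList xs • (⊤ : Submodule R (R ⧸ (Ideal.ofList xs • ⊤ : Submodule R R)))) ≤ ⊥ := by
        refine Submodule.smul_le.2 fun r hr z _ => ?_
        obtain ⟨z, rfl⟩ := Submodule.Quotient.mk_surjective _ z
        rw [Submodule.mem_bot, ← Submodule.Quotient.mk_smul, Submodule.Quotient.mk_eq_zero]
        exact Submodule.smul_mem_smul hr Submodule.mem_top
      have h3 := (Submodule.Quotient.mk_eq_zero _).1 ((Submodule.mem_bot R).1 (h2 h1))
      rwa [smul_eq_mul, Ideal.mul_top] at h3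
    · refine hne ((Ideal.eq_top_iff_one _).2 ?_)
      have h3 := (isSMulRegular_quotient_iff_mem_of_smul_mem _ r).1 hreg 1 (Submodule.smul_mem_smul hr Submodule.mem_top)
      rwa [smul_eq_mul, Ideal.mul_top] at h3
  rw [h0, zero_add]

end Groth.Agent.GrLib8.AB
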