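import Groth.Agent.GrLib8.LesTools

/-!
# Vanishing propagates along diagonals
-/

set_option autoImplicit false
set_option linter.unusedSectionVars false

universe u

open DirectSum

namespace Groth.Agent.GrLib8

variable {ι : Type} [AddCommGroup ι] [DecidableEq ι]
variable {R : Type u} [CommRing R] {σ : Type u} [SetLike σ R] [AddSubgroupClass σ R] {𝒜 : ι → σ} [GradedRing 𝒜]
variable (a : HomogeneousIdeal 𝒜)

/-- Vanishing of one piece of graded local cohomology. -/
def HVan (X : GrLC.GMod.{u} 𝒜) (i : ℕ) (g : ι) : Prop :=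
  ∀ E : GrLC.StarInjRes 𝒜 X.gr, E.Hcomp a i g = ⊥

variable {a}

theorem hVan_of_res {X : GrLC.GMod.{u} 𝒜} (E : GrLC.StarInjRes 𝒜 X.gr) {i : ℕ} {g : ι} (h : E.Hcomp a i g = ⊥) :
    HVan a X i g := by
  intro F
  rw [Hcomp_eq_bot_iff] at h ⊢
  intro y hy
  have hid : GrLC.IsGrHomDeg X.gr X.gr (LinearMap.id : X.carrier →ₗ[R] X.carrier) 0 :=
    isGrHomDeg_zero_iff.2 fun _ _ hm => hm
  have h1 := isGrHomDeg_hmap (E := F) (F := E) a hid i g y hy
  rw [add_zero] at h1
  exact (hmapEquiv a F E i).injective ((h _ h1).trans (map_zero (hmapEquiv a F E i)).symm)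

theorem hVan_of_pieces_res {M : Type u} [AddCommGroup M] [Module R M] {τ : Type u} [SetLike τ M]
    [AddSubgroupClass τ M] {ℳ : ι → τ} [Decomposition ℳ] [SetLike.GradedSMul 𝒜 ℳ] (E : GrLC.StarInjRes 𝒜 ℳ)
    {i : ℕ} {g : ι} : HVan a (gmodPieces 𝒜 ℳ) i g ↔ E.Hcomp a i g = ⊥ := by
  have key : ∀ F : GrLC.StarInjRes 𝒜 (gmodPieces 𝒜 ℳ).gr, F.Hcomp a i g = ⊥ ↔ E.Hcomp a i g = ⊥ := by
    intro F
    let id1 : (gmodPieces 𝒜 ℳ).carrier →ₗ[R] M := LinearMap.id
    let id2 : M →ₗ[R] (gmodPieces 𝒜 ℳ).carrier := LinearMap.id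
    have h1 : GrLC.IsGrHomDeg (gmodPieces 𝒜 ℳ).gr ℳ id1 0 := fun j m hm => (add_zero j).symm ▸ hm
    have h2 : GrLC.IsGrHomDeg ℳ (gmodPieces 𝒜 ℳ).gr id2 0 := fun j m hm => (add_zero j).symm ▸ hm
    have h11 : GrLC.IsGrHomDeg (gmodPieces 𝒜 ℳ).gr (gmodPieces 𝒜 ℳ).gr (id2 ∘ₗ id1) 0 :=
      isGrHomDeg_comp h1 h2 (add_zero 0)
    have h22 : GrLC.IsGrHomDeg ℳ ℳ (id1 ∘ₗ id2) 0 := isGrHomDeg_comp h2 h1 (add_zero 0)
    have e1 : hmap E F a id2 h2 i ∘ₗ hmap F E a id1 h1 i = LinearMap.id :=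
      (hmap_comp a h1 h2 h11 (add_zero 0) i).trans (hmap_id (ℳ := (gmodPieces 𝒜 ℳ).gr) a i h11)
    have e2 : hmap F E a id1 h1 i ∘ₗ hmap E F a id2 h2 i = LinearMap.id :=
      (hmap_comp a h2 h1 h22 (add_zero 0) i).trans (hmap_id a i h22)
    rw [Hcomp_eq_bot_iff, Hcomp_eq_bot_iff]
    constructor
    · intro h y hy
      have hy' := isGrHomDeg_hmap (E := E) (F := F) a h2 i g y hy
      rw [add_zero] at hy'
      have := LinearMap.congr_fun e2 y
      rw [LinearMap.comp_apply, h _ hy', map_zero] at this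
      exact this.symm
    · intro h y hy
      have hy' := isGrHomDeg_hmap (E := F) (F := E) a h1 i g y hy
      rw [add_zero] at hy'
      have := LinearMap.congr_fun e1 y
      rw [LinearMap.comp_apply, h _ hy', map_zero] at this
      exact this.symm
  refine ⟨fun h => (key _).1 (h (starRes (gmodPieces 𝒜 ℳ).gr)), fun h F => (key F).2 h⟩

/-- Two-out-of-three along a short exact sequence. -/
theorem hVan_middle {X Y Z : GrLC.GMod.{u} 𝒜} {f : X.carrier →ₗ[R] Y.carrier} {p : Y.carrier →ₗ[R] Z.carrier}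
    {d : ι} (hf : GrLC.IsGrHomDeg X.gr Y.gr f d) (hp : GrLC.IsGrHomDeg Y.gr Z.gr p 0) (hinj : Function.Injective f)
    (hsurj : Function.Surjective p) (hex : Function.Exact f p) {i : ℕ} {g : ι}
    (hX : HVan a X i (g - d)) (hZ : HVan a Z i g) : HVan a Y i g := by
  intro G
  obtain ⟨-, hi⟩ := exists_les f p hf hp hinj hsurj hex (starRes X.gr) G (starRes Z.gr) a
  obtain ⟨δ, -, e1, -, -⟩ := hi i
  rw [Hcomp_eq_bot_iff]
  intro y hy
  have hy' := isGrHomDeg_hmap (E := G) (F := starRes Z.gr) a hp i g y hy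
  rw [add_zero] at hy'
  obtain ⟨x, hx, rfl⟩ := exists_preimage_Hgr _ _ a _ (isGrHomDeg_hmap a hf i) hy
    ((e1 y).1 ((Hcomp_eq_bot_iff _ a i g).1 (hZ _) _ hy'))
  rw [(Hcomp_eq_bot_iff _ a i _).1 (hX _) x hx, map_zero]

theorem hVan_right {X Y Z : GrLC.GMod.{u} 𝒜} {f : X.carrier →ₗ[R] Y.carrier} {p : Y.carrier →ₗ[R] Z.carrier}
    {d : ι} (hf : GrLC.IsGrHomDeg X.gr Y.gr f d) (hp : GrLC.IsGrHomDeg Y.gr Z.gr p 0) (hinj : Function.Injective f)
    (hsurj : Function.Surjective p) (hex : Function.Exact f p) {i : ℕ} {g : ι}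
    (hY : HVan a Y i g) (hX : HVan a X (i + 1) (g - d)) : HVan a Z i g := by
  intro F
  obtain ⟨-, hi⟩ := exists_les f p hf hp hinj hsurj hex (starRes X.gr) (starRes Y.gr) F a
  obtain ⟨δ, hδ, -, e2, -⟩ := hi i
  rw [Hcomp_eq_bot_iff]
  intro y hy
  have hy' := hδ g y hy
  rw [← sub_eq_add_neg] at hy'
  obtain ⟨x, hx, rfl⟩ := exists_preimage_Hgr _ _ a _ (isGrHomDeg_hmap a hp i) hy
    ((e2 y).1 ((Hcomp_eq_bot_iff _ a (i + 1) _).1 (hX _) _ hy'))
  rw [sub_zero] at hx
  rw [(Hcomp_eq_bot_iff _ a i _).1 (hY _) x hx, map_zero]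

theorem hVan_left {X Y Z : GrLC.GMod.{u} 𝒜} {f : X.carrier →ₗ[R] Y.carrier} {p : Y.carrier →ₗ[R] Z.carrier}
    {d : ι} (hf : GrLC.IsGrHomDeg X.gr Y.gr f d) (hp : GrLC.IsGrHomDeg Y.gr Z.gr p 0) (hinj : Function.Injective f)
    (hsurj : Function.Surjective p) (hex : Function.Exact f p) {i : ℕ} {g : ι}
    (hZ : HVan a Z i g) (hY : HVan a Y (i + 1) g) : HVan a X (i + 1) (g - d) := by
  intro E
  obtain ⟨-, hi⟩ := exists_les f p hf hp hinj hsurj hex E (starRes Y.gr) (starRes Z.gr) a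
  obtain ⟨δ, hδ, -, -, e3⟩ := hi i
  rw [Hcomp_eq_bot_iff]
  intro y hy
  have hy' := isGrHomDeg_hmap (E := E) (F := starRes Y.gr) a hf (i + 1) (g - d) y hy
  rw [sub_add_cancel] at hy'
  obtain ⟨x, hx, rfl⟩ := exists_preimage_Hgr _ _ a δ hδ hy
    ((e3 y).1 ((Hcomp_eq_bot_iff _ a (i + 1) g).1 (hY _) _ hy'))
  rw [sub_neg_eq_add, sub_add_cancel] at hx
  rw [(Hcomp_eq_bot_iff _ a i g).1 (hZ _) x hx, map_zero]

theorem hVan_left_zero {X Y Z : GrLC.GMod.{u} 𝒜} {f : X.carrier →ₗ[R] Y.carrier} {p : Y.carrier →ₗ[R] Z.carrier}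
    {d : ι} (hf : GrLC.IsGrHomDeg X.gr Y.gr f d) (hp : GrLC.IsGrHomDeg Y.gr Z.gr p 0) (hinj : Function.Injective f)
    (hsurj : Function.Surjective p) (hex : Function.Exact f p) {g : ι} (hY : HVan a Y 0 g) : HVan a X 0 (g - d) := by
  intro E
  obtain ⟨h0, -⟩ := exists_les f p hf hp hinj hsurj hex E (starRes Y.gr) (starRes Z.gr) a
  rw [Hcomp_eq_bot_iff]
  intro y hy
  have hy' := isGrHomDeg_hmap (E := E) (F := starRes Y.gr) a hf 0 (g - d) y hy
  rw [sub_add_cancel] at hy'
  exact h0 (((Hcomp_eq_bot_iff _ a 0 g).1 (hY _) _ hy').trans (map_zero _).symm)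

/-- Transport along a homogeneous bijection. -/
theorem hVan_of_bijective {X Y : GrLC.GMod.{u} 𝒜} (f : X.carrier →ₗ[R] Y.carrier) {d : ι}
    (hf : GrLC.IsGrHomDeg X.gr Y.gr f d) (hbij : Function.Bijective f) {i : ℕ} {g : ι}
    (hX : HVan a X i (g - d)) : HVan a Y i g := by
  let e := LinearEquiv.ofBijective f hbij
  have he : GrLC.IsGrHomDeg Y.gr X.gr e.symm.toLinearMap (-d) := by
    intro j y hy
    obtain ⟨x, hx, rfl⟩ := exists_preimage_mem f hf hy ⟨e.symm y, e.apply_symm_apply y⟩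
    rw [← sub_eq_add_neg]
    show e.symm (e x) ∈ _
    rwa [e.symm_apply_apply]
  intro F
  rw [Hcomp_eq_bot_iff]
  intro y hy
  have hy' := isGrHomDeg_hmap (E := F) (F := starRes X.gr) a he i g y hy
  rw [← sub_eq_add_neg] at hy'
  have hcomp : GrLC.IsGrHomDeg Y.gr Y.gr (f ∘ₗ e.symm.toLinearMap) 0 := isGrHomDeg_comp he hf (neg_add_cancel d)
  have hfe : f ∘ₗ e.symm.toLinearMap = LinearMap.id := LinearMap.ext fun z => e.apply_symm_apply z
  have h1 := LinearMap.congr_fun ((hmap_comp a (E := F) (F := starRes X.gr) (G := F) he hf hcomp (neg_add_cancel d) i).trans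
    ((hmap_congr a hfe hcomp (hfe ▸ hcomp) i).trans (hmap_id a i _))) y
  rw [LinearMap.comp_apply, (Hcomp_eq_bot_iff _ a i _).1 (hX _) _ hy', map_zero] at h1
  exact h1.symm

theorem hVan_shift {X : GrLC.GMod.{u} 𝒜} {e : ι} {i : ℕ} {g : ι} (h : HVan a X i (g + e)) :
    HVan a (shiftGMod 𝒜 X.gr e) i g := by
  refine hVan_of_bijective (X := X) (Y := shiftGMod 𝒜 X.gr e) (LinearMap.id : X.carrier →ₗ[R] X.carrier) (d := -e)
    (fun j m hm => show m ∈ X.gr (j + -e + e) by rwa [neg_add_cancel_right]) Function.bijective_id ?_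
  rwa [sub_neg_eq_add]

theorem hVan_prod {X Y : GrLC.GMod.{u} 𝒜} {i : ℕ} {g : ι} (hX : HVan a X i g) (hY : HVan a Y i g) :
    HVan a (prodGMod 𝒜 X.gr Y.gr) i g := by
  refine hVan_middle (X := X) (Y := prodGMod 𝒜 X.gr Y.gr) (Z := Y) (f := LinearMap.inl R X.carrier Y.carrier)
    (p := LinearMap.snd R X.carrier Y.carrier) (d := 0) (fun j m hm => ⟨(add_zero j).symm ▸ hm, zero_mem _⟩)
    (fun j z hz => (add_zero j).symm ▸ hz.2) LinearMap.inl_injective LinearMap.snd_surjective
    (fun (z : X.carrier × Y.carrier) => ?_) ?_ hY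
  · exact ⟨fun h => ⟨z.1, Prod.ext rfl h.symm⟩, fun ⟨w, hw⟩ => hw ▸ rfl⟩
  · rwa [sub_zero]

variable [IsNoetherianRing R]

theorem hVan_of_torsion {X : GrLC.GMod.{u} 𝒜} (h : LocCoh.IsPowerTorsion a.toIdeal X.carrier) (i : ℕ) (g : ι) :
    HVan a X (i + 1) g := fun E =>
  haveI := subsingleton_H_of_torsion E a h i
  Hcomp_eq_bot_of_subsingleton E a (i + 1) g

variable (a) in
/-- The Koszul complex of elements of one degree, as an existence statement. -/
theorem exists_koszul (X : GrLC.GMod.{u} 𝒜) (e : ι) : ∀ xs : List R, (∀ x ∈ xs, x ∈ 𝒜 e) →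
    ∃ (C : ℕ → GrLC.GMod.{u} 𝒜) (d : ∀ p, (C (p + 1)).carrier →ₗ[R] (C p).carrier)
      (ε : (C 0).carrier ≃ₗ[R] X.carrier),
      (∀ p, GrLC.IsGrHomDeg (C (p + 1)).gr (C p).gr (d p) 0) ∧
      GrLC.IsGrHomDeg (C 0).gr X.gr ε.toLinearMap 0 ∧
      (∀ p z, d p (d (p + 1) z) = 0) ∧
      (∀ y ∈ xs, ∃ h : ∀ p, (C p).carrier →ₗ[R] (C (p + 1)).carrier, (∀ z, d 0 (h 0 z) = y • z) ∧
        ∀ p z, d (p + 1) (h (p + 1) z) + h p (d p z) = y • z) ∧
      (∀ p i g, HVan a X i (g - p • e) → HVan a (C p) i g) ∧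
      (∀ p, xs.length < p → Subsingleton (C p).carrier) ∧
      ∀ z, d 0 z ∈ Ideal.ofList xs • (⊤ : Submodule R (C 0).carrier)
  | [], _ => by
    let Z := quotGMod 𝒜 X.gr ⊤ (fun _ _ _ => trivial)
    haveI hZ : Subsingleton Z.carrier := Submodule.Quotient.subsingleton_iff.2 rfl
    refine ⟨fun p => match p with | 0 => X | _ + 1 => Z, fun p => 0, LinearEquiv.refl R X.carrier,
      fun p j m _ => zero_mem _, fun j m hm => (add_zero j).symm ▸ hm, fun p z => LinearMap.zero_apply _,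
      fun y hy => absurd hy List.not_mem_nil, ?_, fun p hp => ?_, fun z => zero_mem _⟩
    · rintro (_ | p) i g h
      · rwa [zero_smul, sub_zero] at h
      · exact fun E => (Hcomp_eq_bot_iff E a i g).2 fun x _ => by
          have hid : GrLC.IsGrHomDeg Z.gr Z.gr (LinearMap.id : Z.carrier →ₗ[R] Z.carrier) 0 :=
            isGrHomDeg_zero_iff.2 fun _ _ hm => hm
          have h0 : (LinearMap.id : Z.carrier →ₗ[R] Z.carrier) = 0 := LinearMap.ext fun m => @Subsingleton.elim _ hZ _ _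
          have h1 := LinearMap.congr_fun (((hmap_id a i hid).symm.trans (hmap_congr a h0 hid (h0 ▸ hid) i)).trans
            (hmap_zero (E := E) (F := E) a (h0 ▸ hid) i)) x
          exact h1
    · obtain ⟨p, rfl⟩ : ∃ p', p = p' + 1 := ⟨p - 1, by simp only [List.length_nil] at hp; omega⟩
      exact hZ
  | x :: xs, hxs => by
    obtain ⟨C, d, ε, hd, hε, hdd, hh, hvan, htop, hrange⟩ :=
      exists_koszul X e xs (fun y hy => hxs y (List.mem_cons_of_mem x hy))
    have hx : x ∈ 𝒜 e := hxs x List.mem_cons_self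
    let C' : ℕ → GrLC.GMod.{u} 𝒜 := fun p => match p with
      | 0 => C 0
      | q + 1 => prodGMod 𝒜 (C (q + 1)).gr (shiftGMod 𝒜 (C q).gr (-e)).gr
    let d0 : (C' 1).carrier →ₗ[R] (C' 0).carrier :=
      d 0 ∘ₗ LinearMap.fst R (C 1).carrier (C 0).carrier + x • LinearMap.snd R (C 1).carrier (C 0).carrier
    let d' : ∀ p, (C' (p + 1)).carrier →ₗ[R] (C' p).carrier := fun p => match p with
      | 0 => d0
      | q + 1 => LinearMap.prod
          (d (q + 1) ∘ₗ LinearMap.fst R (C (q + 2)).carrier (C (q + 1)).carrier +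
            x • LinearMap.snd R (C (q + 2)).carrier (C (q + 1)).carrier)
          (-(d q ∘ₗ LinearMap.snd R (C (q + 2)).carrier (C (q + 1)).carrier))
    have hdeg : ∀ (q : ℕ) (j : ι) (c : (C (q + 1)).carrier) (c' : (C q).carrier), c ∈ (C (q + 1)).gr j →
        c' ∈ (C q).gr (j + -e) → d q c + x • c' ∈ (C q).gr (j + 0) := fun q j c c' hc hc' => by
      refine add_mem (hd q j c hc) ?_
      have h := SetLike.GradedSMul.smul_mem (B := (C q).gr) hx hc'
      rw [vadd_eq_add, show e + (j + -e) = j + 0 by abel] at h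
      exact h
    refine ⟨C', d', ε, ?_, hε, ?_, ?_, ?_, ?_, ?_⟩
    · rintro (_ | q) j z ⟨hz1, hz2⟩
      · exact hdeg 0 j _ _ hz1 hz2
      · refine ⟨hdeg (q + 1) j _ _ hz1 hz2, AddSubgroup.neg_mem ((C q).gr (j + 0 + -e)) ?_⟩
        have h := hd q (j + -e) _ hz2
        rw [add_zero] at h
        rw [add_zero]
        exact h
    · rintro (_ | q) (z : (C _).carrier × (C _).carrier)
      · show d 0 (d 1 z.1 + x • z.2) + x • -(d 0 z.2) = 0
        rw [map_add, hdd, map_smul, smul_neg, zero_add, add_neg_cancel]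
      · refine Prod.ext ?_ ?_
        · show d (q + 1) (d (q + 2) z.1 + x • z.2) + x • -(d (q + 1) z.2) = 0
          rw [map_add, hdd, map_smul, smul_neg, zero_add, add_neg_cancel]
        · show -(d q (-(d (q + 1) z.2))) = 0
          rw [map_neg, hdd, neg_zero, neg_zero]
    · intro y hy
      rcases List.mem_cons.1 hy with rfl | hy
      · let h' : ∀ p, (C' p).carrier →ₗ[R] (C' (p + 1)).carrier := fun p => match p with
          | 0 => LinearMap.inr R (C 1).carrier (C 0).carrier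
          | q + 1 => LinearMap.inr R (C (q + 2)).carrier (C (q + 1)).carrier ∘ₗ
              LinearMap.fst R (C (q + 1)).carrier (C q).carrier
        refine ⟨h', fun z => ?_, ?_⟩
        · show d 0 0 + y • z = y • z
          rw [map_zero, zero_add]
        · rintro (_ | q) (z : (C _).carrier × (C _).carrier)
          · refine Prod.ext ?_ ?_
            · show (d 1 0 + y • z.1) + 0 = y • z.1
              rw [map_zero, zero_add, add_zero]
            · show -(d 0 z.1) + (d 0 z.1 + y • z.2) = y • z.2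
              rw [neg_add_cancel_left]
          · refine Prod.ext ?_ ?_
            · show (d (q + 2) 0 + y • z.1) + 0 = y • z.1
              rw [map_zero, zero_add, add_zero]
            · show -(d (q + 1) z.1) + (d (q + 1) z.1 + y • z.2) = y • z.2
              rw [neg_add_cancel_left]
      · obtain ⟨h, hh0, hhs⟩ := hh y hy
        let h' : ∀ p, (C' p).carrier →ₗ[R] (C' (p + 1)).carrier := fun p => match p with
          | 0 => LinearMap.inl R (C 1).carrier (C 0).carrier ∘ₗ h 0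
          | q + 1 => LinearMap.prodMap (h (q + 1)) (-h q)
        refine ⟨h', fun z => ?_, ?_⟩
        · show d 0 (h 0 z) + x • (0 : (C 0).carrier) = y • z
          rw [smul_zero, add_zero, hh0]
        · rintro (_ | q) (z : (C _).carrier × (C _).carrier)
          · refine Prod.ext ?_ ?_
            · show (d 1 (h 1 z.1) + x • -(h 0 z.2)) + h 0 (d 0 z.1 + x • z.2) = y • z.1
              rw [map_add, map_smul, smul_neg, ← hhs 0 z.1]; abel
            · show -(d 0 (-(h 0 z.2))) + 0 = y • z.2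
              rw [map_neg, neg_neg, add_zero, hh0]
          · refine Prod.ext ?_ ?_
            · show (d (q + 2) (h (q + 2) z.1) + x • -(h (q + 1) z.2)) + h (q + 1) (d (q + 1) z.1 + x • z.2) = y • z.1
              rw [map_add, map_smul, smul_neg, ← hhs (q + 1) z.1]; abel
            · show -(d (q + 1) (-(h (q + 1) z.2))) + -(h q (-(d q z.2))) = y • z.2
              rw [map_neg, map_neg, neg_neg, neg_neg, hhs]
    · rintro (_ | q) i g hX
      · exact hvan 0 i g hX
      · refine hVan_prod (hvan (q + 1) i g hX) (hVan_shift (hvan q i (g + -e) ?_))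
        rwa [show g + -e - q • e = g - (q + 1) • e by rw [succ_nsmul]; abel]
    · rintro (_ | q) hp
      · exact absurd hp (Nat.not_lt_zero _)
      · have h1 : Subsingleton (C (q + 1)).carrier := htop _ (by simp only [List.length_cons] at hp; omega)
        have h2 : Subsingleton (C q).carrier := htop _ (by simp only [List.length_cons] at hp; omega)
        exact inferInstanceAs (Subsingleton ((C (q + 1)).carrier × (C q).carrier))
    · intro (z : (C 1).carrier × (C 0).carrier)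
      show d 0 z.1 + x • z.2 ∈ Ideal.ofList (x :: xs) • (⊤ : Submodule R (C 0).carrier)
      refine add_mem (Submodule.smul_mono_left ?_ (hrange z.1))
        (Submodule.smul_mem_smul (Ideal.subset_span List.mem_cons_self) Submodule.mem_top)
      exact Ideal.span_mono fun y hy => List.mem_cons_of_mem x hy

/-- The boundaries of a Koszul complex: only the diagonal matters. -/
theorem hVan_boundary (X : GrLC.GMod.{u} 𝒜) (e : ι) (xs : List R) (hspan : a.toIdeal ≤ Ideal.ofList xs) (i : ℕ) (g : ι)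
    (C : ℕ → GrLC.GMod.{u} 𝒜) (d : ∀ p, (C (p + 1)).carrier →ₗ[R] (C p).carrier)
    (hd : ∀ p, GrLC.IsGrHomDeg (C (p + 1)).gr (C p).gr (d p) 0) (hdd : ∀ p z, d p (d (p + 1) z) = 0)
    (hh : ∀ y ∈ xs, ∃ h : ∀ p, (C p).carrier →ₗ[R] (C (p + 1)).carrier, (∀ z, d 0 (h 0 z) = y • z) ∧
        ∀ p z, d (p + 1) (h (p + 1) z) + h p (d p z) = y • z)
    (hvan : ∀ p i g, HVan a X i (g - p • e) → HVan a (C p) i g)
    (htop : ∀ p, xs.length < p → Subsingleton (C p).carrier)
    (h : ∀ q, HVan a X (i + 1 + q) (g - (q + 1) • e)) :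
    HVan a (subGMod 𝒜 (C 0).gr (LinearMap.range (d 0))
      (isHomogeneous_range (C 0).gr (C 1).gr (isGrHomDeg_zero_iff.1 (hd 0)))) (i + 1) g := by
  classical
  have htors : ∀ p, ∀ z, d p z = 0 → ∀ y ∈ a.toIdeal, ∃ w, d (p + 1) w = y • z := by
    intro p z hz y hy
    have hy' := hspan hy
    change y ∈ Ideal.span _ at hy'
    clear hy
    induction hy' using Submodule.span_induction with
    | mem y hy1 =>
      obtain ⟨hy2, -, hy3⟩ := hh y hy1
      exact ⟨hy2 (p + 1) z, by rw [← hy3 p z, hz, map_zero, add_zero]⟩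
    | zero => exact ⟨0, by rw [map_zero, zero_smul]⟩
    | add y y' _ _ h1 h2 =>
      obtain ⟨w, hw⟩ := h1
      obtain ⟨w', hw'⟩ := h2
      exact ⟨w + w', by rw [map_add, hw, hw', add_smul]⟩
    | smul c y _ h1 =>
      obtain ⟨w, hw⟩ := h1
      exact ⟨c • w, by rw [map_smul, hw, smul_eq_mul, mul_smul]⟩
  let K := fun p => subGMod 𝒜 (C (p + 1)).gr (LinearMap.ker (d p)) (isHomogeneous_ker_deg (hd p))
  let B := fun p => subGMod 𝒜 (C p).gr (LinearMap.range (d p))
    (isHomogeneous_range (C p).gr (C (p + 1)).gr (isGrHomDeg_zero_iff.1 (hd p)))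
  -- the boundaries
  have key : ∀ k p, xs.length ≤ p + k → HVan a (B p) (i + 1 + p) g := by
    intro k
    induction k with
    | zero =>
      intro p hp
      refine hVan_of_torsion (X := B p) (fun z => ⟨0, fun r _ => ?_⟩) (i + p) g |> fun h => by
        rwa [show i + 1 + p = i + p + 1 by omega]
      haveI := htop (p + 1) (by omega)
      let z' : LinearMap.range (d p) := z
      obtain ⟨w, hw⟩ := z'.2
      exact Subtype.ext (by
        show r • (z'.1 : (C p).carrier) = 0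
        rw [← hw, Subsingleton.elim w 0, map_zero, smul_zero])
    | succ k ih =>
      intro p hp
      let f : (K p).carrier →ₗ[R] (C (p + 1)).carrier := (LinearMap.ker (d p)).subtype
      let π : (C (p + 1)).carrier →ₗ[R] (B p).carrier := (d p).rangeRestrict
      refine hVan_right (X := K p) (Y := C (p + 1)) (Z := B p) (f := f) (p := π) (d := 0)
        (fun j m hm => (add_zero j).symm ▸ hm) (fun j m hm => hd p j m hm) Subtype.val_injective
        (LinearMap.surjective_rangeRestrict _) (fun z => ?_) ?_ ?_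
      · exact ⟨fun hz => ⟨⟨z, congrArg Subtype.val hz⟩, rfl⟩,
          fun ⟨w, hw⟩ => hw ▸ Subtype.ext (w : LinearMap.ker (d p)).2⟩
      · refine hvan (p + 1) _ g ?_
        exact h p
      · rw [sub_zero]
        let j : (B (p + 1)).carrier →ₗ[R] (K p).carrier :=
          Submodule.inclusion (show LinearMap.range (d (p + 1)) ≤ LinearMap.ker (d p) by
            rintro _ ⟨w, rfl⟩; exact hdd p w)
        let L : Submodule R (K p).carrier := LinearMap.range j
        have hL : L.IsHomogeneous (K p).gr :=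
          isHomogeneous_range (K p).gr (B (p + 1)).gr (f := j) fun _ m hm => hm
        let T := quotGMod 𝒜 (K p).gr L hL
        let πL : (K p).carrier →ₗ[R] T.carrier := L.mkQ
        refine hVan_middle (X := B (p + 1)) (Y := K p) (Z := T) (f := j) (p := πL) (d := 0)
          (fun l m hm => (add_zero l).symm ▸ hm) (fun l m hm => (add_zero l).symm ▸ isGrHom_mkQ (K p).gr L l m hm)
          (Submodule.inclusion_injective _) (Submodule.mkQ_surjective L)
          (LinearMap.exact_iff.2 (Submodule.ker_mkQ L)) ?_ ?_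
        · rw [sub_zero, show i + 1 + p + 1 = i + 1 + (p + 1) by omega]
          exact ih (p + 1) (by omega)
        · refine hVan_of_torsion (X := T) (fun (t : (K p).carrier ⧸ L) => ?_) (i + 1 + p) g
          obtain ⟨z, rfl⟩ := Submodule.Quotient.mk_surjective L t
          refine ⟨1, fun y hy => ?_⟩
          rw [pow_one] at hy
          let z' : LinearMap.ker (d p) := z
          obtain ⟨w, hw⟩ := htors p (z'.1 : (C (p + 1)).carrier) z'.2 y hy
          show (Submodule.Quotient.mk (y • z) : (K p).carrier ⧸ L) = 0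
          refine (Submodule.Quotient.mk_eq_zero L).2 ?_
          exact ⟨⟨d (p + 1) w, ⟨w, rfl⟩⟩, Subtype.ext hw⟩
  exact key xs.length 0 (by omega)

/-- The Koszul step: `H^{i+1+q}(X)` in degrees `g - (q+1)e` control `H^{i+1}(X)` in degree `g`. -/
theorem hVan_of_diagonal (X : GrLC.GMod.{u} 𝒜) (e : ι) (xs : List R) (hxs : ∀ x ∈ xs, x ∈ 𝒜 e)
    (hspan : a.toIdeal ≤ Ideal.ofList xs) (i : ℕ) (g : ι)
    (h : ∀ q, HVan a X (i + 1 + q) (g - (q + 1) • e)) : HVan a X (i + 1) g := by
  classical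
  obtain ⟨C, d, ε, hd, hε, hdd, hh, hvan, htop, -⟩ := exists_koszul a X e xs hxs
  have key := hVan_boundary X e xs hspan i g C d hd hdd hh hvan htop h
  let B := fun p => subGMod 𝒜 (C p).gr (LinearMap.range (d p))
    (isHomogeneous_range (C p).gr (C (p + 1)).gr (isGrHomDeg_zero_iff.1 (hd p)))
  -- the bottom
  let L0 : Submodule R (C 0).carrier := LinearMap.range (d 0)
  let T0 := quotGMod 𝒜 (C 0).gr L0 (isHomogeneous_range (C 0).gr (C 1).gr (isGrHomDeg_zero_iff.1 (hd 0)))
  let π0 : (C 0).carrier →ₗ[R] T0.carrier := L0.mkQ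
  have hC0 : HVan a (C 0) (i + 1) g := by
    refine hVan_middle (X := B 0) (Y := C 0) (Z := T0) (f := L0.subtype) (p := π0) (d := 0)
      (fun l m hm => (add_zero l).symm ▸ hm) (fun l m hm => (add_zero l).symm ▸ isGrHom_mkQ (C 0).gr L0 l m hm)
      Subtype.val_injective (Submodule.mkQ_surjective L0) (LinearMap.exact_subtype_mkQ L0) ?_ ?_
    · rw [sub_zero]
      exact key
    · refine hVan_of_torsion (X := T0) (fun (t : (C 0).carrier ⧸ L0) => ?_) i g
      obtain ⟨z, rfl⟩ := Submodule.Quotient.mk_surjective L0 t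
      refine ⟨1, fun y hy => ?_⟩
      rw [pow_one] at hy
      have hy' := hspan hy
      change y ∈ Ideal.span _ at hy'
      show (Submodule.Quotient.mk (y • z) : (C 0).carrier ⧸ L0) = 0
      rw [Submodule.Quotient.mk_eq_zero]
      clear hy
      induction hy' using Submodule.span_induction with
      | mem y hy1 =>
        obtain ⟨hy2, hy3, -⟩ := hh y hy1
        exact ⟨hy2 0 z, hy3 z⟩
      | zero => rw [zero_smul]; exact zero_mem _
      | add y y' _ _ h1 h2 => rw [add_smul]; exact add_mem h1 h2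
      | smul c y _ h1 => rw [smul_eq_mul, mul_smul]; exact L0.smul_mem c h1
  refine hVan_of_bijective ε.toLinearMap hε ε.bijective ?_
  rwa [sub_zero]

end Groth.Agent.GrLib8
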