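import Groth.Agent.GrLib8.EventVan
import Groth.Agent.GrLib8.Koszul
import Mathlib.RingTheory.Regular.RegularSequence

/-!
# The end of the top cohomology modulo regular elements
-/

set_option autoImplicit false
set_option linter.unusedSectionVars false

universe u

open DirectSum

namespace Groth.Agent.GrLib8

variable {R : Type u} [CommRing R] [IsNoetherianRing R] {σ : Type u} [SetLike σ R] [AddSubgroupClass σ R]
  {𝒜 : ℤ → σ} [GradedRing 𝒜] {a : HomogeneousIdeal 𝒜}

theorem hVan_bijective_iff {X Y : GrLC.GMod.{u} 𝒜} (f : X.carrier →ₗ[R] Y.carrier)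
    (hf : GrLC.IsGrHom X.gr Y.gr f) (hbij : Function.Bijective f) (i : ℕ) (g : ℤ) :
    HVan a X i g ↔ HVan a Y i g := by
  have hinv : GrLC.IsGrHomDeg Y.gr X.gr (LinearEquiv.ofBijective f hbij).symm.toLinearMap 0 := by
    intro j y hy
    obtain ⟨x, hx, rfl⟩ := exists_preimage_mem f (isGrHomDeg_zero_iff.2 hf) hy (hbij.2 y)
    rw [sub_zero] at hx
    rw [add_zero]
    show (LinearEquiv.ofBijective f hbij).symm (LinearEquiv.ofBijective f hbij x) ∈ _
    rwa [LinearEquiv.symm_apply_apply]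
  exact ⟨fun h => hVan_of_bijective f (isGrHomDeg_zero_iff.2 hf) hbij (by rwa [sub_zero]),
    fun h => hVan_of_bijective _ hinv (LinearEquiv.ofBijective f hbij).symm.bijective (by rwa [sub_zero])⟩

/-- One regular element: lower vanishing descends and the top ends shift by the degree. -/
theorem top_of_regular {X Y : GrLC.GMod.{u} 𝒜} {x : R} {k : ℤ} (hx : x ∈ 𝒜 k) (hk : 0 ≤ k) (hxa : x ∈ a.toIdeal)
    (hreg : IsSMulRegular X.carrier x) (π : X.carrier →ₗ[R] Y.carrier) (hπ : GrLC.IsGrHom X.gr Y.gr π)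
    (hπs : Function.Surjective π)
    (hker : LinearMap.ker π = LinearMap.range (x • (LinearMap.id : X.carrier →ₗ[R] X.carrier)))
    (D : ℕ) (hlow : ∀ i < D + 1, ∀ g, HVan a X i g) :
    (∀ i < D, ∀ g, HVan a Y i g) ∧
      ∀ e : ℤ, (∀ g, e < g → HVan a Y D g) ↔ ∀ h, e - k < h → HVan a X (D + 1) h := by
  have hμ : GrLC.IsGrHomDeg X.gr X.gr (x • (LinearMap.id : X.carrier →ₗ[R] X.carrier)) k := isGrHomDeg_smul_id hx
  have hinj : Function.Injective (x • (LinearMap.id : X.carrier →ₗ[R] X.carrier)) := hreg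
  have hex : Function.Exact (x • (LinearMap.id : X.carrier →ₗ[R] X.carrier)) π := LinearMap.exact_iff.2 hker
  refine ⟨fun i hi g => hVan_right hμ (isGrHomDeg_zero_iff.2 hπ) hinj hπs hex (hlow i (by omega) g)
    (hlow (i + 1) (by omega) _), fun e => ⟨fun h g hg => ?_, fun h g hg => ?_⟩⟩
  · exact hVan_of_regular hx hk hxa π hμ (isGrHomDeg_zero_iff.2 hπ) hinj hπs hex D e h g (by omega)
  · exact hVan_right hμ (isGrHomDeg_zero_iff.2 hπ) hinj hπs hex (hlow D (by omega) g) (h _ (by omega))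

end Groth.Agent.GrLib8

namespace Groth.Agent.GrLib8

variable {R : Type u} [CommRing R] [IsNoetherianRing R] {𝒜 : ℤ → AddSubgroup R} [GradedRing 𝒜] {a : HomogeneousIdeal 𝒜}

/-- Complete intersections: the end of the top cohomology shifts by the sum of the degrees. -/
theorem top_of_regularSequence (hpos : ∀ n < 0, ∀ r ∈ 𝒜 n, r = 0) (ha : a.toIdeal ≠ ⊤) (n : ℕ)
    (hlow : ∀ i < n, ∀ g, HVan a (gmodPieces 𝒜 𝒜) i g) :
    ∀ t ≤ n, ∀ (f : Fin t → R) (deg : Fin t → ℤ), (∀ i, f i ∈ 𝒜 (deg i)) → (∀ i, f i ∈ a.toIdeal) →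
      RingTheory.Sequence.IsWeaklyRegular R (List.ofFn f) →
      ∀ (Y : GrLC.GMod.{u} 𝒜) (π : R →ₗ[R] Y.carrier), GrLC.IsGrHom 𝒜 Y.gr π → Function.Surjective π →
        LinearMap.ker π = Ideal.span (Set.range f) →
        (∀ i < n - t, ∀ g, HVan a Y i g) ∧
          ∀ e : ℤ, (∀ g, e < g → HVan a Y (n - t) g) ↔
            ∀ h, e - ∑ i, deg i < h → HVan a (gmodPieces 𝒜 𝒜) n h := by
  classical
  intro t
  induction t with
  | zero =>
    intro _ f deg _ _ _ Y π hπ hπs hker
    have hbij : Function.Bijective π := ⟨LinearMap.ker_eq_bot.1 (hker.trans (by simp)), hπs⟩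
    have key : ∀ i g, HVan a (gmodPieces 𝒜 𝒜) i g ↔ HVan a Y i g :=
      hVan_bijective_iff (X := gmodPieces 𝒜 𝒜) π hπ hbij
    simp only [Nat.sub_zero, Finset.univ_eq_empty, Finset.sum_empty, sub_zero, ← key]
    exact ⟨hlow, fun e => trivial⟩
  | succ t ih =>
    intro htn f deg hdeg hmem hreg Y π hπ hπs hker
    let J : HomogeneousIdeal 𝒜 := ⟨Ideal.span (Set.range fun i : Fin t => f i.castSucc),
      Ideal.homogeneous_span 𝒜 _ fun y ⟨i, hi⟩ => ⟨deg i.castSucc, hi ▸ hdeg _⟩⟩
    let X : GrLC.GMod.{u} 𝒜 := quotGMod 𝒜 𝒜 J.toIdeal J.isHomogeneous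
    let q : R →ₗ[R] X.carrier := Submodule.mkQ J.toIdeal
    have hlast : List.ofFn f = List.ofFn (fun i : Fin t => f i.castSucc) ++ [f (Fin.last t)] := by
      rw [List.ofFn_succ', List.concat_eq_append]
    rw [hlast, RingTheory.Sequence.isWeaklyRegular_append_iff, RingTheory.Sequence.isWeaklyRegular_singleton_iff,
      isSMulRegular_quotient_iff_mem_of_smul_mem] at hreg
    have hof : (Ideal.ofList (List.ofFn fun i : Fin t => f i.castSucc) • ⊤ : Submodule R R) = J.toIdeal := by
      rw [smul_eq_mul, Ideal.mul_top]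
      show Ideal.span _ = Ideal.span _
      congr 1
      ext y
      simp
    obtain ⟨hl, htop⟩ := ih (by omega) _ _ (fun i => hdeg i.castSucc) (fun i => hmem i.castSucc) hreg.1 X q
      (isGrHom_mkQ 𝒜 J.toIdeal) (Submodule.mkQ_surjective _) (Submodule.ker_mkQ _)
    have hJa : J.toIdeal ≤ a.toIdeal := Ideal.span_le.2 (Set.range_subset_iff.2 fun i => hmem i.castSucc)
    have hxreg : IsSMulRegular X.carrier (f (Fin.last t)) := by
      refine (isSMulRegular_quotient_iff_mem_of_smul_mem J.toIdeal _).2 fun y hy => ?_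
      exact hof.le (hreg.2 y (hof.ge hy))
    have hk : 0 ≤ deg (Fin.last t) := by
      by_contra hneg
      have h0 : f (Fin.last t) = 0 := hpos _ (not_le.1 hneg) _ (hdeg _)
      have h1 : (1 : R) ∈ J.toIdeal := (isSMulRegular_quotient_iff_mem_of_smul_mem J.toIdeal _).1 hxreg 1
        (by rw [h0, zero_smul]; exact zero_mem _)
      exact ha ((Ideal.eq_top_iff_one _).2 (hJa h1))
    have hspan : Ideal.span (Set.range f) = J.toIdeal ⊔ Ideal.span {f (Fin.last t)} := by
      show _ = Ideal.span _ ⊔ _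
      rw [← Ideal.span_union]
      congr 1
      ext y
      simp [Fin.exists_fin_succ', eq_comm, or_comm]
    have hJker : J.toIdeal ≤ LinearMap.ker π := hker.ge.trans' (hspan.ge.trans' le_sup_left)
    let p : X.carrier →ₗ[R] Y.carrier := Submodule.liftQ J.toIdeal π hJker
    have hpq : ∀ r, p (q r) = π r := fun r => rfl
    have hps : Function.Surjective p := fun y => let ⟨r, hr⟩ := hπs y; ⟨q r, (hpq r).trans hr⟩
    have hpg : GrLC.IsGrHom X.gr Y.gr p := by
      intro g _ hz
      obtain ⟨r, hr, rfl⟩ := hz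
      exact hπ g r hr
    have hpk : LinearMap.ker p = LinearMap.range (f (Fin.last t) • (LinearMap.id : X.carrier →ₗ[R] X.carrier)) := by
      ext z
      obtain ⟨r, rfl⟩ := Submodule.mkQ_surjective J.toIdeal z
      constructor
      · intro hz
        have hr : r ∈ Ideal.span (Set.range f) := hker.le (show π r = 0 from hz)
        rw [hspan] at hr
        obtain ⟨u, hu, v, hv, huv⟩ := Submodule.mem_sup.1 hr
        obtain ⟨c, hc⟩ := Ideal.mem_span_singleton'.1 hv
        refine ⟨q c, (map_smul q _ c).symm.trans ?_⟩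
        refine (Submodule.Quotient.eq J.toIdeal).2 ?_
        rw [show f (Fin.last t) • c - r = -u by rw [smul_eq_mul, ← huv, ← hc]; ring]
        exact neg_mem hu
      · rintro ⟨w, hw⟩
        rw [LinearMap.mem_ker, ← hw, LinearMap.smul_apply, LinearMap.id_apply, map_smul]
        obtain ⟨c, rfl⟩ := Submodule.mkQ_surjective J.toIdeal w
        show f (Fin.last t) • π c = 0
        rw [← map_smul]
        exact hker.ge (hspan.ge (Ideal.mem_sup_right (Ideal.mul_mem_right _ _ (Ideal.mem_span_singleton_self _))))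
    have hD : n - t = (n - (t + 1)) + 1 := by omega
    obtain ⟨h1, h2⟩ := top_of_regular (hdeg (Fin.last t)) hk (hmem _) hxreg p hpg hps hpk (n - (t + 1))
      (fun i hi => hl i (by omega))
    refine ⟨h1, fun e => ?_⟩
    rw [h2 e, ← hD, htop (e - deg (Fin.last t)), Fin.sum_univ_castSucc, sub_add_eq_sub_sub_swap]

end Groth.Agent.GrLib8
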