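import Groth.Agent.GrLib8.Koszul

/-!
# Graded local cohomology from acyclic resolutions
-/

set_option autoImplicit false
set_option linter.unusedSectionVars false

universe u

open DirectSum

namespace Groth.Agent.GrLib8

variable {ι : Type} [AddCommGroup ι] [DecidableEq ι]
variable {R : Type u} [CommRing R] {σ : Type u} [SetLike σ R] [AddSubgroupClass σ R] {𝒜 : ι → σ} [GradedRing 𝒜]

/-- A resolution by modules without higher graded local cohomology. -/
structure ARes (a : HomogeneousIdeal 𝒜) (M : GrLC.GMod.{u} 𝒜) : Type (u + 1) where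
  /-- the terms -/
  A : ℕ → GrLC.GMod.{u} 𝒜
  /-- the differentials -/
  d : ∀ n, (A n).carrier →ₗ[R] (A (n + 1)).carrier
  /-- the augmentation -/
  ε : M.carrier →ₗ[R] (A 0).carrier
  d_grHom : ∀ n, GrLC.IsGrHom (A n).gr (A (n + 1)).gr (d n)
  ε_grHom : GrLC.IsGrHom M.gr (A 0).gr ε
  ε_injective : Function.Injective ε
  exact_zero : LinearMap.ker (d 0) = LinearMap.range ε
  exact_succ : ∀ n, LinearMap.ker (d (n + 1)) = LinearMap.range (d n)
  acyc : ∀ n i g, HVan a (A n) (i + 1) g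

namespace ARes

variable {a : HomogeneousIdeal 𝒜} {M : GrLC.GMod.{u} 𝒜} (r : ARes a M)

/-- Torsion cocycles. -/
def cocyc (n : ℕ) : Submodule R (r.A n).carrier :=
  GrLC.gam a.toIdeal (r.A n).carrier ⊓ LinearMap.ker (r.d n)

/-- Torsion coboundaries. -/
def cobdy : (n : ℕ) → Submodule R (r.A n).carrier
  | 0 => ⊥
  | n + 1 => (GrLC.gam a.toIdeal (r.A n).carrier).map (r.d n)

/-- The first cycles. -/
noncomputable def next : GrLC.GMod.{u} 𝒜 :=
  subGMod 𝒜 (r.A 1).gr (LinearMap.ker (r.d 1)) (isHomogeneous_ker (r.A 1).gr (r.A 2).gr (r.d_grHom 1))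

/-- The shifted resolution. -/
noncomputable def shift : ARes a r.next where
  A n := r.A (n + 1)
  d n := r.d (n + 1)
  ε := (LinearMap.ker (r.d 1)).subtype
  d_grHom n := r.d_grHom (n + 1)
  ε_grHom := fun _ _ hx => hx
  ε_injective := Subtype.val_injective
  exact_zero := (Submodule.range_subtype _).symm
  exact_succ n := r.exact_succ (n + 1)
  acyc n := r.acyc (n + 1)

/-- The differential onto the first cycles. -/
noncomputable def proj : (r.A 0).carrier →ₗ[R] r.next.carrier :=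
  (r.d 0).codRestrict (LinearMap.ker (r.d 1)) fun x => (r.exact_succ 0).ge ⟨x, rfl⟩

theorem proj_grHom : GrLC.IsGrHom (r.A 0).gr r.next.gr r.proj := fun g x hx => r.d_grHom 0 g x hx

theorem proj_surjective : Function.Surjective r.proj := fun z => by
  obtain ⟨x, hx⟩ := (r.exact_succ 0).le z.2
  exact ⟨x, Subtype.ext hx⟩

theorem exact_ε_proj : Function.Exact r.ε r.proj := fun x => by
  refine ⟨fun h => ?_, fun h => Subtype.ext (r.exact_zero.ge h)⟩
  exact r.exact_zero.le (congrArg Subtype.val h)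

end ARes

variable [IsNoetherianRing R]
variable {a : HomogeneousIdeal 𝒜}

omit [IsNoetherianRing R] in
/-- The map from torsion to `H⁰`. -/
noncomputable def h0map {X : GrLC.GMod.{u} 𝒜} (E : GrLC.StarInjRes 𝒜 X.gr) :
    GrLC.gam a.toIdeal X.carrier →ₗ[R] E.H a 0 :=
  E.toH a 0 ∘ₗ E.ε.restrict (q := E.cocyc a 0) fun m hm => ⟨map_gam E.ε hm, LinearMap.mem_ker.1 (E.exact_zero.ge ⟨m, rfl⟩)⟩

omit [IsNoetherianRing R] in
theorem h0map_grHom {X : GrLC.GMod.{u} 𝒜} (E : GrLC.StarInjRes 𝒜 X.gr) {g : ι}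
    (m : GrLC.gam a.toIdeal X.carrier) (hm : (m : X.carrier) ∈ X.gr g) : h0map E m ∈ E.Hgr a 0 g :=
  ⟨_, E.ε_grHom g _ hm, rfl⟩

omit [IsNoetherianRing R] in
theorem h0map_injective {X : GrLC.GMod.{u} 𝒜} (E : GrLC.StarInjRes 𝒜 X.gr) :
    Function.Injective (h0map (a := a) E) := by
  rw [injective_iff_map_eq_zero]
  intro m hm
  rw [h0map, LinearMap.comp_apply, toH_eq_zero] at hm
  exact Subtype.ext (E.ε_injective ((show E.ε (m : X.carrier) = 0 from hm).trans (map_zero _).symm))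

omit [IsNoetherianRing R] in
theorem h0map_surjective {X : GrLC.GMod.{u} 𝒜} (E : GrLC.StarInjRes 𝒜 X.gr) :
    Function.Surjective (h0map (a := a) E) := by
  intro x
  obtain ⟨z, rfl⟩ := toH_surj E a 0 x
  obtain ⟨m, hm⟩ := E.exact_zero.le z.2.2
  obtain ⟨k, hk⟩ := z.2.1
  exact ⟨⟨m, ⟨k, fun r hr => E.ε_injective (by rw [map_smul, map_zero, hm]; exact hk r hr)⟩⟩,
    congrArg (E.toH a 0) (Subtype.ext hm)⟩

omit [IsNoetherianRing R] in
theorem hmap_h0map {X Y : GrLC.GMod.{u} 𝒜} (E : GrLC.StarInjRes 𝒜 X.gr) (F : GrLC.StarInjRes 𝒜 Y.gr)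
    (f : X.carrier →ₗ[R] Y.carrier) {d : ι} (hf : GrLC.IsGrHomDeg X.gr Y.gr f d)
    (m : GrLC.gam a.toIdeal X.carrier) :
    hmap E F a f hf 0 (h0map E m) = h0map F ⟨f m, map_gam f m.2⟩ := by
  obtain ⟨L, hL⟩ := exists_lift E F f hf
  rw [hmap_eq a hf hL, h0map, LinearMap.comp_apply]
  obtain ⟨h, e⟩ := chainH_toH a L hL.comm 0
    (E.ε.restrict (q := E.cocyc a 0) (fun m hm => ⟨map_gam E.ε hm, LinearMap.mem_ker.1 (E.exact_zero.ge ⟨m, rfl⟩)⟩) m)
  rw [e]
  exact congrArg (F.toH a 0) (Subtype.ext (LinearMap.congr_fun hL.eps (m : X.carrier)))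

theorem subsingleton_H_of_hVan {X : GrLC.GMod.{u} 𝒜} (E : GrLC.StarInjRes 𝒜 X.gr) (i : ℕ)
    (h : ∀ g, HVan a X i g) : Subsingleton (E.H a i) := by
  classical
  letI := (isInternal_Hgr X.gr E a i).chooseDecomposition
  refine subsingleton_of_forall_eq 0 fun x => ?_
  rw [← sum_support_decompose (E.Hgr a i) x]
  exact Finset.sum_eq_zero fun g _ => (Hcomp_eq_bot_iff E a i g).1 (h g E) _ (SetLike.coe_mem _)

/-- Local cohomology is computed by any acyclic resolution. -/
theorem ARes.exists_psi : ∀ (q : ℕ) {M : GrLC.GMod.{u} 𝒜} (r : ARes a M) (E : GrLC.StarInjRes 𝒜 M.gr),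
    ∃ Ψ : r.cocyc q →ₗ[R] E.H a q, Function.Surjective Ψ ∧
      (∀ z : r.cocyc q, Ψ z = 0 ↔ (z : (r.A q).carrier) ∈ r.cobdy q) ∧
      (∀ g, ∀ z : r.cocyc q, (z : (r.A q).carrier) ∈ (r.A q).gr g → Ψ z ∈ E.Hgr a q g) ∧
      (∀ (hq : q = 0) (m : GrLC.gam a.toIdeal M.carrier) (hm : hq ▸ (r.ε (m : M.carrier)) ∈ r.cocyc q),
        Ψ ⟨_, hm⟩ = hq ▸ h0map E m) := by
  intro q
  induction q with
  | zero =>
    intro M r E
    let t : GrLC.gam a.toIdeal M.carrier →ₗ[R] r.cocyc 0 :=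
      r.ε.restrict fun m hm => ⟨map_gam r.ε hm, LinearMap.mem_ker.1 (r.exact_zero.ge ⟨m, rfl⟩)⟩
    have ht : Function.Bijective t := by
      constructor
      · intro x y h
        exact Subtype.ext (r.ε_injective (congrArg Subtype.val h))
      · intro z
        obtain ⟨m, hm⟩ := r.exact_zero.le z.2.2
        obtain ⟨k, hk⟩ := z.2.1
        exact ⟨⟨m, ⟨k, fun x hx => r.ε_injective (by rw [map_smul, map_zero, hm]; exact hk x hx)⟩⟩, Subtype.ext hm⟩
    let e := LinearEquiv.ofBijective t ht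
    refine ⟨h0map E ∘ₗ e.symm.toLinearMap, (h0map_surjective E).comp e.symm.surjective, fun z => ?_, ?_, ?_⟩
    · rw [LinearMap.comp_apply, LinearEquiv.coe_coe]
      refine ⟨fun h => ?_, fun h => ?_⟩
      · have h1 := e.symm.injective ((h0map_injective E (h.trans (map_zero _).symm)).trans (map_zero _).symm)
        rw [h1]
        exact zero_mem _
      · rw [show z = 0 from Subtype.ext h, map_zero, map_zero]
    · intro g z hz
      obtain ⟨m, rfl⟩ := e.surjective z
      rw [LinearMap.comp_apply, LinearEquiv.coe_coe, e.symm_apply_apply]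
      refine h0map_grHom E m ?_
      obtain ⟨m', hm', he⟩ := exists_preimage_mem (ℳ := M.gr) (𝒩 := (r.A 0).gr) r.ε
        (isGrHomDeg_zero_iff.2 r.ε_grHom) hz ⟨_, rfl⟩
      rw [sub_zero] at hm'
      have h' : m' = (m : M.carrier) := r.ε_injective (he.trans rfl)
      rwa [← h']
    · intro hq m hm
      show h0map E (e.symm ⟨_, hm⟩) = h0map E m
      rw [show (⟨_, hm⟩ : r.cocyc 0) = e m from rfl, e.symm_apply_apply]
  | succ q ih =>
    intro M r E
    let F : GrLC.StarInjRes 𝒜 r.next.gr := starRes r.next.gr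
    let G : GrLC.StarInjRes 𝒜 (r.A 0).gr := starRes (r.A 0).gr
    have hεd : GrLC.IsGrHomDeg M.gr (r.A 0).gr r.ε 0 := isGrHomDeg_zero_iff.2 r.ε_grHom
    have hpd : GrLC.IsGrHomDeg (r.A 0).gr r.next.gr r.proj 0 := isGrHomDeg_zero_iff.2 r.proj_grHom
    obtain ⟨-, hles⟩ := exists_les r.ε r.proj hεd hpd r.ε_injective r.proj_surjective r.exact_ε_proj E G F a
    obtain ⟨δ, hδ, -, e2, e3⟩ := hles q
    obtain ⟨Φ, hΦs, hΦk, hΦg, hΦ0⟩ := ih r.shift F
    haveI hsub : Subsingleton (G.H a (q + 1)) := subsingleton_H_of_hVan G (q + 1) (r.acyc 0 q)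
    have hδs : Function.Surjective δ := fun x => (e3 x).1 (Subsingleton.elim _ _)
    refine ⟨δ ∘ₗ Φ, hδs.comp hΦs, fun z => ?_, fun g z hz => ?_, fun hq => absurd hq q.succ_ne_zero⟩
    · rw [LinearMap.comp_apply, e2]
      cases q with
      | zero =>
        constructor
        · rintro ⟨y, hy⟩
          obtain ⟨x, rfl⟩ := h0map_surjective G y
          rw [hmap_h0map] at hy
          have hmem : r.shift.ε (r.proj (x : (r.A 0).carrier)) ∈ r.shift.cocyc 0 :=
            ⟨map_gam r.shift.ε (map_gam r.proj x.2), LinearMap.mem_ker.1 (r.shift.exact_zero.ge ⟨_, rfl⟩)⟩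
          have h1 := hΦ0 rfl ⟨r.proj x, map_gam r.proj x.2⟩ hmem
          let z' : r.shift.cocyc 0 := z
          have h2 : Φ (z' - ⟨_, hmem⟩) = 0 := by
            rw [map_sub, sub_eq_zero]
            exact hy.symm.trans h1.symm
          have h3 : (z'.1 : (r.shift.A 0).carrier) - r.shift.ε (r.proj (x : (r.A 0).carrier)) = 0 :=
            (hΦk _).1 h2
          exact ⟨(x : (r.A 0).carrier), x.2, (sub_eq_zero.1 h3).symm⟩
        · rintro ⟨x, hx, hxz⟩
          refine ⟨h0map G ⟨x, hx⟩, ?_⟩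
          rw [hmap_h0map]
          have hmem : r.shift.ε (r.proj x) ∈ r.shift.cocyc 0 :=
            ⟨map_gam r.shift.ε (map_gam r.proj hx), LinearMap.mem_ker.1 (r.shift.exact_zero.ge ⟨_, rfl⟩)⟩
          refine ((hΦ0 rfl ⟨r.proj x, map_gam r.proj hx⟩ hmem).symm.trans ?_)
          exact congrArg Φ (Subtype.ext hxz)
      | succ m =>
        haveI : Subsingleton (G.H a (m + 1)) := subsingleton_H_of_hVan G (m + 1) (r.acyc 0 m)
        constructor
        · rintro ⟨y, hy⟩
          rw [Subsingleton.elim y 0, map_zero] at hy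
          exact (hΦk z).1 hy.symm
        · intro h
          exact ⟨0, by rw [map_zero]; exact ((hΦk z).2 h).symm⟩
    · have := hδ g _ (hΦg g z hz)
      rwa [neg_zero, add_zero] at this

end Groth.Agent.GrLib8
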