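import Groth.Agent.LC.Depth
import Groth.Agent.LC.DepthExt
import Groth.Prelude.Def_CAlg
import Mathlib.Algebra.Homology.ShortComplex.ModuleCat
import Mathlib.RingTheory.FiniteLength

/-!
# The acyclicity lemma
-/

set_option autoImplicit false
set_option linter.style.haveILetI false

universe u

open CategoryTheory Limits

namespace Groth.Agent.GrLib8.Acyclicity

variable {R : Type u} [CommRing R] [IsNoetherianRing R]

/-- `Ext^n(F, M)` vanishes for `n < r`. -/
def P (F : ModuleCat.{u} R) (r : ℕ) (M : Type u) [AddCommGroup M] [Module R M] : Prop :=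
  ∀ n < r, Subsingleton (Abelian.Ext F (ModuleCat.of R M) n)

variable {F : ModuleCat.{u} R} {r : ℕ}

/-- The short complex of a pair of linear maps. -/
noncomputable abbrev seqOf {L M N : Type u} [AddCommGroup L] [Module R L] [AddCommGroup M] [Module R M]
    [AddCommGroup N] [Module R N] (f : L →ₗ[R] M) (g : M →ₗ[R] N) (h : Function.Exact f g) :
    ShortComplex (ModuleCat.{u} R) :=
  ShortComplex.mk (ModuleCat.ofHom f) (ModuleCat.ofHom g) (by ext x; exact h.apply_apply_eq_zero x)

theorem seqOf_shortExact {L M N : Type u} [AddCommGroup L] [Module R L] [AddCommGroup M] [Module R M]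
    [AddCommGroup N] [Module R N] (f : L →ₗ[R] M) (g : M →ₗ[R] N) (h : Function.Exact f g)
    (hf : Function.Injective f) (hg : Function.Surjective g) : (seqOf f g h).ShortExact where
  exact := (ShortComplex.ShortExact.moduleCat_exact_iff_function_exact _).2 h
  mono_f := (ModuleCat.mono_iff_injective _).2 hf
  epi_g := (ModuleCat.epi_iff_surjective _).2 hg

theorem P_of_subsingleton (M : Type u) [AddCommGroup M] [Module R M] [Subsingleton M] : P F r M := fun n _ => by
  refine subsingleton_of_forall_eq 0 fun x => ?_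
  have h : 𝟙 (ModuleCat.of R M) = 0 := by ext z; exact Subsingleton.elim _ _
  rw [← Abelian.Ext.comp_mk₀_id x, h, Abelian.Ext.mk₀_zero, Abelian.Ext.comp_zero]

theorem P_equiv {M N : Type u} [AddCommGroup M] [Module R M] [AddCommGroup N] [Module R N] (e : M ≃ₗ[R] N)
    (h : P F r M) : P F r N := fun n hn => by
  refine subsingleton_of_forall_eq 0 fun x => ?_
  rw [← Abelian.Ext.comp_mk₀_id x, ← e.toModuleIso.inv_hom_id, ← Abelian.Ext.mk₀_comp_mk₀,
    ← Abelian.Ext.comp_assoc_of_second_deg_zero, (h n hn).elim (x.comp (Abelian.Ext.mk₀ e.toModuleIso.inv) (add_zero n)) 0,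
    Abelian.Ext.zero_comp]

theorem P_free (h : P F r R) (M : Type u) [AddCommGroup M] [Module R M] [Module.Free R M] [Module.Finite R M] :
    P F r M := fun n hn => by
  classical
  refine subsingleton_of_forall_eq 0 fun x => ?_
  let b := Module.Free.chooseBasis R M
  have hid : 𝟙 (ModuleCat.of R M) = ∑ t, ModuleCat.ofHom (b.coord t) ≫ ModuleCat.ofHom (LinearMap.toSpanSingleton R M (b t)) := by
    ext z
    simp only [ModuleCat.hom_id, LinearMap.id_coe, id_eq, ModuleCat.hom_sum, ModuleCat.hom_comp, ModuleCat.hom_ofHom,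
      LinearMap.coe_sum, Finset.sum_apply, LinearMap.coe_comp, Function.comp_apply, LinearMap.toSpanSingleton_apply,
      Module.Basis.coord_apply]
    exact (b.sum_repr z).symm
  rw [← Abelian.Ext.comp_mk₀_id x, hid, Abelian.Ext.mk₀_sum, Abelian.Ext.comp_sum]
  refine Finset.sum_eq_zero fun t _ => ?_
  rw [← Abelian.Ext.mk₀_comp_mk₀, ← Abelian.Ext.comp_assoc_of_second_deg_zero,
    (h n hn).elim (x.comp (Abelian.Ext.mk₀ (ModuleCat.ofHom (b.coord t))) (add_zero n)) 0, Abelian.Ext.zero_comp]

theorem P_range {M N : Type u} [AddCommGroup M] [Module R M] [AddCommGroup N] [Module R N] (f : M →ₗ[R] N)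
    (hk : P F (r + 1) (LinearMap.ker f)) (hM : P F r M) : P F r (LinearMap.range f) := fun n hn => by
  have hex : Function.Exact (LinearMap.ker f).subtype f.rangeRestrict := by
    rw [LinearMap.exact_iff, LinearMap.ker_rangeRestrict, Submodule.range_subtype]
  exact LC.ext_subsingleton_X₃ (seqOf_shortExact _ _ hex Subtype.val_injective f.surjective_rangeRestrict) F n
    (hM n hn) (hk (n + 1) (by omega))

variable [IsLocalRing R]

open IsLocalRing in
theorem subsingleton_of_P_one (H : Type u) [AddCommGroup H] [Module R H] (hfl : IsFiniteLength R H)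
    (h : P (ModuleCat.of R (R ⧸ maximalIdeal R)) 1 H) : Subsingleton H := by
  by_contra hne
  rw [not_subsingleton_iff_nontrivial] at hne
  haveI : IsArtinian R H := (isFiniteLength_iff_isNoetherian_isArtinian.1 hfl).2
  obtain ⟨S, hS⟩ := IsAtomic.exists_atom (Submodule R H)
  haveI : IsSimpleModule R S := isSimpleModule_iff_isAtom.2 hS
  obtain ⟨I, hI, ⟨e⟩⟩ := isSimpleModule_iff_quot_maximal.1 ‹IsSimpleModule R S›
  obtain rfl := IsLocalRing.eq_maximalIdeal hI
  let φ : ModuleCat.of R (R ⧸ maximalIdeal R) ⟶ ModuleCat.of R H := ModuleCat.ofHom (S.subtype.comp e.symm.toLinearMap)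
  haveI := h 0 Nat.one_pos
  have hφ : φ = 0 := Abelian.Ext.addEquiv₀.symm.injective (Subsingleton.elim _ _)
  have h1 : (e.symm (Ideal.Quotient.mk _ 1) : H) = 0 := congrArg (fun g => g.hom (Ideal.Quotient.mk _ 1)) hφ
  have h2 : (Ideal.Quotient.mk (maximalIdeal R) 1) = 0 := e.symm.injective (by
    rw [map_zero]; exact Subtype.ext h1)
  rw [map_one] at h2
  exact one_ne_zero h2

theorem homology_eq_zero (g : ℕ) (hg : P (ModuleCat.of R (R ⧸ IsLocalRing.maximalIdeal R)) g R)
    (K : CochainComplex (ModuleCat.{u} R) ℕ) (hfree : ∀ i, Module.Free R (K.X i) ∧ Module.Finite R (K.X i))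
    (hfl : ∀ i, IsFiniteLength R (K.homology i)) : ∀ i < g, IsZero (K.homology i) := by
  let F := ModuleCat.of R (R ⧸ IsLocalRing.maximalIdeal R)
  let Z : ∀ j, Submodule R (K.X j) := fun j => LinearMap.ker (K.d j (j + 1)).hom
  let B : ∀ j, Submodule R (K.X (j + 1)) := fun j => LinearMap.range (K.d j (j + 1)).hom
  have hX : ∀ (r : ℕ), r ≤ g → ∀ j, P F r (K.X j) := fun r hr j => by
    haveI := (hfree j).1
    haveI := (hfree j).2
    exact fun n hn => P_free hg _ n (by omega)
  have hBZ : ∀ j, B j ≤ Z (j + 1) := fun j => by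
    rintro _ ⟨x, rfl⟩
    exact ConcreteCategory.congr_hom (K.d_comp_d j (j + 1) (j + 1 + 1)) x
  have h0 : 0 < g → Z 0 = ⊥ := fun hg0 => by
    let S := (K.sc' 0 0 1)
    have hiso : Nonempty (K.homology 0 ≅ ModuleCat.of R (LinearMap.ker (K.d 0 1).hom)) := by
      refine ⟨(HomologicalComplex.homologyIsoSc' K 0 0 1 (by simp) (by simp)) ≪≫ S.moduleCatHomologyIso ≪≫
        (Submodule.quotEquivOfEqBot _ (LinearMap.range_eq_bot.2 (LinearMap.ext fun x => Subtype.ext ?_))).toModuleIso⟩
      show (K.d 0 0).hom x = 0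
      rw [K.shape 0 0 (by simp)]
      rfl
    obtain ⟨e⟩ := hiso
    have : Subsingleton (Z 0) := subsingleton_of_P_one _ (e.toLinearEquiv.isFiniteLength (hfl 0)) fun n hn => by
      obtain rfl : n = 0 := by omega
      haveI : Mono (ModuleCat.ofHom (Z 0).subtype) := (ModuleCat.mono_iff_injective _).2 Subtype.val_injective
      exact LC.ext_zero_subsingleton_of_injective (Y := ModuleCat.of R (K.X 0)) _ (ModuleCat.ofHom (Z 0).subtype)
        (hX 1 hg0 0 0 Nat.one_pos)
    exact Submodule.eq_bot_of_subsingleton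
  -- the invariant
  have key : ∀ i, i < g → (∀ j, j < i → Z (j + 1) ≤ B j) ∧ (∀ j, j < i → P F (g - j) (B j)) := by
    intro i
    induction i with
    | zero => exact fun _ => ⟨fun j hj => absurd hj (Nat.not_lt_zero _), fun j hj => absurd hj (Nat.not_lt_zero _)⟩
    | succ i ih =>
      intro hi
      obtain ⟨hZ, hP⟩ := ih (by omega)
      have hPB : P F (g - i) (B i) := by
        refine P_range _ ?_ (hX (g - i) (by omega) i)
        cases i with
        | zero =>
          haveI : Subsingleton (LinearMap.ker (K.d 0 (0 + 1)).hom) :=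
            Submodule.subsingleton_iff_eq_bot.2 (h0 (by omega))
          exact P_of_subsingleton _
        | succ j =>
          have he : Z (j + 1) = B j := le_antisymm (hZ j (by omega)) (hBZ j)
          refine P_equiv (LinearEquiv.ofEq _ _ he.symm) ?_
          rw [show g - (j + 1) + 1 = g - j by omega]
          exact hP j (by omega)
      have hP' : ∀ j, j < i + 1 → P F (g - j) (B j) := fun j hj => by
        rcases Nat.lt_succ_iff_lt_or_eq.1 hj with h | rfl
        exacts [hP j h, hPB]
      refine ⟨fun j hj => ?_, hP'⟩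
      rcases Nat.lt_succ_iff_lt_or_eq.1 hj with h | rfl
      · exact hZ j h
      · -- `H^{j+1} = 0`
        let ι := Submodule.inclusion (hBZ j)
        have hex : Function.Exact ι (LinearMap.range ι).mkQ := LinearMap.exact_map_mkQ_range ι
        have hPH : P F 1 (↥(Z (j + 1)) ⧸ LinearMap.range ι) := fun n hn => by
          obtain rfl : n = 0 := by omega
          refine LC.ext_subsingleton_X₃ (seqOf_shortExact _ _ hex (Submodule.inclusion_injective _)
            (Submodule.mkQ_surjective _)) F 0 ?_ (hPB 1 (by omega))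
          haveI : Mono (ModuleCat.ofHom (Z (j + 1)).subtype) := (ModuleCat.mono_iff_injective _).2 Subtype.val_injective
          exact LC.ext_zero_subsingleton_of_injective (Y := ModuleCat.of R (K.X (j + 1))) _
            (ModuleCat.ofHom (Z (j + 1)).subtype) (hX 1 (by omega) (j + 1) 0 Nat.one_pos)
        let S := (K.sc' j (j + 1) (j + 1 + 1))
        have hr : LinearMap.range S.moduleCatToCycles = LinearMap.range ι := by
          ext z
          constructor
          · rintro ⟨x, rfl⟩; exact ⟨⟨_, x, rfl⟩, Subtype.ext rfl⟩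
          · rintro ⟨⟨_, x, rfl⟩, rfl⟩; exact ⟨x, Subtype.ext rfl⟩
        have e : K.homology (j + 1) ≅ ModuleCat.of R (↥(Z (j + 1)) ⧸ LinearMap.range ι) :=
          (HomologicalComplex.homologyIsoSc' K j (j + 1) (j + 1 + 1) (by simp) (by simp)) ≪≫ S.moduleCatHomologyIso ≪≫
            (Submodule.quotEquivOfEq _ _ hr).toModuleIso
        haveI := subsingleton_of_P_one _ (e.toLinearEquiv.isFiniteLength (hfl (j + 1))) hPH
        intro z hz
        obtain ⟨⟨w, hw⟩, h⟩ : (⟨z, hz⟩ : Z (j + 1)) ∈ LinearMap.range ι :=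
          (Submodule.Quotient.mk_eq_zero _).1 (Subsingleton.elim _ _)
        have h' : w = z := congrArg Subtype.val h
        exact h' ▸ hw
  intro i hi
  rw [← HomologicalComplex.exactAt_iff_isZero_homology]
  cases i with
  | zero =>
    rw [HomologicalComplex.exactAt_iff' K 0 0 1 (by simp) (by simp), ShortComplex.moduleCat_exact_iff]
    intro x hx
    exact ⟨0, by rw [map_zero]; exact ((Submodule.mem_bot R).1 ((h0 hi).le hx)).symm⟩
  | succ j =>
    rw [HomologicalComplex.exactAt_iff' K j (j + 1) (j + 1 + 1) (by simp) (by simp), ShortComplex.moduleCat_exact_iff]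
    intro x hx
    exact (key (j + 1) hi).1 j (Nat.lt_succ_self j) hx

end Groth.Agent.GrLib8.Acyclicity
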