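import Groth.Agent.GrLib8.FaltingsDual.Rows
import Groth.Agent.GrLib8.ProZ.Support
import Groth.Agent.LC.Pointwise
import Groth.Agent.LC.Depth
import Groth.Agent.S0329

/-!
# Local cohomology for ideals with the same trace on a closed set
-/

set_option autoImplicit false
set_option linter.style.haveILetI false

universe u

open CategoryTheory IsLocalRing

namespace Groth.Agent.GrLib8.AlgLC

variable {A : Type u} [CommRing A] [IsNoetherianRing A] {M : Type u} [AddCommGroup M] [Module A M] [Module.Finite A M]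

/-- A chain of length the difference of a codimension function. -/
theorem le_krullDim_Icc {n : PrimeSpectrum A → ℤ} (hcov : ∀ p q : PrimeSpectrum A, p ⋖ q → n q = n p + 1)
    (hmono : StrictMono n) (q : PrimeSpectrum A) :
    ∀ (δ : ℕ) (p : PrimeSpectrum A), p ≤ q → n q - n p = δ →
      ∃ l : LTSeries (PrimeSpectrum A), l.head = p ∧ l.last = q ∧ l.length = δ := by
  intro δ
  induction δ with
  | zero =>
    intro p hpq h
    rcases hpq.eq_or_lt with rfl | hlt
    · exact ⟨RelSeries.singleton _ p, rfl, rfl, rfl⟩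
    · have := hmono hlt
      omega
  | succ δ ih =>
    intro p hpq h
    have hlt : p < q := lt_of_le_of_ne hpq fun e => by subst e; omega
    classical
    have hex : ∃ k : ℕ, ∃ x, p < x ∧ x ≤ q ∧ n x - n p = k := ⟨δ + 1, q, hlt, le_rfl, by exact_mod_cast h⟩
    obtain ⟨x, hpx, hxq, hx⟩ := Nat.find_spec hex
    have hc : p ⋖ x := ⟨hpx, fun z hz1 hz2 => by
      have h1 := hmono hz1
      have h2 := hmono hz2
      have h3 := Nat.find_min' hex ⟨z, hz1, hz2.le.trans hxq, (Int.toNat_of_nonneg (show 0 ≤ n z - n p by omega)).symm⟩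
      omega⟩
    have h1 := hcov _ _ hc
    obtain ⟨l, hh, hl, hlen⟩ := ih x hxq (by omega)
    exact ⟨l.cons p (show p < l.head by rw [hh]; exact hpx), RelSeries.head_cons _ _ _, by rw [RelSeries.last_cons, hl],
      by rw [RelSeries.cons_length, hlen]⟩

theorem natCast_le_krullDim_Icc {n : PrimeSpectrum A → ℤ} (hcov : ∀ p q : PrimeSpectrum A, p ⋖ q → n q = n p + 1)
    (hmono : StrictMono n) {p q : PrimeSpectrum A} (hpq : p ≤ q) {δ : ℕ} (h : n q - n p = δ) :
    ((δ : ℕ∞) : WithBot ℕ∞) ≤ Order.krullDim (Set.Icc p q) := by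
  obtain ⟨l, hh, hl, hlen⟩ := le_krullDim_Icc hcov hmono q δ p hpq h
  let l' : LTSeries (Set.Icc p q) :=
    { length := l.length
      toFun := fun i => ⟨l i, hh ▸ l.head_le i, hl ▸ l.monotone (Fin.le_last i)⟩
      step := fun i => l.step i }
  refine le_trans (le_of_eq ?_) (Order.LTSeries.length_le_krullDim l')
  show ((δ : ℕ∞) : WithBot ℕ∞) = (l.length : WithBot ℕ∞)
  rw [hlen]
  rfl

variable (I J : Ideal A) (T : Set (PrimeSpectrum A)) (s d : ℕ)

/-- The primes whose closure meets `V(I)` inside `V(J)`. -/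
def IsTrace : Prop := ∀ p : PrimeSpectrum A, p ∈ T ↔ ∀ q : PrimeSpectrum A, p ≤ q → I ≤ q.asIdeal → J ≤ q.asIdeal

/-- Every prime of the trace off `V(I)` is close to the intersection. -/
def H3 : Prop := ∀ p : PrimeSpectrum A, ¬ I ≤ p.asIdeal → p ∈ T → ∃ q : PrimeSpectrum A,
  p ≤ q ∧ J ≤ q.asIdeal ∧ I ≤ q.asIdeal ∧ Formal2.dimBetween A p.asIdeal q.asIdeal ≤ ((d : ℕ∞) : WithBot ℕ∞)

/-- The depth condition off the trace. -/
def H4 (M : Type u) [AddCommGroup M] [Module A M] : Prop :=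
  ∀ p : PrimeSpectrum A, ¬ I ≤ p.asIdeal → p ∉ T → ∀ q : PrimeSpectrum A, p ≤ q → J ≤ q.asIdeal → I ≤ q.asIdeal →
    (s : ℕ∞) ≤ LocCoh.depth (Localization.AtPrime p.asIdeal) (LocalizedModule p.asIdeal.primeCompl M) ∨
      (((d + s : ℕ) : ℕ∞) : WithBot ℕ∞) < ((LocCoh.depth (Localization.AtPrime p.asIdeal)
        (LocalizedModule p.asIdeal.primeCompl M) : ℕ∞) : WithBot ℕ∞) + Formal2.dimBetween A p.asIdeal q.asIdeal

variable {I J T s d}

theorem IsTrace.stable (hT : IsTrace I J T) : StableUnderSpecialization T := fun p q h hp =>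
  (hT q).2 fun r hr hI => (hT p).1 hp r (((PrimeSpectrum.le_iff_specializes p q).2 h).trans hr) hI

theorem zeroLocus_subset_of_stable (hT : StableUnderSpecialization T) {p : PrimeSpectrum A} (hp : p ∈ T) :
    PrimeSpectrum.zeroLocus (p.asIdeal : Set A) ⊆ T := fun x hx =>
  hT ((PrimeSpectrum.le_iff_specializes p x).1 hx) hp

/-- An ideal with the same trace has its zero locus in the trace set. -/
theorem subset_of_trace (hT : IsTrace I J T) {J' : Ideal A}
    (h : PrimeSpectrum.zeroLocus ((J' : Ideal A) : Set A) ∩ PrimeSpectrum.zeroLocus ((I : Ideal A) : Set A) ⊆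
      PrimeSpectrum.zeroLocus ((J : Ideal A) : Set A) ∩ PrimeSpectrum.zeroLocus ((I : Ideal A) : Set A)) :
    PrimeSpectrum.zeroLocus (J' : Set A) ⊆ T := fun p hp =>
  (hT p).2 fun _ hpq hI => (h ⟨fun _ hx => hpq (hp hx), hI⟩).1

theorem cond_off (hA : ∃ ω : Dual.D A, Dual.IsDualizing A ω) (hT : IsTrace I J T) (h3 : H3 I J T d)
    (h4 : H4 I J T s d M) (p : PrimeSpectrum A) (hpI : ¬ I ≤ p.asIdeal) (hpT : p ∉ T) :
    FaltingsDual.Cond T s M p := by
  obtain ⟨ω, hω⟩ := hA
  obtain ⟨n, -, hcov, hmono, -⟩ := KFlatLib.exists_extDegree hω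
  intro q hq hpq
  obtain ⟨δ, hδ, hδn⟩ := ProZ.exists_dim_eq hcov hmono p q hpq
  have hpos : 1 ≤ δ := by
    have := hmono (lt_of_le_of_ne hpq fun e => hpT (by rw [e]; exact hq))
    omega
  refine lt_of_lt_of_le ?_ (add_le_add le_rfl (natCast_le_krullDim_Icc hcov hmono hpq hδn.symm))
  obtain ⟨q', hqq', hJ, hI, δ', hd', hδ', hle⟩ : ∃ q' : PrimeSpectrum A, q ≤ q' ∧ J ≤ q'.asIdeal ∧ I ≤ q'.asIdeal ∧
      ∃ δ' : ℕ, δ' ≤ d + δ ∧ Formal2.dimBetween A p.asIdeal q'.asIdeal = ((δ' : ℕ∞) : WithBot ℕ∞) ∧ δ ≤ δ' := by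
    by_cases hqI : I ≤ q.asIdeal
    · exact ⟨q, le_rfl, (hT q).1 hq q le_rfl hqI, hqI, δ, by omega, hδ, le_rfl⟩
    · obtain ⟨q', hqq', hJ, hI, hdim⟩ := h3 q hqI hq
      obtain ⟨a, ha, han⟩ := ProZ.exists_dim_eq hcov hmono q q' hqq'
      obtain ⟨b, hb, hbn⟩ := ProZ.exists_dim_eq hcov hmono p q' (hpq.trans hqq')
      rw [ha] at hdim
      have : a ≤ d := by exact_mod_cast hdim
      exact ⟨q', hqq', hJ, hI, b, by omega, hb, by omega⟩
  rcases h4 p hpI hpT q' (hpq.trans hqq') hJ hI with h | h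
  · generalize LocCoh.depth (Localization.AtPrime p.asIdeal) (LocalizedModule p.asIdeal.primeCompl M) = x at h ⊢
    induction x using ENat.recTopCoe with
    | top =>
      rw [← WithBot.coe_add, top_add]
      exact WithBot.coe_lt_coe.2 (ENat.natCast_lt_top s)
    | coe x =>
      have : s ≤ x := by exact_mod_cast h
      exact_mod_cast (show s < x + δ by omega)
  · rw [hδ'] at h
    generalize LocCoh.depth (Localization.AtPrime p.asIdeal) (LocalizedModule p.asIdeal.primeCompl M) = x at h ⊢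
    induction x using ENat.recTopCoe with
    | top =>
      rw [← WithBot.coe_add, top_add]
      exact WithBot.coe_lt_coe.2 (ENat.natCast_lt_top s)
    | coe x =>
      have : d + s < x + δ' := by exact_mod_cast h
      exact_mod_cast (show s < x + δ by omega)

/-- Depth beyond the bound kills the punctual local cohomology. -/
theorem subsingleton_of_depth {p : PrimeSpectrum A}
    (h : (s : ℕ∞) < LocCoh.depth (Localization.AtPrime p.asIdeal) (LocalizedModule p.asIdeal.primeCompl M))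
    (j : ℕ) (hj : j ≤ s) :
    Subsingleton (LocCoh.H (maximalIdeal (Localization.AtPrime p.asIdeal)) j
      (LocalizedModule p.asIdeal.primeCompl M)) := by
  haveI : IsNoetherianRing (Localization.AtPrime p.asIdeal) :=
    IsLocalization.isNoetherianRing p.asIdeal.primeCompl _ inferInstance
  haveI : Module.Finite (Localization.AtPrime p.asIdeal) (LocalizedModule p.asIdeal.primeCompl M) :=
    Module.Finite.of_isLocalizedModule p.asIdeal.primeCompl (LocalizedModule.mkLinearMap p.asIdeal.primeCompl M)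
  refine (LC.le_idealDepth_iff_H (maximalIdeal (Localization.AtPrime p.asIdeal)) _ (s + 1)).1 ?_ j (by omega)
  rw [Nat.cast_add, Nat.cast_one, ENat.add_one_le_iff (ENat.natCast_ne_top s)]
  exact h

theorem cond_self {s : ℕ} {p : PrimeSpectrum A} {S : Set (PrimeSpectrum A)} (hp : p ∈ S)
    (h : FaltingsDual.Cond S s M p) :
    (s : ℕ∞) < LocCoh.depth (Localization.AtPrime p.asIdeal) (LocalizedModule p.asIdeal.primeCompl M) := by
  have h1 := h p hp le_rfl
  haveI : Unique (Set.Icc p p) :=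
    ⟨⟨⟨p, le_rfl, le_rfl⟩⟩, fun x => Subtype.ext (le_antisymm x.2.2 x.2.1)⟩
  rw [Order.krullDim_eq_zero, add_zero] at h1
  exact WithBot.coe_lt_coe.1 h1

theorem cond_of_depth {s : ℕ} {p : PrimeSpectrum A} {S : Set (PrimeSpectrum A)}
    (h : (s : ℕ∞) < LocCoh.depth (Localization.AtPrime p.asIdeal) (LocalizedModule p.asIdeal.primeCompl M)) :
    FaltingsDual.Cond S s M p := by
  intro q _ hpq
  haveI : Nonempty (Set.Icc p q) := ⟨⟨p, le_rfl, hpq⟩⟩
  exact lt_of_lt_of_le (WithBot.coe_lt_coe.2 h) (le_add_of_nonneg_right Order.krullDim_nonneg)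

/-- The comparison maps are bijective when the primes in between are deep. -/
theorem bijective_of_depth {a b : Ideal A} (h : a ≤ b)
    (hd : ∀ p : PrimeSpectrum A, a ≤ p.asIdeal → ¬ b ≤ p.asIdeal →
      (s : ℕ∞) < LocCoh.depth (Localization.AtPrime p.asIdeal) (LocalizedModule p.asIdeal.primeCompl M))
    (i : ℕ) (hi : i ≤ s) : Function.Bijective ((Dual2.HmapOfLE h i).app (ModuleCat.of A M)).hom :=
  ⟨(LC.HmapOfLE_surjective_injective a b h M i).2 fun p hp hq j hj => subsingleton_of_depth (hd p hp hq) j (by omega),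
    (LC.HmapOfLE_surjective_injective a b h M i).1 fun p hp hq => subsingleton_of_depth (hd p hp hq) i hi⟩

/-- A single ideal controlling the local cohomology of every ideal with the same trace. -/
theorem exists_main (hA : ∃ ω : Dual.D A, Dual.IsDualizing A ω) (hT : IsTrace I J T) (h3 : H3 I J T d)
    (h4 : H4 I J T s d M) :
    ∃ J₀ : Ideal A, J₀ ≤ J ∧
      PrimeSpectrum.zeroLocus ((J₀ : Ideal A) : Set A) ∩ PrimeSpectrum.zeroLocus ((I : Ideal A) : Set A) =
        PrimeSpectrum.zeroLocus ((J : Ideal A) : Set A) ∩ PrimeSpectrum.zeroLocus ((I : Ideal A) : Set A) ∧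
      (∀ p : PrimeSpectrum A, p ∈ T → ¬ J₀ ≤ p.asIdeal →
        (s : ℕ∞) < LocCoh.depth (Localization.AtPrime p.asIdeal) (LocalizedModule p.asIdeal.primeCompl M)) ∧
      ∃ n : ℕ, ∀ a ∈ (J₀ * I) ^ n, ∀ i : ℕ, i ≤ s → ∀ x : LocCoh.H J₀ i M, a • x = 0 := by
  classical
  have hst := hT.stable
  have hst' : StableUnderSpecialization (T ∪ PrimeSpectrum.zeroLocus (I : Set A)) :=
    fun p q h hp => hp.elim (fun hp => Or.inl (hst h hp))
      (fun hp => Or.inr ((PrimeSpectrum.isClosed_zeroLocus _).stableUnderSpecialization h hp))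
  obtain ⟨K, hK, hk⟩ := FaltingsDual.exists_kill_of_cond hA T _ hst' s M fun p hp =>
    cond_off hA hT h3 h4 p (fun h => hp (Or.inr h)) (fun h => hp (Or.inl h))
  let S := (Ideal.finite_minimalPrimes_of_isNoetherianRing A K).toFinset.filter fun P => ¬ I ≤ P
  let J₁ : Ideal A := ∏ P ∈ S, P
  have hJ₁ : PrimeSpectrum.zeroLocus (J₁ : Set A) ⊆ T := by
    intro p hp
    obtain ⟨P, hP, hle⟩ := (p.isPrime.prod_le).1 (show ∏ P ∈ S, P ≤ p.asIdeal from hp)
    obtain ⟨hP1, hP2⟩ := Finset.mem_filter.1 hP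
    have hPm := (Ideal.finite_minimalPrimes_of_isNoetherianRing A K).mem_toFinset.1 hP1
    have hPT : (⟨P, hPm.1.1⟩ : PrimeSpectrum A) ∈ T :=
      (hK (show K ≤ P from hPm.1.2)).resolve_right hP2
    exact zeroLocus_subset_of_stable hst hPT hle
  have hrad : J₁ * I ≤ K.radical := by
    rw [← Ideal.sInf_minimalPrimes]
    refine le_sInf fun P hP => ?_
    by_cases hIP : I ≤ P
    · exact Ideal.mul_le_right.trans hIP
    · refine Ideal.mul_le_left.trans (Ideal.le_of_dvd (Finset.dvd_prod_of_mem _ ?_))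
      exact Finset.mem_filter.2 ⟨(Ideal.finite_minimalPrimes_of_isNoetherianRing A K).mem_toFinset.2 hP, hIP⟩
  obtain ⟨N, hN⟩ := Ideal.exists_pow_le_of_le_radical_of_fg hrad (IsNoetherian.noetherian _)
  have hsub : PrimeSpectrum.zeroLocus ((J₁ * J : Ideal A) : Set A) ∩ PrimeSpectrum.zeroLocus ((I : Ideal A) : Set A) =
      PrimeSpectrum.zeroLocus ((J : Ideal A) : Set A) ∩ PrimeSpectrum.zeroLocus ((I : Ideal A) : Set A) := by
    rw [PrimeSpectrum.zeroLocus_mul, Set.union_inter_distrib_right, Set.union_eq_right]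
    exact fun p hp => ⟨(hT p).1 (hJ₁ hp.1) p le_rfl hp.2, hp.2⟩
  refine ⟨J₁ * J, Ideal.mul_le_right, hsub, fun p hp hnot => ?_, N, fun a ha i hi x => ?_⟩
  · have hKp : ¬ K ≤ p.asIdeal := fun h => by
      have hle : J₁ * I ≤ p.asIdeal := hrad.trans (p.isPrime.radical_le_iff.2 h)
      rcases p.isPrime.mul_le.1 hle with h1 | h1
      · exact hnot (Ideal.mul_le_left.trans h1)
      · exact hnot (Ideal.mul_le_right.trans ((hT p).1 hp p le_rfl h1))
    refine cond_self hp (FaltingsDual.cond_of_kill T (PrimeSpectrum.zeroLocus (K : Set A)) hst s M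
      subset_rfl (fun i hi a ha x => ?_) p hKp)
    exact FaltingsDual.HT_kill_of_forall i (ModuleCat.of A M) a (fun b hb z => hk b hb i hi a ha z) x
  · exact hk (J₁ * J) (subset_of_trace hT hsub.subset) i hi a
      (hN (Ideal.pow_right_mono (Ideal.mul_mono Ideal.mul_le_left le_rfl) N ha)) x

/-- The comparisons below the controlling ideal are bijective. -/
theorem bijective_of_le (hT : IsTrace I J T) {J₀ J' : Ideal A} (hle : J' ≤ J₀)
    (hd : ∀ p : PrimeSpectrum A, p ∈ T → ¬ J₀ ≤ p.asIdeal →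
      (s : ℕ∞) < LocCoh.depth (Localization.AtPrime p.asIdeal) (LocalizedModule p.asIdeal.primeCompl M))
    (h : PrimeSpectrum.zeroLocus ((J' : Ideal A) : Set A) ∩ PrimeSpectrum.zeroLocus ((I : Ideal A) : Set A) =
        PrimeSpectrum.zeroLocus ((J : Ideal A) : Set A) ∩ PrimeSpectrum.zeroLocus ((I : Ideal A) : Set A))
    (i : ℕ) (hi : i ≤ s) : Function.Bijective ((Dual2.HmapOfLE hle i).app (ModuleCat.of A M)).hom :=
  bijective_of_depth hle (fun p hp hq => hd p (subset_of_trace hT h.subset hp) hq) i hi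

/-- Finiteness under the condition on `V(I)`. -/
theorem finite_H (hA : ∃ ω : Dual.D A, Dual.IsDualizing A ω) (hT : IsTrace I J T) (h3 : H3 I J T d)
    (h4 : H4 I J T s d M) (h2 : ∀ p : PrimeSpectrum A, I ≤ p.asIdeal → ¬ J ≤ p.asIdeal → ∀ q : PrimeSpectrum A,
      p ≤ q → J ≤ q.asIdeal → I ≤ q.asIdeal → ((s : ℕ∞) : WithBot ℕ∞) < ((LocCoh.depth (Localization.AtPrime p.asIdeal)
        (LocalizedModule p.asIdeal.primeCompl M) : ℕ∞) : WithBot ℕ∞) + Formal2.dimBetween A p.asIdeal q.asIdeal)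
    {J₀ : Ideal A}
    (h : PrimeSpectrum.zeroLocus ((J₀ : Ideal A) : Set A) ∩ PrimeSpectrum.zeroLocus ((I : Ideal A) : Set A) =
        PrimeSpectrum.zeroLocus ((J : Ideal A) : Set A) ∩ PrimeSpectrum.zeroLocus ((I : Ideal A) : Set A))
    (hd : ∀ p : PrimeSpectrum A, p ∈ T → ¬ J₀ ≤ p.asIdeal →
      (s : ℕ∞) < LocCoh.depth (Localization.AtPrime p.asIdeal) (LocalizedModule p.asIdeal.primeCompl M)) :
    ∀ i : ℕ, i ≤ s → Module.Finite A (LocCoh.H J₀ i M) := by
  have hsub := subset_of_trace hT h.subset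
  obtain ⟨ω, hω⟩ := hA
  obtain ⟨n, -, hcov, hmono, -⟩ := KFlatLib.exists_extDegree hω
  obtain ⟨K, hK, hk⟩ := FaltingsDual.exists_kill_of_cond ⟨ω, hω⟩ (PrimeSpectrum.zeroLocus (J₀ : Set A)) _
    (PrimeSpectrum.isClosed_zeroLocus _).stableUnderSpecialization s M fun p hp => by
    by_cases hpT : p ∈ T
    · exact cond_of_depth (hd p hpT hp)
    intro q hq hpq
    by_cases hpI : I ≤ p.asIdeal
    · have hqI : I ≤ q.asIdeal := hpI.trans hpq
      have hqJ : J ≤ q.asIdeal := (h.subset ⟨hq, hqI⟩).1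
      have hpJ : ¬ J ≤ p.asIdeal := fun hJ => hp (h.superset ⟨hJ, hpI⟩).1
      obtain ⟨δ, hδ, hδn⟩ := ProZ.exists_dim_eq hcov hmono p q hpq
      have := h2 p hpI hpJ q hpq hqJ hqI
      rw [hδ] at this
      exact lt_of_lt_of_le this (add_le_add le_rfl (natCast_le_krullDim_Icc hcov hmono hpq hδn.symm))
    · exact cond_off ⟨ω, hω⟩ hT h3 h4 p hpI hpT q (hsub hq) hpq
  refine (Groth.Agent.S0329.result A J₀ M s).2 ⟨K, ?_, fun i hi a ha x => hk J₀ subset_rfl i hi a ha x⟩
  intro x hx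
  rw [← PrimeSpectrum.vanishingIdeal_zeroLocus_eq_radical, PrimeSpectrum.mem_vanishingIdeal]
  exact fun p hp => hK hp hx

/-- Under depth on the trace, the given ideal itself works. -/
theorem exists_pow_kill (hA : ∃ ω : Dual.D A, Dual.IsDualizing A ω) (hT : IsTrace I J T) (h3 : H3 I J T d)
    (h4 : H4 I J T s d M) (h6 : ∀ p : PrimeSpectrum A, ¬ I ≤ p.asIdeal → p ∈ T →
      (s : ℕ∞) < LocCoh.depth (Localization.AtPrime p.asIdeal) (LocalizedModule p.asIdeal.primeCompl M)) :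
    ∃ n : ℕ, ∀ a ∈ I ^ n, ∀ i : ℕ, i ≤ s → ∀ x : LocCoh.H J i M, a • x = 0 := by
  have hJT : PrimeSpectrum.zeroLocus (J : Set A) ⊆ T := fun p hp => (hT p).2 fun q hpq _ x hx => hpq (hp hx)
  obtain ⟨K, hK, hk⟩ := FaltingsDual.exists_kill_of_cond hA (PrimeSpectrum.zeroLocus (J : Set A))
    (PrimeSpectrum.zeroLocus (I : Set A)) (PrimeSpectrum.isClosed_zeroLocus _).stableUnderSpecialization s M
    fun p hp => by
      by_cases hpT : p ∈ T
      · exact cond_of_depth (h6 p hp hpT)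
      · exact fun q hq hpq => cond_off hA hT h3 h4 p hp hpT q (hJT hq) hpq
  have hrad : I ≤ K.radical := by
    intro x hx
    rw [← PrimeSpectrum.vanishingIdeal_zeroLocus_eq_radical, PrimeSpectrum.mem_vanishingIdeal]
    exact fun p hp => hK hp hx
  obtain ⟨N, hN⟩ := Ideal.exists_pow_le_of_le_radical_of_fg hrad (IsNoetherian.noetherian _)
  exact ⟨N, fun a ha i hi x => hk J subset_rfl i hi a (hN ha) x⟩

end Groth.Agent.GrLib8.AlgLC
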