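import Groth.Prelude.Def_GrMod3
import Mathlib.RingTheory.GradedAlgebra.Radical
import Mathlib.RingTheory.Noetherian.Basic

/-!
# The kernel of `M → Γ_*(M~)`
-/

universe u

open AlgebraicGeometry DirectSum

namespace Groth.Agent.GrLib8.AlphaKer

variable {R σ : Type u} [CommRing R] [SetLike σ R] [AddSubgroupClass σ R]
  {𝒜 : ℕ → σ} [GradedRing 𝒜] {M τ : Type u} [AddCommGroup M] [Module R M] [SetLike τ M] [AddSubgroupClass τ M]
  {ℳ : ℕ → τ} [SetLike.GradedSMul 𝒜 ℳ] [DirectSum.Decomposition ℳ]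

theorem component_smul_eq_zero {i : ℕ} (m : ℳ i) {r : R} (hr : r • (m : M) = 0) (d : ℕ) :
    (DirectSum.decompose 𝒜 r d : R) • (m : M) = 0 := by
  classical
  have hmem : ∀ e, (DirectSum.decompose 𝒜 r e : R) • (m : M) ∈ ℳ (e + i) := fun e =>
    SetLike.GradedSMul.smul_mem (SetLike.coe_mem (DirectSum.decompose 𝒜 r e)) m.2
  have h : (0 : ⨁ n, ℳ n) = ∑ e ∈ (DirectSum.decompose 𝒜 r).support,
      DirectSum.of (fun n => ℳ n) (e + i) ⟨_, hmem e⟩ := by
    apply (DirectSum.decompose ℳ).symm.injective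
    rw [DirectSum.decompose_symm_zero, DirectSum.decompose_symm_sum]
    simp only [DirectSum.decompose_symm_of]
    rw [← Finset.sum_smul, DirectSum.sum_support_decompose, hr]
  by_cases hd : d ∈ (DirectSum.decompose 𝒜 r).support
  · let ev : (⨁ n, ℳ n) →+ M :=
      (AddSubmonoidClass.subtype (ℳ (d + i))).comp (DFinsupp.evalAddMonoidHom (β := fun n => ℳ n) (d + i))
    have hev : ∀ z, ev z = ((z (d + i) : ℳ (d + i)) : M) := fun z => rfl
    have h' := congrArg ev h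
    rw [map_zero, map_sum, Finset.sum_eq_single d
      (fun e _ hne => by rw [hev, DirectSum.of_eq_of_ne _ _ _ (by omega), ZeroMemClass.coe_zero])
      (fun h => absurd hd h), hev, DirectSum.of_eq_same] at h'
    exact h'.symm
  · rw [DFinsupp.notMem_support_iff.1 hd, ZeroMemClass.coe_zero, zero_smul]

/-- The annihilator of an element. -/
def ann (m : M) : Ideal R where
  carrier := {r | r • m = 0}
  add_mem' {a b} ha hb := by show (a + b) • m = 0; rw [add_smul, show a • m = 0 from ha, show b • m = 0 from hb, add_zero]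
  zero_mem' := zero_smul R m
  smul_mem' c r hr := by show (c * r) • m = 0; rw [mul_smul, show r • m = 0 from hr, smul_zero]

theorem irrelevant_le_radical {i : ℕ} (m : ℳ i) (h : GrMod.alpha 𝒜 ℳ i m = 0) :
    (HomogeneousIdeal.irrelevant 𝒜).toIdeal ≤ (ann (R := R) (m : M)).radical := by
  rw [Ideal.radical_eq_sInf]
  refine le_sInf fun P ⟨hle, hP⟩ => ?_
  have hJ : (ann (R := R) (m : M)).IsHomogeneous 𝒜 := fun d r hr => component_smul_eq_zero m hr d
  have hcore : ann (R := R) (m : M) ≤ (P.homogeneousCore 𝒜).toIdeal :=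
    (Ideal.homogeneousCore.gc 𝒜 (⟨_, hJ⟩ : HomogeneousIdeal 𝒜) P).1 hle
  by_contra hirr
  let x : ProjectiveSpectrum 𝒜 := ⟨P.homogeneousCore 𝒜, hP.homogeneousCore, fun hh =>
    hirr (le_trans hh (Ideal.toIdeal_homogeneousCore_le _ _))⟩
  have hx : LocalizedModule.mk (m : M) 1 = (0 : GrMod.LocMod 𝒜 (M := M) x) :=
    congrArg (fun s : GrMod.sect 𝒜 ℳ (i : ℤ) (Opposite.op ⊤) =>
      ((s.1 ⟨x, trivial⟩ : GrMod.tildeAt 𝒜 ℳ (i : ℤ) x) : GrMod.LocMod 𝒜 (M := M) x)) h
  haveI := x.isPrime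
  rw [← LocalizedModule.zero_mk (R := R) (S := x.asHomogeneousIdeal.toIdeal.primeCompl) 1, LocalizedModule.mk_eq] at hx
  obtain ⟨s, hs⟩ := hx
  simp only [one_smul, smul_zero] at hs
  exact s.2 (hcore hs)

theorem alpha_eq_zero_iff [IsNoetherianRing R] {i : ℕ} (m : ℳ i) :
    GrMod.alpha 𝒜 ℳ i m = 0 ↔
      ∃ k : ℕ, ∀ r : R, r ∈ (HomogeneousIdeal.irrelevant 𝒜).toIdeal ^ k → r • (m : M) = 0 := by
  constructor
  · intro h
    obtain ⟨k, hk⟩ := Ideal.exists_pow_le_of_le_radical_of_fg (irrelevant_le_radical m h) (IsNoetherian.noetherian _)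
    exact ⟨k, fun r hr => hk hr⟩
  · rintro ⟨k, hk⟩
    refine Subtype.ext (funext fun x => Subtype.ext ?_)
    show LocalizedModule.mk (m : M) 1 = (0 : GrMod.LocMod 𝒜 (M := M) x.1)
    obtain ⟨r, hr, hrx⟩ := SetLike.not_le_iff_exists.1 x.1.not_irrelevant_le
    rw [← LocalizedModule.zero_mk (R := R) (S := x.1.asHomogeneousIdeal.toIdeal.primeCompl) 1, LocalizedModule.mk_eq]
    refine ⟨⟨r ^ k, fun hh => hrx (x.1.isPrime.mem_of_pow_mem k hh)⟩, ?_⟩
    simp only [one_smul, smul_zero]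
    exact hk _ (Ideal.pow_mem_pow hr k)

end Groth.Agent.GrLib8.AlphaKer
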