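import Mathlib.RingTheory.Artinian.Module
import Mathlib.RingTheory.HopkinsLevitzki
import Mathlib.Algebra.Module.Torsion.Basic
import Mathlib.RingTheory.KrullDimension.Zero
import Groth.Prelude.Def_GrLC
import Mathlib.RingTheory.Finiteness.Nilpotent

/-!
# Finite torsion modules over a maximal ideal
-/

set_option autoImplicit false

universe u v

namespace Groth.Agent.GrLib8

/-- A finite module killed elementwise by powers of a maximal ideal is Artinian. -/
theorem isArtinian_of_powerTorsion {S : Type u} [CommRing S] [IsNoetherianRing S] (J : Ideal S) [hJ : J.IsMaximal]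
    {N : Type v} [AddCommGroup N] [Module S N] [Module.Finite S N]
    (h : ∀ y : N, ∃ k : ℕ, ∀ r ∈ J ^ k, r • y = 0) : IsArtinian S N := by
  classical
  obtain ⟨s, hs⟩ := Module.finite_def.1 ‹Module.Finite S N›
  choose k hk using h
  let n := s.sup k
  have hann : ∀ r ∈ J ^ n, ∀ y : N, r • y = 0 := fun r hr y => by
    have hy : y ∈ Submodule.span S (s : Set N) := hs ▸ Submodule.mem_top
    induction hy using Submodule.span_induction with
    | mem y hy => exact hk y r (Ideal.pow_le_pow_right (Finset.le_sup hy) hr)
    | zero => exact smul_zero r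
    | add x y _ _ hx hy => rw [smul_add, hx, hy, add_zero]
    | smul c x _ hx => rw [smul_comm, hx, smul_zero]
  have htors : Module.IsTorsionBySet S N (J ^ n : Ideal S) := fun y r => hann r r.2 y
  letI : Module (S ⧸ J ^ n) N := htors.module
  haveI : IsScalarTower S (S ⧸ J ^ n) N := htors.isScalarTower
  haveI : Module.Finite (S ⧸ J ^ n) N := Module.Finite.of_restrictScalars_finite S _ _
  haveI : Ring.KrullDimLE 0 (S ⧸ J ^ n) := by
    refine Ring.krullDimLE_zero_iff.2 fun P hP => ?_
    haveI := hP
    have hle : J ≤ P.comap (Ideal.Quotient.mk (J ^ n)) := by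
      refine (Ideal.comap_isPrime (Ideal.Quotient.mk (J ^ n)) P).le_of_pow_le (n := n) fun r hr => ?_
      rw [Ideal.mem_comap, Ideal.Quotient.eq_zero_iff_mem.2 hr]
      exact zero_mem P
    have he := hJ.eq_of_le (Ideal.comap_isPrime _ P).ne_top hle
    haveI : (P.comap (Ideal.Quotient.mk (J ^ n))).IsMaximal := he ▸ hJ
    have h := (Ideal.map_eq_top_or_isMaximal_of_surjective (I := P.comap (Ideal.Quotient.mk (J ^ n))) _
      Ideal.Quotient.mk_surjective inferInstance).resolve_left (by
        rw [Ideal.map_comap_of_surjective _ Ideal.Quotient.mk_surjective]; exact hP.ne_top)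
    rwa [Ideal.map_comap_of_surjective _ Ideal.Quotient.mk_surjective] at h
  haveI : IsNoetherianRing (S ⧸ J ^ n) := isNoetherianRing_of_surjective S _ (Ideal.Quotient.mk (J ^ n)) Ideal.Quotient.mk_surjective
  haveI : IsArtinianRing (S ⧸ J ^ n) := IsNoetherianRing.isArtinianRing_of_krullDimLE_zero
  exact isArtinian_of_surjective_algebraMap (S := S) (R := S ⧸ J ^ n) Ideal.Quotient.mk_surjective

end Groth.Agent.GrLib8
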