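import Groth.Prelude.Def_DerCA
import Mathlib

/-!
# Inverse systems of Artinian modules with a module as limit
-/

universe u

open CategoryTheory Opposite

namespace Groth.Agent.GrLib8.ArtinSystem

variable {A : Type u} [CommRing A]

theorem exists_ess_const (X : ℕᵒᵖ ⥤ ModuleCat.{u} A) (H : ModuleCat.{u} A)
    (c : (Functor.const ℕᵒᵖ).obj H ⟶ X) [hH : IsArtinian A H] (hX : ∀ n : ℕ, IsArtinian A (X.obj (op n)))
    (hinj : ∀ x : H, (∀ n : ℕ, (c.app (op n)).hom x = 0) → x = 0)
    (hsurj : ∀ y : (∀ n : ℕ, X.obj (op n)), (∀ (n m : ℕ) (h : n ≤ m), (X.map (homOfLE h).op).hom (y m) = y n) →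
      ∃ x : H, ∀ n : ℕ, (c.app (op n)).hom x = y n) :
    DerCA.IsEssConstant X H c := by
  classical
  have hc : ∀ {n m : ℕ} (h : n ≤ m) (x : H), (ARSys.tr X h).hom ((c.app (op m)).hom x) = (c.app (op n)).hom x := by
    intro n m h x
    have := congrArg (fun f : H ⟶ X.obj (op n) => f.hom x) (c.naturality (homOfLE h).op).symm
    simpa using this
  have htr : ∀ {a b e : ℕ} (h₁ : a ≤ b) (h₂ : b ≤ e) (x : X.obj (op e)),
      (ARSys.tr X h₁).hom ((ARSys.tr X h₂).hom x) = (ARSys.tr X (h₁.trans h₂)).hom x := by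
    intro a b e h₁ h₂ x
    show ((ARSys.tr X h₂) ≫ (ARSys.tr X h₁)).hom x = _
    rw [← Functor.map_comp]
    rfl
  -- stable images
  let Im : ∀ n : ℕ, ℕ →o (Submodule A (X.obj (op n)))ᵒᵈ := fun n =>
    { toFun := fun k => OrderDual.toDual (LinearMap.range (ARSys.tr X (Nat.le_add_right n k)).hom)
      monotone' := fun a b hab => by
        rintro _ ⟨x, rfl⟩
        exact ⟨(ARSys.tr X (Nat.add_le_add_left hab n)).hom x, htr _ _ x⟩ }
  have hstab : ∀ n, ∃ N, n ≤ N ∧ ∀ m, ∀ (hN : n ≤ N) (hm : n ≤ m), N ≤ m →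
      LinearMap.range (ARSys.tr X hm).hom = LinearMap.range (ARSys.tr X hN).hom := by
    intro n
    obtain ⟨k, hk⟩ := IsArtinian.monotone_stabilizes (R := A) (M := X.obj (op n)) (Im n)
    refine ⟨n + k, Nat.le_add_right n k, fun m hN hm hle => ?_⟩
    obtain ⟨l, rfl⟩ : ∃ l, m = n + l := ⟨m - n, by omega⟩
    exact (hk l (by omega)).symm
  choose N hN hNst using hstab
  have himage : ∀ n (x : X.obj (op (N n))), ∃ h : H, (c.app (op n)).hom h = (ARSys.tr X (hN n)).hom x := by
    intro n x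
    -- the stable images form a system with surjective transition maps
    have step : ∀ (j : ℕ) (z : X.obj (op j)), (∃ w, (ARSys.tr X (hN j)).hom w = z) →
        ∃ z' : X.obj (op (j + 1)), (ARSys.tr X (Nat.le_succ j)).hom z' = z ∧ ∃ w, (ARSys.tr X (hN (j + 1))).hom w = z' := by
      rintro j z ⟨w, rfl⟩
      let m := max (N j) (N (j + 1))
      have hjm : j ≤ m := (hN j).trans (le_max_left _ _)
      have h1 : (ARSys.tr X (hN j)).hom w ∈ LinearMap.range (ARSys.tr X hjm).hom := by
        rw [hNst j m (hN j) hjm (le_max_left _ _)]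
        exact ⟨w, rfl⟩
      obtain ⟨v, hv⟩ := h1
      refine ⟨(ARSys.tr X ((hN (j + 1)).trans (le_max_right _ _) : j + 1 ≤ m)).hom v, ?_, ?_⟩
      · rw [htr, ← hv]
      · exact ⟨(ARSys.tr X (le_max_right _ _ : N (j + 1) ≤ m)).hom v, htr _ _ v⟩
    choose g hg1 hg2 using step
    let seq : ∀ k : ℕ, {z : X.obj (op (n + k)) // ∃ w, (ARSys.tr X (hN (n + k))).hom w = z} := fun k =>
      Nat.rec (motive := fun k => {z : X.obj (op (n + k)) // ∃ w, (ARSys.tr X (hN (n + k))).hom w = z})
        ⟨(ARSys.tr X (hN n)).hom x, x, rfl⟩ (fun k z => ⟨g (n + k) z.1 z.2, hg2 (n + k) z.1 z.2⟩) k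
    have hseq : ∀ k l (h : k ≤ l), (ARSys.tr X (Nat.add_le_add_left h n)).hom (seq l).1 = (seq k).1 := by
      intro k l h
      induction l, h using Nat.le_induction with
      | base => exact congrArg (fun f : X.obj (op (n + k)) ⟶ X.obj (op (n + k)) => f.hom (seq k).1) (X.map_id _)
      | succ l hl ih =>
        rw [← htr (Nat.add_le_add_left hl n) (Nat.le_succ (n + l)) (seq (l + 1)).1]
        refine Eq.trans (congrArg _ ?_) ih
        exact hg1 (n + l) (seq l).1 (seq l).2
    let y : ∀ m, X.obj (op m) := fun m => (ARSys.tr X (show m ≤ n + m by omega)).hom (seq m).1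
    obtain ⟨h, hh⟩ := hsurj y fun a b hab => by
      show (ARSys.tr X hab).hom ((ARSys.tr X _).hom (seq b).1) = (ARSys.tr X _).hom (seq a).1
      rw [htr, ← hseq a b hab, htr]
    refine ⟨h, (hh n).trans ?_⟩
    show (ARSys.tr X _).hom (seq n).1 = _
    exact hseq 0 n (Nat.zero_le n)
  -- an index where the cone is injective
  let K : ℕ →o (Submodule A H)ᵒᵈ :=
    { toFun := fun k => OrderDual.toDual (LinearMap.ker (c.app (op k)).hom)
      monotone' := fun a b hab x hx => by
        show (c.app (op a)).hom x = 0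
        rw [← hc hab x, show (c.app (op b)).hom x = 0 from hx, map_zero] }
  obtain ⟨i₀, hi₀⟩ := IsArtinian.monotone_stabilizes (R := A) (M := H) K
  have hker : Function.Injective (c.app (op i₀)).hom := by
    refine (injective_iff_map_eq_zero _).2 fun x hx => hinj x fun n => ?_
    rcases le_total n i₀ with h | h
    · rw [← hc h x, hx, map_zero]
    · have hx' : x ∈ OrderDual.ofDual (K i₀) := hx
      rw [show K i₀ = K n from hi₀ n h] at hx'
      exact hx'
  let ρ := (ARSys.tr X (hN i₀)).hom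
  let e := LinearEquiv.ofInjective (c.app (op i₀)).hom hker
  have hmem : ∀ x, ρ x ∈ LinearMap.range (c.app (op i₀)).hom := fun x => himage i₀ x
  let s : X.obj (op (N i₀)) →ₗ[A] H := e.symm.toLinearMap ∘ₗ ρ.codRestrict _ hmem
  have hs : ∀ x, (c.app (op i₀)).hom (s x) = ρ x := fun x => by
    show ((e (e.symm ⟨ρ x, hmem x⟩)) : X.obj (op i₀)) = _
    rw [LinearEquiv.apply_symm_apply]
  refine ⟨N i₀, ModuleCat.ofHom s, ModuleCat.hom_ext (LinearMap.ext fun h => hker ?_), fun j => ?_⟩
  · show (c.app (op i₀)).hom (s ((c.app (op (N i₀))).hom h)) = _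
    rw [hs]
    exact hc (hN i₀) h
  · let J := max j (N i₀)
    refine ⟨N J, (le_max_right _ _).trans (hN J), (le_max_left _ _).trans (hN J),
      ModuleCat.hom_ext (LinearMap.ext fun x => ?_)⟩
    obtain ⟨h, hh⟩ := himage J x
    show (ARSys.tr X _).hom x = (c.app (op j)).hom (s ((ARSys.tr X _).hom x))
    rw [← htr (le_max_left _ _ : j ≤ J) (hN J) x, ← htr (le_max_right _ _ : N i₀ ≤ J) (hN J) x, ← hh, hc, hc]
    congr 1
    refine hker ?_
    rw [hs]
    exact (hc (hN i₀) h).symm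

end Groth.Agent.GrLib8.ArtinSystem
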