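import Groth.Agent.GrLib8.FreeResBuild
import Mathlib.Algebra.Order.Antidiag.FinsuppEquiv
import Mathlib.RingTheory.MvPolynomial.Homogeneous

/-!
# Hilbert functions from resolutions
-/

set_option autoImplicit false
set_option linter.unusedSectionVars false

universe u

open DirectSum MvPolynomial

namespace Groth.Agent.GrLib8

variable {k : Type u} [Field k]

theorem stdGr_natCast (d : ℕ) (n : ℕ) : GrSyz.stdGr k (Fin d) (n : ℤ) = homogeneousSubmodule (Fin d) k n := by
  have hw : ∀ e : Fin d →₀ ℕ, Finsupp.weight (fun _ : Fin d => (1 : ℤ)) e = ((Finsupp.weight (1 : Fin d → ℕ) e : ℕ) : ℤ) := by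
    intro e
    rw [Finsupp.weight_apply, Finsupp.weight_apply, Finsupp.sum, Finsupp.sum]
    simp
  ext p
  rw [GrSyz.mem_stdGr_iff, mem_homogeneousSubmodule]
  exact ⟨fun h e he => Int.ofNat_inj.1 ((hw e).symm.trans (h he)), fun h e he => (hw e).trans (congrArg _ (h he))⟩

theorem stdGr_piece (r : ℕ) (t : ℤ) : Module.Finite k (GrSyz.stdGr k (Fin (r + 1)) t) ∧
    Module.finrank k (GrSyz.stdGr k (Fin (r + 1)) t) = if 0 ≤ t then Nat.choose (r + t.toNat) r else 0 := by
  classical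
  rcases lt_or_ge t 0 with ht | ht
  · have h0 : GrSyz.stdGr k (Fin (r + 1)) t = ⊥ := (Submodule.eq_bot_iff _).2 fun p hp => stdGr_nonneg k _ t ht p hp
    rw [h0, if_neg (not_le.2 ht)]
    exact ⟨inferInstance, finrank_bot k _⟩
  obtain ⟨n, rfl⟩ := Int.eq_ofNat_of_zero_le ht
  rw [stdGr_natCast, if_pos ht, Int.toNat_natCast]
  let S : Set (Fin (r + 1) →₀ ℕ) := {e | e.degree = n}
  let e : {a // a ∈ (Finset.univ : Finset (Fin (r + 1))).finsuppAntidiag n} ≃ S :=
    Equiv.subtypeEquivRight fun a => by simp [S, Finset.mem_finsuppAntidiag, Finsupp.degree_eq_sum]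
  haveI : Fintype S := Fintype.ofEquiv _ e
  let φ : homogeneousSubmodule (Fin (r + 1)) k n ≃ₗ[k] (S →₀ k) :=
    (LinearEquiv.ofEq _ _ (homogeneousSubmodule_eq_finsupp_supported (σ := Fin (r + 1)) (R := k) n)).trans
      (AddMonoidAlgebra.supportedEquivFinsupp S)
  refine ⟨Module.Finite.equiv φ.symm, ?_⟩
  rw [φ.finrank_eq, Module.finrank_finsupp_self, ← Fintype.card_congr e, Fintype.card_coe,
    Finset.card_finsuppAntidiag_nat_eq_choose, Finset.card_univ, Fintype.card_fin,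
    show r + 1 + n - 1 = r + n by omega, Nat.choose_symm_add]

/-- The degree-`g` piece of a free module. -/
noncomputable def freePiece (k : Type u) [Field k] (r : ℕ) {n : ℕ} (e : Fin n → ℤ) (g : ℤ) :
    Submodule k (Fin n → MvPolynomial (Fin (r + 1)) k) :=
  Submodule.pi Set.univ fun b => GrSyz.stdGr k (Fin (r + 1)) (g - e b)

theorem freePiece_finrank (r : ℕ) {n : ℕ} (e : Fin n → ℤ) (g : ℤ) : Module.Finite k (freePiece k r e g) ∧
    Module.finrank k (freePiece k r e g) = ∑ b, if e b ≤ g then Nat.choose (r + (g - e b).toNat) r else 0 := by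
  classical
  let φ : freePiece k r e g ≃ₗ[k] ∀ b, GrSyz.stdGr k (Fin (r + 1)) (g - e b) :=
    { toFun := fun v b => ⟨v.1 b, v.2 b trivial⟩
      map_add' := fun _ _ => rfl
      map_smul' := fun _ _ => rfl
      invFun := fun w => ⟨fun b => (w b).1, fun b _ => (w b).2⟩
      left_inv := fun _ => rfl
      right_inv := fun _ => rfl }
  haveI : ∀ b, Module.Finite k (GrSyz.stdGr k (Fin (r + 1)) (g - e b)) := fun b => (stdGr_piece r _).1
  refine ⟨Module.Finite.equiv φ.symm, ?_⟩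
  rw [φ.finrank_eq, Module.finrank_pi_fintype]
  refine Finset.sum_congr rfl fun b _ => ?_
  rw [(stdGr_piece r _).2]
  simp only [sub_nonneg]

variable {r : ℕ} {M : Type u} [AddCommGroup M] [Module k M] [Module (MvPolynomial (Fin (r + 1)) k) M]
  [IsScalarTower k (MvPolynomial (Fin (r + 1)) k) M]
  {ℳ : ℤ → Submodule k M} [Decomposition ℳ] [SetLike.GradedSMul (GrSyz.stdGr k (Fin (r + 1))) ℳ]

/-- The Hilbert function is the alternating sum over a finite resolution. -/
theorem finrank_piece_eq (F : GrSyz.FreeRes (GrSyz.stdGr k (Fin (r + 1))) ℳ) (m : ℕ) (hF : F.HasLengthLE m) (g : ℤ) :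
    (Module.finrank k (ℳ g) : ℤ) = ∑ i ∈ Finset.range (m + 1), (-1 : ℤ) ^ i *
      ∑ b : Fin (F.rk i), (if F.deg i b ≤ g then ((Nat.choose (r + (g - F.deg i b).toNat) r : ℕ) : ℤ) else 0) := by
  classical
  let 𝒜 := GrSyz.stdGr k (Fin (r + 1))
  let S := MvPolynomial (Fin (r + 1)) k
  let P : ∀ i : ℕ, Submodule k (Fin (F.rk i) → S) := fun i => freePiece k r (F.deg i) g
  have hmem : ∀ {n : ℕ} (e : Fin n → ℤ) (x : Fin n → S), x ∈ freePiece k r e g ↔ x ∈ (freeGMod (𝒜 := 𝒜) e).gr g :=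
    fun e x => Iff.rfl
  let φ : ∀ i, (freeGMod (𝒜 := 𝒜) (F.deg (i + 1))).carrier →ₗ[S] (freeGMod (𝒜 := 𝒜) (F.deg i)).carrier :=
    fun i => F.dLin i
  have hφ : ∀ i, GrLC.IsGrHomDeg (freeGMod (𝒜 := 𝒜) (F.deg (i + 1))).gr (freeGMod (𝒜 := 𝒜) (F.deg i)).gr (φ i) 0 := by
    intro i l x hx
    have h := isGrHomDeg_linComb (M := (freeGMod (𝒜 := 𝒜) (F.deg i)).carrier) (ℳ := (freeGMod (𝒜 := 𝒜) (F.deg i)).gr)
      (e := F.deg (i + 1)) (fun b a => F.d i a b) (fun b a _ => F.d_mem i a b) l x hx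
    show F.dLin i x ∈ _
    rw [GrSyz.FreeRes.dLin, mulVecLin_eq_linComb]
    exact h
  let p₀ : (freeGMod (𝒜 := 𝒜) (F.deg 0)).carrier →ₗ[S] M := F.augLin
  have hp₀ : GrLC.IsGrHomDeg (freeGMod (𝒜 := 𝒜) (F.deg 0)).gr ℳ p₀ 0 := isGrHomDeg_linComb F.aug F.aug_mem
  let A : P 0 →ₗ[k] ℳ g := (F.augLin.restrictScalars k).restrict fun x hx => by
    have := hp₀ g x hx; rwa [add_zero] at this
  let D : ∀ i, P (i + 1) →ₗ[k] P i := fun i => ((F.dLin i).restrictScalars k).restrict fun x hx => by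
    have := hφ i g x hx; rwa [add_zero] at this
  haveI : ∀ i, Module.Finite k (P i) := fun i => (freePiece_finrank r (F.deg i) g).1
  have hAs : Function.Surjective A := by
    rintro ⟨y, hy⟩
    obtain ⟨x, hx, hxy⟩ := exists_preimage_mem p₀ hp₀ hy (F.aug_surjective y)
    rw [sub_zero] at hx
    exact ⟨⟨x, hx⟩, Subtype.ext hxy⟩
  have hA : LinearMap.ker A = LinearMap.range (D 0) := by
    ext ⟨x, hx⟩
    constructor
    · intro h
      obtain ⟨w, hw, hwx⟩ := exists_preimage_mem (φ 0) (hφ 0) (show x ∈ (freeGMod (𝒜 := 𝒜) (F.deg 0)).gr g from hx)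
        (F.exact_zero.le (LinearMap.mem_ker.2 (congrArg Subtype.val (LinearMap.mem_ker.1 h) :)))
      rw [sub_zero] at hw
      exact ⟨⟨w, hw⟩, Subtype.ext hwx⟩
    · rintro ⟨w, hw⟩
      exact LinearMap.mem_ker.2 (Subtype.ext (LinearMap.mem_ker.1 (F.exact_zero.ge ⟨w.1, congrArg Subtype.val hw⟩)))
  have hD : ∀ i, LinearMap.ker (D i) = LinearMap.range (D (i + 1)) := by
    intro i
    ext ⟨x, hx⟩
    constructor
    · intro h
      obtain ⟨w, hw, hwx⟩ := exists_preimage_mem (φ (i + 1)) (hφ (i + 1))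
        (show x ∈ (freeGMod (𝒜 := 𝒜) (F.deg (i + 1))).gr g from hx)
        ((F.exact_succ i).le (LinearMap.mem_ker.2 (congrArg Subtype.val (LinearMap.mem_ker.1 h) :)))
      rw [sub_zero] at hw
      exact ⟨⟨w, hw⟩, Subtype.ext hwx⟩
    · rintro ⟨w, hw⟩
      exact LinearMap.mem_ker.2 (Subtype.ext (LinearMap.mem_ker.1 ((F.exact_succ i).ge ⟨w.1, congrArg Subtype.val hw⟩)))
  let a : ℕ → ℤ := fun i => Module.finrank k (LinearMap.range (D i))
  have e0 : (Module.finrank k (P 0) : ℤ) = Module.finrank k (ℳ g) + a 0 := by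
    have h := A.finrank_range_add_finrank_ker
    rw [LinearMap.range_eq_top.2 hAs, finrank_top, hA] at h
    simp only [a]; omega
  have es : ∀ i, (Module.finrank k (P (i + 1)) : ℤ) = a i + a (i + 1) := fun i => by
    have h := (D i).finrank_range_add_finrank_ker
    rw [hD i] at h
    simp only [a]; omega
  have tele : ∀ q, ∑ i ∈ Finset.range (q + 1), (-1 : ℤ) ^ i * (Module.finrank k (P i) : ℤ) =
      Module.finrank k (ℳ g) + (-1 : ℤ) ^ q * a q := by
    intro q
    induction q with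
    | zero => rw [Finset.sum_range_one, e0, pow_zero, one_mul, one_mul]
    | succ q ih => rw [Finset.sum_range_succ, ih, es q, pow_succ]; ring
  have ham : a m = 0 := by
    haveI : IsEmpty (Fin (F.rk (m + 1))) := (hF (m + 1) (by omega)) ▸ Fin.isEmpty'
    haveI : Subsingleton (P (m + 1)) := ⟨fun x y => Subtype.ext (Subsingleton.elim _ _)⟩
    have : LinearMap.range (D m) = ⊥ := LinearMap.range_eq_bot.2 (LinearMap.ext fun x => by
      rw [Subsingleton.elim x 0, map_zero, LinearMap.zero_apply])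
    show (Module.finrank k (LinearMap.range (D m)) : ℤ) = 0
    rw [this, finrank_bot, Nat.cast_zero]
  have h := tele m
  rw [ham, mul_zero, add_zero] at h
  rw [← h]
  refine Finset.sum_congr rfl fun i _ => ?_
  rw [(freePiece_finrank r (F.deg i) g).2, Nat.cast_sum]
  simp only [Nat.cast_ite, Nat.cast_zero]

/-- The binomial polynomial. -/
theorem exists_choose_poly (r : ℕ) (e : ℤ) : ∃ P : Polynomial ℚ, ∀ d : ℤ, e - r ≤ d →
    ((if e ≤ d then ((Nat.choose (r + (d - e).toNat) r : ℕ) : ℤ) else 0 : ℤ) : ℚ) = P.eval (d : ℚ) := by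
  refine ⟨Polynomial.C ((r.factorial : ℚ)⁻¹) *
    (descPochhammer ℚ r).comp (Polynomial.X + Polynomial.C ((r : ℚ) - e)), fun d hd => ?_⟩
  obtain ⟨q, hq⟩ := Int.eq_ofNat_of_zero_le (show 0 ≤ d - e + r by omega)
  have hq' : ((d : ℚ) + ((r : ℚ) - e)) = (q : ℚ) := by
    have := congrArg (fun z : ℤ => (z : ℚ)) hq
    push_cast at this
    linarith
  rw [Polynomial.eval_mul, Polynomial.eval_C, Polynomial.eval_comp, Polynomial.eval_add, Polynomial.eval_X,
    Polynomial.eval_C, hq', ← div_eq_inv_mul, ← Nat.cast_choose_eq_descPochhammer_div]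
  split_ifs with h
  · rw [show r + (d - e).toNat = q by omega]
    push_cast; rfl
  · rw [Nat.choose_eq_zero_of_lt (show q < r by omega)]
    simp

end Groth.Agent.GrLib8
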