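import Groth.Agent.GrLib8.PosGr
import Mathlib.RingTheory.GradedAlgebra.Radical

/-!
# Homogeneous prime avoidance and homogeneous regular elements
-/

set_option autoImplicit false
set_option linter.unusedSectionVars false

universe u

open DirectSum

namespace Groth.Agent.GrLib8

variable {R : Type u} [CommRing R] {σ : Type u} [SetLike σ R] [AddSubgroupClass σ R] (𝒜 : ℤ → σ) [GradedRing 𝒜]

/-- Homogeneous prime avoidance in positive degree. -/
theorem exists_pos_notMem (hpos : ∀ n < 0, ∀ r ∈ 𝒜 n, r = 0) (S : Finset (Ideal R))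
    (hS : ∀ P ∈ S, P.IsPrime ∧ P.IsHomogeneous 𝒜 ∧ ¬ (GrSyz.irrel 𝒜).toIdeal ≤ P) :
    ∃ e : ℤ, 0 < e ∧ ∃ x ∈ 𝒜 e, ∀ P ∈ S, x ∉ P := by
  classical
  have hh : ∀ P ∈ S, ∃ e : ℤ, 0 < e ∧ ∃ h ∈ 𝒜 e, h ∉ P := by
    intro P hP
    by_contra hc
    push Not at hc
    exact (hS P hP).2.2 (Ideal.span_le.2 fun r ⟨n, hn, hr⟩ => hc n hn r hr)
  suffices ∀ T ⊆ S, ∃ e : ℤ, 0 < e ∧ ∃ x ∈ 𝒜 e, ∀ P ∈ T, x ∉ P from this S subset_rfl
  intro T
  induction T using Finset.strongInduction with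
  | H T ih =>
    intro hTS
    rcases T.eq_empty_or_nonempty with rfl | hne
    · rcases S.eq_empty_or_nonempty with rfl | ⟨P, hP⟩
      · exact ⟨1, one_pos, 0, zero_mem _, by simp⟩
      · obtain ⟨e, he, h, hh', -⟩ := hh P hP
        exact ⟨e, he, h, hh', by simp⟩
    obtain ⟨P, hPT, hmin⟩ := T.exists_minimal hne
    obtain ⟨hPp, -, -⟩ := hS P (hTS hPT)
    obtain ⟨ef, hef, f, hf, hfav⟩ := ih (T.erase P) (Finset.erase_ssubset hPT) ((Finset.erase_subset _ _).trans hTS)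
    by_cases hfP : f ∈ P
    swap
    · refine ⟨ef, hef, f, hf, fun Q hQ => ?_⟩
      rcases eq_or_ne Q P with rfl | hQP
      exacts [hfP, hfav Q (Finset.mem_erase.2 ⟨hQP, hQ⟩)]
    have hg0 : ∀ U ⊆ T.erase P, ∃ e : ℤ, 0 ≤ e ∧ ∃ g ∈ 𝒜 e, g ∉ P ∧ ∀ Q ∈ U, g ∈ Q := by
      intro U
      induction U using Finset.induction_on with
      | empty => intro _; exact ⟨0, le_rfl, 1, SetLike.one_mem_graded 𝒜, fun h => hPp.ne_top ((Ideal.eq_top_iff_one P).2 h), by simp⟩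
      | @insert Q U _ ihU =>
        intro hU
        obtain ⟨e, he, g, hg, hgP, hgU⟩ := ihU ((Finset.subset_insert _ _).trans hU)
        obtain ⟨hQP, hQT⟩ := Finset.mem_erase.1 (hU (Finset.mem_insert_self Q U))
        have hnle : ¬ Q ≤ P := fun h => hQP (le_antisymm h (hmin hQT h))
        obtain ⟨r, hrQ, hrP⟩ := SetLike.not_le_iff_exists.1 hnle
        obtain ⟨i, hi⟩ : ∃ i, (decompose 𝒜 r i : R) ∉ P := by
          by_contra hc
          push Not at hc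
          exact hrP (sum_support_decompose 𝒜 r ▸ Ideal.sum_mem _ fun i _ => hc i)
        have hi0 : 0 ≤ i := by
          by_contra h
          exact hi (by rw [hpos i (not_le.1 h) _ (SetLike.coe_mem _)]; exact zero_mem _)
        refine ⟨e + i, by omega, g * (decompose 𝒜 r i : R), mul_mem_deg 𝒜 hg (SetLike.coe_mem _),
          fun h => (hPp.mem_or_mem h).elim hgP hi, fun Q' hQ' => ?_⟩
        rcases Finset.mem_insert.1 hQ' with rfl | hQ'
        · exact Ideal.mul_mem_left _ _ ((hS Q' (hTS hQT)).2.1 i hrQ)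
        · exact Ideal.mul_mem_right _ _ (hgU Q' hQ')
    obtain ⟨e0, he0, g0, hg0', hg0P, hg0Q⟩ := hg0 _ subset_rfl
    obtain ⟨eh, heh, h, hh', hhP⟩ := hh P (hTS hPT)
    let g := g0 * h
    let eg := e0 + eh
    have hg : g ∈ 𝒜 eg := mul_mem_deg 𝒜 hg0' hh'
    have hgP : g ∉ P := fun hc => (hPp.mem_or_mem hc).elim hg0P hhP
    have heg : 0 < eg := by simp only [eg]; omega
    refine ⟨eg * ef, mul_pos heg hef, f ^ eg.toNat + g ^ ef.toNat, add_mem ?_ ?_, fun Q hQ hmem => ?_⟩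
    · have := SetLike.pow_mem_graded (A := 𝒜) eg.toNat hf
      rwa [nsmul_eq_mul, Int.toNat_of_nonneg heg.le] at this
    · have := SetLike.pow_mem_graded (A := 𝒜) ef.toNat hg
      rwa [nsmul_eq_mul, Int.toNat_of_nonneg hef.le, mul_comm] at this
    · rcases eq_or_ne Q P with rfl | hQP
      · have hf' : f ^ eg.toNat ∈ Q := Ideal.pow_mem_of_mem _ hfP _ (by omega)
        exact hgP (hPp.mem_of_pow_mem _ ((Ideal.add_mem_iff_right _ hf').1 hmem))
      · have hQ' := Finset.mem_erase.2 ⟨hQP, hQ⟩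
        have hg' : g ^ ef.toNat ∈ Q := Ideal.pow_mem_of_mem _ (Ideal.mul_mem_right _ _ (hg0Q Q hQ')) _ (by omega)
        exact hfav Q hQ' ((hS Q (hTS hQ)).1.mem_of_pow_mem _ ((Ideal.add_mem_iff_left _ hg').1 hmem))

variable [IsNoetherianRing R] {M : Type u} [AddCommGroup M] [Module R M] [Module.Finite R M]

theorem exists_ass_witness {P : Ideal R} (hP : P ∈ associatedPrimes R M) :
    P.IsPrime ∧ ∃ z : M, ∀ r : R, r ∈ P ↔ r • z = 0 := by
  obtain ⟨h1, z, hz⟩ := (isAssociatedPrime_iff.1 hP :)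
  refine ⟨h1, z, fun r => ?_⟩
  rw [hz, Submodule.mem_colon_singleton, Submodule.mem_bot]

omit [Module.Finite R M] in
theorem isSMulRegular_of_forall_notMem {x : R} (h : ∀ P ∈ associatedPrimes R M, x ∉ P) : IsSMulRegular M x := by
  refine IsSMulRegular.of_right_eq_zero_of_smul fun m hm => ?_
  by_contra hne
  have h1 : x ∈ {r : R | ∃ m : M, m ≠ 0 ∧ r • m = 0} := ⟨m, hne, hm⟩
  rw [← biUnion_associatedPrimes_eq_zero_divisors R M] at h1
  obtain ⟨P, hP, hxP⟩ := Set.mem_iUnion₂.1 h1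
  exact h P hP hxP

/-- A module without irrelevant torsion has a homogeneous regular element of positive degree. -/
theorem exists_regular_pos (hpos : ∀ n < 0, ∀ r ∈ 𝒜 n, r = 0)
    (hM : GrLC.gam (GrSyz.irrel 𝒜).toIdeal M = ⊥) :
    ∃ e : ℤ, 0 < e ∧ ∃ x ∈ 𝒜 e, x ∈ (GrSyz.irrel 𝒜).toIdeal ∧ IsSMulRegular M x := by
  classical
  have hfin := associatedPrimes.finite R M
  let S := hfin.toFinset.image fun P => (P.homogeneousCore 𝒜).toIdeal
  obtain ⟨e, he, x, hx, hxS⟩ := exists_pos_notMem 𝒜 hpos S (by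
    intro Q hQ
    obtain ⟨P, hP, rfl⟩ := Finset.mem_image.1 hQ
    obtain ⟨hPp, z, hz⟩ := exists_ass_witness (hfin.mem_toFinset.1 hP)
    refine ⟨hPp.homogeneousCore, (P.homogeneousCore 𝒜).isHomogeneous, fun hle => hPp.ne_top ?_⟩
    have hz0 : z = 0 := by
      rw [← Submodule.mem_bot R, ← hM]
      exact ⟨1, fun r hr => (hz r).1 (Ideal.toIdeal_homogeneousCore_le 𝒜 P (hle (by rwa [pow_one] at hr)))⟩
    exact (Ideal.eq_top_iff_one P).2 ((hz 1).2 (by rw [hz0, smul_zero])))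
  refine ⟨e, he, x, hx, mem_irrel_of_pos 𝒜 he hx, isSMulRegular_of_forall_notMem fun P hP hxP => ?_⟩
  exact hxS _ (Finset.mem_image.2 ⟨P, hfin.mem_toFinset.2 hP, rfl⟩)
    (Ideal.mem_homogeneousCore_of_homogeneous_of_mem ⟨e, hx⟩ hxP)

/-- An irrelevant-torsion module without `a`-torsion has a regular element of degree zero in `a`. -/
theorem exists_regular_zero (hpos : ∀ n < 0, ∀ r ∈ 𝒜 n, r = 0) (a : HomogeneousIdeal 𝒜)
    (htors : LocCoh.IsPowerTorsion (GrSyz.irrel 𝒜).toIdeal M) (hM : GrLC.gam a.toIdeal M = ⊥) :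
    ∃ x ∈ 𝒜 (0 : ℤ), x ∈ a.toIdeal ∧ IsSMulRegular M x := by
  classical
  have hfin := associatedPrimes.finite R M
  let I0 : Ideal (GrLC.deg0 𝒜) := a.toIdeal.comap (GrLC.deg0 𝒜).subtype
  have key : ¬ ((I0 : Set (GrLC.deg0 𝒜)) ⊆ ⋃ P ∈ (hfin.toFinset : Set (Ideal R)),
      ((P.comap (GrLC.deg0 𝒜).subtype : Ideal (GrLC.deg0 𝒜)) : Set (GrLC.deg0 𝒜))) := by
    intro hsub
    have hprime : ∀ P ∈ hfin.toFinset, P ≠ (⊤ : Ideal R) → P ≠ ⊤ →
        (P.comap (GrLC.deg0 𝒜).subtype).IsPrime := fun P hP _ _ =>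
      haveI := (exists_ass_witness (hfin.mem_toFinset.1 hP)).1
      inferInstance
    obtain ⟨P, hP, hle⟩ := (Ideal.subset_union_prime (R := GrLC.deg0 𝒜) (f := fun P : Ideal R => P.comap (GrLC.deg0 𝒜).subtype)
      ⊤ ⊤ hprime).1 hsub
    obtain ⟨hPp, z, hz⟩ := exists_ass_witness (hfin.mem_toFinset.1 hP)
    have hirr : (GrSyz.irrel 𝒜).toIdeal ≤ P := by
      obtain ⟨k, hk⟩ := htors z
      exact hPp.le_of_pow_le (n := k) fun r hr => (hz r).2 (hk r hr)
    have haP : a.toIdeal ≤ P := by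
      intro r hr
      rw [← sum_support_decompose 𝒜 r]
      refine Ideal.sum_mem _ fun i _ => ?_
      have hri : (decompose 𝒜 r i : R) ∈ a.toIdeal := a.isHomogeneous i hr
      rcases lt_trichotomy i 0 with hi | rfl | hi
      · rw [hpos i hi _ (SetLike.coe_mem _)]; exact zero_mem _
      · exact hle (show (⟨_, (decompose 𝒜 r 0).2⟩ : GrLC.deg0 𝒜) ∈ I0 from hri)
      · exact hirr (mem_irrel_of_pos 𝒜 hi (SetLike.coe_mem _))
    have hz0 : z = 0 := by
      rw [← Submodule.mem_bot R, ← hM]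
      exact ⟨1, fun r hr => (hz r).1 (haP (by rwa [pow_one] at hr))⟩
    exact hPp.ne_top ((Ideal.eq_top_iff_one P).2 ((hz 1).2 (by rw [hz0, smul_zero])))
  obtain ⟨x, hxI, hx⟩ := Set.not_subset.1 key
  refine ⟨x, x.2, hxI, isSMulRegular_of_forall_notMem fun P hP hxP => hx ?_⟩
  exact Set.mem_iUnion₂.2 ⟨P, hfin.mem_toFinset.2 hP, hxP⟩

end Groth.Agent.GrLib8
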