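import Mathlib

/-!
# Graded modules over a graded ring: components and generators
-/

set_option autoImplicit false

universe u v w

open DirectSum

namespace Groth.Agent.GrLib8

variable {ι : Type w} [AddCommGroup ι] [DecidableEq ι]
variable {R : Type u} [CommRing R] {σ : Type u} [SetLike σ R] [AddSubgroupClass σ R] (𝒜 : ι → σ) [GradedRing 𝒜]
variable {M : Type v} [AddCommGroup M] [Module R M] {τ : Type*} [SetLike τ M] [AddSubgroupClass τ M] (ℳ : ι → τ)
  [DirectSum.Decomposition ℳ] [SetLike.GradedSMul 𝒜 ℳ]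

theorem decompose_smul_of_mem {t : M} {e : ι} (ht : t ∈ ℳ e) (a : R) (n : ι) :
    ((DirectSum.decompose ℳ (a • t)) n : M) = (DirectSum.decompose 𝒜 a (n - e) : R) • t := by
  classical
  induction a using DirectSum.Decomposition.inductionOn 𝒜 with
  | zero => simp
  | homogeneous b =>
    rename_i i
    have hbt : (b : R) • t ∈ ℳ (i + e) := SetLike.GradedSMul.smul_mem b.2 ht
    rcases eq_or_ne (i + e) n with h | h
    · subst h
      rw [DirectSum.decompose_of_mem_same ℳ hbt, add_sub_cancel_right, DirectSum.decompose_of_mem_same 𝒜 b.2]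
    · rw [DirectSum.decompose_of_mem_ne ℳ hbt h,
        DirectSum.decompose_of_mem_ne 𝒜 b.2 (fun h' => h (by rw [h', sub_add_cancel])), zero_smul]
  | add a b ha hb =>
    rw [add_smul, DirectSum.decompose_add, DirectSum.add_apply, AddMemClass.coe_add, ha, hb,
      DirectSum.decompose_add, DirectSum.add_apply, AddMemClass.coe_add, add_smul]

theorem decompose_smul_of_mem_left {a : R} {i : ι} (ha : a ∈ 𝒜 i) (x : M) (n : ι) :
    ((DirectSum.decompose ℳ (a • x)) n : M) = a • (DirectSum.decompose ℳ x (n - i) : M) := by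
  classical
  induction x using DirectSum.Decomposition.inductionOn ℳ with
  | zero => simp
  | homogeneous t =>
    rename_i e
    have hat : a • (t : M) ∈ ℳ (i + e) := SetLike.GradedSMul.smul_mem ha t.2
    rcases eq_or_ne (i + e) n with h | h
    · subst h
      rw [DirectSum.decompose_of_mem_same ℳ hat, add_sub_cancel_left, DirectSum.decompose_of_mem_same ℳ t.2]
    · rw [DirectSum.decompose_of_mem_ne ℳ hat h,
        DirectSum.decompose_of_mem_ne ℳ t.2 (fun h' => h (by rw [h', add_sub_cancel])), smul_zero]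
  | add x y hx hy =>
    rw [smul_add, DirectSum.decompose_add, DirectSum.add_apply, AddMemClass.coe_add, hx, hy,
      DirectSum.decompose_add, DirectSum.add_apply, AddMemClass.coe_add, smul_add]

theorem exists_homogeneous_generators [Module.Finite R M] :
    ∃ (K : ℕ) (t : Fin K → M) (e : Fin K → ι), (∀ j, t j ∈ ℳ (e j)) ∧
      Submodule.span R (Set.range t) = ⊤ := by
  classical
  obtain ⟨F, hF⟩ := (Module.finite_def.mp ‹_› : (⊤ : Submodule R M).FG)
  let ι₀ := Σ x : F, (DirectSum.decompose ℳ (x : M)).support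
  let t₀ : ι₀ → M := fun i => (DirectSum.decompose ℳ (i.1 : M) i.2 : M)
  refine ⟨Fintype.card ι₀, t₀ ∘ (Fintype.equivFin ι₀).symm,
    fun j => ((Fintype.equivFin ι₀).symm j).2, fun j => SetLike.coe_mem _, ?_⟩
  rw [(Fintype.equivFin ι₀).symm.surjective.range_comp t₀, ← top_le_iff, ← hF, Submodule.span_le]
  intro x hx
  rw [SetLike.mem_coe, ← DirectSum.sum_support_decompose ℳ x]
  exact sum_mem fun n hn => Submodule.subset_span ⟨⟨⟨x, hx⟩, ⟨n, hn⟩⟩, rfl⟩

include 𝒜 in
theorem mem_of_sum_smul {K : ℕ} {t : Fin K → M} {e : Fin K → ι} (ht : ∀ j, t j ∈ ℳ (e j)) {n : ι} {x : M}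
    (hx : x ∈ ℳ n) (c : Fin K → R) (hc : ∑ j, c j • t j = x) :
    x = ∑ j, (DirectSum.decompose 𝒜 (c j) (n - e j) : R) • t j := by
  conv_lhs => rw [← DirectSum.decompose_of_mem_same ℳ hx, ← hc]
  rw [DirectSum.decompose_sum]
  have h : ∀ (s : Finset (Fin K)) (g : Fin K → ⨁ i, ℳ i), (((∑ i ∈ s, g i) n : ℳ n) : M) = ∑ i ∈ s, ((g i n : ℳ n) : M) := fun s g =>
    map_sum ((AddSubgroupClass.subtype (ℳ n)).comp (DFinsupp.evalAddMonoidHom (β := fun i => ℳ i) n)) g s
  rw [h]
  exact Finset.sum_congr rfl fun j _ => decompose_smul_of_mem 𝒜 ℳ (ht j) _ _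

include 𝒜 in
theorem isHomogeneous_span_singleton {x : M} {g : ι} (hx : x ∈ ℳ g) :
    (R ∙ x).IsHomogeneous ℳ := by
  intro n y hy
  obtain ⟨r, rfl⟩ := Submodule.mem_span_singleton.1 hy
  rw [decompose_smul_of_mem 𝒜 ℳ hx]
  exact Submodule.mem_span_singleton.2 ⟨_, rfl⟩

section Map

variable {N : Type*} [AddCommGroup N] [Module R N] {τ' : Type*} [SetLike τ' N] [AddSubgroupClass τ' N] (𝒩 : ι → τ') [DirectSum.Decomposition 𝒩]

omit [AddCommGroup ι] in
theorem map_decompose (f : M →+ N) (hf : ∀ g, ∀ m ∈ ℳ g, f m ∈ 𝒩 g) (m : M) (n : ι) :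
    f (DirectSum.decompose ℳ m n : M) = (DirectSum.decompose 𝒩 (f m) n : N) := by
  classical
  induction m using DirectSum.Decomposition.inductionOn ℳ with
  | zero => simp
  | homogeneous t =>
    rename_i i
    rcases eq_or_ne i n with rfl | h
    · rw [DirectSum.decompose_of_mem_same ℳ t.2, DirectSum.decompose_of_mem_same 𝒩 (hf i t t.2)]
    · rw [DirectSum.decompose_of_mem_ne ℳ t.2 h, DirectSum.decompose_of_mem_ne 𝒩 (hf i t t.2) h, map_zero]
  | add x y hx hy =>
    rw [DirectSum.decompose_add, DirectSum.add_apply, AddMemClass.coe_add, map_add, hx, hy, map_add,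
      DirectSum.decompose_add, DirectSum.add_apply, AddMemClass.coe_add]

end Map

end Groth.Agent.GrLib8
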