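import Groth.Agent.GrLib8.Core
import Mathlib.RingTheory.RegularLocalRing.Polynomial
import Mathlib.RingTheory.Localization.AtPrime.Basic
import Mathlib.LinearAlgebra.FreeModule.PID
import Mathlib.RingTheory.KrullDimension.Polynomial
import Mathlib.LinearAlgebra.Dimension.Constructions

/-!
# The local ring of `R/P` at a prime with homogeneous core `P` is regular
-/

set_option autoImplicit false

universe u

open DirectSum

namespace Groth.Agent.GrLib8

variable {ι : Type} [AddCommGroup ι] [DecidableEq ι]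
variable {R : Type u} [CommRing R] (𝒜 : ι → AddSubgroup R) [GradedRing 𝒜]
variable {B : Type u} [CommRing B] (ψ : R →+* B) (P : Ideal R)

/-- Homogeneous fractions of degree `g`. -/
def HasDeg (x : B) (g : ι) : Prop :=
  ∃ (i j : ι) (a b : R), a ∈ 𝒜 i ∧ b ∈ 𝒜 j ∧ b ∉ P ∧ i - j = g ∧ x * ψ b = ψ a

variable {𝒜 ψ P}

theorem hasDeg_map (hP : P.IsPrime) {a : R} {i : ι} (ha : a ∈ 𝒜 i) : HasDeg 𝒜 ψ P (ψ a) i :=
  ⟨i, 0, a, 1, ha, SetLike.one_mem_graded 𝒜, fun h => hP.ne_top ((Ideal.eq_top_iff_one P).2 h), sub_zero i,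
    by rw [map_one, mul_one]⟩

theorem hasDeg_zero (hP : P.IsPrime) (g : ι) : HasDeg 𝒜 ψ P 0 g := by
  simpa using hasDeg_map (ψ := ψ) hP (zero_mem (𝒜 g))

theorem hasDeg_one (hP : P.IsPrime) : HasDeg 𝒜 ψ P 1 0 := by
  simpa using hasDeg_map (ψ := ψ) hP (SetLike.one_mem_graded 𝒜)

theorem HasDeg.mul (hP : P.IsPrime) {x y : B} {g h : ι} (hx : HasDeg 𝒜 ψ P x g) (hy : HasDeg 𝒜 ψ P y h) :
    HasDeg 𝒜 ψ P (x * y) (g + h) := by
  obtain ⟨i, j, a, b, ha, hb, hbP, rfl, e⟩ := hx
  obtain ⟨i', j', a', b', ha', hb', hbP', rfl, e'⟩ := hy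
  refine ⟨i + i', j + j', a * a', b * b', SetLike.mul_mem_graded ha ha', SetLike.mul_mem_graded hb hb',
    fun h => (hP.mem_or_mem h).elim hbP hbP', by abel, ?_⟩
  rw [map_mul, map_mul, ← e, ← e']; ring

theorem HasDeg.neg {x : B} {g : ι} (hx : HasDeg 𝒜 ψ P x g) : HasDeg 𝒜 ψ P (-x) g := by
  obtain ⟨i, j, a, b, ha, hb, hbP, rfl, e⟩ := hx
  exact ⟨i, j, -a, b, neg_mem ha, hb, hbP, rfl, by rw [map_neg, ← e, neg_mul]⟩

theorem HasDeg.add (hP : P.IsPrime) {x y : B} {g : ι} (hx : HasDeg 𝒜 ψ P x g) (hy : HasDeg 𝒜 ψ P y g) :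
    HasDeg 𝒜 ψ P (x + y) g := by
  obtain ⟨i, j, a, b, ha, hb, hbP, rfl, e⟩ := hx
  obtain ⟨i', j', a', b', ha', hb', hbP', hg, e'⟩ := hy
  refine ⟨i + j', j + j', a * b' + a' * b, b * b', add_mem (SetLike.mul_mem_graded ha hb') ?_,
    SetLike.mul_mem_graded hb hb', fun h => (hP.mem_or_mem h).elim hbP hbP', by abel, ?_⟩
  · have hi : i' + j = i + j' := sub_eq_sub_iff_add_eq_add.1 hg
    exact hi ▸ SetLike.mul_mem_graded ha' hb
  · rw [map_mul, map_add, map_mul, map_mul, ← e, ← e']; ring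

variable (hP : P.IsPrime) (hzero : ∀ r, ψ r = 0 ↔ r ∈ P)
  (hunit : ∀ (i : ι) (a : R), a ∈ 𝒜 i → a ∉ P → IsUnit (ψ a))

include hP hzero hunit

theorem HasDeg.inv {x : B} {g : ι} (hx : HasDeg 𝒜 ψ P x g) (hne : x ≠ 0) :
    ∃ y, HasDeg 𝒜 ψ P y (-g) ∧ x * y = 1 := by
  obtain ⟨i, j, a, b, ha, hb, hbP, rfl, e⟩ := hx
  have haP : a ∉ P := fun h => hne ((hunit j b hb hbP).mul_left_eq_zero.1 (e.trans ((hzero a).2 h)))
  obtain ⟨w, hw⟩ := (hunit i a ha haP).exists_right_inv
  refine ⟨ψ b * w, ⟨j, i, b, a, hb, ha, haP, (neg_sub i j).symm, ?_⟩, ?_⟩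
  · rw [mul_assoc, mul_comm w, hw, mul_one]
  · rw [← mul_assoc, e, hw]

theorem hasDeg_indep [Nontrivial B] (hPhom : P.IsHomogeneous 𝒜) {K : Type*} (s : Finset K) (x : K → B) (g : K → ι)
    (hg : Set.InjOn g s) (hx : ∀ k ∈ s, HasDeg 𝒜 ψ P (x k) (g k)) (hsum : ∑ k ∈ s, x k = 0) :
    ∀ k ∈ s, x k = 0 := by
  classical
  choose! i j a b ha hb hbP hij e using hx
  intro k hk
  let J := ∑ l ∈ s, j l
  let c := fun l => a l * ∏ m ∈ s.erase l, b m
  have hc : ∀ l ∈ s, c l ∈ 𝒜 (g l + J) := by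
    intro l hl
    have hdeg : g l + J = i l + ∑ m ∈ s.erase l, j m := by
      show g l + ∑ m ∈ s, j m = _
      rw [← Finset.add_sum_erase s j hl, ← hij l hl]; abel
    rw [hdeg]
    exact SetLike.mul_mem_graded (ha l hl) (SetLike.prod_mem_graded 𝒜 j b (fun m hm => hb m (Finset.mem_of_mem_erase hm)))
  have hprod : ∀ l ∈ s, x l * ψ (∏ m ∈ s, b m) = ψ (c l) := by
    intro l hl
    rw [← Finset.mul_prod_erase s b hl, map_mul, map_mul, ← mul_assoc, e l hl]
  have hs : ∑ l ∈ s, c l ∈ P := by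
    rw [← hzero, map_sum, ← Finset.sum_congr rfl hprod, ← Finset.sum_mul, hsum, zero_mul]
  have hck : c k ∈ P := by
    have h := hPhom (g k + J) hs
    rw [decompose_sum] at h
    have h3 : (((∑ l ∈ s, decompose 𝒜 (c l)) (g k + J) : 𝒜 (g k + J)) : R) =
        ∑ l ∈ s, (decompose 𝒜 (c l) (g k + J) : R) :=
      map_sum ((AddSubgroup.subtype (𝒜 (g k + J))).comp
        (DFinsupp.evalAddMonoidHom (β := fun i => 𝒜 i) (g k + J))) (fun l => decompose 𝒜 (c l)) s
    rw [h3, Finset.sum_eq_single k (fun l hl hne => decompose_of_mem_ne 𝒜 (hc l hl)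
      (fun h => hne (hg hl hk (add_right_cancel h)))) (fun h => absurd hk h),
      decompose_of_mem_same 𝒜 (hc k hk)] at h
    exact h
  have hu : IsUnit (ψ (∏ m ∈ s, b m)) := by
    rw [map_prod]
    exact IsUnit.prod_iff.2 fun m hm => hunit (j m) (b m) (hb m hm) (hbP m hm)
  exact hu.mul_left_eq_zero.1 ((hprod k hk).trans ((hzero _).2 hck))

/-- A local ring of a graded domain containing the inverses of nonzero homogeneous elements is a localisation of a
polynomial ring over a field. -/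
theorem isRegularLocalRing_of_hasDeg [IsLocalRing B] [Module.Free ℤ ι] [Module.Finite ℤ ι] (hPhom : P.IsHomogeneous 𝒜)
    (hsurj : ∀ z : B, ∃ r s : R, IsUnit (ψ s) ∧ z * ψ s = ψ r) :
    IsRegularLocalRing B ∧ ringKrullDim B ≤ (Module.finrank ℤ ι : ℕ) := by
  classical
  let k0 : Subring B :=
    { carrier := {x | HasDeg 𝒜 ψ P x 0}
      mul_mem' := fun {x y} hx hy => by simpa using HasDeg.mul hP hx hy
      one_mem' := hasDeg_one hP
      add_mem' := fun {x y} hx hy => HasDeg.add hP hx hy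
      zero_mem' := hasDeg_zero hP 0
      neg_mem' := fun {x} hx => HasDeg.neg hx }
  have hk0 : IsField k0 :=
    { exists_pair_ne := ⟨0, 1, fun h => zero_ne_one (congrArg Subtype.val h)⟩
      mul_comm := mul_comm
      mul_inv_cancel := fun {x} hx => by
        obtain ⟨y, hy, hxy⟩ := HasDeg.inv hP hzero hunit x.2 (fun h => hx (Subtype.ext h))
        rw [neg_zero] at hy
        exact ⟨⟨y, hy⟩, Subtype.ext hxy⟩ }
  letI : Field k0 := hk0.toField
  let G : AddSubgroup ι :=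
    { carrier := {g | ∃ x, HasDeg 𝒜 ψ P x g ∧ x ≠ 0}
      zero_mem' := ⟨1, hasDeg_one hP, one_ne_zero⟩
      add_mem' := by
        rintro g h ⟨x, hx, hx0⟩ ⟨y, hy, hy0⟩
        refine ⟨x * y, HasDeg.mul hP hx hy, fun hxy => hy0 ?_⟩
        obtain ⟨w, -, hw⟩ := HasDeg.inv hP hzero hunit hx hx0
        rw [← one_mul y, ← hw, mul_comm x w, mul_assoc, hxy, mul_zero]
      neg_mem' := by
        rintro g ⟨x, hx, hx0⟩
        obtain ⟨y, hy, hxy⟩ := HasDeg.inv hP hzero hunit hx hx0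
        exact ⟨y, hy, fun h => one_ne_zero (hxy.symm.trans (by rw [h, mul_zero]))⟩ }
  let G' : Submodule ℤ ι := AddSubgroup.toIntSubmodule G
  obtain ⟨r, bG⟩ := Submodule.basisOfPid (Module.Free.chooseBasis ℤ ι) G'
  have hu : ∀ l : Fin r, ∃ x, HasDeg 𝒜 ψ P x ((bG l : G') : ι) ∧ x ≠ 0 := fun l => (bG l).2
  choose u hud hu0 using hu
  have huU : ∀ l, IsUnit (u l) := fun l => by
    obtain ⟨y, -, hy⟩ := HasDeg.inv hP hzero hunit (hud l) (hu0 l)
    exact IsUnit.of_mul_eq_one y hy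
  let φ : MvPolynomial (Fin r) k0 →+* B := MvPolynomial.eval₂Hom k0.subtype u
  let deg : (Fin r →₀ ℕ) → ι := fun m => ∑ l, (m l : ℤ) • ((bG l : G') : ι)
  have hpow : ∀ l (n : ℕ), HasDeg 𝒜 ψ P (u l ^ n) ((n : ℤ) • ((bG l : G') : ι)) := by
    intro l n
    induction n with
    | zero => simpa using hasDeg_one (ψ := ψ) hP
    | succ n ih => rw [pow_succ, Nat.cast_succ, add_smul, one_smul]; exact HasDeg.mul hP ih (hud l)
  have hmono : ∀ (m : Fin r →₀ ℕ) (c : k0), HasDeg 𝒜 ψ P ((c : B) * ∏ l, u l ^ m l) (deg m) := by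
    intro m c
    have h : ∀ t : Finset (Fin r), HasDeg 𝒜 ψ P (∏ l ∈ t, u l ^ m l) (∑ l ∈ t, (m l : ℤ) • ((bG l : G') : ι)) := by
      intro t
      induction t using Finset.induction_on with
      | empty => simpa using hasDeg_one (ψ := ψ) hP
      | insert a t ha ih => rw [Finset.prod_insert ha, Finset.sum_insert ha]; exact HasDeg.mul hP (hpow a _) ih
    have := HasDeg.mul hP (show HasDeg 𝒜 ψ P (c : B) 0 from c.2) (h Finset.univ)
    rwa [zero_add] at this
  have hmonoU : ∀ m : Fin r →₀ ℕ, IsUnit (∏ l, u l ^ m l) := fun m =>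
    IsUnit.prod_iff.2 fun l _ => (huU l).pow _
  have hφmono : ∀ (m : Fin r →₀ ℕ) (c : k0), φ (MvPolynomial.monomial m c) = (c : B) * ∏ l, u l ^ m l := by
    intro m c
    show MvPolynomial.eval₂ _ _ _ = _
    rw [MvPolynomial.eval₂_monomial]
    exact congrArg ((c : B) * ·) (Finsupp.prod_fintype _ _ fun l => pow_zero _)
  have hinj : Function.Injective φ := by
    rw [injective_iff_map_eq_zero]
    intro f hf
    rw [f.as_sum, map_sum] at hf
    have hz := hasDeg_indep hP hzero hunit hPhom f.support (fun m => φ (MvPolynomial.monomial m (f.coeff m))) deg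
      (fun m _ m' _ h => by
        refine Finsupp.ext fun l => ?_
        have h2 : ∀ q : Fin r →₀ ℕ, deg q = ((∑ l, (q l : ℤ) • bG l : G') : ι) := fun q => by
          rw [AddSubmonoidClass.coe_finsetSum]; rfl
        rw [h2, h2] at h
        have h3 := congrArg (fun v => bG.repr v l) (Subtype.ext h : (∑ l, (m l : ℤ) • bG l : G') = ∑ l, (m' l : ℤ) • bG l)
        simp only [bG.repr_sum_self] at h3
        exact_mod_cast h3)
      (fun m _ => by rw [hφmono]; exact hmono m _) hf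
    refine MvPolynomial.ext _ _ fun m => ?_
    rw [MvPolynomial.coeff_zero]
    by_contra hm
    have h := hz m (MvPolynomial.mem_support_iff.2 hm)
    rw [hφmono, (hmonoU m).mul_left_eq_zero] at h
    exact hm (Subtype.ext h)
  letI : Algebra (MvPolynomial (Fin r) k0) B := φ.toAlgebra
  let q : Ideal (MvPolynomial (Fin r) k0) := (IsLocalRing.maximalIdeal B).comap φ
  have : q.IsPrime := Ideal.comap_isPrime φ _
  have himg : ∀ (i : ι) (a : R), a ∈ 𝒜 i → ∃ (f : MvPolynomial (Fin r) k0) (m : Fin r →₀ ℕ),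
      ψ a * φ (MvPolynomial.monomial m 1) = φ f := by
    intro i a ha
    by_cases h0 : ψ a = 0
    · exact ⟨0, 0, by rw [h0, zero_mul, map_zero]⟩
    have hi : i ∈ G' := ⟨ψ a, hasDeg_map hP ha, h0⟩
    let n := bG.repr ⟨i, hi⟩
    let mp : Fin r →₀ ℕ := Finsupp.equivFunOnFinite.symm fun l => (n l).toNat
    let mn : Fin r →₀ ℕ := Finsupp.equivFunOnFinite.symm fun l => (-n l).toNat
    obtain ⟨w, hw⟩ := (hmonoU mp).exists_right_inv
    have hwdeg : HasDeg 𝒜 ψ P w (-deg mp) := by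
      obtain ⟨y, hy, hy1⟩ := HasDeg.inv hP hzero hunit (hmono mp 1) (by
        rw [OneMemClass.coe_one, one_mul]; exact (hmonoU mp).ne_zero)
      rw [OneMemClass.coe_one, one_mul] at hy1
      rwa [show w = y from (hmonoU mp).mul_left_cancel (hw.trans hy1.symm)]
    have hdeg : deg mn + i + -deg mp = 0 := by
      have hi' : i = ∑ l, n l • ((bG l : G') : ι) := by
        have := congrArg Subtype.val (bG.sum_repr ⟨i, hi⟩)
        rw [AddSubmonoidClass.coe_finsetSum] at this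
        exact this.symm
      show (∑ l, ((-n l).toNat : ℤ) • ((bG l : G') : ι)) + i + -(∑ l, ((n l).toNat : ℤ) • ((bG l : G') : ι)) = 0
      rw [hi', ← sub_eq_add_neg, ← Finset.sum_add_distrib, ← Finset.sum_sub_distrib]
      refine Finset.sum_eq_zero fun l _ => ?_
      rw [← add_smul, ← sub_smul, show ((-n l).toNat : ℤ) + n l - (n l).toNat = 0 by omega, zero_smul]
    have hc : HasDeg 𝒜 ψ P ((∏ l, u l ^ mn l) * ψ a * w) 0 := by
      have h := HasDeg.mul hP (HasDeg.mul hP (hmono mn 1) (hasDeg_map (ψ := ψ) hP ha)) hwdeg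
      rwa [hdeg, OneMemClass.coe_one, one_mul] at h
    refine ⟨MvPolynomial.monomial mp ⟨_, hc⟩, mn, ?_⟩
    rw [hφmono, hφmono, OneMemClass.coe_one, one_mul]
    show _ = ((∏ l, u l ^ mn l) * ψ a * w) * ∏ l, u l ^ mp l
    rw [mul_assoc _ w, mul_comm w, hw, mul_one, mul_comm]
  have hfrac : ∀ a : R, ∃ (f : MvPolynomial (Fin r) k0) (m : Fin r →₀ ℕ),
      ψ a * φ (MvPolynomial.monomial m 1) = φ f := by
    intro a
    rw [← sum_support_decompose 𝒜 a]
    induction (decompose 𝒜 a).support using Finset.induction_on with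
    | empty => exact ⟨0, 0, by rw [Finset.sum_empty, map_zero, zero_mul, map_zero]⟩
    | insert i t hi ih =>
      obtain ⟨f, m, hf⟩ := ih
      obtain ⟨f', m', hf'⟩ := himg i _ (SetLike.coe_mem (decompose 𝒜 a i))
      refine ⟨f' * MvPolynomial.monomial m 1 + f * MvPolynomial.monomial m' 1, m + m', ?_⟩
      rw [show MvPolynomial.monomial (m + m') (1 : k0) = MvPolynomial.monomial m 1 * MvPolynomial.monomial m' 1 by
          rw [MvPolynomial.monomial_mul, one_mul],
        Finset.sum_insert hi, map_add, map_add, map_mul, map_mul, map_mul, ← hf, ← hf']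
      ring
  have hmU : ∀ m : Fin r →₀ ℕ, IsUnit (φ (MvPolynomial.monomial m (1 : k0))) := fun m => by
    rw [hφmono, OneMemClass.coe_one, one_mul]; exact hmonoU m
  haveI : IsLocalization.AtPrime B q :=
    { map_units := fun y => by
        have h : φ (y : MvPolynomial (Fin r) k0) ∉ IsLocalRing.maximalIdeal B := y.2
        show IsUnit (φ (y : MvPolynomial (Fin r) k0))
        simpa using h
      surj := fun z => by
        obtain ⟨a, s, hs, hzs⟩ := hsurj z
        obtain ⟨f, m, hf⟩ := hfrac a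
        obtain ⟨h, m', hh⟩ := hfrac s
        have hhU : IsUnit (φ h) := hh ▸ hs.mul (hmU m')
        have hden : IsUnit (φ (h * MvPolynomial.monomial m 1)) := by rw [map_mul]; exact hhU.mul (hmU m)
        refine ⟨⟨f * MvPolynomial.monomial m' 1, ⟨h * MvPolynomial.monomial m 1, ?_⟩⟩, ?_⟩
        · show φ _ ∉ IsLocalRing.maximalIdeal B
          simpa using hden
        · show z * φ (h * MvPolynomial.monomial m 1) = φ (f * MvPolynomial.monomial m' 1)
          rw [map_mul, map_mul, ← hh, ← hf, ← hzs]; ring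
      exists_of_eq := fun {x y} h => ⟨1, by rw [hinj h]⟩ }
  refine ⟨IsRegularLocalRing.of_ringEquiv (R := Localization.AtPrime q)
    (IsLocalization.algEquiv q.primeCompl (Localization.AtPrime q) B).toRingEquiv, ?_⟩
  have hr : r ≤ Module.finrank ℤ ι := by
    rw [show r = Module.finrank ℤ G' from (Module.finrank_eq_card_basis bG).trans (Fintype.card_fin r) |>.symm]
    exact Submodule.finrank_le G'
  calc ringKrullDim B = q.height := IsLocalization.AtPrime.ringKrullDim_eq_height q B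
    _ ≤ ringKrullDim (MvPolynomial (Fin r) k0) := Ideal.height_le_ringKrullDim_of_ne_top (Ideal.IsPrime.ne_top ‹_›)
    _ = (r : ℕ) := by rw [MvPolynomial.ringKrullDim_of_isNoetherianRing, ringKrullDim_eq_zero_of_field, zero_add, Nat.card_fin]
    _ ≤ _ := by exact_mod_cast hr

omit hP hzero hunit in
/-- The local ring of `R/P` at a prime with homogeneous core `P` is regular. -/
theorem isRegularLocalRing_quot [IsNoetherianRing R] [Module.Free ℤ ι] [Module.Finite ℤ ι] (P p : Ideal R)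
    [P.IsPrime] [p.IsPrime] (hPhom : P.IsHomogeneous 𝒜) (hcore : ∀ (i : ι) (r : R), r ∈ 𝒜 i → r ∈ p → r ∈ P)
    (pbar : Ideal (R ⧸ P)) [pbar.IsPrime] (hpbar : pbar.comap (Ideal.Quotient.mk P) = p) :
    IsRegularLocalRing (Localization.AtPrime pbar) ∧
      ringKrullDim (Localization.AtPrime pbar) ≤ (Module.finrank ℤ ι : ℕ) := by
  let ψ : R →+* Localization.AtPrime pbar :=
    (algebraMap (R ⧸ P) (Localization.AtPrime pbar)).comp (Ideal.Quotient.mk P)
  have hmem : ∀ a, a ∉ p → IsUnit (ψ a) := fun a ha =>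
    IsLocalization.map_units (Localization.AtPrime pbar) (⟨Ideal.Quotient.mk P a, fun h => ha (hpbar ▸ Ideal.mem_comap.2 h)⟩ : pbar.primeCompl)
  refine isRegularLocalRing_of_hasDeg (𝒜 := 𝒜) (ψ := ψ) (P := P) inferInstance (fun r => ?_)
    (fun i a ha haP => hmem a fun h => haP (hcore i a ha h)) hPhom fun z => ?_
  · rw [← Ideal.Quotient.eq_zero_iff_mem, RingHom.comp_apply, IsLocalization.to_map_eq_zero_iff _ (M := pbar.primeCompl)]
    exact fun x hx => mem_nonZeroDivisors_of_ne_zero fun h => hx (h ▸ zero_mem pbar)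
  · obtain ⟨⟨a, s⟩, e⟩ := IsLocalization.surj pbar.primeCompl z
    obtain ⟨a, rfl⟩ := Ideal.Quotient.mk_surjective a
    obtain ⟨s', hs'⟩ := Ideal.Quotient.mk_surjective (s : R ⧸ P)
    refine ⟨a, s', hmem s' fun h => s.2 (hs' ▸ (Ideal.mem_comap.1 (hpbar.symm ▸ h))), ?_⟩
    show z * algebraMap _ _ (Ideal.Quotient.mk P s') = _
    rw [hs']; exact e

end Groth.Agent.GrLib8
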