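import Groth.Agent.GrLib8.GrExt
import Groth.Agent.GrLib8.FieldRegular
import Groth.Agent.LC.ExtLoc
import Groth.Agent.LC.DepthExt
import Groth.Agent.CAlgGlobalDim.RegSeq
import Groth.Prelude.Def_GrLC2

/-!
# Bass numbers at a prime and at its homogeneous core
-/

set_option autoImplicit false

universe u

open DirectSum CategoryTheory RingTheory.Sequence
open scoped Pointwise

namespace Groth.Agent.GrLib8

section Chain

variable {A : Type u} [CommRing A]

/-- A linear equivalence in the first variable. -/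
noncomputable def extCongrFst {X X' : Type u} [AddCommGroup X] [Module A X] [AddCommGroup X'] [Module A X']
    (e : X ≃ₗ[A] X') (Y : ModuleCat.{u} A) (i : ℕ) :
    Abelian.Ext.{u} (ModuleCat.of A X') Y i ≃ₗ[A] Abelian.Ext.{u} (ModuleCat.of A X) Y i where
  toFun z := (Abelian.Ext.mk₀ e.toModuleIso.hom).comp z (zero_add i)
  map_add' z w := Abelian.Ext.comp_add _ _ _ _
  map_smul' r z := Abelian.Ext.comp_smul _ _ _ _
  invFun z := (Abelian.Ext.mk₀ e.toModuleIso.inv).comp z (zero_add i)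
  left_inv z := by
    show (Abelian.Ext.mk₀ e.toModuleIso.inv).comp ((Abelian.Ext.mk₀ e.toModuleIso.hom).comp z (zero_add i)) (zero_add i) = z
    rw [Abelian.Ext.mk₀_comp_mk₀_assoc, e.toModuleIso.inv_hom_id, Abelian.Ext.mk₀_id_comp]
  right_inv z := by
    show (Abelian.Ext.mk₀ e.toModuleIso.hom).comp ((Abelian.Ext.mk₀ e.toModuleIso.inv).comp z (zero_add i)) (zero_add i) = z
    rw [Abelian.Ext.mk₀_comp_mk₀_assoc, e.toModuleIso.hom_inv_id, Abelian.Ext.mk₀_id_comp]

/-- A regular chain on `A/I`. -/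
def RegChain : Ideal A → List A → Prop
  | _, [] => True
  | I, x :: rs => IsSMulRegular (A ⧸ I) x ∧ RegChain (I ⊔ Ideal.span {x}) rs

theorem regChain_of_isWeaklyRegular : ∀ (rs : List A) (I : Ideal A), IsWeaklyRegular (A ⧸ I) rs → RegChain I rs
  | [], _, _ => trivial
  | x :: rs, I, h => by
    rw [isWeaklyRegular_cons_iff] at h
    let q : (A ⧸ I) →ₗ[A] A ⧸ (I ⊔ Ideal.span {x}) :=
      Submodule.liftQ I (Submodule.mkQ _) (fun a ha => (Submodule.Quotient.mk_eq_zero _).2 (Ideal.mem_sup_left ha))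
    have hq : Function.Surjective q := fun z => by
      obtain ⟨a, rfl⟩ := Submodule.Quotient.mk_surjective _ z
      exact ⟨Submodule.Quotient.mk a, rfl⟩
    have hk : x • (⊤ : Submodule A (A ⧸ I)) = LinearMap.ker q := by
      ext z
      obtain ⟨a, rfl⟩ := Submodule.Quotient.mk_surjective I z
      rw [LinearMap.mem_ker, Submodule.mem_smul_pointwise_iff_exists,
        show q (Submodule.Quotient.mk a) = Submodule.Quotient.mk a from rfl, Submodule.Quotient.mk_eq_zero,
        Submodule.mem_sup]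
      constructor
      · rintro ⟨w, -, hw⟩
        obtain ⟨b, rfl⟩ := Submodule.Quotient.mk_surjective I w
        rw [← Submodule.Quotient.mk_smul, Submodule.Quotient.eq] at hw
        exact ⟨-(x • b - a), I.neg_mem hw, x • b, Ideal.mem_span_singleton'.2 ⟨b, mul_comm b x⟩, by ring⟩
      · rintro ⟨i, hi, j, hj, rfl⟩
        obtain ⟨c, rfl⟩ := Ideal.mem_span_singleton'.1 hj
        refine ⟨Submodule.Quotient.mk c, trivial, ?_⟩
        rw [← Submodule.Quotient.mk_smul, Submodule.Quotient.eq, smul_eq_mul]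
        rw [show x * c - (i + c * x) = -i by ring]
        exact I.neg_mem hi
    let e : QuotSMulTop x (A ⧸ I) ≃ₗ[A] A ⧸ (I ⊔ Ideal.span {x}) :=
      (Submodule.quotEquivOfEq _ _ hk).trans (q.quotKerEquivOfSurjective hq)
    exact ⟨h.1, regChain_of_isWeaklyRegular rs _ ((e.isWeaklyRegular_congr rs).1 h.2)⟩

theorem ext_step (I : Ideal A) (x : A) (hreg : IsSMulRegular (A ⧸ I) x) (Y : ModuleCat.{u} A) (β : ℕ → Type u)
    (e : ∀ i, Nonempty (Abelian.Ext.{u} (ModuleCat.of A (A ⧸ I)) Y i ≃ₗ[A] (β i →₀ A ⧸ I))) :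
    Subsingleton (Abelian.Ext.{u} (ModuleCat.of A (A ⧸ (I ⊔ Ideal.span {x}))) Y 0) ∧
      ∀ i, Nonempty (Abelian.Ext.{u} (ModuleCat.of A (A ⧸ (I ⊔ Ideal.span {x}))) Y (i + 1) ≃ₗ[A]
        (β i →₀ A ⧸ (I ⊔ Ideal.span {x}))) := by
  classical
  let J := I ⊔ Ideal.span {x}
  let q : (A ⧸ I) →ₗ[A] A ⧸ J :=
    Submodule.liftQ I (Submodule.mkQ _) (fun a ha => (Submodule.Quotient.mk_eq_zero _).2 (Ideal.mem_sup_left ha))
  have hq : Function.Surjective q := fun z => by
    obtain ⟨a, rfl⟩ := Submodule.Quotient.mk_surjective _ z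
    exact ⟨Submodule.Quotient.mk a, rfl⟩
  have hqk : ∀ z, q z = 0 ↔ ∃ w, x • w = z := by
    intro z
    obtain ⟨a, rfl⟩ := Submodule.Quotient.mk_surjective I z
    rw [show q (Submodule.Quotient.mk a) = Submodule.Quotient.mk a from rfl, Submodule.Quotient.mk_eq_zero,
      Submodule.mem_sup]
    constructor
    · rintro ⟨i, hi, j, hj, rfl⟩
      obtain ⟨c, rfl⟩ := Ideal.mem_span_singleton'.1 hj
      refine ⟨Submodule.Quotient.mk c, ?_⟩
      rw [← Submodule.Quotient.mk_smul, Submodule.Quotient.eq, smul_eq_mul,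
        show x * c - (i + c * x) = -i by ring]
      exact I.neg_mem hi
    · rintro ⟨w, hw⟩
      obtain ⟨b, rfl⟩ := Submodule.Quotient.mk_surjective I w
      rw [← Submodule.Quotient.mk_smul, Submodule.Quotient.eq] at hw
      exact ⟨-(x • b - a), I.neg_mem hw, x • b, Ideal.mem_span_singleton'.2 ⟨b, mul_comm b x⟩, by ring⟩
  let Q := ModuleCat.of A (A ⧸ I)
  let S : ShortComplex (ModuleCat.{u} A) := ShortComplex.mk (X₁ := Q) (X₂ := Q) (X₃ := ModuleCat.of A (A ⧸ J))
    (x • 𝟙 Q) (ModuleCat.ofHom q) (ModuleCat.hom_ext (LinearMap.ext fun z => (hqk _).2 ⟨z, rfl⟩))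
  have hS : S.ShortExact :=
    { exact := (ShortComplex.ShortExact.moduleCat_exact_iff_function_exact _).2 fun z => hqk z
      mono_f := (ModuleCat.mono_iff_injective _).2 hreg
      epi_g := (ModuleCat.epi_iff_surjective _).2 hq }
  have hsm : ∀ i (z : Abelian.Ext.{u} Q Y i), (Abelian.Ext.mk₀ S.f).comp z (zero_add i) = x • z := fun i z => by
    show (Abelian.Ext.mk₀ (x • 𝟙 Q)).comp z (zero_add i) = _
    rw [Abelian.Ext.mk₀_smul, Abelian.Ext.smul_comp, Abelian.Ext.mk₀_id_comp]
  have hinj : ∀ i (z : Abelian.Ext.{u} Q Y i), x • z = 0 → z = 0 := fun i z hz => by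
    obtain ⟨f⟩ := e i
    refine f.injective (Finsupp.ext fun b => hreg ?_)
    show x • f z b = x • (f 0) b
    rw [← Finsupp.smul_apply, ← map_smul, hz, map_zero, Finsupp.zero_apply, smul_zero]
  have hres : ∀ i (w : Abelian.Ext.{u} S.X₃ Y i), (Abelian.Ext.mk₀ S.g).comp w (zero_add i) = 0 := fun i w => by
    refine hinj i _ ?_
    rw [← hsm]
    rw [Abelian.Ext.mk₀_comp_mk₀_assoc, S.zero, Abelian.Ext.mk₀_zero, Abelian.Ext.zero_comp]
  refine ⟨subsingleton_of_forall_eq 0 fun w => ?_, fun i => ?_⟩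
  · obtain ⟨w, rfl⟩ := (Abelian.Ext.linearEquiv₀ (R := A)).symm.surjective w
    show Abelian.Ext.mk₀ w = 0
    have h := hres 0 (Abelian.Ext.mk₀ w)
    rw [Abelian.Ext.mk₀_comp_mk₀, Abelian.Ext.mk₀_eq_zero_iff] at h
    have := hS.epi_g
    rw [(cancel_epi S.g).1 (h.trans (Limits.comp_zero).symm), Abelian.Ext.mk₀_zero]
  · let δ : Abelian.Ext.{u} S.X₁ Y i →ₗ[A] Abelian.Ext.{u} S.X₃ Y (i + 1) :=
      Abelian.Ext.precompOfLinear hS.extClass A Y (add_comm 1 i)
    have hδ : Function.Surjective δ := fun w =>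
      Abelian.Ext.contravariant_sequence_exact₃ hS Y w (hres _ w) (add_comm 1 i)
    obtain ⟨f⟩ := e i
    let m : (β i →₀ A ⧸ I) →ₗ[A] (β i →₀ A ⧸ J) := Finsupp.mapRange.linearMap q
    have hm : Function.Surjective m := Finsupp.mapRange_surjective _ (map_zero q) hq
    let g : Abelian.Ext.{u} S.X₁ Y i →ₗ[A] (β i →₀ A ⧸ J) := m ∘ₗ f.toLinearMap
    have hg : Function.Surjective g := hm.comp f.surjective
    have hker : LinearMap.ker δ = LinearMap.ker g := by
      ext z
      rw [LinearMap.mem_ker, LinearMap.mem_ker]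
      constructor
      · intro hz
        obtain ⟨w, rfl⟩ := Abelian.Ext.contravariant_sequence_exact₁ hS Y z (add_comm 1 i) hz
        rw [hsm]
        refine Finsupp.ext fun b => ?_
        show q (f (x • w) b) = 0
        rw [map_smul]
        exact (hqk _).2 ⟨f w b, rfl⟩
      · intro hz
        have hb : ∀ b, ∃ w, x • w = f z b := fun b => (hqk _).1 (DFunLike.congr_fun hz b)
        choose w hw using hb
        let w' : β i →₀ A ⧸ I := Finsupp.onFinset (f z).support w fun b hb => by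
          rw [Finsupp.mem_support_iff, ← hw b]
          intro h0
          exact hb (hreg (h0.trans (smul_zero x).symm))
        have hz' : z = x • f.symm w' := f.injective (by
          rw [map_smul, f.apply_symm_apply]
          exact Finsupp.ext fun b => (hw b).symm)
        rw [hz', ← hsm]
        show hS.extClass.comp ((Abelian.Ext.mk₀ S.f).comp (f.symm w') (zero_add i)) (add_comm 1 i) = 0
        rw [← Abelian.Ext.comp_assoc_of_second_deg_zero, hS.extClass_comp, Abelian.Ext.zero_comp]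
    exact ⟨((δ.quotKerEquivOfSurjective hδ).symm.trans (Submodule.quotEquivOfEq _ _ hker)).trans
      (g.quotKerEquivOfSurjective hg)⟩

theorem ext_chain : ∀ (rs : List A) (I : Ideal A), RegChain I rs → ∀ (Y : ModuleCat.{u} A) (β : ℕ → Type u),
    (∀ i, Nonempty (Abelian.Ext.{u} (ModuleCat.of A (A ⧸ I)) Y i ≃ₗ[A] (β i →₀ A ⧸ I))) →
    (∀ i < rs.length, Subsingleton (Abelian.Ext.{u} (ModuleCat.of A (A ⧸ (I ⊔ Ideal.ofList rs))) Y i)) ∧
      ∀ i, Nonempty (Abelian.Ext.{u} (ModuleCat.of A (A ⧸ (I ⊔ Ideal.ofList rs))) Y (i + rs.length) ≃ₗ[A]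
        (β i →₀ A ⧸ (I ⊔ Ideal.ofList rs)))
  | [], I, _, Y, β, e => by
    rw [Ideal.ofList_nil, sup_bot_eq]
    exact ⟨fun i hi => absurd hi (Nat.not_lt_zero i), e⟩
  | x :: rs, I, ⟨hx, hrs⟩, Y, β, e => by
    obtain ⟨h0, h1⟩ := ext_step I x hx Y β e
    let β' : ℕ → Type u := fun i => match i with
      | 0 => PEmpty
      | j + 1 => β j
    have e' : ∀ i, Nonempty (Abelian.Ext.{u} (ModuleCat.of A (A ⧸ (I ⊔ Ideal.span {x}))) Y i ≃ₗ[A]
        (β' i →₀ A ⧸ (I ⊔ Ideal.span {x}))) := by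
      rintro (_ | j)
      · exact ⟨{ toFun := fun _ => 0, invFun := fun _ => 0, left_inv := fun z => Subsingleton.elim _ _,
                 right_inv := fun z => Finsupp.ext fun b => b.elim, map_add' := fun _ _ => (add_zero 0).symm,
                 map_smul' := fun r _ => (smul_zero r).symm }⟩
      · exact h1 j
    obtain ⟨hlt, hge⟩ := ext_chain rs _ hrs Y β' e'
    rw [Ideal.ofList_cons, ← sup_assoc]
    refine ⟨fun i hi => ?_, fun i => ?_⟩
    · rcases Nat.lt_succ_iff_lt_or_eq.1 (show i < rs.length + 1 from hi) with h | rfl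
      · exact hlt i h
      · obtain ⟨f⟩ := hge 0
        rw [Nat.zero_add] at f
        haveI : Subsingleton (β' 0 →₀ A ⧸ (I ⊔ Ideal.span {x} ⊔ Ideal.ofList rs)) :=
          ⟨fun a b => Finsupp.ext fun j => (show PEmpty from j).elim⟩
        exact f.toEquiv.subsingleton
    · obtain ⟨f⟩ := hge (i + 1)
      rw [show i + (x :: rs).length = i + 1 + rs.length by simp only [List.length_cons]; omega]
      exact ⟨f⟩

end Chain

variable {ι : Type} [AddCommGroup ι] [DecidableEq ι] [Module.Free ℤ ι] [Module.Finite ℤ ι]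
variable {R : Type u} [CommRing R] [IsNoetherianRing R] {𝒜 : ι → AddSubgroup R} [GradedRing 𝒜]
variable {M : Type u} [AddCommGroup M] [Module R M] (ℳ : ι → AddSubgroup M) [Decomposition ℳ]
  [SetLike.GradedSMul 𝒜 ℳ]

/-- `A/PA` for `A = R_p` is the local ring of `R/P` at `p`. -/
theorem exists_quotEquiv (P p : Ideal R) [P.IsPrime] [p.IsPrime] (hle : P ≤ p)
    [(p.map (Ideal.Quotient.mk P)).IsPrime] :
    Nonempty ((Localization.AtPrime p ⧸ P.map (algebraMap R (Localization.AtPrime p))) ≃+*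
      Localization.AtPrime (p.map (Ideal.Quotient.mk P))) := by
  let pbar := p.map (Ideal.Quotient.mk P)
  have hcomap : pbar.comap (Ideal.Quotient.mk P) = p := by
    rw [Ideal.comap_map_of_surjective _ Ideal.Quotient.mk_surjective, ← RingHom.ker_eq_comap_bot, Ideal.mk_ker]
    exact sup_eq_left.2 hle
  let ψ : R →+* Localization.AtPrime pbar := (algebraMap (R ⧸ P) (Localization.AtPrime pbar)).comp (Ideal.Quotient.mk P)
  have hu : ∀ s : p.primeCompl, IsUnit (ψ s) := fun s =>
    IsLocalization.map_units (Localization.AtPrime pbar)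
      (⟨Ideal.Quotient.mk P s, fun h => s.2 ((SetLike.ext_iff.1 hcomap _).1 (Ideal.mem_comap.2 h))⟩ : pbar.primeCompl)
  let Θ : Localization.AtPrime p →+* Localization.AtPrime pbar := IsLocalization.lift hu
  have hΘ : ∀ r, Θ (algebraMap R _ r) = ψ r := fun r => IsLocalization.lift_eq hu r
  have hsur : Function.Surjective Θ := fun z => by
    obtain ⟨⟨a, s⟩, e⟩ := IsLocalization.surj pbar.primeCompl z
    obtain ⟨a, rfl⟩ := Ideal.Quotient.mk_surjective a
    obtain ⟨s', hs'⟩ := Ideal.Quotient.mk_surjective (s : R ⧸ P)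
    have hs'p : s' ∈ p.primeCompl := fun h => s.2 (hs' ▸ Ideal.mem_map_of_mem _ h)
    refine ⟨IsLocalization.mk' _ a (⟨s', hs'p⟩ : p.primeCompl), ?_⟩
    refine (hu ⟨s', hs'p⟩).mul_left_inj.1 ?_
    rw [← hΘ, ← map_mul, IsLocalization.mk'_spec, hΘ, hΘ]
    show ψ a = z * algebraMap _ _ (Ideal.Quotient.mk P s')
    rw [hs', e]; rfl
  have hker : RingHom.ker Θ = P.map (algebraMap R (Localization.AtPrime p)) := by
    refine le_antisymm (fun z hz => ?_) (Ideal.map_le_iff_le_comap.2 fun a ha => ?_)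
    · obtain ⟨⟨a, s⟩, e⟩ := IsLocalization.surj p.primeCompl z
      have h0 : ψ a = 0 := by rw [← hΘ, ← e, map_mul, RingHom.mem_ker.1 hz, zero_mul]
      have haP : a ∈ P := Ideal.Quotient.eq_zero_iff_mem.1
        ((IsLocalization.to_map_eq_zero_iff (Localization.AtPrime pbar) (M := pbar.primeCompl)
          (fun x hx => mem_nonZeroDivisors_of_ne_zero fun h => hx (h ▸ zero_mem pbar))).1 h0)
      refine (Ideal.mul_unit_mem_iff_mem _ (IsLocalization.map_units _ s)).1 ?_
      rw [e]; exact Ideal.mem_map_of_mem _ haP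
    · rw [Ideal.mem_comap, RingHom.mem_ker, hΘ, RingHom.comp_apply, Ideal.Quotient.eq_zero_iff_mem.2 ha, map_zero]
  exact ⟨(Ideal.quotEquivOfEq hker.symm).trans (RingHom.quotientKerEquivOfSurjective hsur)⟩

theorem length_finsupp_residue (A : Type u) [CommRing A] [IsLocalRing A] (β : Type u) :
    Module.length A (β →₀ A ⧸ IsLocalRing.maximalIdeal A) = ENat.card β := by
  haveI : IsSimpleModule A (A ⧸ IsLocalRing.maximalIdeal A) :=
    isSimpleModule_iff_isCoatom.2 (IsLocalRing.maximalIdeal.isMaximal A).out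
  rw [Module.length_finsupp, Module.length_eq_one, mul_one]

include ℳ in
omit [Module.Free ℤ ι] [Module.Finite ℤ ι] in
theorem exists_ext_free (P : HomogeneousIdeal 𝒜) [P.toIdeal.IsPrime] (p : Ideal R) [p.IsPrime] (hle : P.toIdeal ≤ p)
    (hcore : ∀ (i : ι) (r : R), r ∈ 𝒜 i → r ∈ p → r ∈ P.toIdeal) (i : ℕ) :
    ∃ β : Type u, Nonempty (Abelian.Ext.{u} (ModuleCat.of (Localization.AtPrime p)
          (Localization.AtPrime p ⧸ P.toIdeal.map (algebraMap R (Localization.AtPrime p))))
          (ModuleCat.of (Localization.AtPrime p) (LocalizedModule p.primeCompl M)) i ≃ₗ[Localization.AtPrime p]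
        (β →₀ Localization.AtPrime p ⧸ P.toIdeal.map (algebraMap R (Localization.AtPrime p)))) ∧
      GrLC.bassNum P.toIdeal M i = ENat.card β := by
  obtain ⟨N, hkill, ⟨eN⟩⟩ := exists_graded_ext P i (GrLC.GMod.of 𝒜 M ℳ)
  obtain ⟨B, hind, hspan⟩ := exists_generic_basis 𝒜 N.gr P.toIdeal p hle hcore hkill
  have hspan' : ∀ x : N.carrier, ∃ s ∈ P.toIdeal.primeCompl, s • x ∈ Submodule.span R B := fun x => by
    obtain ⟨s, hs, h⟩ := hspan x
    exact ⟨s, fun h' => hs (hle h'), h⟩
  have main : ∀ (q : Ideal R) [q.IsPrime], P.toIdeal ≤ q →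
      (∀ x : N.carrier, ∃ s ∈ q.primeCompl, s • x ∈ Submodule.span R B) →
      Nonempty (Abelian.Ext.{u} (ModuleCat.of (Localization.AtPrime q)
          (Localization.AtPrime q ⧸ P.toIdeal.map (algebraMap R (Localization.AtPrime q))))
          (ModuleCat.of (Localization.AtPrime q) (LocalizedModule q.primeCompl M)) i ≃ₗ[Localization.AtPrime q]
        (B →₀ Localization.AtPrime q ⧸ P.toIdeal.map (algebraMap R (Localization.AtPrime q)))) := by
    intro q _ hq hsp
    obtain ⟨e1⟩ := exists_localized_equiv P.toIdeal q hkill B hind hsp inferInstance hq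
    obtain ⟨e2⟩ := LC.exists_extLoc q.primeCompl M i (R ⧸ P.toIdeal)
    obtain ⟨e3⟩ := LC.exists_locQuot q.primeCompl P.toIdeal
    let e4 : LocalizedModule q.primeCompl N.carrier ≃ₗ[Localization.AtPrime q]
        LocalizedModule q.primeCompl (Abelian.Ext.{u} (ModuleCat.of R (R ⧸ P.toIdeal)) (ModuleCat.of R M) i) :=
      LinearEquiv.ofBijective (LocalizedModule.map q.primeCompl eN.toLinearMap)
        ⟨LocalizedModule.map_injective _ _ eN.injective, LocalizedModule.map_surjective _ _ eN.surjective⟩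
    exact ⟨((((extCongrFst e3 _ i)).trans e2.symm).trans e4.symm).trans e1.symm⟩
  refine ⟨B, main p hle hspan, ?_⟩
  obtain ⟨e⟩ := main P.toIdeal le_rfl hspan'
  rw [Localization.AtPrime.map_eq_maximalIdeal] at e
  let r : IsLocalRing.ResidueField (Localization.AtPrime P.toIdeal) ≃ₗ[Localization.AtPrime P.toIdeal]
      (Localization.AtPrime P.toIdeal ⧸ IsLocalRing.maximalIdeal (Localization.AtPrime P.toIdeal)) :=
    { toFun := id, invFun := id, left_inv := fun _ => rfl, right_inv := fun _ => rfl,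
      map_add' := fun _ _ => rfl, map_smul' := fun _ _ => rfl }
  unfold GrLC.bassNum GrLC.bassNumLocal
  rw [((extCongrFst r _ i).symm.trans e).length_eq, length_finsupp_residue]

theorem exists_params (P p : Ideal R) [P.IsPrime] [p.IsPrime] (hle : P ≤ p) (hPhom : P.IsHomogeneous 𝒜)
    (hcore : ∀ (i : ι) (r : R), r ∈ 𝒜 i → r ∈ p → r ∈ P) (d : ℕ)
    (hd : (p.map (Ideal.Quotient.mk P)).height = d) :
    ∃ rs : List (Localization.AtPrime p), rs.length = d ∧
      RegChain (P.map (algebraMap R (Localization.AtPrime p))) rs ∧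
      P.map (algebraMap R (Localization.AtPrime p)) ⊔ Ideal.ofList rs = IsLocalRing.maximalIdeal (Localization.AtPrime p) := by
  let A := Localization.AtPrime p
  let PA := P.map (algebraMap R A)
  haveI hpb : (p.map (Ideal.Quotient.mk P)).IsPrime :=
    Ideal.map_isPrime_of_surjective Ideal.Quotient.mk_surjective (by rwa [Ideal.mk_ker])
  have hcomap : (p.map (Ideal.Quotient.mk P)).comap (Ideal.Quotient.mk P) = p := by
    rw [Ideal.comap_map_of_surjective _ Ideal.Quotient.mk_surjective, ← RingHom.ker_eq_comap_bot, Ideal.mk_ker]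
    exact sup_eq_left.2 hle
  obtain ⟨Θ⟩ := exists_quotEquiv P p hle
  have := (isRegularLocalRing_quot (𝒜 := 𝒜) P p hPhom hcore _ hcomap).1
  haveI hreg : IsRegularLocalRing (A ⧸ PA) := IsRegularLocalRing.of_ringEquiv Θ.symm
  have hdim : ringKrullDim (A ⧸ PA) = d := by
    rw [ringKrullDim_eq_of_ringEquiv Θ, IsLocalization.AtPrime.ringKrullDim_eq_height (p.map (Ideal.Quotient.mk P)), hd]
    rfl
  have hfin := CAlgGlobalDim.spanFinrank_eq_of_dim _ d hdim
  obtain ⟨s, hcard, hspan⟩ := Submodule.FG.exists_span_set_encard_eq_spanFinrank (p := IsLocalRing.maximalIdeal (A ⧸ PA)) (IsLocalRing.maximalIdeal (A ⧸ PA)).fg_of_isNoetherianRing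
  have hsfin : s.Finite := Set.finite_of_encard_eq_coe hcard
  let ys := hsfin.toFinset.toList
  have hlen : ys.length = d := by
    rw [Finset.length_toList, ← Nat.cast_inj (R := ℕ∞), ← hsfin.encard_eq_coe_toFinset_card, hcard, hfin]
  have hys : Ideal.ofList ys = IsLocalRing.maximalIdeal (A ⧸ PA) := by
    rw [← hspan]
    exact congrArg Ideal.span (Set.ext fun a => by simp [ys])
  have hw : IsWeaklyRegular (A ⧸ PA) ys :=
    CAlgGlobalDim.isWeaklyRegular_of_generators d _ ys hlen hys hfin.ge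
  choose lift hlift using Ideal.Quotient.mk_surjective (I := PA)
  let rs := ys.map lift
  have hmap : rs.map (algebraMap A (A ⧸ PA)) = ys := by
    rw [List.map_map]
    exact (List.map_congr_left fun a _ => hlift a).trans (List.map_id ys)
  refine ⟨rs, by rw [List.length_map, hlen], regChain_of_isWeaklyRegular rs PA ?_, ?_⟩
  · rw [← isWeaklyRegular_map_algebraMap_iff (A ⧸ PA) (A ⧸ PA), hmap]
    exact hw
  · have h1 : (PA ⊔ Ideal.ofList rs).map (Ideal.Quotient.mk PA) = IsLocalRing.maximalIdeal (A ⧸ PA) := by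
      rw [Ideal.map_sup, Ideal.map_quotient_self, bot_sup_eq, Ideal.map_ofList, ← Ideal.Quotient.algebraMap_eq, hmap, hys]
    haveI := IsLocalRing.maximalIdeal.isMaximal (A ⧸ PA)
    have h2 := congrArg (Ideal.comap (Ideal.Quotient.mk PA)) h1
    rw [Ideal.comap_map_of_surjective _ Ideal.Quotient.mk_surjective, ← RingHom.ker_eq_comap_bot, Ideal.mk_ker,
      sup_of_le_left le_sup_left] at h2
    rw [h2]
    exact IsLocalRing.eq_maximalIdeal (Ideal.comap_isMaximal_of_surjective _ Ideal.Quotient.mk_surjective)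

include ℳ in
/-- Bass numbers shift by the height of `p/P`. -/
theorem bassNum_shift (P : HomogeneousIdeal 𝒜) [P.toIdeal.IsPrime] (p : Ideal R) [p.IsPrime] (hle : P.toIdeal ≤ p)
    (hcore : ∀ (i : ι) (r : R), r ∈ 𝒜 i → r ∈ p → r ∈ P.toIdeal) (d : ℕ)
    (hd : (p.map (Ideal.Quotient.mk P.toIdeal)).height = d) :
    (∀ i : ℕ, i < d → GrLC.bassNum p M i = 0) ∧
      ∀ i : ℕ, GrLC.bassNum p M (i + d) = GrLC.bassNum P.toIdeal M i := by
  choose β hβ hbass using exists_ext_free ℳ P p hle hcore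
  obtain ⟨rs, hlen, hchain, hmax⟩ := exists_params (𝒜 := 𝒜) P.toIdeal p hle P.isHomogeneous hcore d hd
  obtain ⟨hlt, hge⟩ := ext_chain rs _ hchain (ModuleCat.of _ (LocalizedModule p.primeCompl M)) β hβ
  rw [hmax, hlen] at hge
  rw [hmax, hlen] at hlt
  let r : IsLocalRing.ResidueField (Localization.AtPrime p) ≃ₗ[Localization.AtPrime p]
      (Localization.AtPrime p ⧸ IsLocalRing.maximalIdeal (Localization.AtPrime p)) :=
    { toFun := id, invFun := id, left_inv := fun _ => rfl, right_inv := fun _ => rfl,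
      map_add' := fun _ _ => rfl, map_smul' := fun _ _ => rfl }
  refine ⟨fun i hi => ?_, fun i => ?_⟩
  · unfold GrLC.bassNum GrLC.bassNumLocal
    rw [← (extCongrFst r _ i).length_eq]
    have := hlt i hi
    exact Module.length_eq_zero
  · obtain ⟨e⟩ := hge i
    rw [hbass i]
    unfold GrLC.bassNum GrLC.bassNumLocal
    rw [((extCongrFst r _ (i + d)).symm.trans e).length_eq, length_finsupp_residue]

end Groth.Agent.GrLib8
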