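import Groth.Agent.GrLib8.Les
import Groth.Agent.GrLib8.LocalCoh
import Groth.Agent.LC.CohTorsion

/-!
# Using the long exact sequence piecewise
-/

set_option autoImplicit false
set_option linter.unusedSectionVars false

universe u

open DirectSum

namespace Groth.Agent.GrLib8

variable {ι : Type} [AddCommGroup ι] [DecidableEq ι]
variable {R : Type u} [CommRing R] {σ : Type u} [SetLike σ R] [AddSubgroupClass σ R] {𝒜 : ι → σ} [GradedRing 𝒜]
variable {M : Type u} [AddCommGroup M] [Module R M] {τ : Type u} [SetLike τ M] [AddSubgroupClass τ M] {ℳ : ι → τ}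
  [Decomposition ℳ] [SetLike.GradedSMul 𝒜 ℳ]
variable {N : Type u} [AddCommGroup N] [Module R N] {τ' : Type u} [SetLike τ' N] [AddSubgroupClass τ' N] {𝒩 : ι → τ'}
  [Decomposition 𝒩] [SetLike.GradedSMul 𝒜 𝒩]

theorem Hcomp_eq_bot_iff (E : GrLC.StarInjRes 𝒜 ℳ) (a : HomogeneousIdeal 𝒜) (i : ℕ) (g : ι) :
    E.Hcomp a i g = ⊥ ↔ ∀ x ∈ E.Hgr a i g, x = 0 := Submodule.eq_bot_iff _

theorem Hcomp_eq_bot_of_subsingleton (E : GrLC.StarInjRes 𝒜 ℳ) (a : HomogeneousIdeal 𝒜) (i : ℕ) (g : ι)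
    [Subsingleton (E.H a i)] : E.Hcomp a i g = ⊥ := Subsingleton.elim _ _

/-- A homogeneous element of the image has a homogeneous preimage. -/
theorem exists_preimage_Hgr (E : GrLC.StarInjRes 𝒜 ℳ) (F : GrLC.StarInjRes 𝒜 𝒩) (a : HomogeneousIdeal 𝒜) {i j : ℕ}
    (δ : E.H a i →ₗ[R] F.H a j) {d : ι} (hδ : GrLC.IsGrHomDeg (E.Hgr a i) (F.Hgr a j) δ d) {y : F.H a j} {g : ι}
    (hy : y ∈ F.Hgr a j g) (hr : y ∈ LinearMap.range δ) : ∃ x ∈ E.Hgr a i (g - d), δ x = y := by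
  letI := (isInternal_Hgr ℳ E a i).chooseDecomposition
  letI := (isInternal_Hgr 𝒩 F a j).chooseDecomposition
  exact exists_preimage_mem δ hδ hy hr

variable [IsNoetherianRing R]

theorem subsingleton_H_of_torsion (E : GrLC.StarInjRes 𝒜 ℳ) (a : HomogeneousIdeal 𝒜)
    (hM : LocCoh.IsPowerTorsion a.toIdeal M) (i : ℕ) : Subsingleton (E.H a (i + 1)) := by
  obtain ⟨e⟩ := nonempty_H_equiv ℳ E a (i + 1)
  have := LC.subsingleton_of_torsion a.toIdeal i (ModuleCat.of R M) hM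
  exact e.toEquiv.subsingleton

/-- `H^0` is the torsion submodule. -/
theorem exists_H0_equiv (E : GrLC.StarInjRes 𝒜 ℳ) (a : HomogeneousIdeal 𝒜) :
    ∃ e : GrLC.gam a.toIdeal M ≃ₗ[R] E.H a 0, ∀ g, ∀ m : GrLC.gam a.toIdeal M, (m : M) ∈ ℳ g ↔ e m ∈ E.Hgr a 0 g := by
  classical
  let t : GrLC.gam a.toIdeal M →ₗ[R] E.cocyc a 0 :=
    E.ε.restrict fun m hm => ⟨map_gam E.ε hm, LinearMap.mem_ker.1 (E.exact_zero.ge ⟨m, rfl⟩)⟩
  have hbij : Function.Bijective (E.toH a 0 ∘ₗ t) := by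
    constructor
    · rw [injective_iff_map_eq_zero]
      intro m hm
      rw [LinearMap.comp_apply, toH_eq_zero] at hm
      exact Subtype.ext (E.ε_injective ((show E.ε (m : M) = 0 from hm).trans (map_zero _).symm))
    · intro x
      obtain ⟨z, rfl⟩ := toH_surj E a 0 x
      obtain ⟨m, hm⟩ := E.exact_zero.le z.2.2
      obtain ⟨k, hk⟩ := z.2.1
      exact ⟨⟨m, ⟨k, fun r hr => E.ε_injective (by rw [map_smul, map_zero, hm]; exact hk r hr)⟩⟩,
        congrArg (E.toH a 0) (Subtype.ext hm)⟩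
  refine ⟨LinearEquiv.ofBijective _ hbij, fun g m => ⟨fun hm => ⟨t m, E.ε_grHom g _ hm, rfl⟩, ?_⟩⟩
  rintro ⟨z, hz, hzm⟩
  have hz' : (z : (E.X 0).carrier) = E.ε (m : M) := sub_eq_zero.1 ((Submodule.Quotient.eq _).1 hzm)
  obtain ⟨m', hm', he⟩ := exists_preimage_mem (ℳ := ℳ) (𝒩 := (E.X 0).gr) E.ε (isGrHomDeg_zero_iff.2 E.ε_grHom)
    (hz' ▸ hz) ⟨_, rfl⟩
  rw [sub_zero] at hm'
  rwa [← E.ε_injective he]

end Groth.Agent.GrLib8
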