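import Groth.Agent.GrLib8.DegMap
import Groth.Prelude.Def_GrSyz

/-!
# Modules over a non-negatively graded ring and the irrelevant ideal
-/

set_option autoImplicit false
set_option linter.unusedSectionVars false

universe u

open DirectSum

namespace Groth.Agent.GrLib8

variable {R : Type u} [CommRing R] {σ : Type u} [SetLike σ R] [AddSubgroupClass σ R] (𝒜 : ℤ → σ) [GradedRing 𝒜]
variable {M : Type u} [AddCommGroup M] [Module R M] {τ : Type u} [SetLike τ M] [AddSubgroupClass τ M] (ℳ : ℤ → τ)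
  [Decomposition ℳ] [SetLike.GradedSMul 𝒜 ℳ]

/-- Elements without components below a degree. -/
def aboveSub (hpos : ∀ n < 0, ∀ r ∈ 𝒜 n, r = 0) (b : ℤ) : Submodule R M where
  carrier := {x | ∀ g < b, (decompose ℳ x g : M) = 0}
  zero_mem' g _ := by rw [decompose_zero, DirectSum.zero_apply, ZeroMemClass.coe_zero]
  add_mem' {x y} hx hy g hg := by
    rw [decompose_add, DirectSum.add_apply, AddMemClass.coe_add, hx g hg, hy g hg, add_zero]
  smul_mem' r x hx g hg := by
    classical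
    rw [← sum_support_decompose 𝒜 r, Finset.sum_smul, decompose_sum]
    rw [show (((∑ i ∈ (decompose 𝒜 r).support, decompose ℳ ((decompose 𝒜 r i : R) • x)) g : ℳ g) : M) =
        ∑ i ∈ (decompose 𝒜 r).support, (decompose ℳ ((decompose 𝒜 r i : R) • x) g : M) from
      map_sum ((AddSubgroupClass.subtype (ℳ g)).comp (DFinsupp.evalAddMonoidHom (β := fun i => ℳ i) g)) _ _]
    refine Finset.sum_eq_zero fun i _ => ?_
    rw [decompose_smul_of_mem_left 𝒜 ℳ (SetLike.coe_mem _)]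
    rcases lt_or_ge i 0 with hi | hi
    · rw [hpos i hi _ (SetLike.coe_mem _), zero_smul]
    · rw [hx (g - i) (by omega), smul_zero]

variable (hpos : ∀ n < 0, ∀ r ∈ 𝒜 n, r = 0)

include hpos ℳ

theorem exists_aboveSub_eq_top [Module.Finite R M] : ∃ b, aboveSub 𝒜 ℳ hpos b = ⊤ := by
  classical
  obtain ⟨K, t, e, ht, htop⟩ := exists_homogeneous_generators ℳ (R := R)
  obtain ⟨b, hb⟩ : ∃ b : ℤ, ∀ j, b ≤ e j := ⟨-(∑ j, |e j|), fun j => by
    have := Finset.single_le_sum (f := fun j => |e j|) (fun j _ => abs_nonneg _) (Finset.mem_univ j)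
    have := neg_abs_le (e j)
    omega⟩
  refine ⟨b, eq_top_iff.2 (htop.ge.trans (Submodule.span_le.2 ?_))⟩
  rintro _ ⟨j, rfl⟩ g hg
  exact decompose_of_mem_ne ℳ (ht j) (fun h => by have := hb j; omega)

theorem irrel_smul_le (b : ℤ) :
    (GrSyz.irrel 𝒜).toIdeal • aboveSub 𝒜 ℳ hpos b ≤ aboveSub 𝒜 ℳ hpos (b + 1) := by
  refine Submodule.smul_le.2 fun a ha x hx => ?_
  change a ∈ Ideal.span _ at ha
  induction ha using Submodule.span_induction with
  | mem a ha =>
    obtain ⟨i, hi, hai⟩ := ha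
    intro g hg
    rw [decompose_smul_of_mem_left 𝒜 ℳ hai, hx (g - i) (by omega), smul_zero]
  | zero => rw [zero_smul]; exact zero_mem _
  | add a a' _ _ h h' => rw [add_smul]; exact add_mem h h'
  | smul c a _ h => rw [smul_eq_mul, mul_smul]; exact Submodule.smul_mem _ c h

theorem pow_smul_le (b : ℤ) (hb : aboveSub 𝒜 ℳ hpos b = ⊤) (n : ℕ) :
    (GrSyz.irrel 𝒜).toIdeal ^ n • (⊤ : Submodule R M) ≤ aboveSub 𝒜 ℳ hpos (b + n) := by
  induction n with
  | zero => rw [Nat.cast_zero, add_zero, hb]; exact le_top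
  | succ n ih =>
    rw [pow_succ', Submodule.mul_smul, Nat.cast_succ, ← add_assoc]
    exact (Submodule.smul_mono le_rfl ih).trans (irrel_smul_le 𝒜 ℳ hpos _)

/-- A graded module of finite length is killed by a power of the irrelevant ideal. -/
theorem exists_pow_irrel_smul_eq_bot (hM : IsFiniteLength R M) :
    ∃ n : ℕ, (GrSyz.irrel 𝒜).toIdeal ^ n • (⊤ : Submodule R M) = ⊥ := by
  classical
  obtain ⟨_, _⟩ := isFiniteLength_iff_isNoetherian_isArtinian.1 hM
  obtain ⟨b, hb⟩ := exists_aboveSub_eq_top 𝒜 ℳ hpos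
  obtain ⟨n, hn⟩ := IsArtinian.monotone_stabilizes (R := R) (M := M)
    ⟨fun n => OrderDual.toDual ((GrSyz.irrel 𝒜).toIdeal ^ n • (⊤ : Submodule R M)), fun i j hij =>
      Submodule.smul_mono_left (Ideal.pow_le_pow_right hij)⟩
  refine ⟨n, eq_bot_iff.2 fun x hx => ?_⟩
  rw [Submodule.mem_bot, ← sum_support_decompose ℳ x]
  refine Finset.sum_eq_zero fun g _ => ?_
  let m := n + (g - b + 1).toNat
  have hm : (GrSyz.irrel 𝒜).toIdeal ^ n • (⊤ : Submodule R M) = (GrSyz.irrel 𝒜).toIdeal ^ m • ⊤ :=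
    hn m (Nat.le_add_right _ _)
  exact pow_smul_le 𝒜 ℳ hpos b hb m (hm ▸ hx) g (by omega)

theorem isPowerTorsion_of_isFiniteLength (hM : IsFiniteLength R M) :
    LocCoh.IsPowerTorsion (GrSyz.irrel 𝒜).toIdeal M := by
  obtain ⟨n, hn⟩ := exists_pow_irrel_smul_eq_bot 𝒜 ℳ hpos hM
  exact fun x => ⟨n, fun r hr => (Submodule.mem_bot R).1 (hn ▸ Submodule.smul_mem_smul hr Submodule.mem_top)⟩

omit hpos ℳ in
theorem stdGr_nonneg (k : Type u) [CommRing k] (s : Type*) (n : ℤ) (hn : n < 0) (p : MvPolynomial s k)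
    (hp : p ∈ GrSyz.stdGr k s n) : p = 0 := by
  refine MvPolynomial.ext _ _ fun d => ?_
  rw [MvPolynomial.coeff_zero]
  by_contra hd
  have h := (GrSyz.mem_stdGr_iff k s n p).1 hp hd
  have h0 : 0 ≤ Finsupp.weight (fun _ : s => (1 : ℤ)) d := by
    rw [Finsupp.weight_apply]
    exact Finset.sum_nonneg fun i _ => by simp
  omega

end Groth.Agent.GrLib8
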