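import Groth.Agent.GrLib8.Diag

/-!
# Filter-regular linear forms on modules over a polynomial ring
-/

set_option autoImplicit false
set_option linter.unusedSectionVars false

universe u

open DirectSum

namespace Groth.Agent.GrLib8

theorem irrel_le_span_one (k : Type u) [CommRing k] (n : ℕ) :
    (GrSyz.irrel (GrSyz.stdGr k (Fin n))).toIdeal ≤
      Ideal.span ((GrSyz.stdGr k (Fin n) 1 : Submodule k (MvPolynomial (Fin n) k)) : Set (MvPolynomial (Fin n) k)) := by
  refine Ideal.span_le.2 ?_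
  rintro f ⟨m, hm, hf⟩
  have hsub : (MvPolynomial.X '' (Set.univ : Set (Fin n)) : Set (MvPolynomial (Fin n) k)) ⊆
      ((GrSyz.stdGr k (Fin n) 1 : Submodule k (MvPolynomial (Fin n) k)) : Set (MvPolynomial (Fin n) k)) := by
    rintro _ ⟨i, -, rfl⟩
    exact MvPolynomial.isWeightedHomogeneous_X k (fun _ : Fin n => (1 : ℤ)) i
  refine Ideal.span_mono hsub ?_
  rw [MvPolynomial.mem_ideal_span_X_image]
  intro d hd
  by_contra h
  push Not at h
  have hw := (GrSyz.mem_stdGr_iff k (Fin n) m f).1 hf (MvPolynomial.mem_support_iff.1 hd)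
  rw [show d = 0 from Finsupp.ext fun i => h i trivial, map_zero] at hw
  omega

variable {k : Type u} [Field k] {n : ℕ}
variable {M : Type u} [AddCommGroup M] [Module k M] [Module (MvPolynomial (Fin n) k) M]
  [IsScalarTower k (MvPolynomial (Fin n) k) M] [Module.Finite (MvPolynomial (Fin n) k) M]
  (ℳ : ℤ → Submodule k M) [Decomposition ℳ] [SetLike.GradedSMul (GrSyz.stdGr k (Fin n)) ℳ]

include ℳ in
/-- A kernel of finite length is torsion. -/
theorem torsion_of_finiteLength (x : MvPolynomial (Fin n) k) (e : ℤ) (hx : x ∈ GrSyz.stdGr k (Fin n) e)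
    (hq : IsFiniteLength (MvPolynomial (Fin n) k) (Submodule.torsionBy (MvPolynomial (Fin n) k) M x)) :
    LocCoh.IsPowerTorsion (GrSyz.irrel (GrSyz.stdGr k (Fin n))).toIdeal
      (Submodule.torsionBy (MvPolynomial (Fin n) k) M x) := by
  let 𝒜 := GrSyz.stdGr k (Fin n)
  let K : Submodule (MvPolynomial (Fin n) k) M := Submodule.torsionBy (MvPolynomial (Fin n) k) M x
  have hK : K.IsHomogeneous ℳ := by
    intro g m hm
    have h := map_decompose_deg (𝒩 := ℳ) (x • (LinearMap.id : M →ₗ[MvPolynomial (Fin n) k] M))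
      (isGrHomDeg_smul_id (𝒜 := 𝒜) hx) m g
    show x • (decompose ℳ m g : M) = 0
    have hm' : x • m = 0 := hm
    simp only [LinearMap.smul_apply, LinearMap.id_apply] at h
    rw [h, hm', decompose_zero, DirectSum.zero_apply, ZeroMemClass.coe_zero]
  let T := subGMod 𝒜 ℳ K hK
  haveI : Module.Finite (MvPolynomial (Fin n) k) T.carrier := inferInstanceAs (Module.Finite (MvPolynomial (Fin n) k) K)
  exact isPowerTorsion_of_isFiniteLength (M := T.carrier) 𝒜 T.gr (stdGr_nonneg k (Fin n)) hq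

variable {N : Type u} [AddCommGroup N] [Module k N] [Module (MvPolynomial (Fin n) k) N]
  [IsScalarTower k (MvPolynomial (Fin n) k) N]
  (𝒩 : ℤ → Submodule k N) [Decomposition 𝒩] [SetLike.GradedSMul (GrSyz.stdGr k (Fin n)) 𝒩]
variable {x : MvPolynomial (Fin n) k} (hx : x ∈ GrSyz.stdGr k (Fin n) 1)
  (hq : IsFiniteLength (MvPolynomial (Fin n) k) (Submodule.torsionBy (MvPolynomial (Fin n) k) M x))
  (π : M →ₗ[MvPolynomial (Fin n) k] N) (hπ : Function.Surjective π) (hπg : GrLC.IsGrHom ℳ 𝒩 π)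
  (hker : LinearMap.ker π = LinearMap.range (x • (LinearMap.id : M →ₗ[MvPolynomial (Fin n) k] M)))

include hx hq hπ hπg hker

/-- The quotient by a filter-regular linear form: pieces of its cohomology. -/
theorem filter_right (i : ℕ) (g : ℤ)
    (h1 : HVan (GrSyz.irrel (GrSyz.stdGr k (Fin n))) (gmodPieces (GrSyz.stdGr k (Fin n)) ℳ) i g)
    (h2 : HVan (GrSyz.irrel (GrSyz.stdGr k (Fin n))) (gmodPieces (GrSyz.stdGr k (Fin n)) ℳ) (i + 1) (g - 1)) :
    HVan (GrSyz.irrel (GrSyz.stdGr k (Fin n))) (gmodPieces (GrSyz.stdGr k (Fin n)) 𝒩) i g := by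
  let X := gmodPieces (GrSyz.stdGr k (Fin n)) ℳ
  let Y := gmodPieces (GrSyz.stdGr k (Fin n)) 𝒩
  let π' : X.carrier →ₗ[MvPolynomial (Fin n) k] Y.carrier := π
  obtain ⟨T, Q, j, p, f, hT, hj, hp, hji, hps, hjp, hf, hfi, hfπ, -⟩ :=
    exists_filter_seqs (X := X) (Y := Y) hx π' hker (torsion_of_finiteLength ℳ x 1 hx hq)
  refine hVan_right hf (fun g m hm => (add_zero g).symm ▸ hπg g m hm) hfi hπ hfπ h1 ?_
  exact hVan_right hj hp hji hps hjp h2 (hVan_of_torsion hT _ _)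

/-- Multiplication by a filter-regular linear form: pieces of the cohomology. -/
theorem filter_middle (i : ℕ) (g : ℤ)
    (h1 : HVan (GrSyz.irrel (GrSyz.stdGr k (Fin n))) (gmodPieces (GrSyz.stdGr k (Fin n)) ℳ) (i + 1) (g - 1))
    (h2 : HVan (GrSyz.irrel (GrSyz.stdGr k (Fin n))) (gmodPieces (GrSyz.stdGr k (Fin n)) 𝒩) (i + 1) g) :
    HVan (GrSyz.irrel (GrSyz.stdGr k (Fin n))) (gmodPieces (GrSyz.stdGr k (Fin n)) ℳ) (i + 1) g := by
  let X := gmodPieces (GrSyz.stdGr k (Fin n)) ℳ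
  let Y := gmodPieces (GrSyz.stdGr k (Fin n)) 𝒩
  let π' : X.carrier →ₗ[MvPolynomial (Fin n) k] Y.carrier := π
  obtain ⟨T, Q, j, p, f, hT, hj, hp, hji, hps, hjp, hf, hfi, hfπ, -⟩ :=
    exists_filter_seqs (X := X) (Y := Y) hx π' hker (torsion_of_finiteLength ℳ x 1 hx hq)
  refine hVan_middle hf (fun g m hm => (add_zero g).symm ▸ hπg g m hm) hfi hπ hfπ ?_ h2
  exact hVan_right hj hp hji hps hjp h1 (hVan_of_torsion hT _ _)

/-- Multiplication by a filter-regular linear form is injective above. -/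
theorem filter_left (i : ℕ) (g : ℤ)
    (h1 : HVan (GrSyz.irrel (GrSyz.stdGr k (Fin n))) (gmodPieces (GrSyz.stdGr k (Fin n)) 𝒩) i g)
    (h2 : HVan (GrSyz.irrel (GrSyz.stdGr k (Fin n))) (gmodPieces (GrSyz.stdGr k (Fin n)) ℳ) (i + 1) g) :
    HVan (GrSyz.irrel (GrSyz.stdGr k (Fin n))) (gmodPieces (GrSyz.stdGr k (Fin n)) ℳ) (i + 1) (g - 1) := by
  let X := gmodPieces (GrSyz.stdGr k (Fin n)) ℳ
  let Y := gmodPieces (GrSyz.stdGr k (Fin n)) 𝒩
  let π' : X.carrier →ₗ[MvPolynomial (Fin n) k] Y.carrier := π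
  obtain ⟨T, Q, j, p, f, hT, hj, hp, hji, hps, hjp, hf, hfi, hfπ, -⟩ :=
    exists_filter_seqs (X := X) (Y := Y) hx π' hker (torsion_of_finiteLength ℳ x 1 hx hq)
  refine hVan_middle hj hp hji hps hjp (hVan_of_torsion hT i _) ?_
  exact hVan_left hf (fun g m hm => (add_zero g).symm ▸ hπg g m hm) hfi hπ hfπ h1 h2

end Groth.Agent.GrLib8
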