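import Groth.Agent.GrLib8.StarInj

/-!
# *Injective resolutions and graded local cohomology pieces
-/

set_option autoImplicit false

universe u

open DirectSum

namespace Groth.Agent.GrLib8

variable {ι : Type} [AddCommGroup ι] [DecidableEq ι]
variable {R : Type u} [CommRing R] {σ : Type u} [SetLike σ R] [AddSubgroupClass σ R] {𝒜 : ι → σ} [GradedRing 𝒜]

theorem exists_hull (X : GrLC.GMod.{u} 𝒜) :
    ∃ (E : GrLC.GMod.{u} 𝒜) (f : X.carrier →ₗ[R] E.carrier), GrLC.IsStarInjHull 𝒜 X.gr E.gr f := by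
  obtain ⟨I, _, _, _, i, hi⟩ := LC.exists_injective_embedding R X.carrier
  obtain ⟨E, f, hf, -⟩ := exists_hull_sub 𝒜 X.gr I i hi
  exact ⟨E, f, hf⟩

/-- The chosen hull. -/
noncomputable def hullObj (X : GrLC.GMod.{u} 𝒜) : GrLC.GMod.{u} 𝒜 := (exists_hull X).choose

/-- The chosen hull map. -/
noncomputable def hullMap (X : GrLC.GMod.{u} 𝒜) : X.carrier →ₗ[R] (hullObj X).carrier :=
  (exists_hull X).choose_spec.choose

theorem hull_spec (X : GrLC.GMod.{u} 𝒜) : GrLC.IsStarInjHull 𝒜 X.gr (hullObj X).gr (hullMap X) :=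
  (exists_hull X).choose_spec.choose_spec

/-- The cosyzygy. -/
noncomputable def cosyz (X : GrLC.GMod.{u} 𝒜) : GrLC.GMod.{u} 𝒜 :=
  quotGMod 𝒜 (hullObj X).gr (LinearMap.range (hullMap X))
    (isHomogeneous_range (hullObj X).gr X.gr (hull_spec X).grHom)

/-- The iterated cosyzygies. -/
noncomputable def cosyzN (X : GrLC.GMod.{u} 𝒜) : ℕ → GrLC.GMod.{u} 𝒜
  | 0 => X
  | n + 1 => cosyz (cosyzN X n)

/-- The projection to the cosyzygy. -/
noncomputable def cosyzMap (X : GrLC.GMod.{u} 𝒜) : (hullObj X).carrier →ₗ[R] (cosyz X).carrier :=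
  (LinearMap.range (hullMap X)).mkQ

theorem cosyzMap_surjective (X : GrLC.GMod.{u} 𝒜) : Function.Surjective (cosyzMap X) :=
  Submodule.mkQ_surjective _

theorem ker_cosyzMap (X : GrLC.GMod.{u} 𝒜) : LinearMap.ker (cosyzMap X) = LinearMap.range (hullMap X) :=
  Submodule.ker_mkQ _

/-- The *injective resolution. -/
noncomputable def starRes {M : Type u} [AddCommGroup M] [Module R M] {τ : Type u} [SetLike τ M] [AddSubgroupClass τ M] (ℳ : ι → τ) [Decomposition ℳ]
    [SetLike.GradedSMul 𝒜 ℳ] : GrLC.StarInjRes 𝒜 ℳ where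
  X n := hullObj (cosyzN (gmodPieces 𝒜 ℳ) n)
  d n := hullMap (cosyzN (gmodPieces 𝒜 ℳ) (n + 1)) ∘ₗ cosyzMap (cosyzN (gmodPieces 𝒜 ℳ) n)
  ε := hullMap (gmodPieces 𝒜 ℳ)
  d_grHom n := fun g x hx => (hull_spec (cosyzN (gmodPieces 𝒜 ℳ) (n + 1))).grHom g _
    (isGrHom_mkQ (hullObj (cosyzN (gmodPieces 𝒜 ℳ) n)).gr _ g x hx)
  ε_grHom := (hull_spec (gmodPieces 𝒜 ℳ)).grHom
  ε_injective := (hull_spec (gmodPieces 𝒜 ℳ)).injective
  exact_zero := by
    rw [LinearMap.ker_comp, LinearMap.ker_eq_bot.2 (hull_spec _).injective, Submodule.comap_bot]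
    exact ker_cosyzMap _
  exact_succ n :=
    ((LinearMap.ker_comp_of_ker_eq_bot _ (LinearMap.ker_eq_bot.2 (hull_spec _).injective)).trans (ker_cosyzMap _)).trans
      (LinearMap.range_comp_of_range_eq_top _ (LinearMap.range_eq_top.2 (cosyzMap_surjective _))).symm
  starInj n := (hull_spec _).starInj

section Internal

variable {M : Type u} [AddCommGroup M] [Module R M] {τ : Type u} [SetLike τ M] [AddSubgroupClass τ M] (ℳ : ι → τ) [Decomposition ℳ]
  [SetLike.GradedSMul 𝒜 ℳ]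

theorem isHomogeneous_gam (a : HomogeneousIdeal 𝒜) : (GrLC.gam a.toIdeal M).IsHomogeneous ℳ := by
  classical
  rintro g x ⟨n, hn⟩
  have hpow : (a.toIdeal ^ n).IsHomogeneous 𝒜 := by
    clear hn
    induction n with
    | zero => rw [pow_zero, Ideal.one_eq_top]; exact Ideal.IsHomogeneous.top 𝒜
    | succ n ih => rw [pow_succ]; exact ih.mul a.isHomogeneous
  refine ⟨n, fun r hr => ?_⟩
  rw [← sum_support_decompose 𝒜 r, Finset.sum_smul]
  refine Finset.sum_eq_zero fun i _ => ?_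
  rw [show g = i + g - i from (add_sub_cancel_left i g).symm,
    ← decompose_smul_of_mem_left 𝒜 ℳ (SetLike.coe_mem (decompose 𝒜 r i)) x, hn _ (hpow i hr), decompose_zero,
    DirectSum.zero_apply, ZeroMemClass.coe_zero]

theorem isInternal_Hgr (E : GrLC.StarInjRes 𝒜 ℳ) (a : HomogeneousIdeal 𝒜) (i : ℕ) :
    DirectSum.IsInternal (E.Hgr a i) := by
  classical
  have hcoc : (E.cocyc a i).IsHomogeneous (E.X i).gr :=
    isHomogeneous_inf (E.X i).gr (isHomogeneous_gam (E.X i).gr a) (isHomogeneous_ker (E.X i).gr (E.X (i + 1)).gr (E.d_grHom i))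
  have hbdy : (E.cobdy a i).IsHomogeneous (E.X i).gr := by
    cases i with
    | zero =>
      intro g x hx
      have hx : x = 0 := hx
      show (decompose (E.X 0).gr x g : (E.X 0).carrier) = 0
      rw [hx, decompose_zero, DirectSum.zero_apply, ZeroMemClass.coe_zero]
    | succ n =>
      rintro g _ ⟨y, hy, rfl⟩
      exact ⟨_, isHomogeneous_gam (E.X n).gr a g hy,
        map_decompose (E.X n).gr (E.X (n + 1)).gr (E.d n).toAddMonoidHom (E.d_grHom n) y g⟩
  refine isInternal_of _ (fun x => ?_) fun s c hc hsum g hg => ?_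
  · obtain ⟨z, rfl⟩ := Submodule.Quotient.mk_surjective _ x
    change E.toH a i z ∈ _
    have hz : z = ∑ g ∈ (decompose (E.X i).gr (z : (E.X i).carrier)).support,
        (⟨(decompose (E.X i).gr (z : (E.X i).carrier) g : (E.X i).carrier), hcoc g z.2⟩ : E.cocyc a i) :=
      Subtype.ext (by rw [AddSubmonoidClass.coe_finsetSum]; exact (sum_support_decompose (E.X i).gr _).symm)
    rw [hz, map_sum]
    exact AddSubgroup.sum_mem _ fun g _ =>
      AddSubgroup.mem_iSup_of_mem g ⟨⟨_, hcoc g z.2⟩, SetLike.coe_mem _, rfl⟩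
  · choose! z hz hzc using hc
    have h1 : ((∑ i' ∈ s, z i' : E.cocyc a i) : (E.X i).carrier) ∈ E.cobdy a i := by
      have : E.toH a i (∑ i' ∈ s, z i') = 0 := by
        rw [map_sum, ← hsum]; exact Finset.sum_congr rfl fun i' hi => hzc i' hi
      exact (Submodule.Quotient.mk_eq_zero ((E.cobdy a i).comap (E.cocyc a i).subtype)).1 this
    rw [AddSubmonoidClass.coe_finsetSum] at h1
    have h2 : ∀ i' ∈ s, (E.cobdy a i).mkQ (z i' : (E.X i).carrier) ∈ quotPieces (E.X i).gr (E.cobdy a i) i' := fun i' hi =>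
      ⟨_, hz i' hi, rfl⟩
    have h3 := quot_indep (E.X i).gr (E.cobdy a i) hbdy s (fun i' => (E.cobdy a i).mkQ (z i' : (E.X i).carrier)) h2
      (by rw [← map_sum]; exact (Submodule.Quotient.mk_eq_zero _).2 h1) g hg
    rw [← hzc g hg]
    exact (Submodule.Quotient.mk_eq_zero _).2 ((Submodule.Quotient.mk_eq_zero (E.cobdy a i)).1 h3)

end Internal

end Groth.Agent.GrLib8
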