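import Groth.Agent.GrLib8.Avoid
import Groth.Agent.GrLib8.Koszul

/-!
# Eventual vanishing of graded local cohomology
-/

set_option autoImplicit false
set_option linter.unusedSectionVars false

universe u

open DirectSum

namespace Groth.Agent.GrLib8

variable {R : Type u} [CommRing R] [IsNoetherianRing R] {σ : Type u} [SetLike σ R] [AddSubgroupClass σ R]
  {𝒜 : ℤ → σ} [GradedRing 𝒜]

/-- Quotient of a module by a homogeneous element acting injectively. -/
theorem exists_regular_seq {X : GrLC.GMod.{u} 𝒜} [Module.Finite R X.carrier] {x : R} {e : ℤ} (hx : x ∈ 𝒜 e)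
    (hreg : IsSMulRegular X.carrier x) :
    ∃ (Y : GrLC.GMod.{u} 𝒜) (π : X.carrier →ₗ[R] Y.carrier), Module.Finite R Y.carrier ∧
      GrLC.IsGrHomDeg X.gr X.gr (x • (LinearMap.id : X.carrier →ₗ[R] X.carrier)) e ∧ GrLC.IsGrHomDeg X.gr Y.gr π 0 ∧
      Function.Injective (x • (LinearMap.id : X.carrier →ₗ[R] X.carrier)) ∧ Function.Surjective π ∧
      Function.Exact (x • (LinearMap.id : X.carrier →ₗ[R] X.carrier)) π ∧
      ∀ g, ∀ y ∈ Y.gr g, ∃ m ∈ X.gr g, π m = y := by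
  let μ : X.carrier →ₗ[R] X.carrier := x • LinearMap.id
  have hμ : GrLC.IsGrHomDeg X.gr X.gr μ e := isGrHomDeg_smul_id hx
  let K := LinearMap.range μ
  have hK : K.IsHomogeneous X.gr := by
    rintro g _ ⟨m, rfl⟩
    refine ⟨(decompose X.gr m (g - e) : X.carrier), ?_⟩
    rw [map_decompose_deg μ hμ, sub_add_cancel]
  let Y := quotGMod 𝒜 X.gr K hK
  let π : X.carrier →ₗ[R] Y.carrier := K.mkQ
  refine ⟨Y, π, Module.Finite.of_surjective π (Submodule.mkQ_surjective K), hμ,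
    fun g m hm => (add_zero g).symm ▸ isGrHom_mkQ X.gr K g m hm, hreg, Submodule.mkQ_surjective K,
    fun y => ⟨fun h => (Submodule.Quotient.mk_eq_zero K).1 h, fun h => (Submodule.Quotient.mk_eq_zero K).2 h⟩,
    fun g y hy => hy⟩

/-- The torsion part and the torsion-free quotient. -/
theorem exists_tors_seq (b : HomogeneousIdeal 𝒜) (X : GrLC.GMod.{u} 𝒜) [Module.Finite R X.carrier] :
    ∃ (T Q : GrLC.GMod.{u} 𝒜) (j : T.carrier →ₗ[R] X.carrier) (p : X.carrier →ₗ[R] Q.carrier),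
      Module.Finite R T.carrier ∧ Module.Finite R Q.carrier ∧ LocCoh.IsPowerTorsion b.toIdeal T.carrier ∧
      GrLC.gam b.toIdeal Q.carrier = ⊥ ∧
      GrLC.IsGrHomDeg T.gr X.gr j 0 ∧ GrLC.IsGrHomDeg X.gr Q.gr p 0 ∧ Function.Injective j ∧ Function.Surjective p ∧
      Function.Exact j p ∧ (∀ g, ∀ y ∈ Q.gr g, ∃ m ∈ X.gr g, p m = y) := by
  let K := GrLC.gam b.toIdeal X.carrier
  have hK : K.IsHomogeneous X.gr := isHomogeneous_gam X.gr b
  let T := subGMod 𝒜 X.gr K hK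
  let Q := quotGMod 𝒜 X.gr K hK
  let p : X.carrier →ₗ[R] Q.carrier := K.mkQ
  let j : T.carrier →ₗ[R] X.carrier := K.subtype
  refine ⟨T, Q, j, p, Module.Finite.iff_fg.2 (IsNoetherian.noetherian K),
    Module.Finite.of_surjective p (Submodule.mkQ_surjective K), ?_, ?_,
    fun g m hm => (add_zero g).symm ▸ hm, fun g m hm => (add_zero g).symm ▸ isGrHom_mkQ X.gr K g m hm,
    Subtype.val_injective, Submodule.mkQ_surjective K, LinearMap.exact_subtype_mkQ K, fun g y hy => hy⟩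
  · intro (t : K)
    obtain ⟨n, hn⟩ := t.2
    exact ⟨n, fun r hr => Subtype.ext (hn r hr)⟩
  · refine (Submodule.eq_bot_iff _).2 fun (q : X.carrier ⧸ K) hq => ?_
    obtain ⟨m, rfl⟩ := Submodule.Quotient.mk_surjective K q
    obtain ⟨k, hk⟩ := hq
    refine (Submodule.Quotient.mk_eq_zero K).2 ?_
    classical
    obtain ⟨s, hs⟩ := IsNoetherian.noetherian (b.toIdeal ^ k)
    have hmem : ∀ r : R, r ∈ s → r • m ∈ K := fun r hr => by
      have h : r ∈ b.toIdeal ^ k := hs ▸ Ideal.subset_span hr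
      exact (Submodule.Quotient.mk_eq_zero K).1 (hk r h)
    choose! l hl using hmem
    refine ⟨k + s.sup l, fun r hr => ?_⟩
    have hle : ∀ c ∈ b.toIdeal ^ (s.sup l),
        b.toIdeal ^ k ≤ LinearMap.ker (LinearMap.toSpanSingleton R X.carrier (c • m)) := fun c hc => by
      rw [← hs]
      refine Submodule.span_le.2 fun g hg => ?_
      show g • c • m = 0
      rw [smul_comm]
      exact hl g hg c (Ideal.pow_le_pow_right (Finset.le_sup hg) hc)
    rw [pow_add] at hr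
    induction hr using Submodule.mul_induction_on' with
    | mem_mul_mem g hg c hc => rw [mul_smul]; exact hle c hc hg
    | add u _ v _ hu hv => rw [add_smul, hu, hv, add_zero]

variable (hpos : ∀ n < 0, ∀ r ∈ 𝒜 n, r = 0) {a : HomogeneousIdeal 𝒜}

/-- If the quotient by a regular element has no cohomology above a degree, neither has the module one step up. -/
theorem hVan_of_regular {X Y : GrLC.GMod.{u} 𝒜} {x : R} {e : ℤ} (hx : x ∈ 𝒜 e) (he : 0 ≤ e) (hxa : x ∈ a.toIdeal)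
    (π : X.carrier →ₗ[R] Y.carrier) (hμ : GrLC.IsGrHomDeg X.gr X.gr (x • (LinearMap.id : X.carrier →ₗ[R] X.carrier)) e)
    (hπg : GrLC.IsGrHomDeg X.gr Y.gr π 0)
    (hinj : Function.Injective (x • (LinearMap.id : X.carrier →ₗ[R] X.carrier))) (hπ : Function.Surjective π)
    (hex : Function.Exact (x • (LinearMap.id : X.carrier →ₗ[R] X.carrier)) π)
    (i : ℕ) (g₀ : ℤ) (hY : ∀ g, g₀ < g → HVan a Y i g) (g : ℤ) (hg : g₀ < g + e) : HVan a X (i + 1) g := by
  intro E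
  rw [Hcomp_eq_bot_iff]
  obtain ⟨-, hi⟩ := exists_les _ π hμ hπg hinj hπ hex E E (starRes Y.gr) a
  obtain ⟨δ, hδ, -, -, e3⟩ := hi i
  have hsmul : ∀ z, hmap E E a _ hμ (i + 1) z = x • z := fun z => by
    rw [hmap_smul_id a hμ hx]; rfl
  have hstep : ∀ g', g₀ < g' + e → ∀ y ∈ E.Hgr a (i + 1) g', x • y = 0 → y = 0 := by
    intro g' hg' y hy h0
    obtain ⟨w, hw, hwe⟩ := exists_preimage_Hgr _ _ a δ hδ hy ((e3 y).1 ((hsmul y).trans h0))
    rw [← hwe, (Hcomp_eq_bot_iff _ a i _).1 (hY _ (by omega) (starRes Y.gr)) w hw, map_zero]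
  intro y hy
  obtain ⟨z, rfl⟩ := toH_surj E a (i + 1) y
  obtain ⟨k, hk⟩ := z.2.1
  have hkill : x ^ k • E.toH a (i + 1) z = 0 := by
    rw [← map_smul, show x ^ k • z = 0 from Subtype.ext (hk _ (Ideal.pow_mem_pow hxa k)), map_zero]
  have main : ∀ (k : ℕ) (g' : ℤ), g₀ < g' + e → ∀ y ∈ E.Hgr a (i + 1) g', x ^ k • y = 0 → y = 0 := by
    intro k
    induction k with
    | zero => intro g' _ y _ h; rwa [pow_zero, one_smul] at h
    | succ k ih =>
      intro g' hg' y hy h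
      refine hstep g' hg' y hy (ih (g' + e) (by omega) _ ?_ ?_)
      · exact hsmul y ▸ isGrHomDeg_hmap a hμ (i + 1) g' y hy
      · rw [smul_smul, ← pow_succ]; exact h
  exact main k g hg _ hy hkill

theorem hVan_zero_of {X : GrLC.GMod.{u} 𝒜} {g : ℤ} (h : ∀ m ∈ GrLC.gam a.toIdeal X.carrier, m ∈ X.gr g → m = 0) :
    HVan a X 0 g := by
  intro E
  rw [Hcomp_eq_bot_iff]
  obtain ⟨e, he⟩ := exists_H0_equiv E a
  intro y hy
  obtain ⟨m, rfl⟩ := e.surjective y
  rw [show m = 0 from Subtype.ext (h m m.2 ((he g m).2 hy)), map_zero]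

include hpos

/-- A torsion module living in degrees `≤ c` has cohomology only there. -/
theorem hVan_of_bounded : ∀ (i : ℕ) (X : GrLC.GMod.{u} 𝒜) [Module.Finite R X.carrier],
    LocCoh.IsPowerTorsion (GrSyz.irrel 𝒜).toIdeal X.carrier →
    ∀ c : ℤ, (∀ g, c < g → ∀ m ∈ X.gr g, m = 0) → ∀ g, c < g → HVan a X i g
  | 0 => fun X _ _ c hc g hg => hVan_zero_of fun m _ hm => hc g hg m hm
  | i + 1 => fun X _ htors c hc g hg => by
    obtain ⟨T, Q, j, p, _, _, hT, hQ, hj, hp, hji, hps, hjp, hlift⟩ := exists_tors_seq a X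
    have hQtors : LocCoh.IsPowerTorsion (GrSyz.irrel 𝒜).toIdeal Q.carrier := fun q => by
      obtain ⟨m, rfl⟩ := hps q
      obtain ⟨k, hk⟩ := htors m
      exact ⟨k, fun r hr => by rw [← map_smul, hk r hr, map_zero]⟩
    have hQc : ∀ g, c < g → ∀ q ∈ Q.gr g, q = 0 := fun g hg q hq => by
      obtain ⟨m, hm, rfl⟩ := hlift g q hq
      rw [hc g hg m hm, map_zero]
    refine hVan_middle hj hp hji hps hjp (hVan_of_torsion hT i _) ?_
    obtain ⟨x, hx, hxa, hreg⟩ := exists_regular_zero 𝒜 hpos a hQtors hQ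
    obtain ⟨Y, π, _, hμ, hπg, hinj, hπ, hex, hl⟩ := exists_regular_seq hx hreg
    have hYtors : LocCoh.IsPowerTorsion (GrSyz.irrel 𝒜).toIdeal Y.carrier := fun q => by
      obtain ⟨m, rfl⟩ := hπ q
      obtain ⟨k, hk⟩ := hQtors m
      exact ⟨k, fun r hr => by rw [← map_smul, hk r hr, map_zero]⟩
    refine hVan_of_regular hx le_rfl hxa π hμ hπg hinj hπ hex i c
      (fun g hg => hVan_of_bounded i Y hYtors c (fun g hg y hy => ?_) g hg) g (by rwa [add_zero])
    obtain ⟨m, hm, rfl⟩ := hl g y hy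
    rw [hQc g hg m hm, map_zero]

/-- Graded local cohomology of a finite module vanishes in high degrees. -/
theorem exists_hVan (ha : (GrSyz.irrel 𝒜).toIdeal ≤ a.toIdeal) : ∀ (i : ℕ) (X : GrLC.GMod.{u} 𝒜) [Module.Finite R X.carrier],
    ∃ c : ℤ, ∀ g, c < g → HVan a X i g
  | 0 => fun X _ => by
    let K := GrLC.gam (GrSyz.irrel 𝒜).toIdeal X.carrier
    let T := subGMod 𝒜 X.gr K (isHomogeneous_gam X.gr _)
    haveI : Module.Finite R T.carrier := Module.Finite.iff_fg.2 (IsNoetherian.noetherian K)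
    have hT : LocCoh.IsPowerTorsion (GrSyz.irrel 𝒜).toIdeal T.carrier := fun (t : K) => by
      obtain ⟨n, hn⟩ := t.2
      exact ⟨n, fun r hr => Subtype.ext (hn r hr)⟩
    obtain ⟨c, hc⟩ := exists_bounded_of_torsion (M := T.carrier) 𝒜 hpos T.gr hT
    refine ⟨c, fun g hg => hVan_zero_of fun m ⟨n, hn⟩ hm => ?_⟩
    exact congrArg Subtype.val (hc g hg ⟨m, n, fun r hr => hn r (Ideal.pow_right_mono ha n hr)⟩ hm)
  | i + 1 => fun X _ => by
    obtain ⟨T, Q, j, p, _, _, hT, hQ, hj, hp, hji, hps, hjp, -⟩ := exists_tors_seq (GrSyz.irrel 𝒜) X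
    obtain ⟨c₁, hc₁⟩ := exists_bounded_of_torsion (M := T.carrier) 𝒜 hpos T.gr hT
    obtain ⟨e, he, x, hx, hxi, hreg⟩ := exists_regular_pos 𝒜 hpos hQ
    obtain ⟨Y, π, _, hμ, hπg, hinj, hπ, hex, -⟩ := exists_regular_seq hx hreg
    obtain ⟨c₂, hc₂⟩ := exists_hVan ha i Y
    refine ⟨max c₁ c₂, fun g hg => hVan_middle hj hp hji hps hjp ?_ ?_⟩
    · exact hVan_of_bounded hpos (i + 1) T hT c₁ hc₁ _ (by omega)
    · exact hVan_of_regular hx he.le (ha hxi) π hμ hπg hinj hπ hex i c₂ hc₂ g (by omega)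

end Groth.Agent.GrLib8

namespace Groth.Agent.GrLib8

variable {R : Type u} [CommRing R] {𝒜 : ℤ → AddSubgroup R} [GradedRing 𝒜]

omit [GradedRing 𝒜] in
theorem nonneg_of_bot (hpos : ∀ n : ℤ, n < 0 → 𝒜 n = ⊥) : ∀ n < 0, ∀ r ∈ 𝒜 n, r = 0 := fun n hn r hr =>
  (AddSubgroup.eq_bot_iff_forall _).1 (hpos n hn) r hr

theorem irrel_toIdeal_eq : (GrSyz.irrel 𝒜).toIdeal = Ideal.span (⋃ n ∈ Set.Ioi (0 : ℤ), (𝒜 n : Set R)) := by
  show Ideal.span _ = _
  congr 1
  ext r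
  simp [and_comm]

/-- The maximal homogeneous ideal contains the irrelevant ideal. -/
theorem irrel_le_of_isStarLocal (hpos : ∀ n : ℤ, n < 0 → 𝒜 n = ⊥) {m : HomogeneousIdeal 𝒜}
    (hm : GrLC.IsStarLocal 𝒜 m) : (GrSyz.irrel 𝒜).toIdeal ≤ m.toIdeal := by
  classical
  by_contra h
  have hne : m ⊔ GrSyz.irrel 𝒜 ≠ ⊤ := by
    intro htop
    have h1 : (1 : R) ∈ m.toIdeal ⊔ (GrSyz.irrel 𝒜).toIdeal := by
      rw [← HomogeneousIdeal.toIdeal_sup, htop]; trivial
    obtain ⟨u, hu, v, hv, huv⟩ := Submodule.mem_sup.1 h1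
    have hall : ∀ y : R, y ∈ aboveSub 𝒜 𝒜 (nonneg_of_bot hpos) 0 := fun y g hg =>
      nonneg_of_bot hpos g hg _ (SetLike.coe_mem _)
    have hv' : v • (1 : R) ∈ aboveSub 𝒜 𝒜 (nonneg_of_bot hpos) (0 + 1) :=
      irrel_smul_le 𝒜 𝒜 (nonneg_of_bot hpos) 0 (Submodule.smul_mem_smul hv (hall 1))
    have hv0 := hv' 0 (by norm_num)
    rw [smul_eq_mul, mul_one] at hv0
    have hu0 := m.isHomogeneous 0 hu
    rw [show u = 1 - v by rw [← huv]; ring, decompose_sub, DirectSum.sub_apply, AddSubgroupClass.coe_sub, hv0, sub_zero,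
      decompose_of_mem_same 𝒜 (SetLike.one_mem_graded 𝒜)] at hu0
    refine hm.1.1 (HomogeneousIdeal.toIdeal_injective ?_)
    rw [HomogeneousIdeal.toIdeal_top]
    exact (Ideal.eq_top_iff_one _).2 hu0
  have hlt : m < m ⊔ GrSyz.irrel 𝒜 := by
    refine lt_of_le_of_ne le_sup_left fun he => h ?_
    rw [he, HomogeneousIdeal.toIdeal_sup]
    exact le_sup_right
  exact hne (hm.1.2 _ hlt)

end Groth.Agent.GrLib8
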