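import Groth.Agent.GrLib8.Func

/-!
# The long exact sequence of graded local cohomology
-/

set_option autoImplicit false
set_option linter.unusedSectionVars false

universe u

open DirectSum

namespace Groth.Agent.GrLib8

variable {ι : Type} [AddCommGroup ι] [DecidableEq ι]
variable {R : Type u} [CommRing R] {σ : Type u} [SetLike σ R] [AddSubgroupClass σ R] {𝒜 : ι → σ} [GradedRing 𝒜]
variable {M : Type u} [AddCommGroup M] [Module R M] {τ : Type u} [SetLike τ M] [AddSubgroupClass τ M] {ℳ : ι → τ}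
  [Decomposition ℳ] [SetLike.GradedSMul 𝒜 ℳ]
variable {N : Type u} [AddCommGroup N] [Module R N] {τ' : Type u} [SetLike τ' N] [AddSubgroupClass τ' N] {𝒩 : ι → τ'}
  [Decomposition 𝒩] [SetLike.GradedSMul 𝒜 𝒩]
variable {P : Type u} [AddCommGroup P] [Module R P] {τ'' : Type u} [SetLike τ'' P] [AddSubgroupClass τ'' P]
  {𝒬 : ι → τ''} [Decomposition 𝒬] [SetLike.GradedSMul 𝒜 𝒬]

theorem mem_gam_prod {X Y : Type u} [AddCommGroup X] [Module R X] [AddCommGroup Y] [Module R Y] {I : Ideal R}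
    {z : X × Y} : z ∈ GrLC.gam I (X × Y) ↔ z.1 ∈ GrLC.gam I X ∧ z.2 ∈ GrLC.gam I Y := by
  refine ⟨fun h => ⟨map_gam (LinearMap.fst R X Y) h, map_gam (LinearMap.snd R X Y) h⟩, fun ⟨h1, h2⟩ => ?_⟩
  have h : z = LinearMap.inl R X Y z.1 + LinearMap.inr R X Y z.2 := by simp
  rw [h]
  exact add_mem (map_gam _ h1) (map_gam _ h2)

theorem toH_surj (E : GrLC.StarInjRes 𝒜 ℳ) (a : HomogeneousIdeal 𝒜) (i : ℕ) : Function.Surjective (E.toH a i) :=
  Submodule.mkQ_surjective _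

theorem toH_eq_zero (E : GrLC.StarInjRes 𝒜 ℳ) (a : HomogeneousIdeal 𝒜) (i : ℕ) (z : E.cocyc a i) :
    E.toH a i z = 0 ↔ (z : (E.X i).carrier) ∈ E.cobdy a i := Submodule.Quotient.mk_eq_zero _

/-- The horseshoe, with the long exact sequence. -/
theorem exists_les_aux (f : M →ₗ[R] N) (g : N →ₗ[R] P) {d : ι} (hf : GrLC.IsGrHomDeg ℳ 𝒩 f d)
    (hg : GrLC.IsGrHomDeg 𝒩 𝒬 g 0) (hinj : Function.Injective f) (hsurj : Function.Surjective g)
    (hex : Function.Exact f g) (E : GrLC.StarInjRes 𝒜 ℳ) (F : GrLC.StarInjRes 𝒜 𝒬) (a : HomogeneousIdeal 𝒜) :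
    ∃ G : GrLC.StarInjRes 𝒜 𝒩, Function.Injective (hmap E G a f hf 0) ∧
      ∀ i, ∃ δ : F.H a i →ₗ[R] E.H a (i + 1), GrLC.IsGrHomDeg (F.Hgr a i) (E.Hgr a (i + 1)) δ (-d) ∧
        Function.Exact (hmap E G a f hf i) (hmap G F a g hg i) ∧
        Function.Exact (hmap G F a g hg i) δ ∧
        Function.Exact δ (hmap E G a f hf (i + 1)) := by
  classical
  obtain ⟨h, hh, hhf⟩ := extend_deg (A := gmodPieces 𝒜 ℳ) (B := gmodPieces 𝒜 𝒩) (I := E.X 0) (E.starInj 0)
    (f := f) (a := d) hf hinj (g := E.ε) (b := 0) (isGrHomDeg_zero_iff.2 E.ε_grHom) (add_neg_cancel d)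
  let h : N →ₗ[R] (E.X 0).carrier := h
  have hhf' : ∀ m, h (f m) = E.ε m := fun m => LinearMap.congr_fun hhf m
  obtain ⟨ψ, hψ, hψg⟩ := factor_deg (A := gmodPieces 𝒜 𝒩) (B := gmodPieces 𝒜 𝒬) (I := E.X 1) (E.starInj 1)
    (δ := g) (a := 0) hg (φ := E.d 0 ∘ₗ h) (b := -d)
    (fun j m hm => E.d_grHom 0 _ _ (hh j m hm)) (fun x hx => by
      obtain ⟨m, rfl⟩ := (hex x).1 hx
      show E.d 0 (h (f m)) = 0
      rw [hhf']
      exact LinearMap.mem_ker.1 (E.exact_zero.ge ⟨m, rfl⟩)) (zero_add (-d))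
  have hψg' : ∀ n, ψ (g n) = E.d 0 (h n) := fun n => LinearMap.congr_fun hψg n
  obtain ⟨φ0, hφ0, hφ0e⟩ := extend_deg (A := gmodPieces 𝒜 𝒬) (B := F.X 0) (I := E.X 1) (E.starInj 1)
    (f := F.ε) (a := 0) (isGrHomDeg_zero_iff.2 F.ε_grHom) F.ε_injective (g := -ψ) (b := -d)
    (isGrHomDeg_neg hψ) (zero_add (-d))
  have hφ0e' : ∀ p, φ0 (F.ε p) = -ψ p := fun p => LinearMap.congr_fun hφ0e p
  let S : ℕ → Type u := fun n => {φ : (F.X n).carrier →ₗ[R] (E.X (n + 1)).carrier //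
    GrLC.IsGrHomDeg (F.X n).gr (E.X (n + 1)).gr φ (-d) ∧ LinearMap.ker (F.d n) ≤ LinearMap.ker (E.d (n + 1) ∘ₗ φ)}
  have hstep : ∀ (n : ℕ) (s : S n), ∃ t : S (n + 1), t.1 ∘ₗ F.d n = -(E.d (n + 1) ∘ₗ s.1) := by
    intro n s
    obtain ⟨χ, hχ, hχd⟩ := factor_deg (A := F.X n) (B := F.X (n + 1)) (I := E.X (n + 1 + 1)) (E.starInj (n + 1 + 1))
      (δ := F.d n) (a := 0) (isGrHomDeg_zero_iff.2 (F.d_grHom n)) (φ := -(E.d (n + 1) ∘ₗ s.1)) (b := -d)
      (isGrHomDeg_neg fun j m hm => E.d_grHom (n + 1) _ _ (s.2.1 j m hm))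
      (fun x hx => by rw [LinearMap.mem_ker, LinearMap.neg_apply, LinearMap.mem_ker.1 (s.2.2 hx), neg_zero])
      (zero_add (-d))
    refine ⟨⟨χ, hχ, fun x hx => ?_⟩, hχd⟩
    obtain ⟨y, rfl⟩ := (F.exact_succ n).le hx
    show E.d (n + 1 + 1) (χ (F.d n y)) = 0
    rw [← LinearMap.comp_apply χ, hχd, LinearMap.neg_apply, map_neg, LinearMap.comp_apply, range_d_le_ker E, neg_zero]
  let s0 : S 0 := ⟨φ0, hφ0, fun x hx => by
    obtain ⟨p, rfl⟩ := F.exact_zero.le hx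
    obtain ⟨n, rfl⟩ := hsurj p
    show E.d 1 (φ0 (F.ε (g n))) = 0
    rw [hφ0e', map_neg, hψg', range_d_le_ker E, neg_zero]⟩
  let s : ∀ n, S n := fun n => Nat.rec (motive := S) s0 (fun n t => (hstep n t).choose) n
  let φ : ∀ n, (F.X n).carrier →ₗ[R] (E.X (n + 1)).carrier := fun n => (s n).1
  have hφd : ∀ n y, φ (n + 1) (F.d n y) = -E.d (n + 1) (φ n y) := fun n y =>
    LinearMap.congr_fun (hstep n (s n)).choose_spec y
  -- the middle resolution
  let GX : ℕ → GrLC.GMod.{u} 𝒜 := fun n => prodGMod 𝒜 (shiftGMod 𝒜 (E.X n).gr (-d)).gr (F.X n).gr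
  let D : ∀ n, (E.X n).carrier × (F.X n).carrier →ₗ[R] (E.X (n + 1)).carrier × (F.X (n + 1)).carrier := fun n =>
    LinearMap.prod (E.d n ∘ₗ LinearMap.fst R _ _ + φ n ∘ₗ LinearMap.snd R _ _) (F.d n ∘ₗ LinearMap.snd R _ _)
  let ε : N →ₗ[R] (E.X 0).carrier × (F.X 0).carrier := LinearMap.prod h (F.ε ∘ₗ g)
  have hD : ∀ n (z : (E.X n).carrier × (F.X n).carrier), D n z = (E.d n z.1 + φ n z.2, F.d n z.2) := fun n z => rfl
  let G : GrLC.StarInjRes 𝒜 𝒩 :=
    { X := GX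
      d := D
      ε := ε
      d_grHom := fun n j z hz =>
        (show E.d n z.1 + φ n z.2 ∈ (E.X (n + 1)).gr (j + -d) from
          add_mem (E.d_grHom n _ _ hz.1) ((s n).2.1 j _ hz.2)) |> fun h1 => ⟨h1, F.d_grHom n j _ hz.2⟩
      ε_grHom := fun j m hm => ⟨hh j m hm, F.ε_grHom j _ (by simpa using hg j m hm)⟩
      ε_injective := by
        rw [injective_iff_map_eq_zero]
        intro m hm
        have h2 : g m = 0 := F.ε_injective ((congrArg Prod.snd hm).trans (map_zero _).symm)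
        obtain ⟨k, rfl⟩ := (hex m).1 h2
        have h1 : E.ε k = 0 := (hhf' k).symm.trans (congrArg Prod.fst hm)
        rw [E.ε_injective (h1.trans (map_zero _).symm), map_zero]
      exact_zero := by
        refine le_antisymm (fun (z : (E.X 0).carrier × (F.X 0).carrier) hz => ?_) ?_
        · have h2 : F.d 0 z.2 = 0 := congrArg Prod.snd hz
          have h1 : E.d 0 z.1 + φ 0 z.2 = 0 := congrArg Prod.fst hz
          obtain ⟨p, hp⟩ := F.exact_zero.le h2
          obtain ⟨m, rfl⟩ := hsurj p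
          have h3 : E.d 0 (z.1 - h m) = 0 := by
            have h4 : φ 0 z.2 = -E.d 0 (h m) := by rw [← hp]; exact (hφ0e' _).trans (congrArg Neg.neg (hψg' m))
            rw [h4] at h1
            rw [map_sub, sub_eq_add_neg]; exact h1
          obtain ⟨k, hk⟩ := E.exact_zero.le h3
          refine ⟨m + f k, Prod.ext ?_ ?_⟩
          · show h (m + f k) = z.1
            rw [map_add, hhf', hk, add_sub_cancel]
          · show F.ε (g (m + f k)) = z.2
            rw [map_add, hex.apply_apply_eq_zero, add_zero, hp]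
        · rintro _ ⟨m, rfl⟩
          refine Prod.ext ?_ ?_
          · show E.d 0 (h m) + φ 0 (F.ε (g m)) = 0
            rw [show φ 0 (F.ε (g m)) = -ψ (g m) from hφ0e' _, hψg', add_neg_cancel]
          · exact LinearMap.mem_ker.1 (F.exact_zero.ge ⟨g m, rfl⟩)
      exact_succ := fun n => by
        refine le_antisymm (fun (z : (E.X (n + 1)).carrier × (F.X (n + 1)).carrier) hz => ?_) ?_
        · have h2 : F.d (n + 1) z.2 = 0 := congrArg Prod.snd hz
          have h1 : E.d (n + 1) z.1 + φ (n + 1) z.2 = 0 := congrArg Prod.fst hz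
          obtain ⟨y, hy⟩ := (F.exact_succ n).le h2
          have h3 : E.d (n + 1) (z.1 - φ n y) = 0 := by
            rw [← hy, hφd] at h1
            rw [map_sub, sub_eq_add_neg]; exact h1
          obtain ⟨x, hx⟩ := (E.exact_succ n).le h3
          refine ⟨(x, y), Prod.ext ?_ hy⟩
          show E.d n x + φ n y = z.1
          rw [hx, sub_add_cancel]
        · rintro _ ⟨(z : (E.X n).carrier × (F.X n).carrier), rfl⟩
          refine Prod.ext ?_ ?_
          · show E.d (n + 1) (E.d n z.1 + φ n z.2) + φ (n + 1) (F.d n z.2) = 0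
            rw [map_add, range_d_le_ker E, zero_add, hφd, add_neg_cancel]
          · exact range_d_le_ker F n z.2
      starInj := fun n => isStarInj_prod _ _ (isStarInj_shift (E.X n) (E.starInj n) (-d)) (F.starInj n) }
  let Li : ∀ n, (E.X n).carrier →ₗ[R] (G.X n).carrier := fun n => LinearMap.inl R (E.X n).carrier (F.X n).carrier
  let Ls : ∀ n, (G.X n).carrier →ₗ[R] (F.X n).carrier := fun n => LinearMap.snd R (E.X n).carrier (F.X n).carrier
  let Lf : ∀ n, (G.X n).carrier →ₗ[R] (E.X n).carrier := fun n => LinearMap.fst R (E.X n).carrier (F.X n).carrier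
  have hLi : IsLift E G f d Li :=
    { deg := fun n j m hm => ⟨show m ∈ (E.X n).gr (j + d + -d) by rwa [add_neg_cancel_right], zero_mem _⟩
      eps := LinearMap.ext fun m => Prod.ext (hhf' m).symm
        (by
          show (0 : (F.X 0).carrier) = F.ε (g (f m))
          rw [hex.apply_apply_eq_zero, map_zero])
      comm := fun n => LinearMap.ext fun x => Prod.ext
        (by show E.d n x = E.d n x + φ n 0; rw [map_zero, add_zero]) (map_zero (F.d n)).symm }
  have hLs : IsLift G F g 0 Ls :=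
    { deg := fun n j z hz => (add_zero j).symm ▸ hz.2
      eps := rfl
      comm := fun n => rfl }
  have hcoc : ∀ n (z : (G.X n).carrier), z ∈ G.cocyc a n ↔
      Lf n z ∈ GrLC.gam a.toIdeal (E.X n).carrier ∧ Ls n z ∈ GrLC.gam a.toIdeal (F.X n).carrier ∧
        E.d n (Lf n z) + φ n (Ls n z) = 0 ∧ F.d n (Ls n z) = 0 := fun n z => by
    constructor
    · intro hz
      exact ⟨map_gam (Lf n) hz.1, map_gam (Ls n) hz.1, congrArg Prod.fst hz.2, congrArg Prod.snd hz.2⟩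
    · rintro ⟨h1, h2, h3, h4⟩
      exact ⟨mem_gam_prod.2 ⟨h1, h2⟩, Prod.ext h3 h4⟩
  refine ⟨G, ?_, fun i => ?_⟩
  · rw [hmap_eq a hf hLi]
    rw [injective_iff_map_eq_zero]
    intro x hx
    obtain ⟨z, rfl⟩ := toH_surj E a 0 x
    obtain ⟨hz, e⟩ := chainH_toH a Li hLi.comm 0 z
    rw [e, toH_eq_zero] at hx
    have h0 : (z : (E.X 0).carrier) = 0 := congrArg Prod.fst (show Li 0 z = 0 from hx)
    rw [toH_eq_zero, h0]
    exact zero_mem _
  have hcocφ : ∀ y : F.cocyc a i, φ i y ∈ E.cocyc a (i + 1) := fun y => ⟨map_gam (φ i) y.2.1, by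
    show E.d (i + 1) (φ i y) = 0
    have h := hφd i (y : (F.X i).carrier)
    rw [LinearMap.mem_ker.1 y.2.2, map_zero] at h
    exact neg_eq_zero.1 h.symm⟩
  let δ : F.H a i →ₗ[R] E.H a (i + 1) :=
    Submodule.mapQ _ _ ((φ i).restrict fun y hy => hcocφ ⟨y, hy⟩) fun y hy => by
      cases i with
      | zero =>
        have hy : (y : (F.X 0).carrier) = 0 := hy
        show φ 0 (y : (F.X 0).carrier) ∈ E.cobdy a 1
        rw [hy, map_zero]
        exact zero_mem _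
      | succ n =>
        obtain ⟨w, hw, hwy⟩ := hy
        refine ⟨-φ n w, neg_mem (map_gam (φ n) hw), ?_⟩
        show E.d (n + 1) (-φ n w) = φ (n + 1) (y : (F.X (n + 1)).carrier)
        rw [map_neg, ← hφd, hwy]
        rfl
  have hδ : ∀ y : F.cocyc a i, δ (F.toH a i y) = E.toH a (i + 1) ⟨φ i y, hcocφ y⟩ := fun y => rfl
  refine ⟨δ, ?_, ?_, ?_, ?_⟩
  · rintro j x ⟨y, hy, rfl⟩
    exact ⟨⟨φ i y, hcocφ y⟩, (s i).2.1 j _ hy, (hδ y).symm⟩
  · rw [hmap_eq a hf hLi, hmap_eq a hg hLs]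
    intro x
    obtain ⟨z, rfl⟩ := toH_surj G a i x
    constructor
    · intro hx
      obtain ⟨hz', e⟩ := chainH_toH a Ls hLs.comm i z
      rw [e, toH_eq_zero] at hx
      obtain ⟨h1, h2, h3, h4⟩ := (hcoc i _).1 z.2
      cases i with
      | zero =>
        have hy : (Ls 0 z.1) = 0 := hx
        rw [hy, map_zero, add_zero] at h3
        refine ⟨E.toH a 0 ⟨_, h1, h3⟩, ?_⟩
        obtain ⟨hw, e'⟩ := chainH_toH a Li hLi.comm 0 ⟨_, h1, h3⟩
        rw [e']
        exact congrArg _ (Subtype.ext (Prod.ext rfl hy.symm))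
      | succ n =>
        obtain ⟨w, hw, hwz⟩ := hx
        have hwz : F.d n w = (Ls (n + 1) z.1) := hwz
        have hx' : E.d (n + 1) ((Lf (n + 1) z.1) - φ n w) = 0 := by
          rw [← hwz, hφd] at h3
          rw [map_sub, sub_eq_add_neg]; exact h3
        have hm : (Lf (n + 1) z.1) - φ n w ∈ E.cocyc a (n + 1) :=
          ⟨sub_mem h1 (map_gam (φ n) hw), hx'⟩
        refine ⟨E.toH a (n + 1) ⟨_, hm⟩, ?_⟩
        obtain ⟨hw', e'⟩ := chainH_toH a Li hLi.comm (n + 1) ⟨_, hm⟩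
        rw [e']
        refine toH_eq_of a ?_
        refine ⟨(0, -w), mem_gam_prod.2 ⟨zero_mem _, neg_mem hw⟩, ?_⟩
        refine Prod.ext ?_ ?_
        · show E.d n 0 + φ n (-w) = ((Lf (n + 1) z.1) - φ n w) -
            (Lf (n + 1) z.1)
          rw [map_zero, zero_add, map_neg]; abel
        · show F.d n (-w) = 0 - (Ls (n + 1) z.1)
          rw [map_neg, hwz, zero_sub]
    · rintro ⟨x', hx'⟩
      rw [← hx']
      obtain ⟨z', rfl⟩ := toH_surj E a i x'
      obtain ⟨h1, e1⟩ := chainH_toH a Li hLi.comm i z'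
      rw [e1]
      obtain ⟨h2, e2⟩ := chainH_toH a Ls hLs.comm i ⟨_, h1⟩
      rw [e2, toH_eq_zero]
      exact zero_mem _
  · rw [hmap_eq a hg hLs]
    intro x
    obtain ⟨y, rfl⟩ := toH_surj F a i x
    rw [hδ, toH_eq_zero]
    constructor
    · rintro ⟨w, hw, hwy⟩
      have hwy : E.d i w = φ i y := hwy
      have hm : ((-w, (y : (F.X i).carrier)) : (E.X i).carrier × (F.X i).carrier) ∈ G.cocyc a i :=
        (hcoc i _).2 ⟨neg_mem hw, y.2.1, by
          show E.d i (-w) + φ i (y : (F.X i).carrier) = 0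
          rw [map_neg, hwy, neg_add_cancel], y.2.2⟩
      refine ⟨G.toH a i ⟨_, hm⟩, ?_⟩
      obtain ⟨h', e⟩ := chainH_toH a Ls hLs.comm i ⟨_, hm⟩
      rw [e]
      rfl
    · rintro ⟨x', hx'⟩
      obtain ⟨z, rfl⟩ := toH_surj G a i x'
      obtain ⟨h', e⟩ := chainH_toH a Ls hLs.comm i z
      rw [e] at hx'
      obtain ⟨h1, h2, h3, h4⟩ := (hcoc i _).1 z.2
      have hsub : (Ls i z.1 : (F.X i).carrier) - y ∈ F.cobdy a i :=
        (Submodule.Quotient.eq ((F.cobdy a i).comap (F.cocyc a i).subtype)).1 hx'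
      have hkey : φ i (y : (F.X i).carrier) = E.d i (-(Lf i z.1)) -
          φ i (Ls i z.1 - y) := by
        rw [map_sub (φ i), map_neg]
        have h5 : φ i (Ls i z.1) = -E.d i (Lf i z.1) := eq_neg_of_add_eq_zero_right h3
        rw [h5]; abel
      show φ i (y : (F.X i).carrier) ∈ E.cobdy a (i + 1)
      rw [hkey]
      refine sub_mem ⟨_, neg_mem h1, rfl⟩ ?_
      cases i with
      | zero =>
        rw [show (Ls 0 z.1 : (F.X 0).carrier) - y = 0 from hsub, map_zero]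
        exact zero_mem _
      | succ n =>
        obtain ⟨w, hw, hwe⟩ := hsub
        rw [← hwe, hφd]
        exact neg_mem ⟨_, map_gam (φ n) hw, rfl⟩
  · rw [hmap_eq a hf hLi]
    intro x
    obtain ⟨z, rfl⟩ := toH_surj E a (i + 1) x
    obtain ⟨h', e⟩ := chainH_toH a Li hLi.comm (i + 1) z
    rw [e, toH_eq_zero]
    constructor
    · rintro ⟨w, hw, hwz⟩
      obtain ⟨hw1, hw2⟩ := mem_gam_prod.1 hw
      have h1 : E.d i (Lf i w) + φ i (Ls i w) = z :=
        congrArg Prod.fst hwz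
      have h2 : F.d i (Ls i w) = 0 := congrArg Prod.snd hwz
      refine ⟨F.toH a i ⟨_, hw2, h2⟩, ?_⟩
      rw [hδ]
      refine toH_eq_of a ?_
      refine ⟨-(Lf i w), neg_mem hw1, ?_⟩
      show E.d i (-(Lf i w)) = φ i (Ls i w) - (z : (E.X (i + 1)).carrier)
      rw [map_neg, ← h1]
      abel
    · rintro ⟨x', hx'⟩
      obtain ⟨y, rfl⟩ := toH_surj F a i x'
      rw [hδ] at hx'
      obtain ⟨w, hw, hwz⟩ := (Submodule.Quotient.eq _).1 hx'
      refine ⟨(-w, (y : (F.X i).carrier)), mem_gam_prod.2 ⟨neg_mem hw, y.2.1⟩, Prod.ext ?_ ?_⟩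
      · have hwz : E.d i w = φ i y - z := hwz
        show E.d i (-w) + φ i (y : (F.X i).carrier) = z
        rw [map_neg, hwz]; abel
      · exact y.2.2

/-- The long exact sequence, for any resolutions. -/
theorem exists_les (f : M →ₗ[R] N) (g : N →ₗ[R] P) {d : ι} (hf : GrLC.IsGrHomDeg ℳ 𝒩 f d)
    (hg : GrLC.IsGrHomDeg 𝒩 𝒬 g 0) (hinj : Function.Injective f) (hsurj : Function.Surjective g)
    (hex : Function.Exact f g) (E : GrLC.StarInjRes 𝒜 ℳ) (G : GrLC.StarInjRes 𝒜 𝒩) (F : GrLC.StarInjRes 𝒜 𝒬)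
    (a : HomogeneousIdeal 𝒜) :
    Function.Injective (hmap E G a f hf 0) ∧
      ∀ i, ∃ δ : F.H a i →ₗ[R] E.H a (i + 1), GrLC.IsGrHomDeg (F.Hgr a i) (E.Hgr a (i + 1)) δ (-d) ∧
        Function.Exact (hmap E G a f hf i) (hmap G F a g hg i) ∧
        Function.Exact (hmap G F a g hg i) δ ∧
        Function.Exact δ (hmap E G a f hf (i + 1)) := by
  obtain ⟨G', h0, hi⟩ := exists_les_aux f g hf hg hinj hsurj hex E F a
  have hid : GrLC.IsGrHomDeg 𝒩 𝒩 (LinearMap.id : N →ₗ[R] N) 0 := isGrHomDeg_zero_iff.2 fun _ _ hm => hm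
  have ef : ∀ j, hmap E G a f hf j = (hmapEquiv a G' G j).toLinearMap ∘ₗ hmap E G' a f hf j := fun j =>
    ((hmap_comp a hf hid hf (add_zero d) j).trans (hmap_congr a (LinearMap.id_comp f) hf hf j)).symm
  have eg : ∀ j, hmap G F a g hg j = hmap G' F a g hg j ∘ₗ (hmapEquiv a G' G j).symm.toLinearMap := fun j =>
    ((hmap_comp a hid hg hg (add_zero 0) j).trans (hmap_congr a (LinearMap.comp_id g) hg hg j)).symm
  refine ⟨fun x y h => h0 ((hmapEquiv a G' G 0).injective ?_), fun i => ?_⟩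
  · rw [ef 0] at h; exact h
  obtain ⟨δ, hδ, e1, e2, e3⟩ := hi i
  refine ⟨δ, hδ, ?_, ?_, ?_⟩
  · intro x
    rw [ef i, eg i, LinearMap.comp_apply]
    refine (e1 _).trans ⟨fun ⟨y, hy⟩ => ⟨y, ?_⟩, fun ⟨y, hy⟩ => ⟨y, ?_⟩⟩
    · show (hmapEquiv a G' G i) (hmap E G' a f hf i y) = x
      rw [hy]; exact (hmapEquiv a G' G i).apply_symm_apply x
    · show _ = (hmapEquiv a G' G i).symm x
      rw [← hy]; exact ((hmapEquiv a G' G i).symm_apply_apply _).symm
  · intro x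
    rw [eg i]
    refine (e2 x).trans ⟨fun ⟨y, hy⟩ => ⟨hmapEquiv a G' G i y, ?_⟩, fun ⟨y, hy⟩ => ⟨(hmapEquiv a G' G i).symm y, hy⟩⟩
    show hmap G' F a g hg i ((hmapEquiv a G' G i).symm (hmapEquiv a G' G i y)) = x
    rw [LinearEquiv.symm_apply_apply, hy]
  · intro x
    rw [ef (i + 1)]
    show (hmapEquiv a G' G (i + 1)) (hmap E G' a f hf (i + 1) x) = 0 ↔ _
    rw [LinearEquiv.map_eq_zero_iff]
    exact e3 x

end Groth.Agent.GrLib8
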