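import Groth.Agent.GrLib8.Irrel

/-!
# Noetherian non-negatively graded rings: generators, finiteness of pieces
-/

set_option autoImplicit false
set_option linter.unusedSectionVars false

universe u

open DirectSum
open scoped Pointwise

namespace Groth.Agent.GrLib8

variable {R : Type u} [CommRing R] {σ : Type u} [SetLike σ R] [AddSubgroupClass σ R] (𝒜 : ℤ → σ) [GradedRing 𝒜]

theorem mem_irrel_of_pos {n : ℤ} (hn : 0 < n) {r : R} (hr : r ∈ 𝒜 n) : r ∈ (GrSyz.irrel 𝒜).toIdeal :=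
  Ideal.subset_span ⟨n, hn, hr⟩

variable [IsNoetherianRing R]

theorem exists_irrel_gens : ∃ (N : ℕ) (f : Fin N → R) (d : Fin N → ℤ), (∀ j, 0 < d j) ∧ (∀ j, f j ∈ 𝒜 (d j)) ∧
    (GrSyz.irrel 𝒜).toIdeal = Ideal.span (Set.range f) := by
  classical
  obtain ⟨xs, hxs, hle⟩ := exists_list_span' {r : R | ∃ n : ℤ, 0 < n ∧ r ∈ 𝒜 n}
  choose d hd hm using fun j : Fin xs.length => hxs (xs.get j) (List.get_mem xs j)
  refine ⟨xs.length, xs.get, d, hd, hm, le_antisymm (hle.trans (le_of_eq ?_)) (Ideal.span_le.2 ?_)⟩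
  · rw [Ideal.ofList, Set.range_list_get]
  · rintro _ ⟨j, rfl⟩
    exact mem_irrel_of_pos 𝒜 (hd j) (hm j)
where
  exists_list_span' (S : Set R) : ∃ xs : List R, (∀ x ∈ xs, x ∈ S) ∧ Ideal.span S ≤ Ideal.ofList xs := by
    classical
    obtain ⟨T, hT, hTS⟩ := (Submodule.fg_span_iff_fg_span_finset_subset S).1 (IsNoetherian.noetherian (Ideal.span S))
    exact ⟨T.toList, fun x hx => hT (Finset.mem_toList.1 hx), hTS.le.trans (le_of_eq (by simp [Ideal.ofList]))⟩

omit [IsNoetherianRing R] in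
theorem exists_comb {N : ℕ} {f : Fin N → R} {d : Fin N → ℤ} (hf : ∀ j, f j ∈ 𝒜 (d j)) {n : ℤ} {r : R}
    (hr : r ∈ 𝒜 n) (hrs : r ∈ Ideal.span (Set.range f)) :
    ∃ c : Fin N → R, (∀ j, c j ∈ 𝒜 (n - d j)) ∧ r = ∑ j, c j • f j := by
  classical
  obtain ⟨c, hc⟩ := Ideal.mem_span_range_iff_exists_fun.1 hrs
  exact ⟨fun j => (decompose 𝒜 (c j) (n - d j) : R), fun j => SetLike.coe_mem _,
    mem_of_sum_smul 𝒜 𝒜 hf hr c (by simpa [smul_eq_mul] using hc)⟩

omit [IsNoetherianRing R] in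
theorem mul_mem_deg {i j : ℤ} {a b : R} (ha : a ∈ 𝒜 i) (hb : b ∈ 𝒜 j) : a * b ∈ 𝒜 (i + j) := SetLike.mul_mem_graded ha hb

omit [IsNoetherianRing R] in
theorem mem_of_mem_map_deg0 (I : Ideal (GrLC.deg0 𝒜)) (x : GrLC.deg0 𝒜)
    (hx : (x : R) ∈ I.map (GrLC.deg0 𝒜).subtype) : x ∈ I := by
  classical
  obtain ⟨n, c, z, hz⟩ := Submodule.mem_span_set'.1 hx
  choose w hwI hw using fun j => (z j).2
  have h0 : ∀ j, ((z j : R)) ∈ 𝒜 (0 : ℤ) := fun j => hw j ▸ (w j).2
  have h := mem_of_sum_smul 𝒜 𝒜 h0 x.2 c hz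
  simp only [sub_zero] at h
  have hx' : x = ∑ j, (⟨_, (decompose 𝒜 (c j) 0).2⟩ : GrLC.deg0 𝒜) * w j := by
    refine Subtype.ext (h.trans ?_)
    rw [AddSubmonoidClass.coe_finsetSum]
    exact Finset.sum_congr rfl fun j _ => by rw [← hw j, smul_eq_mul]; rfl
  rw [hx']
  exact Ideal.sum_mem _ fun j _ => I.mul_mem_left _ (hwI j)

/-- The degree-zero part of a Noetherian graded ring is Noetherian. -/
instance isNoetherianRing_deg0 : IsNoetherianRing (GrLC.deg0 𝒜) := by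
  haveI : WellFoundedGT (Ideal (GrLC.deg0 𝒜)) := by
    refine StrictMono.wellFoundedGT (f := Ideal.map (GrLC.deg0 𝒜).subtype) fun I J hIJ => ?_
    refine lt_of_le_of_ne (Ideal.map_mono hIJ.le) fun he => hIJ.not_ge fun x hx => ?_
    exact mem_of_mem_map_deg0 𝒜 I x (he ▸ Ideal.mem_map_of_mem _ hx)
  exact isNoetherian_iff'.2 this

variable (hpos : ∀ n < 0, ∀ r ∈ 𝒜 n, r = 0)

include hpos

/-- The graded pieces of the ring are finite over the degree-zero part. -/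
theorem fg_comp_ring (n : ℤ) : (GrLC.comp 𝒜 𝒜 n).FG := by
  classical
  obtain ⟨N, f, d, hd, hf, hspan⟩ := exists_irrel_gens 𝒜
  suffices ∀ (k : ℕ) (n : ℤ), n < k → (GrLC.comp 𝒜 𝒜 n).FG from this ((n + 1).toNat) n (by omega)
  intro k
  induction k with
  | zero =>
    intro n hn
    rw [show GrLC.comp 𝒜 𝒜 n = ⊥ from (Submodule.eq_bot_iff _).2 fun r hr => hpos n (by omega) r hr]
    exact Submodule.fg_bot
  | succ k ih =>
    intro n hn
    rcases lt_or_ge n 0 with h | h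
    · exact ih n (by omega)
    rcases eq_or_lt_of_le h with rfl | h
    · refine ⟨{1}, le_antisymm ?_ ?_⟩
      · rw [Finset.coe_singleton, Submodule.span_le, Set.singleton_subset_iff]
        exact SetLike.one_mem_graded 𝒜
      · intro r hr
        rw [Finset.coe_singleton, Submodule.mem_span_singleton]
        exact ⟨⟨r, hr⟩, mul_one r⟩
    · let μ : Fin N → (R →ₗ[GrLC.deg0 𝒜] R) := fun j =>
        (LinearMap.toSpanSingleton R R (f j)).restrictScalars (GrLC.deg0 𝒜)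
      have he : GrLC.comp 𝒜 𝒜 n = ⨆ j, (GrLC.comp 𝒜 𝒜 (n - d j)).map (μ j) := by
        refine le_antisymm (fun r hr => ?_) (iSup_le fun j => ?_)
        · obtain ⟨c, hc, hrc⟩ := exists_comb 𝒜 hf hr (hspan ▸ mem_irrel_of_pos 𝒜 h hr)
          rw [hrc]
          exact Submodule.sum_mem _ fun j _ => Submodule.mem_iSup_of_mem j ⟨c j, hc j, rfl⟩
        · rintro _ ⟨c, hc, rfl⟩
          show c * f j ∈ 𝒜 n
          have := mul_mem_deg 𝒜 (show c ∈ 𝒜 (n - d j) from hc) (hf j)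
          rwa [sub_add_cancel] at this
      rw [he]
      exact Submodule.fg_iSup _ fun j => (ih _ (by have := hd j; omega)).map _

variable {M : Type u} [AddCommGroup M] [Module R M] {τ : Type u} [SetLike τ M] [AddSubgroupClass τ M] (ℳ : ℤ → τ)
  [Decomposition ℳ] [SetLike.GradedSMul 𝒜 ℳ]

/-- The graded pieces of a finite module are finite over the degree-zero part. -/
theorem fg_comp [Module.Finite R M] (g : ℤ) : (GrLC.comp 𝒜 ℳ g).FG := by
  classical
  obtain ⟨K, t, e, ht, htop⟩ := exists_homogeneous_generators ℳ (R := R)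
  let μ : Fin K → (R →ₗ[GrLC.deg0 𝒜] M) := fun j =>
    (LinearMap.toSpanSingleton R M (t j)).restrictScalars (GrLC.deg0 𝒜)
  have he : GrLC.comp 𝒜 ℳ g = ⨆ j, (GrLC.comp 𝒜 𝒜 (g - e j)).map (μ j) := by
    refine le_antisymm (fun x hx => ?_) (iSup_le fun j => ?_)
    · obtain ⟨c, hc⟩ := (Submodule.mem_span_range_iff_exists_fun R).1 (htop ▸ Submodule.mem_top : x ∈ _)
      rw [mem_of_sum_smul 𝒜 ℳ ht (show x ∈ ℳ g from hx) c hc]
      exact Submodule.sum_mem _ fun j _ => Submodule.mem_iSup_of_mem j ⟨_, SetLike.coe_mem _, rfl⟩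
    · rintro _ ⟨c, hc, rfl⟩
      show c • t j ∈ ℳ g
      have := SetLike.GradedSMul.smul_mem (A := 𝒜) (B := ℳ) (show c ∈ 𝒜 (g - e j) from hc) (ht j)
      rwa [vadd_eq_add, sub_add_cancel] at this
  rw [he]
  exact Submodule.fg_iSup _ fun j => (fg_comp_ring 𝒜 hpos _).map _

theorem finite_comp [Module.Finite R M] (g : ℤ) : Module.Finite (GrLC.deg0 𝒜) (GrLC.comp 𝒜 ℳ g) :=
  Module.Finite.iff_fg.2 (fg_comp 𝒜 hpos ℳ g)

omit ℳ in
/-- Elements of high degree lie in high powers of the irrelevant ideal. -/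
theorem exists_deg_bound : ∃ D : ℕ, ∀ (k : ℕ) (n : ℤ), (k * D : ℕ) < n → ∀ r ∈ 𝒜 n, r ∈ (GrSyz.irrel 𝒜).toIdeal ^ k := by
  classical
  obtain ⟨N, f, d, hd, hf, hspan⟩ := exists_irrel_gens 𝒜
  refine ⟨∑ j, (d j).toNat, fun k => ?_⟩
  induction k with
  | zero => intro n _ r _; rw [pow_zero, Ideal.one_eq_top]; exact Submodule.mem_top
  | succ k ih =>
    intro n hn r hr
    obtain ⟨c, hc, hrc⟩ := exists_comb 𝒜 hf hr (hspan ▸ mem_irrel_of_pos 𝒜 (by omega) hr)
    rw [hrc, pow_succ]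
    refine Ideal.sum_mem _ fun j _ => Ideal.mul_mem_mul (ih _ ?_ _ (hc j)) (mem_irrel_of_pos 𝒜 (hd j) (hf j))
    have := Finset.single_le_sum (f := fun j => (d j).toNat) (fun j _ => Nat.zero_le _) (Finset.mem_univ j)
    rw [Nat.succ_mul, Nat.cast_add] at hn
    have := hd j
    have := Int.toNat_of_nonneg (hd j).le
    omega

/-- A finite irrelevant-torsion module has no high degrees. -/
theorem exists_bounded_of_torsion [Module.Finite R M]
    (htors : LocCoh.IsPowerTorsion (GrSyz.irrel 𝒜).toIdeal M) : ∃ c : ℤ, ∀ g, c < g → ∀ x ∈ ℳ g, x = 0 := by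
  classical
  obtain ⟨K, t, e, ht, htop⟩ := exists_homogeneous_generators ℳ (R := R)
  choose k hk using fun j => htors (t j)
  obtain ⟨D, hD⟩ := exists_deg_bound 𝒜 hpos
  refine ⟨∑ j, ((k j * D : ℕ) + |e j|), fun g hg x hx => ?_⟩
  obtain ⟨c, hc⟩ := (Submodule.mem_span_range_iff_exists_fun R).1 (htop ▸ Submodule.mem_top : x ∈ _)
  rw [mem_of_sum_smul 𝒜 ℳ ht hx c hc]
  refine Finset.sum_eq_zero fun j _ => hk j _ (hD (k j) _ ?_ _ (SetLike.coe_mem _))
  have := Finset.single_le_sum (f := fun j => ((k j * D : ℕ) : ℤ) + |e j|)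
    (fun j _ => by positivity) (Finset.mem_univ j)
  have := le_abs_self (e j)
  omega

end Groth.Agent.GrLib8
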