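import Groth.Agent.GrLib8.EventVan
import Mathlib.Algebra.Polynomial.OfFn
import Mathlib.Algebra.Polynomial.AlgebraMap
import Mathlib.LinearAlgebra.Dimension.Constructions

/-!
# Positively graded rings with a field in degree zero
-/

set_option autoImplicit false
set_option linter.unusedSectionVars false

universe u

open DirectSum Polynomial
open scoped nonZeroDivisors

namespace Groth.Agent.GrLib8

variable {R : Type u} [CommRing R] {𝒜 : ℤ → AddSubgroup R} [GradedRing 𝒜]

theorem isStarLocal_irrel (hpos : ∀ n : ℤ, n < 0 → 𝒜 n = ⊥) (h0 : IsField (GrLC.deg0 𝒜)) :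
    GrLC.IsStarLocal 𝒜 (GrSyz.irrel 𝒜) := by
  classical
  have hpos' := nonneg_of_bot hpos
  have hne : GrSyz.irrel 𝒜 ≠ ⊤ := by
    intro htop
    have h1 : (1 : R) ∈ (GrSyz.irrel 𝒜).toIdeal := by rw [htop]; trivial
    have hall : ∀ y : R, y ∈ aboveSub 𝒜 𝒜 hpos' 0 := fun y g hg => hpos' g hg _ (SetLike.coe_mem _)
    have h2 : (1 : R) • (1 : R) ∈ aboveSub 𝒜 𝒜 hpos' (0 + 1) :=
      irrel_smul_le 𝒜 𝒜 hpos' 0 (Submodule.smul_mem_smul h1 (hall 1))
    have h3 := h2 0 (by norm_num)
    rw [one_smul, decompose_of_mem_same 𝒜 (SetLike.one_mem_graded 𝒜)] at h3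
    obtain ⟨x, y, hxy⟩ := h0.exists_pair_ne
    exact hxy (Subtype.ext (by rw [← one_mul (x : R), ← one_mul (y : R), h3, zero_mul, zero_mul]))
  have hle : ∀ J : HomogeneousIdeal 𝒜, J ≠ ⊤ → J ≤ GrSyz.irrel 𝒜 := by
    intro J hJ x hx
    rw [← sum_support_decompose 𝒜 x]
    refine Ideal.sum_mem _ fun i _ => ?_
    rcases lt_trichotomy i 0 with hi | rfl | hi
    · rw [hpos' i hi _ (SetLike.coe_mem _)]; exact zero_mem _
    · rcases eq_or_ne (decompose 𝒜 x 0 : R) 0 with hz | hz
      · rw [hz]; exact zero_mem _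
      refine absurd (HomogeneousIdeal.toIdeal_injective ?_) hJ
      rw [HomogeneousIdeal.toIdeal_top]
      let z : GrLC.deg0 𝒜 := ⟨_, (decompose 𝒜 x 0).2⟩
      obtain ⟨w, hw⟩ := h0.mul_inv_cancel (a := z) (fun h => hz (congrArg Subtype.val h))
      refine (Ideal.eq_top_iff_one _).2 ?_
      rw [show (1 : R) = (z : R) * (w : R) from (congrArg Subtype.val hw).symm]
      exact Ideal.mul_mem_right _ _ (J.isHomogeneous 0 hx)
    · exact mem_irrel_of_pos 𝒜 hi (SetLike.coe_mem _)
  refine ⟨⟨hne, fun J hJ => ?_⟩, fun n hn => ?_⟩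
  · by_contra hJ'
    exact absurd (hle J hJ') (not_le_of_gt hJ)
  · by_contra hne'
    exact hne (hn.2 _ (lt_of_le_of_ne (hle n hn.1) hne'))

/-- If the linear forms have no common annihilator, the Hilbert function is nondecreasing. -/
theorem finrank_comp_le_succ [IsNoetherianRing R] (hpos : ∀ n : ℤ, n < 0 → 𝒜 n = ⊥) (h0 : IsField (GrLC.deg0 𝒜))
    {s : ℕ} (x : Fin s → R) (hx : ∀ j, x j ∈ 𝒜 1) (hann : ∀ r : R, (∀ j, r * x j = 0) → r = 0) (n : ℤ) :
    Module.finrank (GrLC.deg0 𝒜) (GrLC.comp 𝒜 𝒜 n) ≤ Module.finrank (GrLC.deg0 𝒜) (GrLC.comp 𝒜 𝒜 (n + 1)) := by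
  classical
  letI := h0.toField
  haveI := finite_comp 𝒜 (nonneg_of_bot hpos) 𝒜 n
  haveI := finite_comp 𝒜 (nonneg_of_bot hpos) 𝒜 (n + 1)
  let f : R[X] := ofFn s x
  have hf : ∀ j, f.coeff j ∈ 𝒜 1 := fun j => by
    rcases lt_or_ge j s with hj | hj
    · rw [ofFn_coeff_eq_val_of_lt x hj]; exact hx _
    · rw [ofFn_coeff_eq_zero_of_ge x hj]; exact zero_mem _
  have hreg : ∀ P : R[X], P * f = 0 → P = 0 := by
    intro P hP
    have hmem : f ∈ R[X]⁰ := by
      by_contra hnot
      obtain ⟨r, hr, hrf⟩ := Polynomial.notMem_nonZeroDivisors_iff.1 hnot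
      refine hr (hann r fun j => ?_)
      have := congrArg (fun q => q.coeff (j : ℕ)) hrf
      simpa [f, ofFn_coeff_eq_val_of_lt x j.2] using this
    exact hmem.2 P hP
  let a := Module.finrank (GrLC.deg0 𝒜) (GrLC.comp 𝒜 𝒜 n)
  let b := Module.finrank (GrLC.deg0 𝒜) (GrLC.comp 𝒜 𝒜 (n + 1))
  let N := b * s + 1
  have key : N * a ≤ (N + s) * b := by
    let P : (Fin N → GrLC.comp 𝒜 𝒜 n) → R[X] := fun z => ofFn N fun i => (z i : R)
    have hP : ∀ z i, (P z).coeff i ∈ 𝒜 n := fun z i => by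
      rcases lt_or_ge i N with hi | hi
      · show (ofFn N _).coeff i ∈ _
        rw [ofFn_coeff_eq_val_of_lt _ hi]; exact (z ⟨i, hi⟩).2
      · show (ofFn N _).coeff i ∈ _
        rw [ofFn_coeff_eq_zero_of_ge _ hi]; exact zero_mem _
    have hcoeff : ∀ z l, (P z * f).coeff l ∈ 𝒜 (n + 1) := fun z l => by
      rw [coeff_mul]
      exact sum_mem fun c _ => SetLike.mul_mem_graded (hP z c.1) (hf c.2)
    have hsmul : ∀ (r : GrLC.deg0 𝒜) z, P (r • z) = C (r : R) * P z := fun r z => by
      show ofFn N _ = C (r : R) * ofFn N _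
      rw [← Polynomial.smul_eq_C_mul, ← map_smul]
      rfl
    let L : (Fin N → GrLC.comp 𝒜 𝒜 n) →ₗ[GrLC.deg0 𝒜] (Fin (N + s) → GrLC.comp 𝒜 𝒜 (n + 1)) :=
      { toFun := fun z l => ⟨(P z * f).coeff l, hcoeff z l⟩
        map_add' := fun z w => funext fun l => Subtype.ext (by
          show (P (z + w) * f).coeff l = (P z * f).coeff l + (P w * f).coeff l
          rw [← coeff_add, ← add_mul, show P (z + w) = P z + P w from by
            show ofFn N _ = ofFn N _ + ofFn N _
            rw [← map_add]; rfl])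
        map_smul' := fun r z => funext fun l => Subtype.ext (by
          show (P (r • z) * f).coeff l = (r : R) * (P z * f).coeff l
          rw [hsmul, mul_assoc, coeff_C_mul]) }
    have hL : Function.Injective L := by
      rw [injective_iff_map_eq_zero]
      intro z hz
      have h1 : P z * f = 0 := by
        refine Polynomial.ext fun l => ?_
        rw [coeff_zero]
        rcases lt_or_ge l (N + s) with hl | hl
        · exact congrArg Subtype.val (congrFun hz ⟨l, hl⟩)
        · rw [coeff_mul]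
          refine Finset.sum_eq_zero fun c hc => ?_
          replace hc := Finset.HasAntidiagonal.mem_antidiagonal.1 hc
          rcases lt_or_ge c.1 N with h | h
          · rw [show f.coeff c.2 = 0 from ofFn_coeff_eq_zero_of_ge x (by omega), mul_zero]
          · rw [show (P z).coeff c.1 = 0 from ofFn_coeff_eq_zero_of_ge _ h, zero_mul]
      funext i
      have h2 := congrArg (fun q => q.coeff (i : ℕ)) (hreg _ h1)
      refine Subtype.ext ?_
      simpa [P, ofFn_coeff_eq_val_of_lt _ i.2] using h2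
    have := LinearMap.finrank_le_finrank_of_injective hL
    simpa [Module.finrank_pi_fintype, a, b] using this
  show a ≤ b
  by_contra hab
  have h1 : N * (b + 1) ≤ (N + s) * b := (Nat.mul_le_mul le_rfl (by omega : b + 1 ≤ a)).trans key
  simp only [N] at h1
  nlinarith

end Groth.Agent.GrLib8
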