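import Groth.Agent.GrLib8.MaxHull
import Groth.Agent.GrLib8.PosGr
import Groth.Agent.GrLib8.StarField
import Groth.Agent.GrLib8.Les
import Groth.Agent.GrLib8.EventVan
import Mathlib.LinearAlgebra.Dual.Lemmas

/-!
# Degreewise duality for *canonical modules
-/

set_option autoImplicit false
set_option linter.unusedSectionVars false
set_option linter.style.haveILetI false
set_option maxHeartbeats 1600000

universe u

open DirectSum

namespace Groth.Agent.GrLib8.Canon

variable {R : Type u} [CommRing R] [IsNoetherianRing R] {σ : Type u} [SetLike σ R] [AddSubgroupClass σ R]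
variable {𝒜 : ℤ → σ} [GradedRing 𝒜] {m : HomogeneousIdeal 𝒜}
variable {E' : Type u} [AddCommGroup E'] [Module R E'] {𝓔 : ℤ → AddSubgroup E'} [Decomposition 𝓔]
  [SetLike.GradedSMul 𝒜 𝓔] {e : (R ⧸ m.toIdeal) →ₗ[R] E'}
variable (hp : ∀ g < 0, ∀ r ∈ 𝒜 g, r = 0)
  (hmsp : m.toIdeal = Ideal.span (⋃ g ∈ Set.Ioi (0 : ℤ), (𝒜 g : Set R)))
  (he : GrLC.IsStarInjHull 𝒜 (GrLC.quotGr 𝒜 m) 𝓔 e)

include hp hmsp in
theorem sub_decompose_zero_mem (r : R) : r - (decompose 𝒜 r 0 : R) ∈ m.toIdeal := by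
  induction r using DirectSum.Decomposition.inductionOn 𝒜 with
  | zero => simp
  | add a b ha hb =>
    rw [decompose_add, DirectSum.add_apply, AddMemClass.coe_add, add_sub_add_comm]
    exact add_mem ha hb
  | @homogeneous i r =>
    rcases lt_trichotomy i 0 with hi | rfl | hi
    · rw [hp i hi _ r.2]; simp
    · rw [decompose_of_mem_same 𝒜 r.2, sub_self]; exact zero_mem _
    · rw [decompose_of_mem_ne 𝒜 r.2 hi.ne', sub_zero, hmsp]
      exact Ideal.subset_span (Set.mem_biUnion (x := i) hi r.2)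

include hp hmsp he in
theorem range_subset_zero {z : E'} (hz : z ∈ LinearMap.range e) : z ∈ 𝓔 0 := by
  obtain ⟨x, rfl⟩ := hz
  obtain ⟨r, rfl⟩ := Ideal.Quotient.mk_surjective x
  rw [Ideal.Quotient.eq.2 (sub_decompose_zero_mem hp hmsp r)]
  exact he.grHom 0 _ ⟨_, SetLike.coe_mem (decompose 𝒜 r 0), rfl⟩

include hp hmsp he in
theorem exists_smul_socle {g : ℤ} {y : E'} (hy : y ∈ 𝓔 g) (h : y ≠ 0) :
    ∃ a ∈ 𝒜 (-g), a • y ∈ LinearMap.range e ∧ a • y ≠ 0 := by
  have hhom : (LinearMap.range e).IsHomogeneous 𝓔 := by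
    intro i z hz
    rcases eq_or_ne i 0 with rfl | hi
    · rwa [decompose_of_mem_same 𝓔 (range_subset_zero hp hmsp he hz)]
    · rw [decompose_of_mem_ne 𝓔 (range_subset_zero hp hmsp he hz) hi.symm]
      exact zero_mem _
  obtain ⟨i, a, ha, haP, ha0⟩ := exists_homogeneous_smul_mem 𝒜 𝓔 (LinearMap.range e) hhom he.essential y h
  have h1 : a • y ∈ 𝓔 (i + g) := by
    have := SetLike.GradedSMul.smul_mem (B := 𝓔) ha hy
    rwa [vadd_eq_add] at this
  have h2 : i + g = 0 := by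
    by_contra hne
    exact ha0 ((decompose_of_mem_same 𝓔 (range_subset_zero hp hmsp he haP)).symm.trans
      (decompose_of_mem_ne 𝓔 h1 hne))
  obtain rfl : i = -g := by omega
  exact ⟨a, ha, haP, ha0⟩

variable (hF : IsField (GrLC.deg0 𝒜))

include hp hmsp he hF in
theorem mem_zero_iff {z : E'} : z ∈ 𝓔 0 ↔ z ∈ LinearMap.range e := by
  refine ⟨fun hz => ?_, range_subset_zero hp hmsp he⟩
  rcases eq_or_ne z 0 with rfl | h
  · exact zero_mem _
  obtain ⟨a, ha, haP, ha0⟩ := exists_smul_socle hp hmsp he hz h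
  rw [neg_zero] at ha
  have hne : (⟨a, ha⟩ : GrLC.deg0 𝒜) ≠ 0 := fun h0 => ha0 (by rw [show a = 0 from congrArg Subtype.val h0, zero_smul])
  obtain ⟨b, hb⟩ := hF.mul_inv_cancel hne
  have hb' : (b : R) * a = 1 := by rw [mul_comm]; exact congrArg Subtype.val hb
  rw [show z = (b : R) • a • z by rw [smul_smul, hb', one_smul]]
  exact Submodule.smul_mem _ _ haP

variable {C : Type u} [AddCommGroup C] [Module R C] [Module.Finite R C] {𝒞 : ℤ → AddSubgroup C} [Decomposition 𝒞]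
  [SetLike.GradedSMul 𝒜 𝒞]

include hp hmsp he in
theorem zero_of_zero_on_piece {d : ℤ} (ψ : C →ₗ[R] E') (hψ : GrLC.IsGrHomDeg 𝒞 𝓔 ψ d)
    (h : ∀ c ∈ 𝒞 (-d), ψ c = 0) : ψ = 0 := by
  classical
  refine LinearMap.ext fun x => ?_
  rw [LinearMap.zero_apply, ← sum_support_decompose 𝒞 x, map_sum]
  refine Finset.sum_eq_zero fun g _ => ?_
  by_contra hne
  obtain ⟨a, ha, -, ha0⟩ := exists_smul_socle hp hmsp he (hψ g _ (SetLike.coe_mem _)) hne
  refine ha0 ?_
  rw [← map_smul]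
  refine h _ ?_
  have := SetLike.GradedSMul.smul_mem (B := 𝒞) ha (SetLike.coe_mem (decompose 𝒞 x g))
  rwa [vadd_eq_add, show -(g + d) + g = -d by ring] at this

include hp hmsp he hF in
/-- Every functional on a piece extends to a homogeneous map into the hull. -/
theorem exists_extend_piece [m.toIdeal.IsMaximal] (d : ℤ) (lam : GrLC.comp 𝒜 𝒞 (-d) →+ E')
    (hlam : ∀ (a : GrLC.deg0 𝒜) c, lam (a • c) = (a : R) • lam c) (hrange : ∀ c, lam c ∈ 𝓔 0)
    (hinj : Module.Injective R E') :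
    ∃ ψ : C →ₗ[R] E', GrLC.IsGrHomDeg 𝒞 𝓔 ψ d ∧ ∀ c : GrLC.comp 𝒜 𝒞 (-d), ψ (c : C) = lam c := by
  classical
  let Z : Submodule R C := Submodule.span R (𝒞 (-d) : Set C)
  have hform : ∀ z ∈ Z, ∀ r : R, ∃ c : GrLC.comp 𝒜 𝒞 (-d), (decompose 𝒞 (r • z) (-d) : C) = c ∧
      lam c = r • lam ⟨(decompose 𝒞 z (-d) : C), SetLike.coe_mem (decompose 𝒞 z (-d))⟩ := by
    intro z hz r
    refine ⟨⟨_, SetLike.coe_mem (decompose 𝒞 (r • z) (-d))⟩, rfl, ?_⟩
    have hz' : ∀ g < -d, (decompose 𝒞 z g : C) = 0 := by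
      clear r
      induction hz using Submodule.span_induction with
      | mem c hc => exact fun g hg => decompose_of_mem_ne 𝒞 hc hg.ne'
      | zero => intro g _; simp
      | add x y _ _ hx hy =>
        intro g hg
        rw [decompose_add, DirectSum.add_apply, AddMemClass.coe_add, hx g hg, hy g hg, add_zero]
      | smul t x _ hx =>
        intro g hg
        rw [← sum_support_decompose 𝒜 t, Finset.sum_smul, decompose_sum, DFinsupp.finsetSum_apply,
          AddSubmonoidClass.coe_finsetSum]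
        refine Finset.sum_eq_zero fun i _ => ?_
        rw [decompose_smul_of_mem_left 𝒜 𝒞 (SetLike.coe_mem _)]
        rcases lt_or_ge i 0 with hi | hi
        · rw [hp i hi _ (SetLike.coe_mem _), zero_smul]
        · rw [hx (g - i) (by omega), smul_zero]
    have hkey : (decompose 𝒞 (r • z) (-d) : C) = (decompose 𝒜 r 0 : R) • (decompose 𝒞 z (-d) : C) := by
      rw [← sum_support_decompose 𝒜 r, Finset.sum_smul, decompose_sum, DFinsupp.finsetSum_apply,
        AddSubmonoidClass.coe_finsetSum]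
      rw [sum_support_decompose 𝒜 r]
      refine (Finset.sum_congr rfl fun i _ => decompose_smul_of_mem_left 𝒜 𝒞 (SetLike.coe_mem _) z (-d)).trans ?_
      rw [Finset.sum_eq_single (0 : ℤ)]
      · rw [sub_zero]
      · intro i _ hi
        rcases lt_or_gt_of_ne hi with h | h
        · rw [hp i h _ (SetLike.coe_mem _), zero_smul]
        · rw [hz' _ (by omega), smul_zero]
      · intro h0
        rw [DFinsupp.notMem_support_iff.1 h0]
        simp
    let c0 : GrLC.comp 𝒜 𝒞 (-d) := ⟨(decompose 𝒞 z (-d) : C), SetLike.coe_mem (decompose 𝒞 z (-d))⟩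
    have : (⟨_, SetLike.coe_mem (decompose 𝒞 (r • z) (-d))⟩ : GrLC.comp 𝒜 𝒞 (-d)) =
        (⟨_, SetLike.coe_mem (decompose 𝒜 r 0)⟩ : GrLC.deg0 𝒜) • c0 := Subtype.ext hkey
    rw [this, hlam]
    -- `r - r₀` kills the socle
    obtain ⟨x, hx⟩ := (mem_zero_iff hp hmsp he hF).1 (hrange c0)
    rw [← hx, ← map_smul, ← map_smul]
    refine congrArg e ?_
    obtain ⟨x', rfl⟩ := Ideal.Quotient.mk_surjective x
    show Ideal.Quotient.mk m.toIdeal ((decompose 𝒜 r 0 : R) * x') = Ideal.Quotient.mk m.toIdeal (r * x')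
    rw [Ideal.Quotient.eq, ← sub_mul, ← neg_sub r, neg_mul]
    exact neg_mem (m.toIdeal.mul_mem_right _ (sub_decompose_zero_mem hp hmsp r))
  let φ : Z →ₗ[R] E' :=
    { toFun := fun z => lam ⟨(decompose 𝒞 (z : C) (-d) : C), SetLike.coe_mem (decompose 𝒞 (z : C) (-d))⟩
      map_add' := fun x y => by
        rw [← map_add]
        exact congrArg lam (Subtype.ext (by simp [decompose_add]; rfl))
      map_smul' := fun r x => by
        obtain ⟨c, hc, hc'⟩ := hform x.1 x.2 r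
        rw [RingHom.id_apply, ← hc']
        exact congrArg lam (Subtype.ext hc) }
  obtain ⟨ψ, hψ⟩ := LC.exists_extension Z.subtype Subtype.val_injective φ
  refine ⟨compHom 𝓔 𝒞 (𝒜 := 𝒜) ψ d, isGrHomDeg_compHom 𝓔 𝒞 ψ d, fun c => ?_⟩
  show compAddHom 𝓔 𝒞 ψ d (c : C) = lam c
  rw [compAddHom_of_mem 𝓔 𝒞 ψ d (show (c : C) ∈ 𝒞 (-d) from c.2)]
  have h1 : ψ (c : C) = lam c := by
    refine (LinearMap.congr_fun hψ ⟨(c : C), Submodule.subset_span c.2⟩).trans ?_
    exact congrArg lam (Subtype.ext (decompose_of_mem_same 𝒞 c.2))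
  rw [h1, neg_add_cancel, decompose_of_mem_same 𝓔 (hrange c)]

include hp hmsp hF in
/-- A piece of the top local cohomology is the dual of a piece of the *canonical module. -/
theorem exists_comp_dual [m.toIdeal.IsMaximal] {n : ℕ} {I : GrLC.StarInjRes 𝒜 𝒜}
    (he : GrLC.IsStarInjHull 𝒜 (GrLC.quotGr 𝒜 m) 𝓔 e) (hC : GrLC.IsStarCanonical 𝒜 𝒞 𝓔 m n I)
    (hinj : Module.Injective R E') (d : ℤ) :
    Nonempty (I.Hcomp m n d ≃ₗ[GrLC.deg0 𝒜] (GrLC.comp 𝒜 𝒞 (-d) →ₗ[GrLC.deg0 𝒜] GrLC.deg0 𝒜)) := by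
  classical
  letI := hF.toField
  obtain ⟨-, φ, hφ⟩ := hC
  haveI := finite_comp 𝒜 hp 𝒞 (-d)
  letI := (isInternal_Hgr 𝒜 I m n).chooseDecomposition
  -- the homogeneous maps of degree `d` are the dual of the piece
  let res : GrLC.homDeg 𝒜 𝒞 𝓔 d →ₗ[GrLC.deg0 𝒜] (GrLC.comp 𝒜 𝒞 (-d) →ₗ[GrLC.deg0 𝒜] GrLC.comp 𝒜 𝓔 0) :=
    { toFun := fun ψ =>
        { toFun := fun c => ⟨ψ.1 (c : C), by
            have := ψ.2 (-d) (c : C) c.2
            rwa [neg_add_cancel] at this⟩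
          map_add' := fun x y => Subtype.ext (map_add ψ.1 _ _)
          map_smul' := fun a x => Subtype.ext (map_smul ψ.1 (a : R) (x : C)) }
      map_add' := fun _ _ => rfl
      map_smul' := fun _ _ => rfl }
  have hres : Function.Bijective res := by
    refine ⟨(injective_iff_map_eq_zero res).2 fun ψ hψ => Subtype.ext
      (zero_of_zero_on_piece hp hmsp he ψ.1 ψ.2 fun c hc =>
        congrArg Subtype.val (LinearMap.congr_fun hψ ⟨c, hc⟩)), fun lam => ?_⟩
    obtain ⟨ψ, hψ, hψc⟩ := exists_extend_piece hp hmsp he hF d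
      (AddMonoidHom.mk' (fun c => (lam c : E')) fun x y => congrArg Subtype.val (map_add lam x y))
      (fun a c => congrArg Subtype.val (map_smul lam a c)) (fun c => (lam c).2) hinj
    exact ⟨⟨ψ, hψ⟩, LinearMap.ext fun c => Subtype.ext (hψc c)⟩
  -- the socle piece is the residue field
  let u : GrLC.comp 𝒜 𝓔 0 := ⟨e (Ideal.Quotient.mk m.toIdeal 1),
    range_subset_zero hp hmsp he (z := e (Ideal.Quotient.mk m.toIdeal 1)) ⟨_, rfl⟩⟩
  have hu : Function.Bijective (LinearMap.toSpanSingleton (GrLC.deg0 𝒜) (GrLC.comp 𝒜 𝓔 0) u) := by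
    constructor
    · refine (injective_iff_map_eq_zero _).2 fun a ha => ?_
      by_contra hne
      obtain ⟨b, hb⟩ := hF.mul_inv_cancel hne
      have h1 : (a : R) • e (Ideal.Quotient.mk m.toIdeal 1) = 0 := congrArg Subtype.val ha
      have h2 := congrArg ((b : R) • ·) h1
      simp only [smul_zero, smul_smul] at h2
      have hb' : (b : R) * a = 1 := by rw [mul_comm]; exact congrArg Subtype.val hb
      rw [hb', one_smul] at h2
      have h3 : Ideal.Quotient.mk m.toIdeal (1 : R) = 0 := he.injective (h2.trans (map_zero e).symm)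
      exact Ideal.IsMaximal.ne_top ‹_› ((Ideal.eq_top_iff_one _).2 (Ideal.Quotient.eq_zero_iff_mem.1 h3))
    · intro z
      obtain ⟨x, hx⟩ := (mem_zero_iff hp hmsp he hF).1 z.2
      obtain ⟨r, rfl⟩ := Ideal.Quotient.mk_surjective x
      refine ⟨⟨_, SetLike.coe_mem (decompose 𝒜 r 0)⟩, Subtype.ext ?_⟩
      show (decompose 𝒜 r 0 : R) • e (Ideal.Quotient.mk m.toIdeal 1) = (z : E')
      rw [← hx, ← map_smul]
      refine congrArg e ?_
      show Ideal.Quotient.mk m.toIdeal ((decompose 𝒜 r 0 : R) * 1) = _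
      rw [mul_one, eq_comm, Ideal.Quotient.eq]
      exact sub_decompose_zero_mem hp hmsp r
  -- homogeneous maps of degree `d` are the classes of degree `d`
  let f : GrLC.homDeg 𝒜 𝒞 𝓔 d →ₗ[GrLC.deg0 𝒜] I.Hcomp m n d :=
    { toFun := fun ψ => ⟨φ ψ.1, hφ d ψ.1 ψ.2⟩
      map_add' := fun x y => Subtype.ext (map_add φ _ _)
      map_smul' := fun a x => Subtype.ext (map_smul φ (a : R) x.1) }
  have hf : Function.Bijective f := by
    refine ⟨fun x y h => Subtype.ext (φ.injective (congrArg Subtype.val h)), fun w => ?_⟩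
    obtain ⟨D, hD⟩ := exists_sum_compHom 𝓔 𝒞 (𝒜 := 𝒜) (φ.symm w.1)
    refine ⟨⟨compHom 𝓔 𝒞 (𝒜 := 𝒜) (φ.symm w.1) d, isGrHomDeg_compHom 𝓔 𝒞 _ d⟩, Subtype.ext ?_⟩
    show φ (compHom 𝓔 𝒞 (𝒜 := 𝒜) (φ.symm w.1) d) = (w : I.H m n)
    have hw : (w : I.H m n) = ∑ j ∈ D, φ (compHom 𝓔 𝒞 (𝒜 := 𝒜) (φ.symm w.1) j) := by
      rw [← map_sum, ← hD, φ.apply_symm_apply]
    have hmem : ∀ j, φ (compHom 𝓔 𝒞 (𝒜 := 𝒜) (φ.symm w.1) j) ∈ I.Hgr m n j := fun j =>
      hφ j _ (isGrHomDeg_compHom 𝓔 𝒞 _ j)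
    have hwd : (decompose (I.Hgr m n) (w : I.H m n) d : I.H m n) = w :=
      decompose_of_mem_same (I.Hgr m n) (show (w : I.H m n) ∈ I.Hgr m n d from w.2)
    rw [hw, decompose_sum, DFinsupp.finsetSum_apply, AddSubmonoidClass.coe_finsetSum, ← hw] at hwd
    by_cases hdD : d ∈ D
    · rw [Finset.sum_eq_single d (fun j _ hj => decompose_of_mem_ne (I.Hgr m n) (hmem j) hj)
        (fun h => absurd hdD h), decompose_of_mem_same (I.Hgr m n) (hmem d)] at hwd
      exact hwd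
    · rw [Finset.sum_eq_zero fun j hj => decompose_of_mem_ne (I.Hgr m n) (hmem j)
        (fun h : j = d => hdD (h ▸ hj))] at hwd
      have h0 : φ.symm w.1 = 0 := by rw [← hwd, map_zero]
      rw [h0, ← hwd]
      have h1 : compHom 𝓔 𝒞 (𝒜 := 𝒜) (0 : C →ₗ[R] E') d = 0 := LinearMap.ext fun x => by
        show compAddHom 𝓔 𝒞 (0 : C →ₗ[R] E') d x = 0
        induction x using DirectSum.Decomposition.inductionOn 𝒞 with
        | zero => simp
        | add a b ha hb => rw [map_add, ha, hb, add_zero]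
        | @homogeneous g x => rw [compAddHom_of_mem 𝓔 𝒞 0 d x.2]; simp
      rw [h1, map_zero]
  exact ⟨((LinearEquiv.ofBijective f hf).symm.trans (LinearEquiv.ofBijective res hres)).trans
    ((LinearEquiv.ofBijective _ hu).symm.congrRight (M := GrLC.comp 𝒜 𝒞 (-d)))⟩

include hp hmsp hF in
/-- The pieces of a *canonical module are dual to those of the top local cohomology. -/
theorem finrank_comp_eq [m.toIdeal.IsMaximal] {n : ℕ} {I : GrLC.StarInjRes 𝒜 𝒜}
    (he : GrLC.IsStarInjHull 𝒜 (GrLC.quotGr 𝒜 m) 𝓔 e) (hC : GrLC.IsStarCanonical 𝒜 𝒞 𝓔 m n I)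
    (hinj : Module.Injective R E') (d : ℤ) :
    Module.finrank (GrLC.deg0 𝒜) (I.Hcomp m n d) = Module.finrank (GrLC.deg0 𝒜) (GrLC.comp 𝒜 𝒞 (-d)) := by
  letI := hF.toField
  obtain ⟨E₂⟩ := exists_comp_dual hp hmsp hF he hC hinj d
  haveI := finite_comp 𝒜 hp 𝒞 (-d)
  rw [E₂.finrank_eq]
  exact Subspace.dual_finrank_eq

end Groth.Agent.GrLib8.Canon
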