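import Groth.Agent.GrLib8.BassShift
import Groth.Agent.LC.ExtDim
import Groth.Agent.LC.GorCore

/-!
# Vanishing of Bass numbers and injective dimension
-/

set_option autoImplicit false

universe u

open CategoryTheory

namespace Groth.Agent.GrLib8

variable {R : Type u} [CommRing R] [IsNoetherianRing R] (M : Type u) [AddCommGroup M] [Module R M]

theorem bass_eq_length (p : Ideal R) [p.IsPrime] (i : ℕ) :
    GrLC.bassNum p M i = Module.length (Localization.AtPrime p)
      (LocalizedModule p.primeCompl (Abelian.Ext.{u} (ModuleCat.of R (R ⧸ p)) (ModuleCat.of R M) i)) := by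
  obtain ⟨e⟩ := LC.exists_extLoc p.primeCompl M i (R ⧸ p)
  obtain ⟨q⟩ := LC.exists_locQuot p.primeCompl p
  let q' := q.trans (Submodule.quotEquivOfEq _ _ Localization.AtPrime.map_eq_maximalIdeal)
  let r : IsLocalRing.ResidueField (Localization.AtPrime p) ≃ₗ[Localization.AtPrime p]
      (Localization.AtPrime p ⧸ IsLocalRing.maximalIdeal (Localization.AtPrime p)) :=
    { toFun := id, invFun := id, left_inv := fun _ => rfl, right_inv := fun _ => rfl,
      map_add' := fun _ _ => rfl, map_smul' := fun _ _ => rfl }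
  unfold GrLC.bassNum GrLC.bassNumLocal
  exact ((extCongrFst (q'.trans r.symm) _ i).trans e.symm).length_eq

theorem bass_eq_zero_iff (p : Ideal R) [p.IsPrime] (i : ℕ) :
    GrLC.bassNum p M i = 0 ↔
      ∀ z : Abelian.Ext.{u} (ModuleCat.of R (R ⧸ p)) (ModuleCat.of R M) i, ∃ s ∉ p, s • z = 0 := by
  rw [bass_eq_length, Module.length_eq_zero_iff, LocalizedModule.subsingleton_iff]
  exact forall_congr' fun z => ⟨fun ⟨s, hs, h⟩ => ⟨s, hs, h⟩, fun ⟨s, hs, h⟩ => ⟨s, hs, h⟩⟩

theorem ext_vanish_of_bass (i : ℕ) (h : ∀ (p : Ideal R) [p.IsPrime], GrLC.bassNum p M i = 0)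
    (T : Type u) [AddCommGroup T] [Module R T] [Module.Finite R T] :
    Subsingleton (Abelian.Ext.{u} (ModuleCat.of R T) (ModuleCat.of R M) i) := by
  refine LC.subsingleton_ext_of_filtration _ i T fun q _hq => ?_
  clear _hq
  have hwf : WellFounded fun q₁ q₂ : PrimeSpectrum R => q₂ < q₁ :=
    (InvImage.wf PrimeSpectrum.asIdeal (wellFounded_gt (α := Ideal R)))
  induction q using hwf.induction with
  | h p ih =>
    refine subsingleton_of_forall_eq 0 fun z => ?_
    obtain ⟨s, hs, hsz⟩ := (bass_eq_zero_iff M p.asIdeal i).1 (h p.asIdeal) z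
    have hreg : IsSMulRegular (R ⧸ p.asIdeal) s := isSMulRegular_iff_right_eq_zero_of_smul.2 fun z hz => by
      obtain ⟨z, rfl⟩ := Ideal.Quotient.mk_surjective z
      rw [← Ideal.Quotient.mkₐ_eq_mk R, ← map_smul, Ideal.Quotient.mkₐ_eq_mk,
        Ideal.Quotient.eq_zero_iff_mem, smul_eq_mul] at hz
      exact Ideal.Quotient.eq_zero_iff_mem.2 ((p.isPrime.mem_or_mem hz).resolve_left hs)
    have hC : Subsingleton (Abelian.Ext.{u} (ModuleCat.of R (QuotSMulTop s (R ⧸ p.asIdeal))) (ModuleCat.of R M) i) := by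
      refine LC.subsingleton_ext_of_filtration _ i _ fun Q hQ => ?_
      rw [Module.support_quotSMulTop, Module.support_eq_zeroLocus, Ideal.annihilator_quotient] at hQ
      obtain ⟨hQp, hQx⟩ := hQ
      have hxQ : s ∈ Q.asIdeal := by simpa using hQx
      exact ih Q (lt_of_le_of_ne hQp fun hh => hs (hh ▸ hxQ))
    have hS := IsSMulRegular.smulShortComplex_shortExact (M := ModuleCat.of R (R ⧸ p.asIdeal)) hreg
    let S := ModuleCat.smulShortComplex (ModuleCat.of R (R ⧸ p.asIdeal)) s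
    have hz : (Abelian.Ext.mk₀ S.f).comp z (zero_add i) = 0 := by
      refine Eq.trans ?_ hsz
      show (Abelian.Ext.mk₀ (s • 𝟙 (ModuleCat.of R (R ⧸ p.asIdeal)))).comp z (zero_add i) = _
      rw [Abelian.Ext.mk₀_smul, Abelian.Ext.smul_comp, Abelian.Ext.mk₀_id_comp]
    obtain ⟨w, hw⟩ := Abelian.Ext.contravariant_sequence_exact₂ hS (ModuleCat.of R M) z hz
    rw [← hw, show w = 0 from @Subsingleton.elim _ hC w 0, Abelian.Ext.comp_zero]
    rfl

theorem bass_zero_ne_zero_iff (p : Ideal R) [p.IsPrime] :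
    GrLC.bassNum p M 0 ≠ 0 ↔ p ∈ associatedPrimes R M := by
  rw [ne_eq, bass_eq_zero_iff, AssociatedPrimes.mem_iff, isAssociatedPrime_iff]
  constructor
  · intro h
    push Not at h
    obtain ⟨z, hz⟩ := h
    let y := extKill p M z
    refine ⟨inferInstance, (y : M), le_antisymm (fun a ha => ?_) fun a ha => ?_⟩
    · exact Submodule.mem_colon_singleton.2 ((Submodule.mem_bot R).2 (mem_killSub.1 y.2 a ha))
    · by_contra hap
      refine hz a hap ((extKill p M).injective ?_)
      rw [map_smul, map_zero]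
      exact Subtype.ext ((Submodule.mem_bot R).1 (Submodule.mem_colon_singleton.1 ha))
  · rintro ⟨-, x, hx⟩ h
    have hmem : x ∈ killSub p M := mem_killSub.2 fun a ha =>
      (Submodule.mem_bot R).1 (Submodule.mem_colon_singleton.1 (hx ▸ ha))
    obtain ⟨s, hs, h0⟩ := h ((extKill p M).symm ⟨x, hmem⟩)
    rw [← map_smul, map_eq_zero_iff _ (extKill p M).symm.injective] at h0
    exact hs (hx ▸ Submodule.mem_colon_singleton.2 ((Submodule.mem_bot R).2 (congrArg Subtype.val h0)))

variable {ι : Type} [AddCommGroup ι] [DecidableEq ι] {𝒜 : ι → AddSubgroup R} [GradedRing 𝒜]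
variable (ℳ : ι → AddSubgroup M) [DirectSum.Decomposition ℳ] [SetLike.GradedSMul 𝒜 ℳ]

theorem bass_eq_zero_of_isStarInj (hM : GrLC.IsStarInj 𝒜 ℳ) (P : HomogeneousIdeal 𝒜) [P.toIdeal.IsPrime] (i : ℕ) :
    GrLC.bassNum P.toIdeal M (i + 1) = 0 := by
  have h := subsingleton_ext ℳ hM i (quotGMod 𝒜 𝒜 P.toIdeal P.isHomogeneous)
    (inferInstanceAs (Module.Finite R (R ⧸ P.toIdeal)))
  exact (bass_eq_zero_iff M P.toIdeal (i + 1)).2 fun z =>
    ⟨1, P.toIdeal.one_notMem, @Subsingleton.elim _ h _ _⟩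

end Groth.Agent.GrLib8
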