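import Groth.Agent.GrLib8.Res
import Mathlib.RingTheory.GradedAlgebra.Radical
import Mathlib.Algebra.Order.Group.PiLex
import Mathlib.LinearAlgebra.FreeModule.Finite.Basic

/-!
# Summands of *injective modules at homogeneous primes
-/

set_option autoImplicit false

universe u

open DirectSum

namespace Groth.Agent.GrLib8

variable {ι : Type} [AddCommGroup ι] [DecidableEq ι]
variable {R : Type u} [CommRing R] {𝒜 : ι → AddSubgroup R} [GradedRing 𝒜]

/-- A homogeneous ideal that is prime on homogeneous elements is prime, for a free grading group. -/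
theorem isPrime_of_homogeneous [Module.Free ℤ ι] [Module.Finite ℤ ι] {I : Ideal R} (hI : I.IsHomogeneous 𝒜)
    (htop : I ≠ ⊤) (h : ∀ {i j : ι} {x y : R}, x ∈ 𝒜 i → y ∈ 𝒜 j → x * y ∈ I → x ∈ I ∨ y ∈ I) : I.IsPrime := by
  classical
  let b := Module.finBasis ℤ ι
  let f : ι → Lex (Fin (Module.finrank ℤ ι) → ℤ) := fun x => toLex (b.equivFun x)
  have hf : Function.Injective f := fun x y hxy => b.equivFun.injective (toLex.injective hxy)
  obtain rfl : ‹DecidableEq ι› = (LinearOrder.lift' f hf).toDecidableEq := Subsingleton.elim _ _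
  letI : LinearOrder ι := LinearOrder.lift' f hf
  haveI : IsOrderedCancelAddMonoid ι :=
    { add_le_add_left := fun x y hxy z => by
        show f (x + z) ≤ f (y + z)
        have e : ∀ a c, f (a + c) = f a + f c := fun a c => congrArg toLex (map_add b.equivFun a c)
        have hxy' : f x ≤ f y := hxy
        rw [e, e]
        exact add_le_add hxy' le_rfl
      le_of_add_le_add_left := fun x y z hyz => by
        show f y ≤ f z
        have e : ∀ a c, f (a + c) = f a + f c := fun a c => congrArg toLex (map_add b.equivFun a c)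
        have hyz' : f (x + y) ≤ f (x + z) := hyz
        rw [e, e] at hyz'
        exact le_of_add_le_add_left hyz' }
  exact hI.isPrime_of_homogeneous_mem_or_mem htop fun ⟨_, hx⟩ ⟨_, hy⟩ hxy => h hx hy hxy

variable {I : Type u} [AddCommGroup I] [Module R I] (ℐ : ι → AddSubgroup I) [Decomposition ℐ]
  [SetLike.GradedSMul 𝒜 ℐ]

theorem isHomogeneous_annihilator {g₀ : ι} {m : I} (hm : m ∈ ℐ g₀) : ((R ∙ m).annihilator).IsHomogeneous 𝒜 := by
  intro i r hr
  rw [Submodule.mem_annihilator_span_singleton] at hr ⊢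
  have h := decompose_smul_of_mem 𝒜 ℐ hm r (i + g₀)
  rw [add_sub_cancel_right, hr, decompose_zero, DirectSum.zero_apply, ZeroMemClass.coe_zero] at h
  exact h.symm

/-- An element with prime annihilator spans a *hull which is a summand. -/
theorem exists_summand (hI : GrLC.IsStarInj 𝒜 ℐ) (q : HomogeneousIdeal 𝒜) {g₀ : ι} {m : I} (hm : m ∈ ℐ g₀)
    (hann : (R ∙ m).annihilator = q.toIdeal) :
    ∃ (X : GrLC.GMod.{u} 𝒜) (f : (R ⧸ q.toIdeal) →ₗ[R] X.carrier) (ψ : X.carrier →ₗ[R] I) (Q : Submodule R I),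
      GrLC.IsStarInjHull 𝒜 (fun j : ι => GrLC.quotGr 𝒜 q (j - g₀)) X.gr f ∧ Function.Injective ψ ∧
        GrLC.IsGrHom X.gr ℐ ψ ∧ ψ (f 1) = m ∧ Q.IsHomogeneous ℐ ∧ IsCompl (LinearMap.range ψ) Q := by
  classical
  let S0 := quotGMod 𝒜 𝒜 q.toIdeal q.isHomogeneous
  let S := shiftGMod 𝒜 S0.gr (-g₀)
  let X := hullObj S
  let f : (R ⧸ q.toIdeal) →ₗ[R] X.carrier := hullMap S
  have hf : GrLC.IsStarInjHull 𝒜 (fun j : ι => GrLC.quotGr 𝒜 q (j - g₀)) X.gr f := by
    refine ⟨⟨(hull_spec S).injective, fun j z hz => (hull_spec S).grHom j z ?_, (hull_spec S).essential⟩,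
      (hull_spec S).starInj⟩
    obtain ⟨r, hr, rfl⟩ := hz
    show Ideal.Quotient.mk q.toIdeal r ∈ quotPieces 𝒜 q.toIdeal (j + -g₀)
    rw [← sub_eq_add_neg]
    exact ⟨r, hr, rfl⟩
  let μ : (R ⧸ q.toIdeal) →ₗ[R] I := q.toIdeal.liftQ (LinearMap.toSpanSingleton R I m) fun r hr => by
    show r • m = 0
    exact (Submodule.mem_annihilator_span_singleton _ _).1 (hann.symm ▸ hr)
  have hμ : GrLC.IsGrHom S.gr ℐ (μ : S.carrier →ₗ[R] I) := by
    intro j z hz
    obtain ⟨r, hr, rfl⟩ := hz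
    show r • m ∈ ℐ j
    have h := SetLike.GradedSMul.smul_mem (A := 𝒜) (B := ℐ) hr hm
    rwa [vadd_eq_add, neg_add_cancel_right] at h
  obtain ⟨ψ, hψ, hψf⟩ := hI S X (hullMap S) (hull_spec S).grHom (hull_spec S).injective μ hμ
  have hψf' : ∀ z, ψ (f z) = μ z := fun z => LinearMap.congr_fun hψf z
  have hμinj : Function.Injective μ := by
    rw [injective_iff_map_eq_zero]
    intro z hz
    obtain ⟨r, rfl⟩ := Ideal.Quotient.mk_surjective z
    refine Ideal.Quotient.eq_zero_iff_mem.2 (hann.le ((Submodule.mem_annihilator_span_singleton _ _).2 ?_))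
    exact hz
  have hψinj : Function.Injective ψ := by
    rw [← LinearMap.ker_eq_bot]
    by_contra hne
    refine (hull_spec S).essential _ (isHomogeneous_ker X.gr ℐ hψ) hne (eq_bot_iff.2 ?_)
    rintro _ ⟨hx, z, rfl⟩
    have h0 : μ z = 0 := (hψf' z).symm.trans hx
    have h1 : z = 0 := hμinj (h0.trans (map_zero μ).symm)
    rw [h1, map_zero]
    exact zero_mem _
  obtain ⟨p, hp, hpψ⟩ := (hull_spec S).starInj X (GrLC.GMod.of 𝒜 I ℐ) ψ hψ hψinj LinearMap.id (fun _ _ hx => hx)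
  let p' : I →ₗ[R] X.carrier := p
  have hid : ∀ x, p' (ψ x) = x := fun x => LinearMap.congr_fun hpψ x
  refine ⟨X, f, ψ, LinearMap.ker p', hf, hψinj, hψ, ?_, isHomogeneous_ker ℐ X.gr (h := p') hp, ?_⟩
  · refine (hψf' 1).trans ?_
    show (1 : R) • m = m
    rw [one_smul]
  · refine ⟨disjoint_iff_inf_le.2 ?_, codisjoint_iff_le_sup.2 fun x _ => ?_⟩
    · rintro _ ⟨⟨x, rfl⟩, hx⟩
      have hx0 : x = 0 := (hid x).symm.trans hx
      rw [hx0, map_zero]
      exact zero_mem _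
    · refine Submodule.mem_sup.2 ⟨ψ (p' x), ⟨_, rfl⟩, x - ψ (p' x), ?_, add_sub_cancel _ _⟩
      show p' (x - ψ (p' x)) = 0
      rw [map_sub, hid, sub_self]

/-- An indecomposable *injective is the hull of a shifted `R/q`. -/
theorem exists_prime_of_isStarIndec [IsNoetherianRing R] [Module.Free ℤ ι] [Module.Finite ℤ ι]
    (hI : GrLC.IsStarInj 𝒜 ℐ) (hind : GrLC.IsStarIndec R ℐ) :
    ∃ (q : HomogeneousIdeal 𝒜) (g₀ : ι) (f : (R ⧸ q.toIdeal) →ₗ[R] I), q.toIdeal.IsPrime ∧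
      GrLC.IsStarInjHull 𝒜 (fun j : ι => GrLC.quotGr 𝒜 q (j - g₀)) ℐ f := by
  classical
  haveI := hind.1
  let 𝒥 : Set (Ideal R) := {J | ∃ (g : ι) (m : I), m ∈ ℐ g ∧ m ≠ 0 ∧ J = (R ∙ m).annihilator}
  have hne : 𝒥.Nonempty := by
    obtain ⟨x, hx⟩ := exists_ne (0 : I)
    obtain ⟨g, hg⟩ : ∃ g, (decompose ℐ x g : I) ≠ 0 := by
      by_contra hall
      push Not at hall
      refine hx ?_
      rw [← sum_support_decompose ℐ x]
      exact Finset.sum_eq_zero fun k _ => hall k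
    exact ⟨_, g, _, SetLike.coe_mem _, hg, rfl⟩
  obtain ⟨J, ⟨g₀, m, hm, hm0, rfl⟩, hmax⟩ := set_has_maximal_iff_noetherian.2 (inferInstance : IsNoetherian R R) 𝒥 hne
  let q : HomogeneousIdeal 𝒜 := ⟨(R ∙ m).annihilator, isHomogeneous_annihilator ℐ hm⟩
  have hprime : q.toIdeal.IsPrime := by
    refine isPrime_of_homogeneous q.isHomogeneous (fun h => hm0 ?_) fun {i j x y} _ hy hxy => ?_
    · have h1 : (1 : R) ∈ (R ∙ m).annihilator := (Ideal.eq_top_iff_one _).1 h
      rwa [Submodule.mem_annihilator_span_singleton, one_smul] at h1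
    change x * y ∈ (R ∙ m).annihilator at hxy
    show x ∈ (R ∙ m).annihilator ∨ y ∈ (R ∙ m).annihilator
    rw [Submodule.mem_annihilator_span_singleton, mul_smul] at hxy
    by_cases hym : y • m = 0
    · exact Or.inr ((Submodule.mem_annihilator_span_singleton _ _).2 hym)
    · refine Or.inl ?_
      have hle : (R ∙ m).annihilator ≤ (R ∙ (y • m)).annihilator := fun a ha => by
        rw [Submodule.mem_annihilator_span_singleton] at ha ⊢
        rw [smul_comm, ha, smul_zero]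
      have heq := eq_of_le_of_not_lt hle (hmax _ ⟨_, y • m, SetLike.GradedSMul.smul_mem hy hm, hym, rfl⟩)
      rw [heq]
      exact (Submodule.mem_annihilator_span_singleton _ _).2 hxy
  obtain ⟨X, f, ψ, Q, hf, hψinj, hψ, hψf, hQ, hcompl⟩ := exists_summand ℐ hI q hm rfl
  have hr : LinearMap.range ψ ≠ ⊥ := fun h => hm0 (by
    have h1 : ψ (f 1) ∈ LinearMap.range ψ := ⟨_, rfl⟩
    rw [h, Submodule.mem_bot, hψf] at h1
    exact h1)
  have hQ0 : Q = ⊥ := (hind.2 _ _ (isHomogeneous_range ℐ X.gr hψ) hQ hcompl).resolve_left hr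
  have hsur : Function.Surjective ψ := by
    rw [← LinearMap.range_eq_top]
    simpa [hQ0] using hcompl.sup_eq_top
  refine ⟨q, g₀, ψ ∘ₗ f, hprime, ⟨⟨hψinj.comp hf.injective, fun j z hz => hψ j _ (hf.grHom j z hz), fun P hP hP0 => ?_⟩,
    hI⟩⟩
  obtain ⟨x, ⟨hx1, z, rfl⟩, hx0⟩ := (Submodule.ne_bot_iff _).1 (hf.essential (P.comap ψ)
    (isHomogeneous_comap X.gr ℐ hψ hP) (by
      obtain ⟨w, hw, hw0⟩ := (Submodule.ne_bot_iff _).1 hP0
      obtain ⟨v, rfl⟩ := hsur w
      exact (Submodule.ne_bot_iff _).2 ⟨v, hw, fun h => hw0 (by rw [h, map_zero])⟩))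
  exact (Submodule.ne_bot_iff _).2 ⟨ψ (f z), ⟨hx1, z, rfl⟩, fun h => hx0 (hψinj (h.trans (map_zero ψ).symm))⟩

end Groth.Agent.GrLib8
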