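import Groth.Agent.GrLib8.InjDim
import Groth.Agent.GrLib8.Indec
import Groth.Agent.S18636
import Groth.Agent.CAlgGlobalDim.Basic

/-!
# Bass numbers of a *injective module over a `ℤ`-graded ring
-/

set_option autoImplicit false

universe u

open CategoryTheory

namespace Groth.Agent.GrLib8

variable {R : Type u} [CommRing R] [IsNoetherianRing R] (𝒜 : ℤ → AddSubgroup R) [GradedRing 𝒜]
variable (M : Type u) [AddCommGroup M] [Module R M] (ℳ : ℤ → AddSubgroup M)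
  [DirectSum.Decomposition ℳ] [SetLike.GradedSMul 𝒜 ℳ]

omit [IsNoetherianRing R] in
theorem isPrime_core {ι : Type} [AddCommGroup ι] [DecidableEq ι] [Module.Free ℤ ι] [Module.Finite ℤ ι]
    (𝒜 : ι → AddSubgroup R) [GradedRing 𝒜] (p : Ideal R) [hp : p.IsPrime] :
    (Ideal.homogeneousCore 𝒜 p).toIdeal.IsPrime := by
  refine isPrime_of_homogeneous (Ideal.homogeneousCore 𝒜 p).isHomogeneous
    (ne_top_of_le_ne_top hp.ne_top (Ideal.toIdeal_homogeneousCore_le 𝒜 p)) fun {i j x y} hx hy hxy => ?_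
  rcases hp.mem_or_mem (Ideal.toIdeal_homogeneousCore_le 𝒜 p hxy) with h | h
  · exact Or.inl (Ideal.mem_homogeneousCore_of_homogeneous_of_mem ⟨i, hx⟩ h)
  · exact Or.inr (Ideal.mem_homogeneousCore_of_homogeneous_of_mem ⟨j, hy⟩ h)

theorem bass_two_eq_zero (hM : GrLC.IsStarInj 𝒜 ℳ) (p : Ideal R) [p.IsPrime] (i : ℕ) :
    GrLC.bassNum p M (i + 2) = 0 := by
  by_cases hp : Ideal.IsHomogeneous 𝒜 p
  · let P : HomogeneousIdeal 𝒜 := ⟨p, hp⟩
    haveI : P.toIdeal.IsPrime := ‹p.IsPrime›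
    exact bass_eq_zero_of_isStarInj M ℳ hM P (i + 1)
  · haveI := isPrime_core 𝒜 p
    rw [(S18636.result R 𝒜 M ℳ p hp).2 (i + 1)]
    exact bass_eq_zero_of_isStarInj M ℳ hM (Ideal.homogeneousCore 𝒜 p) i

end Groth.Agent.GrLib8
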