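import Groth.Agent.GrLib8.Grading
import Mathlib.RingTheory.Localization.AtPrime.Basic
import Mathlib.RingTheory.Localization.Integer
import Mathlib.Order.Zorn

/-!
# Graded modules at a prime and at its homogeneous core
-/

set_option autoImplicit false

universe u

open DirectSum

namespace Groth.Agent.GrLib8

variable {ι : Type} [AddCommGroup ι] [DecidableEq ι]
variable {R : Type u} [CommRing R] (𝒜 : ι → AddSubgroup R) [GradedRing 𝒜]
variable {N : Type u} [AddCommGroup N] [Module R N] (𝒩 : ι → AddSubgroup N) [Decomposition 𝒩]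
  [SetLike.GradedSMul 𝒜 𝒩]

/-- A homogeneous scalar component still kills. -/
theorem component_smul_eq_zero {x : N} {g : ι} (hx : x ∈ 𝒩 g) {r : R} (hr : r • x = 0) (i : ι) :
    (decompose 𝒜 r i : R) • x = 0 := by
  have h := decompose_smul_of_mem 𝒜 𝒩 hx r (i + g)
  rw [add_sub_cancel_right, hr, decompose_zero, DirectSum.zero_apply, ZeroMemClass.coe_zero] at h
  exact h.symm

omit [AddCommGroup ι] [GradedRing 𝒜] in
theorem exists_component_notMem [Decomposition 𝒜] {P : Ideal R} {r : R} (hr : r ∉ P) :
    ∃ i, (decompose 𝒜 r i : R) ∉ P := by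
  classical
  by_contra h
  push Not at h
  refine hr ?_
  rw [← sum_support_decompose 𝒜 r]
  exact Ideal.sum_mem _ fun i _ => h i

include 𝒜 in
theorem decompose_mem_span_of_homogeneous (B : Set N) (hB : ∀ y ∈ B, ∃ g, y ∈ 𝒩 g) {z : N}
    (hz : z ∈ Submodule.span R B) (n : ι) : (decompose 𝒩 z n : N) ∈ Submodule.span R B := by
  revert n
  induction hz using Submodule.span_induction with
  | mem y hy =>
    intro n
    obtain ⟨g, hg⟩ := hB y hy
    rcases eq_or_ne g n with rfl | hne
    · rw [decompose_of_mem_same 𝒩 hg]; exact Submodule.subset_span hy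
    · rw [decompose_of_mem_ne 𝒩 hg hne]; exact zero_mem _
  | zero => intro n; simp
  | add a b _ _ ha hb =>
    intro n
    rw [decompose_add, DirectSum.add_apply, AddSubgroup.coe_add]
    exact add_mem (ha n) (hb n)
  | smul r a _ ha =>
    intro n
    classical
    rw [← sum_support_decompose 𝒜 r, Finset.sum_smul, decompose_sum]
    rw [show (((∑ i ∈ (decompose 𝒜 r).support, decompose 𝒩 ((decompose 𝒜 r i : R) • a)) n : 𝒩 n) : N) =
        ∑ i ∈ (decompose 𝒜 r).support, (decompose 𝒩 ((decompose 𝒜 r i : R) • a) n : N) from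
      map_sum ((AddSubgroup.subtype (𝒩 n)).comp (DFinsupp.evalAddMonoidHom (β := fun i => 𝒩 i) n)) _ _]
    refine Submodule.sum_mem _ fun i _ => ?_
    rw [decompose_smul_of_mem_left 𝒜 𝒩 (SetLike.coe_mem _)]
    exact Submodule.smul_mem _ _ (ha _)

include 𝒜 𝒩 in
/-- A graded module killed by `P` is generically free at a prime with homogeneous core `P`. -/
theorem exists_generic_basis (P p : Ideal R) [p.IsPrime] (hPp : P ≤ p)
    (hcore : ∀ (i : ι) (r : R), r ∈ 𝒜 i → r ∈ p → r ∈ P) (hkill : ∀ a ∈ P, ∀ x : N, a • x = 0) :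
    ∃ B : Set N, (∀ c : B →₀ R, Finsupp.linearCombination R (fun y : B => (y : N)) c = 0 → ∀ y, c y ∈ P) ∧
      ∀ x : N, ∃ s ∈ p.primeCompl, s • x ∈ Submodule.span R B := by
  classical
  let good : Set (Set N) := {B | (∀ y ∈ B, ∃ g, y ∈ 𝒩 g) ∧
    ∀ c : N →₀ R, (c.support : Set N) ⊆ B → c.sum (fun y a => a • y) = 0 → ∀ y, c y ∈ P}
  have h0 : (∅ : Set N) ∈ good := ⟨fun y hy => absurd hy (Set.notMem_empty y), fun c hc _ y => by
    have : c y = 0 := Finsupp.notMem_support_iff.1 fun h => hc h
    rw [this]; exact P.zero_mem⟩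
  obtain ⟨B, -, hB⟩ := zorn_le_nonempty₀ good (fun c hc hchain y hy => by
    refine ⟨⋃₀ c, ⟨fun z ⟨S, hS, hz⟩ => (hc hS).1 z hz, fun f hf hsum z => ?_⟩, fun S hS => Set.subset_sUnion_of_mem hS⟩
    obtain ⟨S, hS, hfS⟩ : ∃ S ∈ c, (f.support : Set N) ⊆ S :=
      (hchain.directedOn).exists_mem_subset_of_finite_of_subset_sUnion ⟨y, hy⟩ f.support.finite_toSet hf
    exact (hc hS).2 f hfS hsum z) ∅ h0
  obtain ⟨hhom, hind⟩ := hB.prop
  refine ⟨B, fun c hc y => ?_, ?_⟩
  · have h := hind (c.mapDomain (fun y : B => (y : N))) (fun z hz => by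
      obtain ⟨w, -, rfl⟩ := Finset.mem_image.1 (Finsupp.mapDomain_support (Finset.mem_coe.1 hz))
      exact w.2) (by
      rw [Finsupp.sum_mapDomain_index (h := fun (y : N) (a : R) => a • y) (fun _ => zero_smul R _) (fun _ _ _ => add_smul _ _ _)]
      rw [Finsupp.linearCombination_apply] at hc
      exact hc) y
    rwa [Finsupp.mapDomain_apply Subtype.val_injective] at h
  have hhomx : ∀ g, ∀ x ∈ 𝒩 g, ∃ s ∈ p.primeCompl, s • x ∈ Submodule.span R B := by
    intro g x hx
    by_contra hno
    push Not at hno
    have hxB : x ∉ B := fun hxB => hno 1 (p.primeCompl.one_mem) (by rw [one_smul]; exact Submodule.subset_span hxB)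
    have hins : insert x B ∈ good := by
      refine ⟨fun y hy => hy.elim (fun e => ⟨g, e ▸ hx⟩) (hhom y), fun c hc hsum => ?_⟩
      have hrest : ((c.erase x).support : Set N) ⊆ B := fun z hz => by
        rw [Finsupp.support_erase, Finset.coe_erase] at hz
        exact (hc hz.1).resolve_left hz.2
      have hsplit : c x • x + (c.erase x).sum (fun y a => a • y) = 0 := by
        have h := Finsupp.add_sum_erase' c x (fun y a => a • y) (fun _ => zero_smul R _)
        rw [h]; exact hsum
      have hspan : (c.erase x).sum (fun y a => a • y) ∈ Submodule.span R B :=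
        Submodule.sum_mem _ fun z hz => Submodule.smul_mem _ _ (Submodule.subset_span (hrest hz))
      have hcx : c x ∈ P := by
        by_contra hn
        obtain ⟨i, hi⟩ := exists_component_notMem 𝒜 hn
        refine hno _ (fun hmem => hi (hcore i _ (SetLike.coe_mem _) hmem)) ?_
        have h1 : c x • x ∈ Submodule.span R B := by
          rw [eq_neg_of_add_eq_zero_left hsplit]
          exact Submodule.neg_mem _ hspan
        have h2 := decompose_mem_span_of_homogeneous 𝒜 𝒩 B hhom h1 (i + g)
        rwa [decompose_smul_of_mem 𝒜 𝒩 hx, add_sub_cancel_right] at h2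
      intro y
      rcases eq_or_ne y x with rfl | hyx
      · exact hcx
      · have h3 := hind (c.erase x) hrest (by rwa [hkill _ hcx x, zero_add] at hsplit) y
        rwa [Finsupp.erase_ne hyx] at h3
    exact hxB (hB.le_of_ge hins (Set.subset_insert x B) (Set.mem_insert x B))
  intro x
  suffices h : ∀ s : Finset ι, ∀ f : ι → N, (∀ g ∈ s, f g ∈ 𝒩 g) →
      ∃ t ∈ p.primeCompl, t • ∑ g ∈ s, f g ∈ Submodule.span R B by
    obtain ⟨t, ht, hmem⟩ := h (decompose 𝒩 x).support (fun g => (decompose 𝒩 x g : N)) fun g _ => SetLike.coe_mem _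
    rw [sum_support_decompose] at hmem
    exact ⟨t, ht, hmem⟩
  intro s
  induction s using Finset.induction_on with
  | empty => exact fun f _ => ⟨1, p.primeCompl.one_mem, by simp⟩
  | insert a s ha ih =>
    intro f hf
    obtain ⟨t, ht, h1⟩ := ih f fun g hg => hf g (Finset.mem_insert_of_mem hg)
    obtain ⟨t', ht', h2⟩ := hhomx a _ (hf a (Finset.mem_insert_self a s))
    refine ⟨t * t', p.primeCompl.mul_mem ht ht', ?_⟩
    rw [Finset.sum_insert ha, smul_add]
    refine add_mem ?_ ?_
    · rw [mul_smul]; exact Submodule.smul_mem _ _ h2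
    · rw [mul_comm, mul_smul]; exact Submodule.smul_mem _ _ h1

/-- The localisation at a prime of a module with a generic basis is free over the quotient. -/
theorem exists_localized_equiv (P p : Ideal R) [p.IsPrime] (hkill : ∀ a ∈ P, ∀ x : N, a • x = 0) (B : Set N)
    (hind : ∀ c : B →₀ R, Finsupp.linearCombination R (fun y : B => (y : N)) c = 0 → ∀ y, c y ∈ P)
    (hspan : ∀ x : N, ∃ s ∈ p.primeCompl, s • x ∈ Submodule.span R B) (hPp : P.IsPrime) (hle : P ≤ p) :
    Nonempty ((B →₀ (Localization.AtPrime p ⧸ P.map (algebraMap R (Localization.AtPrime p))))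
      ≃ₗ[Localization.AtPrime p] LocalizedModule p.primeCompl N) := by
  classical
  let A := Localization.AtPrime p
  let PA := P.map (algebraMap R A)
  let v : B → LocalizedModule p.primeCompl N := fun y => LocalizedModule.mkLinearMap p.primeCompl N (y : N)
  have hv : ∀ y : B, PA ≤ LinearMap.ker (LinearMap.toSpanSingleton A _ (v y)) := fun y => by
    refine Ideal.map_le_iff_le_comap.2 fun a ha => ?_
    show algebraMap R A a • v y = 0
    rw [algebraMap_smul, ← map_smul, hkill a ha, map_zero]
  let Φ : (B →₀ A ⧸ PA) →ₗ[A] LocalizedModule p.primeCompl N :=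
    Finsupp.lsum A fun y => PA.liftQ (LinearMap.toSpanSingleton A _ (v y)) (hv y)
  have hΦ : ∀ g : B →₀ A, Φ (g.mapRange (Submodule.Quotient.mk) rfl) = g.sum fun y a => a • v y := by
    intro g
    rw [Finsupp.lsum_apply, Finsupp.sum_mapRange_index (by intro y; exact map_zero _)]
    rfl
  have hsur : Function.Surjective Φ := by
    intro z
    induction z using LocalizedModule.induction_on with
    | _ x t =>
      obtain ⟨s, hs, hmem⟩ := hspan x
      rw [← Subtype.range_coe (s := B), Finsupp.mem_span_range_iff_exists_finsupp] at hmem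
      obtain ⟨c, hc⟩ := hmem
      let w : A := IsLocalization.mk' A (1 : R) (⟨s, hs⟩ * t : p.primeCompl)
      refine ⟨((c.mapRange (algebraMap R A) (map_zero _)).mapRange Submodule.Quotient.mk rfl : B →₀ A ⧸ PA) |> (w • ·), ?_⟩
      rw [map_smul, hΦ]
      have e : ((c.mapRange (algebraMap R A) (map_zero _)).sum fun y a => a • v y) = c.sum fun y a => algebraMap R A a • v y :=
        Finsupp.sum_mapRange_index (h := fun (y : B) (a : A) => a • v y) (fun y => zero_smul A (v y))
      rw [e]
      have : (c.sum fun y a => algebraMap R A a • v y) = LocalizedModule.mkLinearMap p.primeCompl N (s • x) := by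
        rw [← hc, map_finsuppSum]
        exact Finsupp.sum_congr fun y _ => (algebraMap_smul A _ _).trans (map_smul _ _ _).symm
      rw [this]
      show w • LocalizedModule.mk (s • x) 1 = LocalizedModule.mk x t
      rw [show w = Localization.mk (1 : R) (⟨s, hs⟩ * t : p.primeCompl) from (Localization.mk_eq_mk'_apply _ _).symm]
      refine (LocalizedModule.mk_smul_mk (1 : R) (s • x) _ 1).trans ?_
      rw [one_smul, mul_one]
      refine LocalizedModule.mk_eq.2 ⟨1, ?_⟩
      simp only [one_smul, Submonoid.smul_def, Submonoid.coe_mul, smul_smul]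
      rw [mul_comm]
  have hinj : Function.Injective Φ := by
    rw [injective_iff_map_eq_zero]
    intro f hf
    obtain ⟨g, rfl⟩ := Finsupp.mapRange_surjective (Submodule.Quotient.mk (p := PA)) rfl (Submodule.Quotient.mk_surjective _) f
    rw [hΦ] at hf
    obtain ⟨b, hb⟩ := IsLocalization.exist_integer_multiples p.primeCompl g.support g
    choose c hc using hb
    let c' : B →₀ R := Finsupp.onFinset g.support (fun y => if h : y ∈ g.support then c y h else 0) fun y hy => by
      by_contra hn; exact hy (dif_neg hn)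
    have hc' : ∀ y, algebraMap R A (c' y) = (b : R) • g y := fun y => by
      show algebraMap R A (if h : y ∈ g.support then c y h else 0) = _
      split_ifs with h
      · exact hc y h
      · rw [map_zero, Finsupp.notMem_support_iff.1 h, smul_zero]
    have h1 : LocalizedModule.mkLinearMap p.primeCompl N (Finsupp.linearCombination R (fun y : B => (y : N)) c') = 0 := by
      rw [Finsupp.linearCombination_apply, Finsupp.sum_of_support_subset c' Finsupp.support_onFinset_subset (fun (y : B) (a : R) => a • (y : N)) (fun _ _ => zero_smul R _), map_sum]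
      have : ∑ y ∈ g.support, (b : R) • g y • v y = 0 := by rw [← Finset.smul_sum]; exact (congrArg ((b : R) • ·) hf).trans (smul_zero _)
      rw [← this]
      refine Finset.sum_congr rfl fun y _ => ?_
      rw [map_smul, ← algebraMap_smul A, ← smul_assoc, ← hc' y]
    obtain ⟨s, hs⟩ := (IsLocalizedModule.eq_zero_iff p.primeCompl (LocalizedModule.mkLinearMap p.primeCompl N)).1 h1
    have hmem := hind ((s : R) • c') (by rw [map_smul]; exact hs)
    refine Finsupp.ext fun y => (Submodule.Quotient.mk_eq_zero PA).2 ?_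
    have hcy : c' y ∈ P := (hPp.mem_or_mem (hmem y)).resolve_left fun h => s.2 (hle h)
    have h2 : (b : R) • g y ∈ PA := hc' y ▸ Ideal.mem_map_of_mem _ hcy
    rw [Algebra.smul_def] at h2
    exact (Ideal.unit_mul_mem_iff_mem _ (IsLocalization.map_units A b)).1 h2
  exact ⟨LinearEquiv.ofBijective Φ ⟨hinj, hsur⟩⟩

end Groth.Agent.GrLib8
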