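import Groth.Agent.GrLib8.StarLocalArt
import Groth.Agent.GrLib8.FieldRegular
import Groth.Agent.GrLib8.LesTools
import Groth.Agent.S13232
import Groth.Agent.LC.GorLoc
import Groth.Agent.LC.CdDim
import Groth.Agent.Hensel.DepthFlat
import Groth.Prelude.Def_CAlg

/-!
# The maximal homogeneous ideal of a positively graded *local ring

It is a maximal ideal, its height is the dimension, and in the Cohen-Macaulay case so is its depth.
-/

set_option autoImplicit false
set_option linter.unusedSectionVars false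

universe u

open DirectSum

namespace Groth.Agent.GrLib8

variable {R : Type u} [CommRing R] {𝒜 : ℤ → AddSubgroup R} [GradedRing 𝒜]

theorem isMaximal_of_isStarLocal (hpos : ∀ n : ℤ, n < 0 → 𝒜 n = ⊥) {m : HomogeneousIdeal 𝒜}
    (hm : GrLC.IsStarLocal 𝒜 m) : m.toIdeal.IsMaximal := by
  classical
  have hne : m.toIdeal ≠ ⊤ := fun h => hm.1.1 (HomogeneousIdeal.toIdeal_injective (h.trans HomogeneousIdeal.toIdeal_top.symm))
  refine Ideal.isMaximal_iff.2 ⟨fun h => hne ((Ideal.eq_top_iff_one _).2 h), fun J x hmJ hxm hxJ => ?_⟩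
  have hdiff : x - (decompose 𝒜 x 0 : R) ∈ m.toIdeal := by
    refine irrel_le_of_isStarLocal hpos hm ?_
    have hsum := sum_support_decompose 𝒜 x
    by_cases h0 : (0 : ℤ) ∈ (decompose 𝒜 x).support
    · rw [← Finset.add_sum_erase _ _ h0] at hsum
      rw [sub_eq_of_eq_add' hsum.symm]
      refine Ideal.sum_mem _ fun i hi => ?_
      rcases lt_or_gt_of_ne (Finset.ne_of_mem_erase hi) with hneg | hgt
      · rw [nonneg_of_bot hpos i hneg _ (SetLike.coe_mem _)]; exact zero_mem _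
      · exact mem_irrel_of_pos 𝒜 hgt (SetLike.coe_mem _)
    · rw [DFinsupp.notMem_support_iff.1 h0, ZeroMemClass.coe_zero, sub_zero, ← hsum]
      refine Ideal.sum_mem _ fun i hi => ?_
      rcases lt_trichotomy i 0 with hneg | rfl | hgt
      · rw [nonneg_of_bot hpos i hneg _ (SetLike.coe_mem _)]; exact zero_mem _
      · exact absurd hi h0
      · exact mem_irrel_of_pos 𝒜 hgt (SetLike.coe_mem _)
  let z : R := (decompose 𝒜 x 0 : R)
  have hz : z ∉ m.toIdeal := fun h => hxm (by simpa [z] using Ideal.add_mem _ hdiff h)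
  let S : HomogeneousIdeal 𝒜 := ⟨Ideal.span {z},
    Ideal.homogeneous_span 𝒜 _ fun y hy => ⟨0, hy ▸ SetLike.coe_mem _⟩⟩
  have htop : m ⊔ S = ⊤ := hm.1.2 _ (lt_of_le_of_ne le_sup_left fun h => hz (by
    have hz1 : z ∈ (m ⊔ S).toIdeal := by
      rw [HomogeneousIdeal.toIdeal_sup]; exact Ideal.mem_sup_right (Ideal.mem_span_singleton_self z)
    rwa [← h] at hz1))
  have h1 : (1 : R) ∈ m.toIdeal ⊔ Ideal.span {z} := by
    have : (1 : R) ∈ (m ⊔ S).toIdeal := by rw [htop]; trivial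
    rwa [HomogeneousIdeal.toIdeal_sup] at this
  have hzJ : z ∈ J := by simpa [z] using Ideal.sub_mem J hxJ (hmJ hdiff)
  exact (sup_le hmJ ((Ideal.span_singleton_le_iff_mem _).2 hzJ)) h1

variable [IsNoetherianRing R]

theorem height_eq_ringKrullDim_of_isStarLocal (hpos : ∀ n : ℤ, n < 0 → 𝒜 n = ⊥) {m : HomogeneousIdeal 𝒜}
    (hm : GrLC.IsStarLocal 𝒜 m) : (m.toIdeal.height : WithBot ℕ∞) = ringKrullDim R := by
  classical
  haveI hmax := isMaximal_of_isStarLocal hpos hm
  refine le_antisymm (Ideal.height_le_ringKrullDim_of_ne_top hmax.ne_top)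
    ((ringKrullDim_le_iff_isMaximal_height_le _).2 fun n hn => WithBot.coe_le_coe.2 ?_)
  haveI := hn
  let P : HomogeneousIdeal 𝒜 := Ideal.homogeneousCore 𝒜 n
  haveI hP : P.toIdeal.IsPrime := hn.isPrime.homogeneousCore
  have hle : P.toIdeal ≤ n := Ideal.toIdeal_homogeneousCore_le 𝒜 n
  have hPm : P.toIdeal ≤ m.toIdeal :=
    le_of_isStarLocal hm (J := P) fun h => hP.ne_top (by rw [h]; exact HomogeneousIdeal.toIdeal_top)
  rcases hPm.eq_or_lt with heq | hlt
  · rw [hmax.eq_of_le hn.ne_top (heq.ge.trans hle)]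
  let mk := Ideal.Quotient.mk P.toIdeal
  haveI : (n.map mk).IsPrime :=
    Ideal.map_isPrime_of_surjective Ideal.Quotient.mk_surjective (by rw [Ideal.mk_ker]; exact hle)
  have hcomap : (n.map mk).comap mk = n := Ideal.comap_map_mk hle
  have hd1 : (n.map mk).height ≤ (1 : ℕ) := by
    have h := (isRegularLocalRing_quot (𝒜 := 𝒜) P.toIdeal n P.isHomogeneous
      (fun i r hr hrn => Ideal.mem_homogeneousCore_of_homogeneous_of_mem ⟨i, hr⟩ hrn) (n.map mk) hcomap).2
    rw [IsLocalization.AtPrime.ringKrullDim_eq_height (n.map mk) (Localization.AtPrime (n.map mk)),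
      Module.finrank_self] at h
    exact WithBot.coe_le_coe.1 h
  obtain ⟨d, hd⟩ := ENat.ne_top_iff_exists.1 (ne_top_of_le_ne_top (ENat.natCast_ne_top 1) hd1)
  have hsupp : Nontrivial (LocalizedModule n.primeCompl R) := (LC.selfLoc n.primeCompl).toEquiv.nontrivial
  have h := S13232.result R 𝒜 R 𝒜 n d hd.symm hsupp
  rw [Module.supportDim_eq_of_equiv (LC.selfLoc n.primeCompl),
    Module.supportDim_eq_of_equiv (LC.selfLoc (Ideal.homogeneousCore 𝒜 n).toIdeal.primeCompl),
    Module.supportDim_self_eq_ringKrullDim, Module.supportDim_self_eq_ringKrullDim,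
    IsLocalization.AtPrime.ringKrullDim_eq_height n (Localization.AtPrime n),
    IsLocalization.AtPrime.ringKrullDim_eq_height (Ideal.homogeneousCore 𝒜 n).toIdeal
      (Localization.AtPrime (Ideal.homogeneousCore 𝒜 n).toIdeal)] at h
  have h' : n.height = P.toIdeal.height + (d : ℕ∞) :=
    WithBot.coe_injective (h.trans (WithBot.coe_add _ _).symm)
  have hd' : (d : ℕ∞) ≤ 1 := by rw [hd]; exact hd1.trans Nat.cast_one.le
  rw [h']
  exact (add_le_add le_rfl hd').trans (Ideal.height_add_one_le_of_lt_of_isPrime hlt)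

theorem idealDepth_eq_ringKrullDim [LocCoh.IsCohenMacaulayRing R] (hpos : ∀ n : ℤ, n < 0 → 𝒜 n = ⊥)
    {m : HomogeneousIdeal 𝒜} (hm : GrLC.IsStarLocal 𝒜 m) :
    ((LocCoh.idealDepth m.toIdeal R : ℕ∞) : WithBot ℕ∞) = ringKrullDim R := by
  haveI hmax := isMaximal_of_isStarLocal hpos hm
  rw [← height_eq_ringKrullDim_of_isStarLocal hpos hm, LC.idealDepth_eq_iInf_depth]
  congr 1
  have key : ∀ p : PrimeSpectrum R, m.toIdeal ≤ p.asIdeal →
      LocCoh.depth (Localization.AtPrime p.asIdeal) (LocalizedModule p.asIdeal.primeCompl R) = m.toIdeal.height := by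
    intro p hp
    rw [hmax.eq_of_le p.isPrime.ne_top hp]
    haveI := LocCoh.IsCohenMacaulayRing.isCohenMacaulayLocalRing_localization (R := R) p.asIdeal
    rw [Hensel.depth_congr (LC.selfLoc p.asIdeal.primeCompl)]
    have hcm : Module.supportDim (Localization.AtPrime p.asIdeal) (Localization.AtPrime p.asIdeal) =
        ((LocCoh.depth (Localization.AtPrime p.asIdeal) (Localization.AtPrime p.asIdeal) : ℕ∞) : WithBot ℕ∞) :=
      LocCoh.IsCohenMacaulayLocalRing.supportDim_eq_depth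
    rw [Module.supportDim_self_eq_ringKrullDim,
      IsLocalization.AtPrime.ringKrullDim_eq_height p.asIdeal (Localization.AtPrime p.asIdeal)] at hcm
    exact (WithBot.coe_injective hcm).symm
  exact le_antisymm ((iInf₂_le (⟨m.toIdeal, hmax.isPrime⟩ : PrimeSpectrum R) le_rfl).trans (key _ le_rfl).le)
    (le_iInf₂ fun p hp => (key p hp).ge)

theorem subsingleton_H_of_ne [LocCoh.IsCohenMacaulayRing R] (hpos : ∀ n : ℤ, n < 0 → 𝒜 n = ⊥)
    {m : HomogeneousIdeal 𝒜} (hm : GrLC.IsStarLocal 𝒜 m) {d : ℕ} (hd : ringKrullDim R = d) {i : ℕ} (hi : i ≠ d) :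
    Subsingleton (LocCoh.H m.toIdeal i R) := by
  rcases lt_or_gt_of_ne hi with h | h
  · refine (LC.le_idealDepth_iff_H m.toIdeal R d).1 ?_ i h
    exact (WithBot.coe_injective ((idealDepth_eq_ringKrullDim hpos hm).trans hd)).ge
  · exact LC.cdLE_of_ringKrullDim_le m.toIdeal hd.le R i h

theorem subsingleton_starH_of_ne [LocCoh.IsCohenMacaulayRing R] (hpos : ∀ n : ℤ, n < 0 → 𝒜 n = ⊥)
    {m : HomogeneousIdeal 𝒜} (hm : GrLC.IsStarLocal 𝒜 m) {d : ℕ} (hd : ringKrullDim R = d) {i : ℕ} (hi : i ≠ d)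
    (E : GrLC.StarInjRes 𝒜 𝒜) : Subsingleton (E.H m i) := by
  haveI := subsingleton_H_of_ne hpos hm hd hi
  obtain ⟨e⟩ := nonempty_H_equiv 𝒜 E m i
  exact e.toEquiv.subsingleton

theorem Hcomp_eq_bot_of_ne [LocCoh.IsCohenMacaulayRing R] (hpos : ∀ n : ℤ, n < 0 → 𝒜 n = ⊥)
    {m : HomogeneousIdeal 𝒜} (hm : GrLC.IsStarLocal 𝒜 m) {d : ℕ} (hd : ringKrullDim R = d) {i : ℕ} (hi : i ≠ d)
    (E : GrLC.StarInjRes 𝒜 𝒜) (g : ℤ) : E.Hcomp m i g = ⊥ := by
  haveI := subsingleton_starH_of_ne hpos hm hd hi E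
  exact Hcomp_eq_bot_of_subsingleton E m i g

end Groth.Agent.GrLib8
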