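import Groth.Agent.GrLib8.MaxHull
import Groth.Agent.GrLib8.StarDepth
import Groth.Agent.GrLib8.InjDim
import Groth.Agent.GrLib8.InjDimInt
import Groth.Agent.LC.CanonCM
import Groth.Agent.LC.InjNoeth

/-!
# Canonical modules of *local rings, localized at the maximal homogeneous ideal
-/

set_option autoImplicit false
set_option linter.unusedSectionVars false
set_option linter.style.haveILetI false
set_option maxHeartbeats 1600000

universe u

open DirectSum CategoryTheory IsLocalRing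
open scoped TensorProduct

namespace Groth.Agent.GrLib8.Canon

section General

variable {R : Type u} [CommRing R] [IsNoetherianRing R] {σ : Type u} [SetLike σ R] [AddSubgroupClass σ R]
  {𝒜 : ℤ → σ} [GradedRing 𝒜]
variable {m : HomogeneousIdeal 𝒜} [m.toIdeal.IsMaximal]
variable {n : ℕ} {I : GrLC.StarInjRes 𝒜 𝒜}
variable {E' : Type u} [AddCommGroup E'] [Module R E'] {𝓔 : ℤ → AddSubgroup E'} [Decomposition 𝓔]
  [SetLike.GradedSMul 𝒜 𝓔] {e : (R ⧸ m.toIdeal) →ₗ[R] E'}
variable {C : Type u} [AddCommGroup C] [Module R C] {𝒞 : ℤ → AddSubgroup C} [Decomposition 𝒞]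
  [SetLike.GradedSMul 𝒜 𝒞]

theorem le_starLocal (hm : GrLC.IsStarLocal 𝒜 m) {J : HomogeneousIdeal 𝒜} (hJ : J ≠ ⊤) : J ≤ m := by
  haveI : WellFoundedGT (HomogeneousIdeal 𝒜) :=
    StrictMono.wellFoundedGT (f := HomogeneousIdeal.toIdeal) fun I K h => h
  haveI : IsCoatomic (HomogeneousIdeal 𝒜) := isCoatomic_of_orderTop_gt_wellFounded wellFounded_gt
  rcases eq_top_or_exists_le_coatom J with h | ⟨c, hc, hle⟩
  · exact absurd h hJ
  · exact (hm.2 c hc) ▸ hle

theorem isHomogeneous_ann {g₀ : ℤ} {t : R} (ht : t ∈ 𝒜 g₀) : ((R ∙ t).annihilator).IsHomogeneous 𝒜 := by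
  intro i r hr
  rw [Submodule.mem_annihilator_span_singleton] at hr ⊢
  have h := decompose_smul_of_mem 𝒜 𝒜 ht r (i + g₀)
  rw [add_sub_cancel_right, hr, decompose_zero, DirectSum.zero_apply, ZeroMemClass.coe_zero] at h
  exact h.symm

/-- The residue field of `R_m` as a localized module. -/
theorem exists_residueField_equiv : Nonempty (ResidueField (Localization.AtPrime m.toIdeal) ≃ₗ[Localization.AtPrime m.toIdeal]
    LocalizedModule m.toIdeal.primeCompl (R ⧸ m.toIdeal)) := by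
  obtain ⟨q⟩ := LC.exists_locQuot m.toIdeal.primeCompl m.toIdeal
  let q' := q.trans (Submodule.quotEquivOfEq _ _ Localization.AtPrime.map_eq_maximalIdeal)
  let r : ResidueField (Localization.AtPrime m.toIdeal) ≃ₗ[Localization.AtPrime m.toIdeal]
      (Localization.AtPrime m.toIdeal ⧸ maximalIdeal (Localization.AtPrime m.toIdeal)) :=
    { toFun := id, invFun := id, left_inv := fun _ => rfl, right_inv := fun _ => rfl,
      map_add' := fun _ _ => rfl, map_smul' := fun _ _ => rfl }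
  exact ⟨r.trans q'.symm⟩

/-- A *canonical module localizes to a canonical module. -/
theorem exists_local (he : GrLC.IsStarInjHull 𝒜 (GrLC.quotGr 𝒜 m) 𝓔 e)
    (hC : GrLC.IsStarCanonical 𝒜 𝒞 𝓔 m n I) :
    ∃ (E : Type u) (_ : AddCommGroup E) (_ : Module (Localization.AtPrime m.toIdeal) E)
      (f : ResidueField (Localization.AtPrime m.toIdeal) →ₗ[Localization.AtPrime m.toIdeal] E)
      (_ : (LocalizedModule m.toIdeal.primeCompl C →ₗ[Localization.AtPrime m.toIdeal] E) ≃ₗ[Localization.AtPrime m.toIdeal]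
        (localCohomology (maximalIdeal (Localization.AtPrime m.toIdeal)) n).obj
          (ModuleCat.of _ (Localization.AtPrime m.toIdeal))),
      InjHull.IsInjectiveHull f := by
  let S := m.toIdeal.primeCompl
  let A := Localization.AtPrime m.toIdeal
  haveI : IsNoetherianRing A := IsLocalization.isNoetherianRing S A inferInstance
  obtain ⟨r⟩ := exists_residueField_equiv (m := m)
  obtain ⟨hfin, φ, -⟩ := hC
  haveI := hfin
  have hh := LC.isInjectiveHull_localizedMap S (isInjectiveHull_of_isStarInjHull_maximal m 𝓔 e he)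
  obtain ⟨h⟩ := nonempty_H_equiv 𝒜 I m n
  let ψ : (C →ₗ[R] E') ≃ₗ[R] (localCohomology m.toIdeal n).obj (ModuleCat.of R R) := φ.trans h
  obtain ⟨b⟩ := LC.exists_baseChange (R' := A) m.toIdeal n R
  have hmax : m.toIdeal.map (algebraMap R A) = maximalIdeal A := Localization.AtPrime.map_eq_maximalIdeal
  rw [hmax] at b
  let c := (TensorProduct.AlgebraTensorModule.rid R A A)
  let eK := ((((LC.homLoc S E' C).symm.trans (LocalizedModule.equivTensorProduct S (C →ₗ[R] E'))).trans
    (LinearEquiv.baseChange R A _ _ ψ)).trans b).trans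
      ((localCohomology (maximalIdeal A) n).mapIso c.toModuleIso).toLinearEquiv
  exact ⟨LocalizedModule S E', inferInstance, inferInstance, (LocalizedModule.map S e) ∘ₗ r.toLinearMap, eK,
    { toIsEssentialInj := by
        have := LC.hull_of_linearEquiv hh.toIsEssentialInj r (LinearEquiv.refl A _)
        exact this
      isInjective := hh.isInjective }⟩

theorem finite_loc (hC : GrLC.IsStarCanonical 𝒜 𝒞 𝓔 m n I) :
    Module.Finite (Localization.AtPrime m.toIdeal) (LocalizedModule m.toIdeal.primeCompl C) :=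
  haveI := hC.1
  Module.Finite.of_isLocalizedModule m.toIdeal.primeCompl (LocalizedModule.mkLinearMap _ C)

/-- The canonical module of a Gorenstein ring is a shift of the ring. -/
theorem exists_shift_equiv' [LocCoh.IsCohenMacaulayRing R] (hm : GrLC.IsStarLocal 𝒜 m)
    (hn : ringKrullDim (Localization.AtPrime m.toIdeal) = n) (he : GrLC.IsStarInjHull 𝒜 (GrLC.quotGr 𝒜 m) 𝓔 e)
    (hC : GrLC.IsStarCanonical 𝒜 𝒞 𝓔 m n I) (hG : LocCoh.IsGorensteinRing R) :
    ∃ (a : ℤ) (f : R →ₗ[R] C), Function.Bijective f ∧ GrLC.IsGrHomDeg 𝒜 𝒞 f a := by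
  classical
  let S := m.toIdeal.primeCompl
  let A := Localization.AtPrime m.toIdeal
  let K := LocalizedModule S C
  haveI : LocCoh.IsCohenMacaulayLocalRing A :=
    LocCoh.IsCohenMacaulayRing.isCohenMacaulayLocalRing_localization (R := R) m.toIdeal
  haveI hGA : LocCoh.IsGorensteinLocalRing A :=
    LocCoh.IsGorensteinRing.isGorensteinLocalRing_localization (A := R) m.toIdeal
  haveI := finite_loc hC
  haveI := hC.1
  obtain ⟨E, _, _, f, eK, hf⟩ := exists_local he hC
  obtain ⟨eA⟩ := (LC.Canon.gorenstein_iff_free hn hf eK).1 hGA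
  let ι := LocalizedModule.mkLinearMap S C
  -- some homogeneous element is not in `m K`
  obtain ⟨a, c, hca, hc⟩ : ∃ (a : ℤ) (c : C), c ∈ 𝒞 a ∧ ι c ∉ (maximalIdeal A • ⊤ : Submodule A K) := by
    by_contra hcon
    push Not at hcon
    have hall : ∀ c : C, ι c ∈ (maximalIdeal A • ⊤ : Submodule A K) := fun c => by
      rw [← sum_support_decompose 𝒞 c, map_sum]
      exact Submodule.sum_mem _ fun g _ => hcon g _ (SetLike.coe_mem _)
    have htop : (⊤ : Submodule A K) ≤ maximalIdeal A • ⊤ := fun z _ => by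
      induction z using LocalizedModule.induction_on with
      | h c s =>
        rw [show LocalizedModule.mk c s = Localization.mk 1 s • ι c by
          rw [LocalizedModule.mkLinearMap_apply, LocalizedModule.mk_smul_mk, one_smul, mul_one]]
        exact Submodule.smul_mem _ _ (hall c)
    have hbot : (⊤ : Submodule A K) = ⊥ := Submodule.eq_bot_of_le_smul_of_le_jacobson_bot (maximalIdeal A) ⊤
      Module.Finite.fg_top htop (maximalIdeal_le_jacobson _)
    exact one_ne_zero (eA.symm.injective (a₁ := 1) (a₂ := 0)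
      ((Submodule.mem_bot A).1 (hbot.le Submodule.mem_top) |>.trans (map_zero _).symm))
  have hu : IsUnit (eA (ι c)) := by
    by_contra hnu
    refine hc ?_
    have h1 : ι c = eA (ι c) • eA.symm 1 := by rw [← map_smul, smul_eq_mul, mul_one, eA.symm_apply_apply]
    rw [h1]
    exact Submodule.smul_mem_smul ((mem_maximalIdeal _).2 hnu) Submodule.mem_top
  let g : R →ₗ[R] C := LinearMap.toSpanSingleton R C c
  have hg : GrLC.IsGrHomDeg 𝒜 𝒞 g a := fun i r hr => by
    show r • c ∈ 𝒞 (i + a)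
    have := SetLike.GradedSMul.smul_mem (B := 𝒞) hr hca
    rwa [vadd_eq_add] at this
  have hgl : ∀ r, eA (ι (g r)) = algebraMap R A r * eA (ι c) := fun r => by
    show eA (ι (r • c)) = _
    rw [map_smul, ← algebraMap_smul A r (ι c), map_smul, smul_eq_mul]
  have hnotle : ∀ J : HomogeneousIdeal 𝒜, (∃ s ∈ J.toIdeal, s ∉ m.toIdeal) → J.toIdeal = ⊤ := fun J hJ => by
    by_contra hne
    obtain ⟨s, hs, hsm⟩ := hJ
    exact hsm (le_starLocal hm (J := J) (fun h => hne (by rw [h]; exact HomogeneousIdeal.toIdeal_top)) hs)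
  refine ⟨a, g, ⟨(injective_iff_map_eq_zero g).2 fun r hr => ?_, fun x => ?_⟩, hg⟩
  · have h0 : algebraMap R A r = 0 := hu.mul_left_eq_zero.1 (by rw [← hgl, hr, map_zero, map_zero])
    obtain ⟨⟨s, hs⟩, hs0⟩ := (IsLocalization.map_eq_zero_iff S A r).1 h0
    have key : ∀ (j : ℤ) (t : R), t ∈ 𝒜 j → g t = 0 → t = 0 := by
      intro j t ht hgt
      have h0 : algebraMap R A t = 0 := hu.mul_left_eq_zero.1 (by rw [← hgl, hgt, map_zero, map_zero])
      obtain ⟨⟨s, hs⟩, hs0⟩ := (IsLocalization.map_eq_zero_iff S A t).1 h0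
      let J : HomogeneousIdeal 𝒜 := ⟨(R ∙ t).annihilator, isHomogeneous_ann ht⟩
      have hJ := hnotle J ⟨s, (Submodule.mem_annihilator_span_singleton _ _).2 (by rw [smul_eq_mul]; exact hs0), hs⟩
      have h1 := (Submodule.mem_annihilator_span_singleton t (1 : R)).1 ((Ideal.eq_top_iff_one _).1 hJ)
      simpa using h1
    rw [← sum_support_decompose 𝒜 r]
    refine Finset.sum_eq_zero fun j _ => key j _ (SetLike.coe_mem _) ?_
    rw [map_decompose_deg g hg r j, hr]
    simp
  · have key : ∀ (j : ℤ) (y : C), y ∈ 𝒞 j → y ∈ LinearMap.range g := by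
      intro j y hy
      let J : Ideal R := (LinearMap.range g).colon ({y} : Set C)
      have hJh : J.IsHomogeneous 𝒜 := fun i t ht => by
        rw [Submodule.mem_colon_singleton] at ht ⊢
        obtain ⟨u, hu'⟩ := ht
        refine ⟨(decompose 𝒜 u (i + j - a) : R), ?_⟩
        rw [map_decompose_deg g hg u, hu', sub_add_cancel]
        rw [decompose_smul_of_mem 𝒜 𝒞 hy t (i + j), add_sub_cancel_right]
      have hJ : J = ⊤ := hnotle ⟨J, hJh⟩ (by
        obtain ⟨⟨t, s⟩, hts⟩ := IsLocalization.surj S ((eA (ι y)) * ↑hu.unit⁻¹)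
        have h2 : eA (ι ((s : R) • y)) = eA (ι (g t)) := by
          have hts' : eA (ι y) * ↑hu.unit⁻¹ * algebraMap R A s = algebraMap R A t := hts
          rw [hgl, ← hts', map_smul, ← algebraMap_smul A (s : R) (ι y), map_smul, smul_eq_mul]
          rw [show eA (ι y) * ↑hu.unit⁻¹ * algebraMap R A ↑s * eA (ι c) =
            eA (ι y) * algebraMap R A ↑s * (↑hu.unit⁻¹ * eA (ι c)) by ring, IsUnit.val_inv_mul, mul_one, mul_comm]
        obtain ⟨v, hv⟩ := (IsLocalizedModule.eq_iff_exists S ι).1 (eA.injective h2)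
        refine ⟨(v : R) * s, ?_, fun h => ?_⟩
        · show (v : R) * s ∈ J
          rw [Submodule.mem_colon_singleton, mul_smul]
          exact ⟨(v : R) * t, by rw [← smul_eq_mul, map_smul]; exact hv.symm⟩
        · exact (Ideal.IsPrime.mem_or_mem inferInstance h).elim v.2 s.2)
      have h1 : (1 : R) ∈ J := by rw [hJ]; trivial
      rw [Submodule.mem_colon_singleton, one_smul] at h1
      exact h1
    rw [← LinearMap.mem_range, ← sum_support_decompose 𝒞 x]
    exact Submodule.sum_mem _ fun j _ => key j _ (SetLike.coe_mem _)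

end General

section Pieces

variable {R : Type u} [CommRing R] [LocCoh.IsCohenMacaulayRing R] {𝒜 : ℤ → AddSubgroup R} [GradedRing 𝒜]
variable {m : HomogeneousIdeal 𝒜} [m.toIdeal.IsMaximal]
variable {n : ℕ} {I : GrLC.StarInjRes 𝒜 𝒜}
variable {E' : Type u} [AddCommGroup E'] [Module R E'] {𝓔 : ℤ → AddSubgroup E'} [Decomposition 𝓔]
  [SetLike.GradedSMul 𝒜 𝓔] {e : (R ⧸ m.toIdeal) →ₗ[R] E'}
variable {C : Type u} [AddCommGroup C] [Module R C] {𝒞 : ℤ → AddSubgroup C} [Decomposition 𝒞]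
  [SetLike.GradedSMul 𝒜 𝒞]

theorem ringKrullDim_atPrime (hpos : ∀ g : ℤ, g < 0 → 𝒜 g = ⊥) (hm : GrLC.IsStarLocal 𝒜 m)
    (hn : ringKrullDim R = n) : ringKrullDim (Localization.AtPrime m.toIdeal) = n := by
  rw [IsLocalization.AtPrime.ringKrullDim_eq_height m.toIdeal (Localization.AtPrime m.toIdeal),
    height_eq_ringKrullDim_of_isStarLocal hpos hm, hn]

/-- High Bass numbers of a *canonical module vanish. -/
theorem bassNum_eq_zero (hpos : ∀ g : ℤ, g < 0 → 𝒜 g = ⊥) (hm : GrLC.IsStarLocal 𝒜 m) (hn : ringKrullDim R = n)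
    (he : GrLC.IsStarInjHull 𝒜 (GrLC.quotGr 𝒜 m) 𝓔 e) (hC : GrLC.IsStarCanonical 𝒜 𝒞 𝓔 m n I)
    (p : Ideal R) [p.IsPrime] (i : ℕ) (hi : 2 * n < i) : GrLC.bassNum p C i = 0 := by
  classical
  let A := Localization.AtPrime m.toIdeal
  haveI : LocCoh.IsCohenMacaulayLocalRing A :=
    LocCoh.IsCohenMacaulayRing.isCohenMacaulayLocalRing_localization (R := R) m.toIdeal
  haveI := finite_loc hC
  obtain ⟨E, _, _, f, eK, hf⟩ := exists_local he hC
  haveI hP : (Ideal.homogeneousCore 𝒜 p).toIdeal.IsPrime := isPrime_core 𝒜 p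
  have hPm : (Ideal.homogeneousCore 𝒜 p).toIdeal ≤ m.toIdeal :=
    le_of_isStarLocal hm fun h => hP.ne_top (by rw [h]; exact HomogeneousIdeal.toIdeal_top)
  have hPzero : ∀ j, n < j → GrLC.bassNum (Ideal.homogeneousCore 𝒜 p).toIdeal C j = 0 := by
    intro j hj
    obtain ⟨eX⟩ := LC.exists_extLoc m.toIdeal.primeCompl C j (R ⧸ (Ideal.homogeneousCore 𝒜 p).toIdeal)
    haveI : Module.Finite A (LocalizedModule m.toIdeal.primeCompl (R ⧸ (Ideal.homogeneousCore 𝒜 p).toIdeal)) :=
      Module.Finite.of_isLocalizedModule m.toIdeal.primeCompl (LocalizedModule.mkLinearMap _ _)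
    have hsub := LC.Canon.ext_vanish_above (ringKrullDim_atPrime hpos hm hn) hf eK j hj
      (LocalizedModule m.toIdeal.primeCompl (R ⧸ (Ideal.homogeneousCore 𝒜 p).toIdeal))
    have hsub' := eX.toEquiv.subsingleton_congr.2 hsub
    rw [LocalizedModule.subsingleton_iff] at hsub'
    exact (bass_eq_zero_iff C _ j).2 fun z => by
      obtain ⟨s, hs, hsz⟩ := hsub' z
      exact ⟨s, fun h => hs (hPm h), hsz⟩
  let q := p.map (Ideal.Quotient.mk (Ideal.homogeneousCore 𝒜 p).toIdeal)
  haveI hq : q.IsPrime :=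
    Ideal.map_isPrime_of_surjective Ideal.Quotient.mk_surjective
      (by rw [Ideal.mk_ker]; exact Ideal.toIdeal_homogeneousCore_le 𝒜 p)
  have hle : ((q.height : ℕ∞) : WithBot ℕ∞) ≤ (n : WithBot ℕ∞) :=
    ((Ideal.height_le_ringKrullDim_of_ne_top hq.ne_top).trans (ringKrullDim_quotient_le _)).trans hn.le
  have hle' : q.height ≤ (n : ℕ∞) := WithBot.coe_le_coe.1 hle
  obtain ⟨d, hd⟩ := ENat.ne_top_iff_exists.1 (ne_top_of_le_ne_top (ENat.natCast_ne_top n) hle')
  have hdn : d ≤ n := by rw [← hd] at hle'; exact_mod_cast hle'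
  obtain ⟨-, hge⟩ := bassNum_shift 𝒞 (Ideal.homogeneousCore 𝒜 p) p (Ideal.toIdeal_homogeneousCore_le 𝒜 p)
    (fun g r hr hrp => Ideal.subset_span ⟨⟨r, g, hr⟩, hrp, rfl⟩) d hd.symm
  rw [show i = (i - d) + d by omega, hge]
  exact hPzero _ (by omega)

/-- A *canonical module of a Cohen-Macaulay ring has finite injective dimension. -/
theorem exists_injectiveDimensionLT (hpos : ∀ g : ℤ, g < 0 → 𝒜 g = ⊥) (hm : GrLC.IsStarLocal 𝒜 m)
    (hn : ringKrullDim R = n) (he : GrLC.IsStarInjHull 𝒜 (GrLC.quotGr 𝒜 m) 𝓔 e)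
    (hC : GrLC.IsStarCanonical 𝒜 𝒞 𝓔 m n I) :
    ∃ N : ℕ, HasInjectiveDimensionLT (ModuleCat.of R C) N :=
  ⟨2 * n + 1, Groth.Agent.CAlgGlobalDim.hasInjectiveDimensionLE_of_ext_cyclic (2 * n) _ fun _J =>
    ext_vanish_of_bass C (2 * n + 1) (fun p _ => bassNum_eq_zero hpos hm hn he hC p _ (Nat.lt_succ_self _)) _⟩

end Pieces

section Pieces2

variable {R : Type u} [CommRing R] [LocCoh.IsCohenMacaulayRing R] {𝒜 : ℤ → AddSubgroup R} [GradedRing 𝒜]
variable {m : HomogeneousIdeal 𝒜} [m.toIdeal.IsMaximal]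
variable {n : ℕ} {I : GrLC.StarInjRes 𝒜 𝒜}
variable {E' : Type u} [AddCommGroup E'] [Module R E'] {𝓔 : ℤ → AddSubgroup E'} [Decomposition 𝓔]
  [SetLike.GradedSMul 𝒜 𝓔] {e : (R ⧸ m.toIdeal) →ₗ[R] E'}
variable {C : Type u} [AddCommGroup C] [Module R C] {𝒞 : ℤ → AddSubgroup C} [Decomposition 𝒞]
  [SetLike.GradedSMul 𝒜 𝒞]

/-- A ring isomorphic to its canonical module is Gorenstein. -/
theorem gorenstein_of_linearEquiv (hpos : ∀ g : ℤ, g < 0 → 𝒜 g = ⊥) (hm : GrLC.IsStarLocal 𝒜 m)
    (hn : ringKrullDim R = n) (he : GrLC.IsStarInjHull 𝒜 (GrLC.quotGr 𝒜 m) 𝓔 e)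
    (hC : GrLC.IsStarCanonical 𝒜 𝒞 𝓔 m n I) (eC : R ≃ₗ[R] C) : LocCoh.IsGorensteinRing R := by
  refine LC.gorensteinRing_of_atPrime fun p _ => ?_
  let A := Localization.AtPrime p
  haveI : IsNoetherianRing A := IsLocalization.isNoetherianRing p.primeCompl A inferInstance
  refine LC.gorenstein_iff_ext_residue.2 ⟨2 * n + 1, fun i hi => ?_⟩
  have h := bassNum_eq_zero hpos hm hn he hC p i (by omega)
  unfold GrLC.bassNum GrLC.bassNumLocal at h
  haveI := Module.length_eq_zero_iff.1 h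
  let u : LocalizedModule p.primeCompl C ≃ₗ[A] A :=
    ((LocalizedModule.equivTensorProduct p.primeCompl C).trans (LinearEquiv.baseChange R A _ _ eC.symm)).trans
      (TensorProduct.AlgebraTensorModule.rid R A A)
  exact (LC.extCongr (Iso.refl (ModuleCat.of A (ResidueField A))) u.toModuleIso i).symm.toEquiv.subsingleton

/-- The canonical module of a Gorenstein ring is a shift of the ring. -/
theorem exists_shift_equiv (hpos : ∀ g : ℤ, g < 0 → 𝒜 g = ⊥) (hm : GrLC.IsStarLocal 𝒜 m)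
    (hn : ringKrullDim R = n) (he : GrLC.IsStarInjHull 𝒜 (GrLC.quotGr 𝒜 m) 𝓔 e)
    (hC : GrLC.IsStarCanonical 𝒜 𝒞 𝓔 m n I) (hG : LocCoh.IsGorensteinRing R) :
    ∃ (a : ℤ) (f : R →ₗ[R] C), Function.Bijective f ∧ GrLC.IsGrHomDeg 𝒜 𝒞 f a :=
  exists_shift_equiv' hm (ringKrullDim_atPrime hpos hm hn) he hC hG

end Pieces2

end Groth.Agent.GrLib8.Canon
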