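import Groth.Agent.GrLib8.LocalSocle
import Groth.Agent.GrLib8.CanonLocal
import Groth.Agent.GrLib8.FilterInj
import Groth.Agent.LC.CanonBasic

/-!
# The socle of the top cohomology of a graded ring
-/

set_option autoImplicit false
set_option linter.unusedSectionVars false
set_option linter.style.haveILetI false
set_option maxHeartbeats 800000

universe u

open DirectSum CategoryTheory IsLocalRing
open scoped TensorProduct

namespace Groth.Agent.GrLib8

/-- A torsion module at a maximal ideal is its own localization. -/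
theorem bijective_mk_of_torsion {R : Type u} [CommRing R] (J : Ideal R) [hJ : J.IsMaximal] {M : Type u}
    [AddCommGroup M] [Module R M] (hM : LocCoh.IsPowerTorsion J M) :
    Function.Bijective (LocalizedModule.mkLinearMap J.primeCompl M) := by
  have key : ∀ (s : J.primeCompl) (z : M), ∃ t : R, z = (s : R) • t • z := by
    intro s z
    obtain ⟨k, hk⟩ := hM z
    have htop : Ideal.span {(s : R)} ⊔ J ^ k = ⊤ := by
      by_contra h
      obtain ⟨P, hP, hle⟩ := Ideal.exists_le_maximal _ h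
      have hJP : J ≤ P := fun x hx => (Ideal.IsMaximal.isPrime hP).mem_of_pow_mem k (hle (Ideal.mem_sup_right (Ideal.pow_mem_pow hx k)))
      exact s.2 ((hJ.eq_of_le hP.ne_top hJP).ge (hle (Ideal.mem_sup_left (Ideal.mem_span_singleton_self (s : R)))))
    obtain ⟨u, hu, v, hv, huv⟩ := Submodule.mem_sup.1 ((Ideal.eq_top_iff_one _).1 htop)
    obtain ⟨t, rfl⟩ := Ideal.mem_span_singleton'.1 hu
    refine ⟨t, ?_⟩
    conv_lhs => rw [← one_smul R z, ← huv, add_smul, hk v hv, add_zero]
    rw [mul_comm, mul_smul]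
  constructor
  · refine (injective_iff_map_eq_zero _).2 fun z hz => ?_
    obtain ⟨s, hs⟩ := (IsLocalizedModule.eq_zero_iff J.primeCompl (LocalizedModule.mkLinearMap J.primeCompl M)).1 hz
    obtain ⟨t, ht⟩ := key s z
    rw [ht, smul_comm, show (s : R) • z = 0 from hs, smul_zero]
  · intro x
    induction x using LocalizedModule.induction_on with
    | h z s =>
      obtain ⟨t, ht⟩ := key s z
      refine ⟨t • z, ?_⟩
      rw [LocalizedModule.mkLinearMap_apply, LocalizedModule.mk_eq]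
      refine ⟨1, ?_⟩
      simp only [one_smul]
      exact ht.symm

/-- Cohomology with support at a maximal ideal is that of the localization. -/
theorem exists_H_loc {R : Type u} [CommRing R] [IsNoetherianRing R] (J : Ideal R) [J.IsMaximal] (n : ℕ) {H : Type u}
    [AddCommGroup H] [Module R H] (htors : LocCoh.IsPowerTorsion J H) (h : H ≃ₗ[R] LocCoh.H J n R) :
    ∃ j : H ≃+ LocCoh.H (maximalIdeal (Localization.AtPrime J)) n (Localization.AtPrime J),
      ∀ (r : R) y, j (r • y) = algebraMap R (Localization.AtPrime J) r • j y := by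
  obtain ⟨b⟩ : Nonempty ((Localization.AtPrime J ⊗[R] LocCoh.H J n R) ≃ₗ[Localization.AtPrime J]
      LocCoh.H (maximalIdeal (Localization.AtPrime J)) n (Localization.AtPrime J ⊗[R] R)) :=
    (Localization.AtPrime.map_eq_maximalIdeal (I := J)) ▸ LC.exists_baseChange (R' := Localization.AtPrime J) J n R
  let c := (TensorProduct.AlgebraTensorModule.rid R (Localization.AtPrime J) (Localization.AtPrime J))
  let t : LocalizedModule J.primeCompl H ≃ₗ[Localization.AtPrime J]
      LocCoh.H (maximalIdeal (Localization.AtPrime J)) n (Localization.AtPrime J) :=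
    (LocalizedModule.equivTensorProduct J.primeCompl H).trans ((LinearEquiv.baseChange R _ _ _ h).trans
      (b.trans ((localCohomology (maximalIdeal (Localization.AtPrime J)) n).mapIso c.toModuleIso).toLinearEquiv))
  let l := LinearEquiv.ofBijective _ (bijective_mk_of_torsion J htors)
  refine ⟨l.toAddEquiv.trans t.toAddEquiv, fun r y => ?_⟩
  show t (LocalizedModule.mkLinearMap J.primeCompl _ (r • y)) = algebraMap R _ r • t (LocalizedModule.mkLinearMap J.primeCompl _ y)
  rw [map_smul, ← algebraMap_smul (Localization.AtPrime J) r (LocalizedModule.mkLinearMap J.primeCompl H y), map_smul]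

section Ring

variable {R : Type u} [CommRing R] [IsNoetherianRing R] {𝒜 : ℤ → AddSubgroup R} [GradedRing 𝒜]
  {m : HomogeneousIdeal 𝒜} [m.toIdeal.IsMaximal]

/-- Gorenstein at the maximal homogeneous ideal is Gorenstein. -/
theorem gorensteinRing_of_atMax (hpos : ∀ g : ℤ, g < 0 → 𝒜 g = ⊥) (hm : GrLC.IsStarLocal 𝒜 m) {n : ℕ}
    (hn : ringKrullDim R = n) (hA : LocCoh.IsGorensteinLocalRing (Localization.AtPrime m.toIdeal)) :
    LocCoh.IsGorensteinRing R := by
  classical
  let A := Localization.AtPrime m.toIdeal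
  let S := m.toIdeal.primeCompl
  haveI : IsNoetherianRing A := IsLocalization.isNoetherianRing S A inferInstance
  have hdA : ringKrullDim A = n := by
    rw [IsLocalization.AtPrime.ringKrullDim_eq_height m.toIdeal A, height_eq_ringKrullDim_of_isStarLocal hpos hm, hn]
  obtain ⟨d, hd, -, hv⟩ := LC.gorenstein_basic (R := A)
  obtain rfl : d = n := by rw [hd] at hdA; exact_mod_cast hdA
  let u : LocalizedModule S R ≃ₗ[A] A :=
    (LocalizedModule.equivTensorProduct S R).trans (TensorProduct.AlgebraTensorModule.rid R A A)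
  refine LC.gorensteinRing_of_atPrime fun p _ => ?_
  haveI hP : (Ideal.homogeneousCore 𝒜 p).toIdeal.IsPrime := isPrime_core 𝒜 p
  have hPm : (Ideal.homogeneousCore 𝒜 p).toIdeal ≤ m.toIdeal :=
    le_of_isStarLocal hm fun h => hP.ne_top (by rw [h]; exact HomogeneousIdeal.toIdeal_top)
  have hPzero : ∀ j, d < j → GrLC.bassNum (Ideal.homogeneousCore 𝒜 p).toIdeal R j = 0 := by
    intro j hj
    obtain ⟨eX⟩ := LC.exists_extLoc S R j (R ⧸ (Ideal.homogeneousCore 𝒜 p).toIdeal)
    haveI : Module.Finite A (LocalizedModule S (R ⧸ (Ideal.homogeneousCore 𝒜 p).toIdeal)) :=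
      Module.Finite.of_isLocalizedModule S (LocalizedModule.mkLinearMap _ _)
    have hsub := hv (LocalizedModule S (R ⧸ (Ideal.homogeneousCore 𝒜 p).toIdeal)) j hj
    have hsub' := (eX.trans (LC.extCongr (Iso.refl _) u.toModuleIso j)).toEquiv.subsingleton_congr.2 hsub
    rw [LocalizedModule.subsingleton_iff] at hsub'
    exact (bass_eq_zero_iff R _ j).2 fun z => by
      obtain ⟨s, hs, hsz⟩ := hsub' z
      exact ⟨s, fun h => hs (hPm h), hsz⟩
  let q := p.map (Ideal.Quotient.mk (Ideal.homogeneousCore 𝒜 p).toIdeal)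
  haveI hq : q.IsPrime :=
    Ideal.map_isPrime_of_surjective Ideal.Quotient.mk_surjective
      (by rw [Ideal.mk_ker]; exact Ideal.toIdeal_homogeneousCore_le 𝒜 p)
  have hle : ((q.height : ℕ∞) : WithBot ℕ∞) ≤ (d : WithBot ℕ∞) :=
    ((Ideal.height_le_ringKrullDim_of_ne_top hq.ne_top).trans (ringKrullDim_quotient_le _)).trans hn.le
  obtain ⟨c, hc⟩ := ENat.ne_top_iff_exists.1 (ne_top_of_le_ne_top (ENat.natCast_ne_top d) (WithBot.coe_le_coe.1 hle))
  have hcd : c ≤ d := by rw [← hc] at hle; exact_mod_cast hle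
  obtain ⟨-, hge⟩ := bassNum_shift 𝒜 (Ideal.homogeneousCore 𝒜 p) p (Ideal.toIdeal_homogeneousCore_le 𝒜 p)
    (fun g r hr hrp => Ideal.subset_span ⟨⟨r, g, hr⟩, hrp, rfl⟩) c hc.symm
  let B := Localization.AtPrime p
  haveI : IsNoetherianRing B := IsLocalization.isNoetherianRing p.primeCompl B inferInstance
  refine LC.gorenstein_iff_ext_residue.2 ⟨2 * d + 1, fun i hi => ?_⟩
  have h : GrLC.bassNum p R i = 0 := by
    rw [show i = (i - c) + c by omega, hge]
    exact hPzero _ (by omega)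
  unfold GrLC.bassNum GrLC.bassNumLocal at h
  haveI := Module.length_eq_zero_iff.1 h
  let v : LocalizedModule p.primeCompl R ≃ₗ[B] B :=
    (LocalizedModule.equivTensorProduct p.primeCompl R).trans (TensorProduct.AlgebraTensorModule.rid R B B)
  exact (LC.extCongr (Iso.refl (ModuleCat.of B (ResidueField B))) v.toModuleIso i).symm.toEquiv.subsingleton

end Ring

namespace GorSocle

variable {R : Type u} [CommRing R] [IsNoetherianRing R] {σ : Type u} [SetLike σ R] [AddSubgroupClass σ R]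
  {𝒜 : ℤ → σ} [GradedRing 𝒜] {m : HomogeneousIdeal 𝒜} [m.toIdeal.IsMaximal] (n : ℕ) (I : GrLC.StarInjRes 𝒜 𝒜)

theorem isPowerTorsion_H : LocCoh.IsPowerTorsion m.toIdeal (I.H m n) := fun y => by
  obtain ⟨h⟩ := nonempty_H_equiv 𝒜 I m n
  obtain ⟨k, hk⟩ := LC.isPowerTorsion_obj m.toIdeal n (ModuleCat.of R R) (h y)
  exact ⟨k, fun r hr => h.injective (by rw [map_smul, hk r hr, map_zero])⟩

/-- The top cohomology is that of the localization. -/
theorem exists_loc_equiv : ∃ j : I.H m n ≃+ LocCoh.H (maximalIdeal (Localization.AtPrime m.toIdeal)) n (Localization.AtPrime m.toIdeal),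
    ∀ (r : R) y, j (r • y) = algebraMap R (Localization.AtPrime m.toIdeal) r • j y := by
  obtain ⟨h⟩ := nonempty_H_equiv 𝒜 I m n
  obtain ⟨j, hj⟩ := exists_H_loc m.toIdeal n (isPowerTorsion_H n I) h
  exact ⟨j, hj⟩

theorem ringKrullDim_atMax_eq {n : ℕ} (h : m.toIdeal.height = n) :
    ringKrullDim (Localization.AtPrime m.toIdeal) = n := by
  rw [IsLocalization.AtPrime.ringKrullDim_eq_height m.toIdeal (Localization.AtPrime m.toIdeal), h]
  rfl

variable {n}

theorem mem_soc_transfer {j : I.H m n ≃+ LocCoh.H (maximalIdeal (Localization.AtPrime m.toIdeal)) n (Localization.AtPrime m.toIdeal)}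
    (hj : ∀ (r : R) y, j (r • y) = algebraMap R (Localization.AtPrime m.toIdeal) r • j y) (y : I.H m n) :
    y ∈ LocCoh.torsionBy m.toIdeal (I.H m n) ↔ j y ∈ LocCoh.torsionBy (maximalIdeal (Localization.AtPrime m.toIdeal)) _ := by
  rw [mem_soc_iff, mem_soc_iff]
  constructor
  · intro h a ha
    rw [← Localization.AtPrime.map_eq_maximalIdeal] at ha
    induction ha using Submodule.span_induction with
    | mem a ha => obtain ⟨r, hr, rfl⟩ := ha; rw [← hj, h r hr, map_zero]
    | zero => rw [zero_smul]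
    | add a b _ _ ha hb => rw [add_smul, ha, hb, add_zero]
    | smul c a _ ha => rw [smul_eq_mul, mul_smul, ha, smul_zero]
  · intro h r hr
    refine j.injective ?_
    rw [hj, map_zero]
    exact h _ ((IsLocalization.AtPrime.to_map_mem_maximal_iff _ m.toIdeal r).2 hr)

/-- A Cohen-Macaulay local ring at `m` with simple socle is Gorenstein. -/
theorem gorensteinLocal (hd : m.toIdeal.height = n)
    (hlow : ∀ i < n, Subsingleton (LocCoh.H (maximalIdeal (Localization.AtPrime m.toIdeal)) i (Localization.AtPrime m.toIdeal)))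
    (hs : SimpleSoc m.toIdeal (I.H m n)) : LocCoh.IsGorensteinLocalRing (Localization.AtPrime m.toIdeal) := by
  let A := Localization.AtPrime m.toIdeal
  haveI : IsNoetherianRing A := IsLocalization.isNoetherianRing m.toIdeal.primeCompl A inferInstance
  obtain ⟨j, hj⟩ := exists_loc_equiv (m := m) n I
  refine gorensteinLocal_of_simpleSoc n A (ringKrullDim_atMax_eq hd) hlow fun y hy hy0 y' hy' => ?_
  obtain ⟨y, rfl⟩ := j.surjective y
  obtain ⟨y', rfl⟩ := j.surjective y'
  obtain ⟨c, hc⟩ := Submodule.mem_span_singleton.1 (hs y ((mem_soc_transfer I hj y).2 hy)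
    (fun h => hy0 (by rw [h, map_zero])) ((mem_soc_transfer I hj y').2 hy'))
  exact Submodule.mem_span_singleton.2 ⟨algebraMap R A c, by rw [← hc, hj]⟩

/-- The socle of a Gorenstein ring is simple. -/
theorem simpleSoc (hd : m.toIdeal.height = n) (hG : LocCoh.IsGorensteinLocalRing (Localization.AtPrime m.toIdeal)) :
    SimpleSoc m.toIdeal (I.H m n) := by
  let A := Localization.AtPrime m.toIdeal
  haveI : IsNoetherianRing A := IsLocalization.isNoetherianRing m.toIdeal.primeCompl A inferInstance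
  obtain ⟨j, hj⟩ := exists_loc_equiv (m := m) n I
  obtain ⟨g, hg⟩ := LC.isInjectiveHull_H_gorenstein (R := A) (ringKrullDim_atMax_eq hd)
  intro y hy hy0 y' hy'
  rw [mem_soc_transfer I hj, LC.hull_socle hg] at hy hy'
  obtain ⟨a, ha⟩ := hy
  obtain ⟨a', ha'⟩ := hy'
  obtain ⟨a, rfl⟩ := residue_surjective a
  obtain ⟨a', rfl⟩ := residue_surjective a'
  have hu : IsUnit a := notMem_maximalIdeal.1 fun h => hy0 (j.injective (by
    rw [← ha, (residue_eq_zero_iff a).2 h, map_zero, map_zero]))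
  obtain ⟨⟨c, s⟩, hcs⟩ := IsLocalization.surj m.toIdeal.primeCompl (a' * ↑hu.unit⁻¹)
  obtain ⟨t, i, hi, hti⟩ := ‹m.toIdeal.IsMaximal›.exists_inv s.2
  refine Submodule.mem_span_singleton.2 ⟨t * c, j.injective ?_⟩
  rw [hj, ← ha, ← ha', ← map_smul]
  refine congrArg g ?_
  show residue A (algebraMap R A (t * c) * a) = residue A a'
  have h1 : algebraMap R A (t * c) * a = algebraMap R A (t * (s : R)) * a' := by
    rw [map_mul, map_mul, ← hcs]
    rw [show algebraMap R A t * (a' * ↑hu.unit⁻¹ * algebraMap R A ↑s) * a =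
      algebraMap R A t * algebraMap R A ↑s * a' * (↑hu.unit⁻¹ * a) by ring, IsUnit.val_inv_mul, mul_one]
  rw [h1, ← sub_eq_zero, ← map_sub, residue_eq_zero_iff, show t * (s : R) = 1 - i by rw [← hti]; ring, map_sub,
    map_one, sub_mul, one_mul, sub_sub_cancel_left]
  exact neg_mem (Ideal.mul_mem_right _ _ ((IsLocalization.AtPrime.to_map_mem_maximal_iff A m.toIdeal i).2 hi))

/-- The top cohomology of a Gorenstein ring is faithful. -/
theorem faithful (hm : GrLC.IsStarLocal 𝒜 m) (hd : m.toIdeal.height = n)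
    (hG : LocCoh.IsGorensteinLocalRing (Localization.AtPrime m.toIdeal))
    {g : ℤ} {r : R} (hr : r ∈ 𝒜 g) (hr0 : r ≠ 0) : ∃ y : I.H m n, r • y ≠ 0 := by
  classical
  let A := Localization.AtPrime m.toIdeal
  haveI : IsNoetherianRing A := IsLocalization.isNoetherianRing m.toIdeal.primeCompl A inferInstance
  obtain ⟨j, hj⟩ := exists_loc_equiv (m := m) n I
  obtain ⟨f, hf⟩ := LC.isInjectiveHull_H_gorenstein (R := A) (ringKrullDim_atMax_eq hd)
  have hrA : algebraMap R A r ≠ 0 := fun h => by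
    obtain ⟨⟨s, hs⟩, hs0⟩ := (IsLocalization.map_eq_zero_iff m.toIdeal.primeCompl A r).1 h
    let J : HomogeneousIdeal 𝒜 := ⟨(R ∙ r).annihilator, Canon.isHomogeneous_ann hr⟩
    by_cases hJ : J = ⊤
    · have h1 : (1 : R) ∈ J.toIdeal := by rw [hJ]; trivial
      exact hr0 (by simpa using (Submodule.mem_annihilator_span_singleton r (1 : R)).1 h1)
    · exact hs (Canon.le_starLocal hm hJ ((Submodule.mem_annihilator_span_singleton r s).2 hs0))
  obtain ⟨φ, hφ⟩ := LC.exists_dual_ne_zero hf hrA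
  obtain ⟨y, hy⟩ := j.surjective (φ 1)
  refine ⟨y, fun h => hφ ?_⟩
  rw [show algebraMap R A r = algebraMap R A r • (1 : A) from (mul_one _).symm, map_smul]
  show algebraMap R A r • φ 1 = 0
  rw [← hy, ← hj, h, map_zero]

end GorSocle

namespace GorSocle

variable {R : Type u} [CommRing R] [IsNoetherianRing R] {σ : Type u} [SetLike σ R] [AddSubgroupClass σ R]
  {𝒜 : ℤ → σ} [GradedRing 𝒜] {m : HomogeneousIdeal 𝒜} {n : ℕ} (I : GrLC.StarInjRes 𝒜 𝒜)

theorem smul_mem_Hgr {i g : ℤ} {r : R} {y : I.H m n} (hr : r ∈ 𝒜 i) (hy : y ∈ I.Hgr m n g) :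
    r • y ∈ I.Hgr m n (i + g) := by
  obtain ⟨z, hz, rfl⟩ := hy
  refine ⟨r • z, ?_, map_smul (I.toH m n) r z⟩
  have := SetLike.GradedSMul.smul_mem (B := (I.X n).gr) hr hz
  rwa [vadd_eq_add] at this

/-- Components of `r • y` for homogeneous `y`. -/
theorem decompose_smul_Hgr [Decomposition (I.Hgr m n)] {g : ℤ} {y : I.H m n} (hy : y ∈ I.Hgr m n g) (r : R) (d : ℤ) :
    (decompose (I.Hgr m n) (r • y) d : I.H m n) = (decompose 𝒜 r (d - g) : R) • y := by
  classical
  induction r using DirectSum.Decomposition.inductionOn 𝒜 with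
  | zero => simp
  | add a b ha hb => simp only [add_smul, decompose_add, DirectSum.add_apply, AddMemClass.coe_add, ha, hb]
  | @homogeneous i r =>
    rcases eq_or_ne d (i + g) with rfl | hne
    · rw [decompose_of_mem_same _ (smul_mem_Hgr I r.2 hy), add_sub_cancel_right, decompose_of_mem_same 𝒜 r.2]
    · rw [decompose_of_mem_ne _ (smul_mem_Hgr I r.2 hy) hne.symm,
        decompose_of_mem_ne 𝒜 r.2 (fun h => hne (by omega)), zero_smul]

theorem isHomogeneous_soc [Decomposition (I.Hgr m n)] {y : I.H m n}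
    (hy : y ∈ LocCoh.torsionBy m.toIdeal (I.H m n)) (g : ℤ) :
    (decompose (I.Hgr m n) y g : I.H m n) ∈ LocCoh.torsionBy m.toIdeal (I.H m n) := by
  classical
  refine mem_soc_iff.2 fun a ha => ?_
  rw [← sum_support_decompose 𝒜 a, Finset.sum_smul]
  refine Finset.sum_eq_zero fun i _ => ?_
  have hai : (decompose 𝒜 a i : R) ∈ m.toIdeal := m.isHomogeneous i ha
  have h1 : ((decompose (I.Hgr m n) ((decompose 𝒜 a i : R) • y)) (i + g) : I.H m n) =
      (decompose 𝒜 a i : R) • (decompose (I.Hgr m n) y g : I.H m n) := by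
    conv_lhs => rw [← sum_support_decompose (I.Hgr m n) y, Finset.smul_sum, decompose_sum, DFinsupp.finsetSum_apply,
      AddSubmonoidClass.coe_finsetSum]
    rw [Finset.sum_eq_single g]
    · exact decompose_of_mem_same _ (smul_mem_Hgr I (SetLike.coe_mem (decompose 𝒜 a i)) (SetLike.coe_mem _))
    · intro b _ hb
      exact decompose_of_mem_ne _ (smul_mem_Hgr I (SetLike.coe_mem (decompose 𝒜 a i)) (SetLike.coe_mem _))
        (fun h => hb (by omega))
    · intro h
      rw [DFinsupp.notMem_support_iff.1 h]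
      simp
  rw [← h1, mem_soc_iff.1 hy _ hai]
  simp

variable (hp : ∀ g < 0, ∀ r ∈ 𝒜 g, r = 0) (htors : LocCoh.IsPowerTorsion m.toIdeal (I.H m n))

include htors in
/-- A nonzero homogeneous element has a homogeneous multiple in the socle. -/
theorem exists_smul_soc {g : ℤ} {y : I.H m n} (hy : y ∈ I.Hgr m n g) (hy0 : y ≠ 0) :
    ∃ (i : ℤ) (r : R), r ∈ 𝒜 i ∧ r • y ≠ 0 ∧ r • y ∈ LocCoh.torsionBy m.toIdeal (I.H m n) := by
  classical
  letI := (isInternal_Hgr 𝒜 I m n).chooseDecomposition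
  obtain ⟨r, hr0, hr⟩ := LC.exists_socle_multiple m.toIdeal htors hy0
  obtain ⟨d, hd⟩ : ∃ d, (decompose (I.Hgr m n) (r • y) d : I.H m n) ≠ 0 := by
    by_contra h
    push Not at h
    exact hr0 ((sum_support_decompose (I.Hgr m n) (r • y)).symm.trans (Finset.sum_eq_zero fun d _ => h d))
  have h1 := decompose_smul_Hgr I hy r d
  exact ⟨d - g, _, SetLike.coe_mem _, h1 ▸ hd, h1 ▸ isHomogeneous_soc I hr d⟩

variable {I}
variable (hs : SimpleSoc m.toIdeal (I.H m n)) (hpm : ∀ g : ℤ, 0 < g → ∀ r ∈ 𝒜 g, r ∈ m.toIdeal)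

include hp htors hs hpm in
/-- The socle lives in the last nonzero degree, which is one-dimensional. -/
theorem socle_degree (hnz : ∃ g, I.Hgr m n g ≠ ⊥) :
    ∃ (b : ℤ) (s : I.H m n), s ∈ I.Hgr m n b ∧ s ≠ 0 ∧
      GrLC.endDeg (I.Hgr m n) = ((b : WithTop ℤ) : WithBot (WithTop ℤ)) ∧
      (∀ g, ∀ y ∈ I.Hgr m n g, y ≠ 0 → ∃ r ∈ 𝒜 (b - g), ∃ r₀ : R, r • y ≠ 0 ∧ r • y = r₀ • s) ∧
      (∀ y ∈ LocCoh.torsionBy m.toIdeal (I.H m n), y ∈ I.Hgr m n b) ∧
      s ∈ LocCoh.torsionBy m.toIdeal (I.H m n) := by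
  classical
  letI := (isInternal_Hgr 𝒜 I m n).chooseDecomposition
  obtain ⟨g₀, hg₀⟩ := hnz
  obtain ⟨y₀, hy₀, hy₀0⟩ : ∃ y ∈ I.Hgr m n g₀, y ≠ 0 := by
    by_contra h
    push Not at h
    exact hg₀ ((AddSubgroup.eq_bot_iff_forall _).2 h)
  obtain ⟨i, r, hr, hr0, hrs⟩ := exists_smul_soc I htors hy₀ hy₀0
  let b := i + g₀
  let s := r • y₀
  have hsb : s ∈ I.Hgr m n b := smul_mem_Hgr I hr hy₀
  have hdeg : ∀ y ∈ LocCoh.torsionBy m.toIdeal (I.H m n), y ∈ I.Hgr m n b := by
    intro y hy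
    have hcomp : ∀ d, d ≠ b → (decompose (I.Hgr m n) y d : I.H m n) = 0 := by
      intro d hd
      by_contra h
      obtain ⟨c, hc⟩ := Submodule.mem_span_singleton.1 (hs s hrs hr0 (isHomogeneous_soc I hy d))
      have h1 := decompose_smul_Hgr I hsb c d
      rw [show c • s = c • (r • y₀) from rfl, hc, decompose_of_mem_same _ (SetLike.coe_mem _)] at h1
      have hzero : (decompose 𝒜 c (d - b) : R) • s = 0 := by
        rcases lt_or_ge (d - b) 0 with h' | h'
        · rw [hp _ h' _ (SetLike.coe_mem _), zero_smul]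
        · exact mem_soc_iff.1 hrs _ (hpm _ (lt_of_le_of_ne h' (fun h0 => hd (by omega))) _ (SetLike.coe_mem _))
      exact h (h1.trans hzero)
    rw [← sum_support_decompose (I.Hgr m n) y]
    refine AddSubgroup.sum_mem _ fun d _ => ?_
    rcases eq_or_ne d b with rfl | hd
    · exact SetLike.coe_mem _
    · rw [hcomp d hd]; exact zero_mem _
  have hess : ∀ g, ∀ y ∈ I.Hgr m n g, y ≠ 0 → ∃ r ∈ 𝒜 (b - g), ∃ r₀ : R, r • y ≠ 0 ∧ r • y = r₀ • s := by
    intro g y hy hy0
    obtain ⟨i', r', hr', hr'0, hr's⟩ := exists_smul_soc I htors hy hy0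
    have hi : i' = b - g := by
      by_contra hne
      refine hr'0 ((decompose_of_mem_same _ (smul_mem_Hgr I hr' hy)).symm.trans ?_)
      exact decompose_of_mem_ne _ (hdeg _ hr's) (fun h => hne (by omega))
    obtain ⟨r₀, hr₀⟩ := Submodule.mem_span_singleton.1 (hs s hrs hr0 hr's)
    exact ⟨r', hi ▸ hr', r₀, hr'0, hr₀.symm⟩
  refine ⟨b, s, hsb, hr0, le_antisymm ((endDeg_le_iff _ b).2 fun g hg => ?_) ?_, hess, hdeg, hrs⟩
  · refine (AddSubgroup.eq_bot_iff_forall _).2 fun y hy => ?_
    by_contra hy0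
    obtain ⟨r', hr', r₀, hne, -⟩ := hess g y hy hy0
    exact hne (by rw [hp _ (by omega) r' hr', zero_smul])
  · exact le_iSup₂_of_le b (fun h => hr0 ((AddSubgroup.eq_bot_iff_forall _).1 h _ hsb)) le_rfl

end GorSocle

end Groth.Agent.GrLib8
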