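import Groth.Agent.GrLib8.GDualExist
import Groth.Agent.GrLib8.GorSocle
import Groth.Agent.GrLib8.CanonDual

/-!
# Existence of *canonical modules over a field
-/

set_option autoImplicit false
set_option linter.unusedSectionVars false
set_option linter.style.haveILetI false
set_option maxHeartbeats 1600000

universe u

open DirectSum CategoryTheory IsLocalRing

namespace Groth.Agent.GrLib8.Canon

/-- Top local cohomology at a maximal ideal is Artinian. -/
theorem isArtinian_H_of_maximal {R : Type u} [CommRing R] [IsNoetherianRing R] (J : Ideal R) [J.IsMaximal] (n : ℕ) :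
    IsArtinian R (LocCoh.H J n R) := by
  classical
  let A := Localization.AtPrime J
  let S := J.primeCompl
  haveI : IsNoetherianRing A := IsLocalization.isNoetherianRing S A inferInstance
  have htors : LocCoh.IsPowerTorsion J (LocCoh.H J n R) := fun y => LC.isPowerTorsion_obj J n (ModuleCat.of R R) y
  obtain ⟨j, hj⟩ := exists_H_loc J n htors (LinearEquiv.refl R _)
  haveI : IsArtinian A (LocCoh.H (maximalIdeal A) n A) := LC.isArtinian_H n A
  have key : ∀ s ∈ S, ∀ y : LocCoh.H J n R, ∃ t : R, y = t • s • y := by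
    intro s hs y
    obtain ⟨k, hk⟩ := htors y
    have htop : Ideal.span {s} ⊔ J ^ k = ⊤ := by
      by_contra h
      obtain ⟨P, hP, hle⟩ := Ideal.exists_le_maximal _ h
      have hJP : J ≤ P := fun x hx => (Ideal.IsMaximal.isPrime hP).mem_of_pow_mem k (hle (Ideal.mem_sup_right (Ideal.pow_mem_pow hx k)))
      exact hs ((‹J.IsMaximal›.eq_of_le hP.ne_top hJP).ge (hle (Ideal.mem_sup_left (Ideal.mem_span_singleton_self s))))
    obtain ⟨v, hv, w, hw, hvw⟩ := Submodule.mem_sup.1 ((Ideal.eq_top_iff_one _).1 htop)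
    obtain ⟨t, rfl⟩ := Ideal.mem_span_singleton'.1 hv
    exact ⟨t, by conv_lhs => rw [← one_smul R y, ← hvw, add_smul, hk w hw, add_zero, mul_smul]⟩
  let Φ : Submodule R (LocCoh.H J n R) → Submodule A (LocCoh.H (maximalIdeal A) n A) :=
    fun N => Submodule.span A (j '' (N : Set (LocCoh.H J n R)))
  have hΦ : StrictMono Φ := by
    intro N N' hlt
    refine lt_of_le_not_ge (Submodule.span_mono (Set.image_mono hlt.le)) fun hle => hlt.not_ge fun y hy => ?_
    have hz : ∀ z ∈ Φ N, ∃ s ∈ S, ∃ x ∈ N, algebraMap R A s • z = j x := by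
      intro z hz
      induction hz using Submodule.span_induction with
      | mem z hz =>
        obtain ⟨x, hx, rfl⟩ := hz
        exact ⟨1, S.one_mem, x, hx, by rw [map_one, one_smul]⟩
      | zero => exact ⟨1, S.one_mem, 0, zero_mem _, by rw [smul_zero, map_zero]⟩
      | add a b _ _ ha hb =>
        obtain ⟨s, hs, x, hx, e1⟩ := ha
        obtain ⟨s', hs', x', hx', e2⟩ := hb
        refine ⟨s * s', S.mul_mem hs hs', s' • x + s • x', add_mem (N.smul_mem _ hx) (N.smul_mem _ hx'), ?_⟩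
        rw [map_add j, hj, hj, ← e1, ← e2, map_mul, smul_add, smul_smul, smul_smul, mul_comm (algebraMap R A s)]
      | smul c a _ ha =>
        obtain ⟨s, hs, x, hx, e1⟩ := ha
        obtain ⟨⟨r, s'⟩, hc⟩ := IsLocalization.surj S c
        refine ⟨(s' : R) * s, S.mul_mem s'.2 hs, r • x, N.smul_mem _ hx, ?_⟩
        rw [hj, ← e1, map_mul, smul_smul, smul_smul, ← hc]
        congr 1
        ring
    obtain ⟨s, hs, x, hx, e⟩ := hz (j y) (hle (Submodule.subset_span ⟨y, hy, rfl⟩))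
    rw [← hj] at e
    obtain ⟨t, ht⟩ := key s hs y
    rw [ht, j.injective e]
    exact N.smul_mem t hx
  exact hΦ.wellFoundedLT

section Grading

variable {R : Type u} [CommRing R] {σ : Type u} [SetLike σ R] [AddSubgroupClass σ R] (𝒜 : ℤ → σ) [GradedRing 𝒜]

/-- The pieces as spaces over the degree-zero part. -/
def piece0 (g : ℤ) : Submodule (GrLC.deg0 𝒜) R := GrLC.comp 𝒜 𝒜 g

theorem mem_piece0 {g : ℤ} {r : R} : r ∈ piece0 𝒜 g ↔ r ∈ 𝒜 g := Iff.rfl

/-- The regraded components. -/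
noncomputable def to0 : (⨁ g, 𝒜 g) →+ ⨁ g, piece0 𝒜 g :=
  DirectSum.toAddMonoid fun g => (DirectSum.of (fun g => piece0 𝒜 g) g).comp
    (AddMonoidHom.mk' (fun z : 𝒜 g => (⟨(z : R), z.2⟩ : piece0 𝒜 g)) fun _ _ => rfl)

theorem to0_of (g : ℤ) (z : 𝒜 g) :
    to0 𝒜 (DirectSum.of (fun g => 𝒜 g) g z) = DirectSum.of (fun g => piece0 𝒜 g) g ⟨(z : R), z.2⟩ := by
  rw [to0, DirectSum.toAddMonoid_of]
  rfl

noncomputable instance gradedAlgebra0 : GradedAlgebra (piece0 𝒜) where
  one_mem := SetLike.one_mem_graded 𝒜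
  mul_mem := fun {i j} {a b} ha hb => SetLike.mul_mem_graded (A := 𝒜) ha hb
  decompose' := fun x => to0 𝒜 (decompose 𝒜 x)
  left_inv := fun x => by
    show DirectSum.coeAddMonoidHom (piece0 𝒜) (to0 𝒜 (decompose 𝒜 x)) = x
    induction x using DirectSum.Decomposition.inductionOn 𝒜 with
    | zero => simp
    | add a b ha hb => rw [decompose_add, map_add, map_add, ha, hb]
    | @homogeneous i z =>
      rw [decompose_coe, to0_of, DirectSum.coeAddMonoidHom_of]
  right_inv := fun x => by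
    show to0 𝒜 (decompose 𝒜 (DirectSum.coeAddMonoidHom (piece0 𝒜) x)) = x
    induction x using DirectSum.induction_on with
    | zero => simp
    | of i z =>
      rw [DirectSum.coeAddMonoidHom_of, decompose_of_mem 𝒜 (show (z : R) ∈ 𝒜 i from z.2), to0_of]
    | add a b ha hb => rw [map_add, decompose_add, map_add, ha, hb]

end Grading

variable {R : Type u} [CommRing R] [IsNoetherianRing R] {σ : Type u} [SetLike σ R] [AddSubgroupClass σ R]
variable {𝒜 : ℤ → σ} [GradedRing 𝒜] {m : HomogeneousIdeal 𝒜} [m.toIdeal.IsMaximal]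
variable (hp : ∀ g < 0, ∀ r ∈ 𝒜 g, r = 0)
  (hmsp : m.toIdeal = Ideal.span (⋃ g ∈ Set.Ioi (0 : ℤ), (𝒜 g : Set R))) (hF : IsField (GrLC.deg0 𝒜))
variable (n : ℕ) (I : GrLC.StarInjRes 𝒜 𝒜) {E' : Type u} [AddCommGroup E'] [Module R E'] {𝓔 : ℤ → AddSubgroup E'}
  [Decomposition 𝓔] [SetLike.GradedSMul 𝒜 𝓔] {e : (R ⧸ m.toIdeal) →ₗ[R] E'}
  (he : GrLC.IsStarInjHull 𝒜 (GrLC.quotGr 𝒜 m) 𝓔 e)

include hp hmsp hF he in
/-- *Canonical modules exist over a field. -/
theorem exists_starCanonical : ∃ (C : Type u) (_ : AddCommGroup C) (_ : Module R C) (𝒞 : ℤ → AddSubgroup C)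
    (_ : Decomposition 𝒞) (_ : SetLike.GradedSMul 𝒜 𝒞), GrLC.IsStarCanonical 𝒜 𝒞 𝓔 m n I := by
  classical
  letI := hF.toField
  let k := GrLC.deg0 𝒜
  let 𝔸 := piece0 𝒜
  let H := I.H m n
  letI := (isInternal_Hgr 𝒜 I m n).chooseDecomposition
  haveI : SetLike.GradedSMul 𝔸 (I.Hgr m n) :=
    ⟨fun {_ _ _ _} hr hy => by rw [vadd_eq_add]; exact GorSocle.smul_mem_Hgr I hr hy⟩
  obtain ⟨h⟩ := nonempty_H_equiv 𝒜 I m n
  haveI : IsArtinian R H := by
    haveI := isArtinian_H_of_maximal m.toIdeal n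
    exact isArtinian_of_linearEquiv h.symm
  have hpos0 : ∀ g : ℤ, g < 0 → 𝔸 g = ⊥ := fun g hg => (Submodule.eq_bot_iff _).2 fun r hr => hp g hg r hr
  have h00 : 𝔸 0 = Submodule.span k {(1 : R)} := by
    refine le_antisymm (fun r hr => Submodule.mem_span_singleton.2 ⟨⟨r, hr⟩, mul_one r⟩) ?_
    rw [Submodule.span_le, Set.singleton_subset_iff]
    exact SetLike.one_mem_graded 𝒜
  obtain ⟨C, iC1, iC2, iC3, iC4, 𝒞, iC5, iC6, β, hD⟩ := exists_gdual 𝔸 (I.Hgr m n)
  haveI : Module.Finite R C := finite_of_isArtinian 𝔸 hD hpos0 h00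
  haveI : SetLike.GradedSMul 𝒜 𝒞 := ⟨fun {_ _ _ _} hr hy => SetLike.GradedSMul.smul_mem (A := 𝔸) (B := 𝒞) hr hy⟩
  have hfin : ∀ d, Module.Finite k (pieceK 𝔸 (I.Hgr m n) d) := fun d =>
    finite_pieceK_of_isArtinian 𝔸 (I.Hgr m n) hpos0 h00 d
  have hflip := isGDual_flip 𝔸 hD hfin
  have hinj : Module.Injective R E' := (isInjectiveHull_of_isStarInjHull_maximal m 𝓔 e he).isInjective
  -- the socle element
  let u₀ : E' := e (Ideal.Quotient.mk m.toIdeal 1)
  have hu₀ : u₀ ∈ 𝓔 0 := range_subset_zero hp hmsp he ⟨_, rfl⟩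
  have hu0 : ∀ c : k, (c : R) • u₀ = 0 → c = 0 := fun c hc => by
    by_contra hne
    obtain ⟨b, hb⟩ := hF.mul_inv_cancel hne
    have h2 : ((b : R) * (c : R)) • u₀ = 0 := by rw [mul_smul, hc, smul_zero]
    rw [show (b : R) * (c : R) = 1 from (mul_comm _ _).trans (congrArg Subtype.val hb), one_smul] at h2
    exact Ideal.IsMaximal.ne_top ‹_›
      ((Ideal.eq_top_iff_one _).2 (Ideal.Quotient.eq_zero_iff_mem.1 (he.injective (h2.trans (map_zero e).symm))))
  have hu_surj : ∀ z ∈ 𝓔 0, ∃ c : k, (c : R) • u₀ = z := fun z hz => by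
    obtain ⟨x, hx⟩ := (mem_zero_iff hp hmsp he hF).1 hz
    obtain ⟨r, rfl⟩ := Ideal.Quotient.mk_surjective x
    refine ⟨⟨_, SetLike.coe_mem (decompose 𝒜 r 0)⟩, ?_⟩
    rw [← hx, ← map_smul]
    refine congrArg e ?_
    show Ideal.Quotient.mk m.toIdeal ((decompose 𝒜 r 0 : R) * 1) = _
    rw [mul_one, eq_comm, Ideal.Quotient.eq]
    exact sub_decompose_zero_mem hp hmsp r
  -- homogeneous maps attached to homogeneous classes
  have hΨ : ∀ (d : ℤ) (y : H), ∃ ψ : C →ₗ[R] E', GrLC.IsGrHomDeg 𝒞 𝓔 ψ d ∧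
      ∀ c ∈ 𝒞 (-d), ψ c = ((β c y : k) : R) • u₀ := by
    intro d y
    obtain ⟨ψ, h1, h2⟩ := exists_extend_piece hp hmsp he hF d
      (AddMonoidHom.mk' (fun c : GrLC.comp 𝒜 𝒞 (-d) => ((β (c : C) y : k) : R) • u₀) fun a b => by
        rw [Submodule.coe_add, map_add, LinearMap.add_apply, Subring.coe_add, add_smul])
      (fun a c => by
        show ((β (((a : R) • (c : C)) : C) y : k) : R) • u₀ = (a : R) • ((β (c : C) y : k) : R) • u₀
        rw [show (a : R) • (c : C) = a • (c : C) from algebraMap_smul R a (c : C), map_smul, LinearMap.smul_apply,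
          smul_eq_mul, Subring.coe_mul, mul_smul])
      (fun c => by
        show ((β (c : C) y : k) : R) • u₀ ∈ 𝓔 0
        have := SetLike.GradedSMul.smul_mem (A := 𝒜) (B := 𝓔) (show ((β (c : C) y : k) : R) ∈ 𝒜 0 from (β (c : C) y).2) hu₀
        rwa [vadd_eq_add, zero_add] at this) hinj
    exact ⟨ψ, h1, fun c hc => h2 ⟨c, hc⟩⟩
  choose Ψ hΨd hΨv using hΨ
  have huniq : ∀ (d : ℤ) (y : H) (ψ : C →ₗ[R] E'), GrLC.IsGrHomDeg 𝒞 𝓔 ψ d →
      (∀ c ∈ 𝒞 (-d), ψ c = ((β c y : k) : R) • u₀) → ψ = Ψ d y := fun d y ψ hψ hv =>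
    sub_eq_zero.1 (zero_of_zero_on_piece hp hmsp he (ψ - Ψ d y)
      (fun g x hx => by rw [LinearMap.sub_apply]; exact sub_mem (hψ g x hx) (hΨd d y g x hx))
      fun c hc => by rw [LinearMap.sub_apply, hv c hc, hΨv d y c hc, sub_self])
  let Ψh : ∀ d : ℤ, I.Hgr m n d →+ (C →ₗ[R] E') := fun d => AddMonoidHom.mk' (fun y => Ψ d y) fun y y' =>
    (huniq d _ _ (fun g x hx => by rw [LinearMap.add_apply]; exact add_mem (hΨd d y g x hx) (hΨd d y' g x hx))
      fun c hc => by
        rw [LinearMap.add_apply, hΨv d _ c hc, hΨv d _ c hc, ← add_smul, AddSubgroup.coe_add, map_add, Subring.coe_add]).symm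
  let Φ : H →+ (C →ₗ[R] E') := (DirectSum.toAddMonoid Ψh).comp (decomposeAddEquiv (I.Hgr m n)).toAddMonoidHom
  have hΦ : ∀ (d : ℤ) (y : H), y ∈ I.Hgr m n d → Φ y = Ψ d y := fun d y hy => by
    show DirectSum.toAddMonoid Ψh (decompose (I.Hgr m n) y) = Ψ d y
    rw [decompose_of_mem (I.Hgr m n) hy, DirectSum.toAddMonoid_of]
    rfl
  have hlin : ∀ (r : R) (y : H), Φ (r • y) = r • Φ y := by
    intro r y
    induction r using DirectSum.Decomposition.inductionOn 𝒜 with
    | zero => rw [zero_smul, map_zero, zero_smul]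
    | add a b ha hb => rw [add_smul, map_add, ha, hb, add_smul]
    | @homogeneous i r =>
      induction y using DirectSum.Decomposition.inductionOn (I.Hgr m n) with
      | zero => rw [smul_zero, map_zero, smul_zero]
      | add a b ha hb => rw [smul_add, map_add, ha, hb, map_add, smul_add]
      | @homogeneous d y =>
        rw [hΦ (i + d) _ (GorSocle.smul_mem_Hgr I r.2 y.2), hΦ d _ y.2]
        refine (huniq (i + d) _ _ (fun g x hx => ?_) fun c hc => ?_).symm
        · rw [LinearMap.smul_apply, show g + (i + d) = i + (g + d) by ring, ← vadd_eq_add]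
          exact SetLike.GradedSMul.smul_mem (B := 𝓔) r.2 (hΨd d y g x hx)
        · have hrc : (r : R) • c ∈ 𝒞 (-d) := by
            have := SetLike.GradedSMul.smul_mem (B := 𝒞) r.2 hc
            rwa [vadd_eq_add, show i + -(i + d) = -d by ring] at this
          rw [LinearMap.smul_apply, ← map_smul, hΨv d y _ hrc, hD.map_smul]
  let Φl : H →ₗ[R] (C →ₗ[R] E') := { Φ with map_smul' := hlin }
  have hsurjd : ∀ (d : ℤ) (ψ : C →ₗ[R] E'), GrLC.IsGrHomDeg 𝒞 𝓔 ψ d → ∃ y ∈ I.Hgr m n d, Φ y = ψ := by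
    intro d ψ hψ
    have hval : ∀ c ∈ 𝒞 (-d), ∃ a : k, (a : R) • u₀ = ψ c := fun c hc => hu_surj _ (by
      have := hψ (-d) c hc
      rwa [neg_add_cancel] at this)
    choose a ha using hval
    have haa : ∀ c hc (a' : k), (a' : R) • u₀ = ψ c → a c hc = a' := fun c hc a' h' => sub_eq_zero.1 (hu0 _ (by
      rw [AddSubgroupClass.coe_sub, sub_smul, ha, h', sub_self]))
    let ξ : pieceK 𝔸 𝒞 (-d) →ₗ[k] k :=
      { toFun := fun c => a c c.2
        map_add' := fun c c' => haa _ _ _ (by rw [Subring.coe_add, add_smul, ha, ha, Submodule.coe_add, map_add])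
        map_smul' := fun b c => haa _ _ _ (by
          rw [RingHom.id_apply, smul_eq_mul, Subring.coe_mul, mul_smul, ha, Submodule.coe_smul_of_tower,
            ← algebraMap_smul R b (c : C), map_smul]
          rfl) }
    obtain ⟨ξ', hξ'⟩ := LinearMap.exists_extend ξ
    haveI := hfin (- -d)
    obtain ⟨y, hy, hyv⟩ := exists_of_functional 𝔸 hD (-d) ξ'
    rw [neg_neg] at hy
    refine ⟨y, hy, (hΦ d y hy).trans (huniq d y ψ hψ fun c hc => ?_).symm⟩
    rw [hyv c hc, show ξ' c = a c hc from LinearMap.congr_fun hξ' ⟨c, hc⟩, ha]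
  have hbij : Function.Bijective Φl := by
    refine ⟨(injective_iff_map_eq_zero Φl).2 fun y hy => ?_, fun ψ => ?_⟩
    · rw [← sum_support_decompose (I.Hgr m n) y]
      refine Finset.sum_eq_zero fun d _ => hflip.eq_zero d _ (SetLike.coe_mem _) fun c hc => hu0 _ ?_
      show ((β c (decompose (I.Hgr m n) y d : H) : k) : R) • u₀ = 0
      rw [← hΨv d _ c hc]
      have h1 : Φ y c = 0 := LinearMap.congr_fun hy c
      rw [← sum_support_decompose (I.Hgr m n) y, map_sum, LinearMap.sum_apply] at h1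
      let pr : E' →+ E' := AddMonoidHom.mk' (fun z => (decompose 𝓔 z 0 : E')) fun z z' => by
        rw [decompose_add, DirectSum.add_apply, AddMemClass.coe_add]
      have h2 := congrArg pr h1
      rw [map_sum, map_zero] at h2
      rw [Finset.sum_eq_single d] at h2
      · simp only [pr, AddMonoidHom.mk'_apply] at h2
        rw [hΦ d _ (SetLike.coe_mem _), decompose_of_mem_same 𝓔 (show Ψ d _ c ∈ 𝓔 0 by
          have := hΨd d (decompose (I.Hgr m n) y d : H) (-d) c hc
          rwa [neg_add_cancel] at this)] at h2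
        exact h2
      · intro j _ hj
        simp only [pr, AddMonoidHom.mk'_apply]
        rw [hΦ j _ (SetLike.coe_mem _)]
        exact decompose_of_mem_ne 𝓔 (hΨd j _ (-d) c hc) (fun h => hj (by omega))
      · intro hd
        rw [DFinsupp.notMem_support_iff.1 hd]
        simp
    · obtain ⟨D, hD'⟩ := exists_sum_compHom 𝓔 𝒞 (𝒜 := 𝒜) ψ
      choose y hy hyψ using fun d => hsurjd d _ (isGrHomDeg_compHom 𝓔 𝒞 (𝒜 := 𝒜) ψ d)
      exact ⟨∑ d ∈ D, y d, ((map_sum Φ y D).trans (Finset.sum_congr rfl fun d _ => hyψ d)).trans hD'.symm⟩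
  refine ⟨C, iC1, iC2, 𝒞, iC5, inferInstance, inferInstance, (LinearEquiv.ofBijective Φl hbij).symm, fun d ψ hψ => ?_⟩
  obtain ⟨y, hy, hyψ⟩ := hsurjd d ψ hψ
  show (LinearEquiv.ofBijective Φl hbij).symm ψ ∈ I.Hgr m n d
  rwa [show (LinearEquiv.ofBijective Φl hbij).symm ψ = y from
    (LinearEquiv.ofBijective Φl hbij).symm_apply_eq.2 hyψ.symm]

end Groth.Agent.GrLib8.Canon
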