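import Groth.Agent.GrLib8.Grading
import Groth.Agent.LC.InjBasic
import Mathlib.Order.Zorn

/-!
# *Injective modules and *injective hulls
-/

set_option autoImplicit false

universe u

open DirectSum

namespace Groth.Agent.GrLib8

variable {ι : Type} [AddCommGroup ι] [DecidableEq ι]
variable {R : Type u} [CommRing R] {σ : Type u} [SetLike σ R] [AddSubgroupClass σ R] (𝒜 : ι → σ) [GradedRing 𝒜]
variable {M : Type u} [AddCommGroup M] [Module R M] (ℳ : ι → AddSubgroup M) [Decomposition ℳ]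
  [SetLike.GradedSMul 𝒜 ℳ]

section Hom

variable {N : Type u} [AddCommGroup N] [Module R N] (𝒩 : ι → AddSubgroup N) [Decomposition 𝒩]

omit [SetLike.GradedSMul 𝒜 ℳ] [AddCommGroup ι] in
theorem isHomogeneous_ker {h : M →ₗ[R] N} (hh : GrLC.IsGrHom ℳ 𝒩 h) : (LinearMap.ker h).IsHomogeneous ℳ := by
  intro g x hx
  show h (decompose ℳ x g : M) = 0
  have e := map_decompose ℳ 𝒩 h.toAddMonoidHom hh x g
  simp only [LinearMap.toAddMonoidHom_coe] at e
  rw [e, LinearMap.mem_ker.1 hx, decompose_zero, DirectSum.zero_apply, ZeroMemClass.coe_zero]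

omit [SetLike.GradedSMul 𝒜 ℳ] [AddCommGroup ι] in
theorem isHomogeneous_comap {h : M →ₗ[R] N} (hh : GrLC.IsGrHom ℳ 𝒩 h) {Q : Submodule R N}
    (hQ : Q.IsHomogeneous 𝒩) : (Q.comap h).IsHomogeneous ℳ := by
  intro g x hx
  show h (decompose ℳ x g : M) ∈ Q
  have e := map_decompose ℳ 𝒩 h.toAddMonoidHom hh x g
  simp only [LinearMap.toAddMonoidHom_coe] at e
  rw [e]
  exact hQ g hx

omit [SetLike.GradedSMul 𝒜 ℳ] [AddCommGroup ι] in
theorem isHomogeneous_inf {P Q : Submodule R M} (hP : P.IsHomogeneous ℳ) (hQ : Q.IsHomogeneous ℳ) :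
    (P ⊓ Q).IsHomogeneous ℳ := fun g _ hx => ⟨hP g hx.1, hQ g hx.2⟩

omit [SetLike.GradedSMul 𝒜 ℳ] [AddCommGroup ι] in
/-- The inverse of a bijective homogeneous map is homogeneous. -/
theorem isGrHom_symm (e : M ≃ₗ[R] N) (he : GrLC.IsGrHom ℳ 𝒩 e.toLinearMap) :
    GrLC.IsGrHom 𝒩 ℳ e.symm.toLinearMap := by
  intro g y hy
  have h := map_decompose ℳ 𝒩 e.toLinearMap.toAddMonoidHom he (e.symm y) g
  have h' : e (decompose ℳ (e.symm y) g : M) = y := by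
    refine h.trans ?_
    show (decompose 𝒩 (e (e.symm y)) g : N) = y
    rw [e.apply_symm_apply, decompose_of_mem_same 𝒩 hy]
  show e.symm y ∈ ℳ g
  rw [show e.symm y = (decompose ℳ (e.symm y) g : M) from e.injective ((e.apply_symm_apply y).trans h'.symm)]
  exact SetLike.coe_mem _

omit [AddCommGroup ι] in
theorem isGrHom_comp {P : Type u} [AddCommGroup P] [Module R P] {𝒢P : ι → AddSubgroup P} {f : M →ₗ[R] N}
    {g : N →ₗ[R] P} (hf : GrLC.IsGrHom ℳ 𝒩 f) (hg : GrLC.IsGrHom 𝒩 𝒢P g) : GrLC.IsGrHom ℳ 𝒢P (g ∘ₗ f) :=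
  fun i m hm => hg i _ (hf i m hm)

end Hom

/-- A *injective module has no proper *essential extension. -/
theorem surjective_of_isStarInj (hM : GrLC.IsStarInj 𝒜 ℳ) (N : GrLC.GMod.{u} 𝒜) (f : M →ₗ[R] N.carrier)
    (hf : GrLC.IsStarEss ℳ N.gr f) : Function.Surjective f := by
  obtain ⟨h, hh, hhf⟩ := hM (GrLC.GMod.of 𝒜 M ℳ) N f hf.grHom hf.injective LinearMap.id (fun _ _ hm => hm)
  have hid : ∀ m, h (f m) = m := fun m => LinearMap.congr_fun hhf m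
  have hker : LinearMap.ker h = ⊥ := by
    by_contra hne
    refine hf.essential _ (isHomogeneous_ker N.gr ℳ hh) hne (eq_bot_iff.2 ?_)
    rintro _ ⟨hx, m, rfl⟩
    have hm : m = 0 := (hid m).symm.trans hx
    rw [hm, map_zero]
    exact zero_mem _
  intro x
  exact ⟨h x, (LinearMap.ker_eq_bot.1 hker) (hid (h x))⟩

/-- Conversely, having no proper *essential extension is being *injective. -/
theorem isStarInj_of_forall_surjective
    (hM : ∀ (N : GrLC.GMod.{u} 𝒜) (f : M →ₗ[R] N.carrier), GrLC.IsStarEss ℳ N.gr f → Function.Surjective f) :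
    GrLC.IsStarInj 𝒜 ℳ := by
  intro A B f hf hfi g hg
  let P := prodGMod 𝒜 ℳ B.gr
  let κ : A.carrier →ₗ[R] M × B.carrier := g.prod (-f)
  have hκ : GrLC.IsGrHom A.gr P.gr κ := fun i a ha => ⟨hg i a ha, (B.gr i).neg_mem (hf i a ha)⟩
  let inl : M →ₗ[R] M × B.carrier := LinearMap.inl R M B.carrier
  have hinl : GrLC.IsGrHom ℳ P.gr inl := fun i m hm => ⟨hm, zero_mem _⟩
  let 𝒦 : Set (Submodule R P.carrier) :=
    {K | K.IsHomogeneous P.gr ∧ LinearMap.range κ ≤ K ∧ K ⊓ LinearMap.range inl = ⊥}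
  have h0 : LinearMap.range κ ∈ 𝒦 := by
    refine ⟨isHomogeneous_range P.gr A.gr hκ, le_rfl, eq_bot_iff.2 ?_⟩
    rintro _ ⟨⟨a, rfl⟩, m, hm⟩
    have ha : -f a = 0 := (congrArg Prod.snd hm).symm
    rw [neg_eq_zero, ← map_zero f] at ha
    rw [hfi ha, map_zero]
    exact zero_mem _
  obtain ⟨K, -, hK⟩ := zorn_le_nonempty₀ 𝒦 (fun c hc hchain y hy => by
    refine ⟨sSup c, ⟨?_, (hc hy).2.1.trans (le_sSup hy), ?_⟩, fun z hz => le_sSup hz⟩
    · intro i x hx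
      obtain ⟨K, hKc, hxK⟩ := (Submodule.mem_sSup_of_directed ⟨y, hy⟩ hchain.directedOn).1 hx
      exact le_sSup hKc ((hc hKc).1 i hxK)
    · refine eq_bot_iff.2 ?_
      rintro x ⟨hx, hxr⟩
      obtain ⟨K, hKc, hxK⟩ := (Submodule.mem_sSup_of_directed ⟨y, hy⟩ hchain.directedOn).1 hx
      exact (hc hKc).2.2.le ⟨hxK, hxr⟩) _ h0
  obtain ⟨hKhom, hKκ, hKinl⟩ := hK.prop
  let X := quotGMod 𝒜 P.gr K hKhom
  let π : P.carrier →ₗ[R] X.carrier := K.mkQ
  have hπ : GrLC.IsGrHom P.gr X.gr π := isGrHom_mkQ P.gr K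
  let j : M →ₗ[R] X.carrier := π ∘ₗ inl
  have hj : GrLC.IsStarEss ℳ X.gr j := by
    refine ⟨(injective_iff_map_eq_zero j).2 fun m hm => ?_, isGrHom_comp ℳ P.gr hinl hπ, fun Q hQ hQ0 hcap => ?_⟩
    · have hmem : inl m ∈ K ⊓ LinearMap.range inl := ⟨(Submodule.Quotient.mk_eq_zero K).1 hm, m, rfl⟩
      have h0 : inl m = 0 := hKinl.le hmem
      exact congrArg Prod.fst h0
    · refine hQ0 (eq_bot_iff.2 fun q hq => ?_)
      obtain ⟨z, rfl⟩ := Submodule.Quotient.mk_surjective K q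
      have hle : Q.comap π ≤ K := hK.le_of_ge (y := Q.comap π)
        ⟨isHomogeneous_comap P.gr X.gr hπ hQ, fun z hz => by
          show π z ∈ Q
          rw [show π z = 0 from (Submodule.Quotient.mk_eq_zero K).2 (hKκ hz)]
          exact zero_mem _, eq_bot_iff.2 (by
          rintro _ ⟨hm1, m, rfl⟩
          have : j m ∈ Q ⊓ LinearMap.range j := ⟨hm1, m, rfl⟩
          rw [hcap, Submodule.mem_bot] at this
          have hmem : inl m ∈ K ⊓ LinearMap.range inl := ⟨(Submodule.Quotient.mk_eq_zero K).1 this, m, rfl⟩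
          rwa [hKinl] at hmem)⟩
        (fun z hz => by
          show π z ∈ Q
          rw [show π z = 0 from (Submodule.Quotient.mk_eq_zero K).2 hz]
          exact zero_mem _)
      exact (Submodule.Quotient.mk_eq_zero K).2 (hle hq)
  let e := LinearEquiv.ofBijective j ⟨hj.injective, hM X j hj⟩
  have he : GrLC.IsGrHom X.gr ℳ e.symm.toLinearMap := isGrHom_symm ℳ X.gr e hj.grHom
  refine ⟨e.symm.toLinearMap ∘ₗ π ∘ₗ LinearMap.inr R M B.carrier,
    fun i b hb => he i _ (hπ i _ ⟨zero_mem _, hb⟩), LinearMap.ext fun a => e.injective ?_⟩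
  show e (e.symm (π (0, f a))) = π (g a, 0)
  rw [e.apply_symm_apply]
  have key : κ a = ((g a, 0) - (0, f a) : M × B.carrier) :=
    Prod.ext (sub_zero (g a)).symm (zero_sub (f a)).symm
  exact ((Submodule.Quotient.eq K).2 (hKκ ⟨a, key⟩)).symm

/-- Graded extensions inside a module. -/
def IsExt {I : Type u} [AddCommGroup I] [Module R I] (e : M →ₗ[R] I) (𝒢 : ι → AddSubgroup I) : Prop :=
  GIndep 𝒢 ∧ (∀ i g, ∀ a ∈ 𝒜 i, ∀ x ∈ 𝒢 g, a • x ∈ 𝒢 (i + g)) ∧ (∀ g, ∀ m ∈ ℳ g, e m ∈ 𝒢 g) ∧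
    ∀ g, ∀ x ∈ 𝒢 g, x ≠ 0 → ∃ (r : R) (m : M), r • x = e m ∧ r • x ≠ 0

/-- Every graded module has a *injective hull inside any injective module containing it. -/
theorem exists_hull_sub (I : Type u) [AddCommGroup I] [Module R I] [Module.Injective R I] (e : M →ₗ[R] I)
    (he : Function.Injective e) : ∃ (E : GrLC.GMod.{u} 𝒜) (f : M →ₗ[R] E.carrier),
      GrLC.IsStarInjHull 𝒜 ℳ E.gr f ∧ ∃ j : E.carrier →ₗ[R] I, Function.Injective j ∧ j ∘ₗ f = e := by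
  classical
  let 𝒢0 : ι → AddSubgroup I := fun g => (ℳ g).map e.toAddMonoidHom
  have h0 : 𝒢0 ∈ {𝒢 | IsExt 𝒜 ℳ e 𝒢} := by
    refine ⟨fun s c hc hsum g hg => ?_, ?_, fun g m hm => ⟨m, hm, rfl⟩, ?_⟩
    · choose! z hz hzc using hc
      have h : ∑ i ∈ s, z i = 0 := he (by
        rw [map_zero, map_sum, ← hsum]; exact Finset.sum_congr rfl fun i hi => hzc i hi)
      rw [← hzc g hg]
      exact (congrArg e (gIndep_of_decomposition ℳ s z hz h g hg)).trans (map_zero e)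
    · rintro i g a ha _ ⟨m, hm, rfl⟩
      exact ⟨a • m, SetLike.GradedSMul.smul_mem ha hm, map_smul e a m⟩
    · rintro g _ ⟨m, hm, rfl⟩ h0
      exact ⟨1, m, one_smul R _, by rwa [one_smul]⟩
  obtain ⟨𝒢, -, h𝒢⟩ := zorn_le_nonempty₀ {𝒢 | IsExt 𝒜 ℳ e 𝒢} (fun c hc hchain y hy => by
    haveI : Nonempty c := ⟨⟨y, hy⟩⟩
    let U : ι → AddSubgroup I := fun g => ⨆ G : c, G.1 g
    have hdir : ∀ g, Directed (· ≤ ·) fun G : c => G.1 g := fun g G G' =>
      (hchain.total G.2 G'.2).elim (fun h => ⟨G', h g, le_rfl⟩) (fun h => ⟨G, le_rfl, h g⟩)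
    have hmem : ∀ g x, x ∈ U g ↔ ∃ G : c, x ∈ G.1 g := fun g x => AddSubgroup.mem_iSup_of_directed (hdir g)
    refine ⟨U, ⟨fun s c' hc' hsum => ?_, fun i g a ha x hx => ?_, fun g m hm => ?_, fun g x hx => ?_⟩,
      fun G hG g => le_iSup (fun G : c => G.1 g) ⟨G, hG⟩⟩
    · have : ∃ G : c, ∀ g ∈ s, c' g ∈ G.1 g := by
        clear hsum
        induction s using Finset.induction_on with
        | empty => exact ⟨⟨y, hy⟩, fun g hg => absurd hg (Finset.notMem_empty g)⟩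
        | insert b s hb ih =>
          obtain ⟨G, hG⟩ := ih fun g hg => hc' g (Finset.mem_insert_of_mem hg)
          obtain ⟨G', hG'⟩ := (hmem b _).1 (hc' b (Finset.mem_insert_self b s))
          rcases hchain.total G.2 G'.2 with h | h
          · exact ⟨G', fun g hg => (Finset.mem_insert.1 hg).elim (fun e => e ▸ hG') fun hg => h g (hG g hg)⟩
          · exact ⟨G, fun g hg => (Finset.mem_insert.1 hg).elim (fun e => e ▸ h b hG') fun hg => hG g hg⟩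
      obtain ⟨G, hG⟩ := this
      exact (hc G.2).1 s c' hG hsum
    · obtain ⟨G, hG⟩ := (hmem g x).1 hx
      exact (hmem _ _).2 ⟨G, (hc G.2).2.1 i g a ha x hG⟩
    · exact (hmem _ _).2 ⟨⟨y, hy⟩, (hc hy).2.2.1 g m hm⟩
    · obtain ⟨G, hG⟩ := (hmem g x).1 hx
      exact (hc G.2).2.2.2 g x hG) 𝒢0 h0
  obtain ⟨hind, hsmul, he𝒢, hess⟩ := h𝒢.prop
  have hstab : ∀ (r : R), ∀ x ∈ ⨆ g, 𝒢 g, r • x ∈ ⨆ g, 𝒢 g := by
    intro r x hx
    rw [← sum_support_decompose 𝒜 r, Finset.sum_smul]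
    refine AddSubgroup.sum_mem _ fun i _ => ?_
    refine AddSubgroup.iSup_induction 𝒢 (C := fun y => (decompose 𝒜 r i : R) • y ∈ ⨆ g, 𝒢 g) hx
      (fun g y hy => AddSubgroup.mem_iSup_of_mem (i + g) (hsmul i g _ (SetLike.coe_mem _) y hy))
      (by rw [smul_zero]; exact zero_mem _) fun a b ha hb => by rw [smul_add]; exact add_mem ha hb
  let E : Submodule R I :=
    { (⨆ g, 𝒢 g).toAddSubmonoid with smul_mem' := hstab }
  let ℰ : ι → AddSubgroup E := fun g => (𝒢 g).comap E.subtype.toAddMonoidHom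
  have hspanE : ∀ x : E, x ∈ ⨆ g, ℰ g := by
    rintro ⟨x, hx⟩
    have h : ∃ y : E, (y : I) = x ∧ y ∈ ⨆ g, ℰ g := by
      refine AddSubgroup.iSup_induction 𝒢 (C := fun x => ∃ y : E, (y : I) = x ∧ y ∈ ⨆ g, ℰ g) hx
        (fun g z hz => ⟨⟨z, AddSubgroup.mem_iSup_of_mem g hz⟩, rfl, AddSubgroup.mem_iSup_of_mem g hz⟩)
        ⟨0, rfl, zero_mem _⟩ ?_
      rintro _ _ ⟨a, rfl, ha⟩ ⟨b, rfl, hb⟩
      exact ⟨a + b, rfl, add_mem ha hb⟩
    obtain ⟨y, hy, hy'⟩ := h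
    rwa [show (⟨x, hx⟩ : E) = y from Subtype.ext hy.symm]
  let EG := gmodOf 𝒜 E ℰ hspanE
    (fun s c hc hsum g hg => Subtype.ext (hind s (fun i => (c i : I)) hc
      ((AddSubmonoidClass.coe_finsetSum c s).symm.trans (congrArg Subtype.val hsum)) g hg))
    (fun {i g a x} ha hx => hsmul i g a ha _ hx)
  have hme : ∀ m, e m ∈ E := fun m => by
    show e m ∈ ⨆ g, 𝒢 g
    rw [← sum_support_decompose ℳ m, map_sum]
    exact AddSubgroup.sum_mem _ fun g _ => AddSubgroup.mem_iSup_of_mem g (he𝒢 g _ (SetLike.coe_mem _))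
  let f : M →ₗ[R] EG.carrier := e.codRestrict E hme
  have hfess : GrLC.IsStarEss ℳ EG.gr f := by
    refine ⟨fun a b h => he (congrArg Subtype.val h), fun g m hm => he𝒢 g m hm, fun P hP hP0 => ?_⟩
    obtain ⟨x, hxP, hx0⟩ := (Submodule.ne_bot_iff _).1 hP0
    obtain ⟨g, hg⟩ : ∃ g, (decompose EG.gr x g : EG.carrier) ≠ 0 := by
      by_contra hall
      push Not at hall
      refine hx0 ?_
      rw [← sum_support_decompose EG.gr x]
      exact Finset.sum_eq_zero fun k _ => hall k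
    let z : EG.carrier := decompose EG.gr x g
    have hz : z ∈ EG.gr g := SetLike.coe_mem _
    obtain ⟨r, m, hm, hm0⟩ := hess g z.1 hz (fun h => hg (Subtype.ext h))
    exact (Submodule.ne_bot_iff _).2
      ⟨r • z, ⟨P.smul_mem r (hP g hxP), m, Subtype.ext hm.symm⟩, fun h => hm0 (congrArg Subtype.val h)⟩
  refine ⟨EG, f, ⟨hfess, isStarInj_of_forall_surjective 𝒜 EG.gr fun N φ hφ => ?_⟩, E.subtype,
    Subtype.val_injective, LinearMap.ext fun _ => rfl⟩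
  have hφ' : InjHull.IsEssentialInj φ := by
    refine ⟨hφ.injective, fun Q hQ => ?_⟩
    obtain ⟨x, hxQ, hx0⟩ := (Submodule.ne_bot_iff _).1 hQ
    obtain ⟨i, a, -, haP, ha0⟩ := exists_homogeneous_smul_mem 𝒜 N.gr (LinearMap.range φ)
      (isHomogeneous_range N.gr EG.gr hφ.grHom) hφ.essential x hx0
    exact (Submodule.ne_bot_iff _).2 ⟨a • x, ⟨Q.smul_mem a hxQ, haP⟩, ha0⟩
  obtain ⟨ψ, hψ⟩ := LC.exists_extension φ hφ.injective E.subtype
  have hψinj : Function.Injective ψ :=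
    LC.isEssentialInj_injective_of_comp hφ' ψ (by rw [hψ]; exact Subtype.val_injective)
  have hψφ : ∀ y : E, ψ (φ y) = (y : I) := fun y => LinearMap.congr_fun hψ y
  let 𝒢' : ι → AddSubgroup I := fun g => (N.gr g).map ψ.toAddMonoidHom
  have h' : IsExt 𝒜 ℳ e 𝒢' := by
    refine ⟨fun s c hc hsum g hg => ?_, ?_, fun g m hm => ⟨φ (f m), hφ.grHom g _ (he𝒢 g m hm), hψφ _⟩, ?_⟩
    · choose! z hz hzc using hc
      have h : ∑ i ∈ s, z i = 0 := hψinj (by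
        rw [map_zero, map_sum, ← hsum]; exact Finset.sum_congr rfl fun i hi => hzc i hi)
      rw [← hzc g hg]
      exact (congrArg ψ (gIndep_of_decomposition N.gr s z hz h g hg)).trans (map_zero ψ)
    · rintro i g a ha _ ⟨n, hn, rfl⟩
      exact ⟨a • n, SetLike.GradedSMul.smul_mem ha hn, map_smul ψ a n⟩
    · rintro g _ ⟨n, hn, rfl⟩ hn0
      have hn1 : n ≠ 0 := fun h => hn0 (by rw [h]; exact map_zero ψ)
      obtain ⟨w, ⟨hw1, y, hy⟩, hw0⟩ := (Submodule.ne_bot_iff _).1 (hφ'.essential (R ∙ n) (by simpa using hn1))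
      obtain ⟨r, rfl⟩ := Submodule.mem_span_singleton.1 hw1
      have hy0 : y ≠ 0 := fun h => hw0 (by rw [← hy, h, map_zero])
      obtain ⟨r', m, hm0, hm⟩ := LC.isEssentialInj_exists (InjHull.IsEssentialInj.mk hfess.injective
        fun Q hQ => by
          obtain ⟨x, hxQ, hx0⟩ := (Submodule.ne_bot_iff _).1 hQ
          obtain ⟨i, a, -, haP, ha0⟩ := exists_homogeneous_smul_mem 𝒜 EG.gr (LinearMap.range f)
            (isHomogeneous_range EG.gr ℳ hfess.grHom) hfess.essential x hx0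
          exact (Submodule.ne_bot_iff _).2 ⟨a • x, ⟨Q.smul_mem a hxQ, haP⟩, ha0⟩) hy0
      have key : (r' * r) • ψ n = e m := by
        rw [mul_smul, ← map_smul ψ r, ← hy, hψφ]
        exact (congrArg Subtype.val hm).symm
      exact ⟨r' * r, m, key, fun h => hm0 (he ((key.symm.trans h).trans (map_zero e).symm))⟩
  have hge : 𝒢 ≤ 𝒢' := fun g x hx =>
    ⟨φ ⟨x, AddSubgroup.mem_iSup_of_mem g hx⟩, hφ.grHom g _ hx, hψφ _⟩
  have hle := h𝒢.le_of_ge h' hge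
  intro n
  rw [← sum_support_decompose N.gr n]
  change _ ∈ LinearMap.range φ
  refine Submodule.sum_mem _ fun g _ => ?_
  have hmem : ψ (decompose N.gr n g : N.carrier) ∈ 𝒢 g := hle g ⟨_, SetLike.coe_mem _, rfl⟩
  exact ⟨⟨_, AddSubgroup.mem_iSup_of_mem g hmem⟩, hψinj (hψφ _)⟩

/-- Uniqueness of *injective hulls. -/
theorem starInjHull_unique {E₁ E₂ : Type u} [AddCommGroup E₁] [Module R E₁] (𝓔₁ : ι → AddSubgroup E₁)
    [Decomposition 𝓔₁] [SetLike.GradedSMul 𝒜 𝓔₁] [AddCommGroup E₂] [Module R E₂] (𝓔₂ : ι → AddSubgroup E₂)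
    [Decomposition 𝓔₂] [SetLike.GradedSMul 𝒜 𝓔₂] {f₁ : M →ₗ[R] E₁} {f₂ : M →ₗ[R] E₂}
    (h₁ : GrLC.IsStarInjHull 𝒜 ℳ 𝓔₁ f₁) (h₂ : GrLC.IsStarInjHull 𝒜 ℳ 𝓔₂ f₂) :
    ∃ β : E₁ ≃ₗ[R] E₂, GrLC.IsGrHom 𝓔₁ 𝓔₂ β.toLinearMap ∧ β.toLinearMap ∘ₗ f₁ = f₂ := by
  obtain ⟨h, hh, hhf⟩ := h₂.starInj (GrLC.GMod.of 𝒜 M ℳ) (GrLC.GMod.of 𝒜 E₁ 𝓔₁) f₁ h₁.grHom h₁.injective f₂ h₂.grHom
  have hid : ∀ m, h (f₁ m) = f₂ m := fun m => LinearMap.congr_fun hhf m
  have hinj : Function.Injective h := by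
    rw [← LinearMap.ker_eq_bot]
    by_contra hne
    refine h₁.essential _ (isHomogeneous_ker 𝓔₁ 𝓔₂ hh) hne (eq_bot_iff.2 ?_)
    rintro _ ⟨hx, m, rfl⟩
    have : m = 0 := h₂.injective ((hid m).symm.trans (hx.trans (map_zero f₂).symm))
    rw [this, map_zero]
    exact zero_mem _
  let h' : E₁ →ₗ[R] (GrLC.GMod.of 𝒜 E₂ 𝓔₂).carrier := h
  have hess : GrLC.IsStarEss 𝓔₁ (GrLC.GMod.of 𝒜 E₂ 𝓔₂).gr h' := by
    refine ⟨hinj, hh, fun P hP hP0 => ?_⟩
    obtain ⟨x, ⟨hxP, m, hm⟩, hx0⟩ := (Submodule.ne_bot_iff _).1 (h₂.essential P hP hP0)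
    exact (Submodule.ne_bot_iff _).2 ⟨x, ⟨hxP, f₁ m, (hid m).trans hm⟩, hx0⟩
  exact ⟨LinearEquiv.ofBijective h ⟨hinj, surjective_of_isStarInj 𝒜 𝓔₁ h₁.starInj _ h' hess⟩, hh, hhf⟩

end Groth.Agent.GrLib8
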