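import Groth.Agent.GrLib8.Res
import Groth.Agent.GrLib8.StarInj

/-!
# Homogeneous maps of arbitrary degree
-/

set_option autoImplicit false
set_option linter.unusedSectionVars false

universe u

open DirectSum

namespace Groth.Agent.GrLib8

variable {ι : Type} [AddCommGroup ι] [DecidableEq ι]
variable {R : Type u} [CommRing R] {σ : Type u} [SetLike σ R] [AddSubgroupClass σ R] {𝒜 : ι → σ} [GradedRing 𝒜]

section

variable {M : Type u} [AddCommGroup M] [Module R M] {τ : Type u} [SetLike τ M] [AddSubgroupClass τ M] {ℳ : ι → τ}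
variable {N : Type u} [AddCommGroup N] [Module R N] {τ' : Type u} [SetLike τ' N] [AddSubgroupClass τ' N] {𝒩 : ι → τ'}
variable {P : Type u} [AddCommGroup P] [Module R P] {τ'' : Type u} [SetLike τ'' P] [AddSubgroupClass τ'' P] {𝒬 : ι → τ''}

omit [DecidableEq ι] in
theorem isGrHomDeg_zero_iff {f : M →ₗ[R] N} : GrLC.IsGrHomDeg ℳ 𝒩 f 0 ↔ GrLC.IsGrHom ℳ 𝒩 f := by
  simp only [GrLC.IsGrHomDeg, GrLC.IsGrHom, add_zero]

omit [DecidableEq ι] in
theorem isGrHomDeg_comp {f : M →ₗ[R] N} {g : N →ₗ[R] P} {d e d' : ι} (hf : GrLC.IsGrHomDeg ℳ 𝒩 f d)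
    (hg : GrLC.IsGrHomDeg 𝒩 𝒬 g e) (h : d + e = d') : GrLC.IsGrHomDeg ℳ 𝒬 (g ∘ₗ f) d' := fun j m hm => by
  rw [← h, ← add_assoc]
  exact hg _ _ (hf j m hm)

omit [DecidableEq ι] in
theorem isGrHomDeg_add {f f' : M →ₗ[R] N} {d : ι} (hf : GrLC.IsGrHomDeg ℳ 𝒩 f d)
    (hf' : GrLC.IsGrHomDeg ℳ 𝒩 f' d) : GrLC.IsGrHomDeg ℳ 𝒩 (f + f') d :=
  fun j m hm => add_mem (hf j m hm) (hf' j m hm)

omit [DecidableEq ι] in
theorem isGrHomDeg_neg {f : M →ₗ[R] N} {d : ι} (hf : GrLC.IsGrHomDeg ℳ 𝒩 f d) : GrLC.IsGrHomDeg ℳ 𝒩 (-f) d :=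
  fun j m hm => neg_mem (hf j m hm)

omit [DecidableEq ι] in
theorem isGrHomDeg_sub {f f' : M →ₗ[R] N} {d : ι} (hf : GrLC.IsGrHomDeg ℳ 𝒩 f d)
    (hf' : GrLC.IsGrHomDeg ℳ 𝒩 f' d) : GrLC.IsGrHomDeg ℳ 𝒩 (f - f') d :=
  fun j m hm => sub_mem (hf j m hm) (hf' j m hm)

theorem isGrHomDeg_smul_id [SetLike.GradedSMul 𝒜 ℳ] {x : R} {d : ι} (hx : x ∈ 𝒜 d) :
    GrLC.IsGrHomDeg ℳ ℳ (x • (LinearMap.id : M →ₗ[R] M)) d := fun j m hm => by
  show x • m ∈ _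
  have h := SetLike.GradedSMul.smul_mem (B := ℳ) hx hm
  rwa [vadd_eq_add, add_comm] at h

variable [Decomposition ℳ] [Decomposition 𝒩]

theorem map_decompose_deg (f : M →ₗ[R] N) {d : ι} (hf : GrLC.IsGrHomDeg ℳ 𝒩 f d) (m : M) (n : ι) :
    f (decompose ℳ m n : M) = (decompose 𝒩 (f m) (n + d) : N) := by
  classical
  induction m using DirectSum.Decomposition.inductionOn ℳ with
  | zero => simp
  | homogeneous t =>
    rename_i i
    rcases eq_or_ne i n with rfl | h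
    · rw [decompose_of_mem_same ℳ t.2, decompose_of_mem_same 𝒩 (hf i t t.2)]
    · rw [decompose_of_mem_ne ℳ t.2 h, decompose_of_mem_ne 𝒩 (hf i t t.2) (fun he => h (add_right_cancel he)),
        map_zero]
  | add x y hx hy =>
    rw [decompose_add, DirectSum.add_apply, AddMemClass.coe_add, map_add, hx, hy, map_add,
      decompose_add, DirectSum.add_apply, AddMemClass.coe_add]

theorem isHomogeneous_ker_deg {f : M →ₗ[R] N} {d : ι} (hf : GrLC.IsGrHomDeg ℳ 𝒩 f d) :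
    (LinearMap.ker f).IsHomogeneous ℳ := fun n m hm => by
  show f (decompose ℳ m n : M) = 0
  rw [map_decompose_deg f hf, LinearMap.mem_ker.1 hm, decompose_zero, DirectSum.zero_apply, ZeroMemClass.coe_zero]

/-- A homogeneous preimage of a homogeneous element. -/
theorem exists_preimage_mem (f : M →ₗ[R] N) {d : ι} (hf : GrLC.IsGrHomDeg ℳ 𝒩 f d) {y : N} {g : ι}
    (hy : y ∈ 𝒩 g) (hr : y ∈ LinearMap.range f) : ∃ m ∈ ℳ (g - d), f m = y := by
  obtain ⟨m, rfl⟩ := hr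
  refine ⟨_, SetLike.coe_mem (decompose ℳ m (g - d)), ?_⟩
  rw [map_decompose_deg f hf, sub_add_cancel, decompose_of_mem_same 𝒩 hy]

end

/-- Extension of a homogeneous map of degree `b` along an injective one of degree `a`. -/
theorem extend_deg {A B I : GrLC.GMod.{u} 𝒜} (hI : GrLC.IsStarInj 𝒜 I.gr) {f : A.carrier →ₗ[R] B.carrier} {a b c : ι}
    (hf : GrLC.IsGrHomDeg A.gr B.gr f a) (hinj : Function.Injective f) {g : A.carrier →ₗ[R] I.carrier}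
    (hg : GrLC.IsGrHomDeg A.gr I.gr g b) (hc : a + c = b) :
    ∃ h : B.carrier →ₗ[R] I.carrier, GrLC.IsGrHomDeg B.gr I.gr h c ∧ h ∘ₗ f = g := by
  let A' := shiftGMod 𝒜 A.gr (-b)
  let B' := shiftGMod 𝒜 B.gr (-c)
  have hf' : GrLC.IsGrHom A'.gr B'.gr (f : A'.carrier →ₗ[R] B'.carrier) := fun j m hm => by
    have h := hf (j + -b) m hm
    rw [← hc, neg_add_rev, ← add_assoc, neg_add_cancel_right] at h
    exact h
  have hg' : GrLC.IsGrHom A'.gr I.gr (g : A'.carrier →ₗ[R] I.carrier) := fun j m hm => by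
    have h := hg (j + -b) m hm
    rwa [neg_add_cancel_right] at h
  obtain ⟨h, hh, hhf⟩ := hI A' B' f hf' hinj g hg'
  refine ⟨h, fun j m hm => hh (j + c) m ?_, hhf⟩
  show m ∈ B.gr (j + c + -c)
  rwa [add_neg_cancel_right]

/-- A homogeneous map killing the kernel of another factors through it. -/
theorem factor_deg {A B I : GrLC.GMod.{u} 𝒜} (hI : GrLC.IsStarInj 𝒜 I.gr) {δ : A.carrier →ₗ[R] B.carrier} {a b c : ι}
    (hδ : GrLC.IsGrHomDeg A.gr B.gr δ a) {φ : A.carrier →ₗ[R] I.carrier}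
    (hφ : GrLC.IsGrHomDeg A.gr I.gr φ b) (hker : LinearMap.ker δ ≤ LinearMap.ker φ) (hc : a + c = b) :
    ∃ ψ : B.carrier →ₗ[R] I.carrier, GrLC.IsGrHomDeg B.gr I.gr ψ c ∧ ψ ∘ₗ δ = φ := by
  let K := LinearMap.ker δ
  let Q := quotGMod 𝒜 A.gr K (isHomogeneous_ker_deg hδ)
  let δ' : Q.carrier →ₗ[R] B.carrier := K.liftQ δ le_rfl
  let φ' : Q.carrier →ₗ[R] I.carrier := K.liftQ φ hker
  have hinj : Function.Injective δ' := LinearMap.ker_eq_bot.1 (Submodule.ker_liftQ_eq_bot K δ le_rfl le_rfl)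
  obtain ⟨ψ, hψ, hψδ⟩ := extend_deg hI (A := Q) (f := δ') (a := a) (g := φ') (b := b)
    (fun j z hz => by obtain ⟨x, hx, rfl⟩ := hz; exact hδ j x hx) hinj
    (fun j z hz => by obtain ⟨x, hx, rfl⟩ := hz; exact hφ j x hx) hc
  exact ⟨ψ, hψ, LinearMap.ext fun x => LinearMap.congr_fun hψδ (Submodule.Quotient.mk x)⟩

theorem isStarInj_shift (X : GrLC.GMod.{u} 𝒜) (hX : GrLC.IsStarInj 𝒜 X.gr) (d : ι) :
    GrLC.IsStarInj 𝒜 (shiftGMod 𝒜 X.gr d).gr := by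
  intro A B f hf hinj g hg
  obtain ⟨h, hh, hhf⟩ := extend_deg hX (A := A) (B := B) (f := f) (a := 0) (isGrHomDeg_zero_iff.2 hf) hinj
    (g := g) (b := d) (fun j m hm => hg j m hm) (zero_add d)
  exact ⟨h, fun j m hm => hh j m hm, hhf⟩

theorem isStarInj_prod (X Y : GrLC.GMod.{u} 𝒜) (hX : GrLC.IsStarInj 𝒜 X.gr) (hY : GrLC.IsStarInj 𝒜 Y.gr) :
    GrLC.IsStarInj 𝒜 (prodGMod 𝒜 X.gr Y.gr).gr := by
  intro A B f hf hinj g hg
  let g' : A.carrier →ₗ[R] X.carrier × Y.carrier := g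
  obtain ⟨h1, hh1, e1⟩ := hX A B f hf hinj (LinearMap.fst R X.carrier Y.carrier ∘ₗ g') fun j m hm => (hg j m hm).1
  obtain ⟨h2, hh2, e2⟩ := hY A B f hf hinj (LinearMap.snd R X.carrier Y.carrier ∘ₗ g') fun j m hm => (hg j m hm).2
  refine ⟨LinearMap.prod h1 h2, fun j m hm => ⟨hh1 j m hm, hh2 j m hm⟩, LinearMap.ext fun a => ?_⟩
  exact Prod.ext (LinearMap.congr_fun e1 a) (LinearMap.congr_fun e2 a)

end Groth.Agent.GrLib8
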