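import Groth.Agent.GrLib8.CanonLocal
import Groth.Agent.GrLib8.CanonDual
import Groth.Agent.GrLib8.FilterInj
import Groth.Agent.GrLib8.Indec
import Groth.Agent.LC.CanonBasic

/-!
# Growth of the *canonical module of a standard graded ring
-/

set_option autoImplicit false
set_option linter.unusedSectionVars false
set_option linter.style.haveILetI false
set_option maxHeartbeats 1600000

universe u

open DirectSum IsLocalRing

namespace Groth.Agent.GrLib8.Canon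

theorem isHomogeneous_ann_smul {R : Type u} [CommRing R] {σ : Type u} [SetLike σ R] [AddSubgroupClass σ R]
    {𝒜 : ℤ → σ} [GradedRing 𝒜] {C : Type u} [AddCommGroup C] [Module R C] (𝒞 : ℤ → AddSubgroup C) [Decomposition 𝒞]
    [SetLike.GradedSMul 𝒜 𝒞] {g₀ : ℤ} {c : C} (hc : c ∈ 𝒞 g₀) : ((R ∙ c).annihilator).IsHomogeneous 𝒜 := by
  intro i r hr
  rw [Submodule.mem_annihilator_span_singleton] at hr ⊢
  have h := decompose_smul_of_mem 𝒜 𝒞 hc r (i + g₀)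
  rw [add_sub_cancel_right, hr, decompose_zero, DirectSum.zero_apply, ZeroMemClass.coe_zero] at h
  exact h.symm

section Gen

variable {R : Type u} [CommRing R] [LocCoh.IsCohenMacaulayRing R] {σ : Type u} [SetLike σ R] [AddSubgroupClass σ R]
  {𝒜 : ℤ → σ} [GradedRing 𝒜]
variable {m : HomogeneousIdeal 𝒜} [m.toIdeal.IsMaximal]
variable {n : ℕ} {I : GrLC.StarInjRes 𝒜 𝒜}
variable {E' : Type u} [AddCommGroup E'] [Module R E'] {𝓔 : ℤ → AddSubgroup E'} [Decomposition 𝓔]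
  [SetLike.GradedSMul 𝒜 𝓔] {e : (R ⧸ m.toIdeal) →ₗ[R] E'}
variable {C : Type u} [AddCommGroup C] [Module R C] {𝒞 : ℤ → AddSubgroup C} [Decomposition 𝒞]
  [SetLike.GradedSMul 𝒜 𝒞]

/-- A cyclic submodule of the *canonical module of a standard graded ring is not cut to a point by one form. -/
theorem not_isMaximal_cut' (hm : GrLC.IsStarLocal 𝒜 m) (hd : ringKrullDim (Localization.AtPrime m.toIdeal) = n)
    (h2 : 2 ≤ n) (he : GrLC.IsStarInjHull 𝒜 (GrLC.quotGr 𝒜 m) 𝓔 e) (hC : GrLC.IsStarCanonical 𝒜 𝒞 𝓔 m n I)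
    {g : ℤ} {c : C} (hc : c ∈ 𝒞 g) (hc0 : c ≠ 0) (u : R) (hum : u ∈ m.toIdeal) :
    ¬ m.toIdeal ≤ ((R ∙ c).annihilator ⊔ Ideal.span {u}).radical := by
  classical
  intro hle
  let A := Localization.AtPrime m.toIdeal
  let S := m.toIdeal.primeCompl
  haveI : IsNoetherianRing A := IsLocalization.isNoetherianRing S A inferInstance
  obtain ⟨E, _, _, f, eK, hf⟩ := exists_local he hC
  let z := LocalizedModule.mkLinearMap S C c
  have hz : z ≠ 0 := by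
    intro h
    obtain ⟨⟨s, hs⟩, hsc⟩ := (IsLocalizedModule.eq_zero_iff S (LocalizedModule.mkLinearMap S C)).1 h
    let J : HomogeneousIdeal 𝒜 := ⟨(R ∙ c).annihilator, isHomogeneous_ann_smul (𝒜 := 𝒜) 𝒞 hc⟩
    by_cases hJ : J = ⊤
    · have h1 : (1 : R) ∈ J.toIdeal := by rw [hJ]; trivial
      exact hc0 (by simpa using (Submodule.mem_annihilator_span_singleton c (1 : R)).1 h1)
    · exact hs ((le_starLocal hm hJ) ((Submodule.mem_annihilator_span_singleton c s).2 hsc))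
  obtain ⟨P, hP, hPz⟩ := exists_le_isAssociatedPrime_of_isNoetherianRing A z hz
  haveI := hP.isPrime
  have hPdim : ringKrullDim (A ⧸ P) = n := by
    have h := (LC.Canon.associatedPrimes_dual hd hf eK (by omega)).subset ((AssociatedPrimes.mem_iff).2 hP)
    exact h.2
  let B := A ⧸ P
  haveI : Nontrivial B := Ideal.Quotient.nontrivial_iff.2 hP.isPrime.ne_top
  haveI : IsLocalRing B := IsLocalRing.of_surjective' _ Ideal.Quotient.mk_surjective
  let π : R →+* B := (Ideal.Quotient.mk P).comp (algebraMap R A)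
  have hann : ∀ r ∈ (R ∙ c).annihilator, π r = 0 := fun r hr => by
    refine Ideal.Quotient.eq_zero_iff_mem.2 (hPz ?_)
    rw [Submodule.mem_colon_singleton, Submodule.mem_bot, algebraMap_smul, ← map_smul,
      (Submodule.mem_annihilator_span_singleton c r).1 hr, map_zero]
  have hmax : maximalIdeal B = m.toIdeal.map π := by
    rw [← Ideal.map_map, Localization.AtPrime.map_eq_maximalIdeal,
      IsLocalRing.map_maximalIdeal_of_surjective _ Ideal.Quotient.mk_surjective]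
  have hmin : maximalIdeal B ∈ (Ideal.span {π u}).minimalPrimes := by
    refine ⟨⟨inferInstance, ?_⟩, fun Q ⟨hQ, hQu⟩ _ => ?_⟩
    · rw [Ideal.span_le, Set.singleton_subset_iff, hmax]
      exact Ideal.mem_map_of_mem π hum
    · rw [hmax, Ideal.map_le_iff_le_comap]
      refine hle.trans ?_
      haveI := hQ
      rw [(Ideal.IsPrime.comap π).radical_le_iff, sup_le_iff, Ideal.span_le, Set.singleton_subset_iff]
      exact ⟨fun r hr => Ideal.mem_comap.2 (by rw [hann r hr]; exact zero_mem _),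
        hQu (Ideal.mem_span_singleton_self _)⟩
  have h1 := Ideal.height_le_one_of_isPrincipal_of_mem_minimalPrimes_of_isLocalRing (Ideal.span {π u}) hmin
  have h3 := IsLocalRing.maximalIdeal_height_eq_ringKrullDim (R := B)
  rw [show ringKrullDim B = (n : WithBot ℕ∞) from hPdim] at h3
  have h4 : (n : ℕ∞) ≤ 1 := (WithBot.coe_injective h3).symm.trans_le h1
  have : n ≤ 1 := by exact_mod_cast h4
  omega

theorem exists_ne_zero_piece' (hp : ∀ g < 0, ∀ r ∈ 𝒜 g, r = 0) (h0 : IsField (GrLC.deg0 𝒜))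
    (hmsp : m.toIdeal = Ideal.span (⋃ g ∈ Set.Ioi (0 : ℤ), (𝒜 g : Set R)))
    (he : GrLC.IsStarInjHull 𝒜 (GrLC.quotGr 𝒜 m) 𝓔 e) (hC : GrLC.IsStarCanonical 𝒜 𝒞 𝓔 m n I)
    (a : ℤ) (ha : GrLC.endDeg (I.Hgr m n) = ((a : WithTop ℤ) : WithBot (WithTop ℤ))) :
    ∃ c ∈ 𝒞 (-a), c ≠ 0 := by
  classical
  haveI := hC.1
  by_contra hcon
  push Not at hcon
  have hle : GrLC.endDeg (I.Hgr m n) ≤ (((a - 1 : ℤ) : WithTop ℤ) : WithBot (WithTop ℤ)) := by
    refine (endDeg_le_iff _ _).2 fun g hg => ?_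
    rcases eq_or_lt_of_le (show a ≤ g by omega) with rfl | hlt
    · rw [Hgr_eq_bot_iff]
      obtain ⟨E₂⟩ := exists_comp_dual hp hmsp h0 he hC
        (isInjectiveHull_of_isStarInjHull_maximal m 𝓔 e he).isInjective a
      refine (Submodule.eq_bot_iff _).2 fun y hy => ?_
      have h1 : E₂ ⟨y, hy⟩ = 0 := LinearMap.ext fun c => by
        rw [show c = 0 from Subtype.ext (hcon _ c.2), map_zero, map_zero]
      exact congrArg Subtype.val (E₂.map_eq_zero_iff.1 h1)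
    · exact ((endDeg_le_iff _ a).1 ha.le) g hlt
  rw [ha] at hle
  have := WithTop.coe_le_coe.1 (WithBot.coe_le_coe.1 hle)
  omega

/-- Above its bottom the *canonical module has pieces of dimension at least two. -/
theorem two_le_finrank' (hp : ∀ g < 0, ∀ r ∈ 𝒜 g, r = 0) (h0 : IsField (GrLC.deg0 𝒜)) (hm : GrLC.IsStarLocal 𝒜 m)
    (hmsp : m.toIdeal = Ideal.span (⋃ g ∈ Set.Ioi (0 : ℤ), (𝒜 g : Set R)))
    (hstd : Ideal.span (⋃ g ∈ Set.Ioi (0 : ℤ), (𝒜 g : Set R)) = Ideal.span ((𝒜 1 : σ) : Set R))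
    (hd : ringKrullDim (Localization.AtPrime m.toIdeal) = n) (h2 : 2 ≤ n)
    (he : GrLC.IsStarInjHull 𝒜 (GrLC.quotGr 𝒜 m) 𝓔 e) (hC : GrLC.IsStarCanonical 𝒜 𝒞 𝓔 m n I)
    (a : ℤ) (ha : GrLC.endDeg (I.Hgr m n) = ((a : WithTop ℤ) : WithBot (WithTop ℤ))) (j : ℤ) (hj : -a < j) :
    2 ≤ Module.finrank (GrLC.deg0 𝒜) (GrLC.comp 𝒜 𝒞 j) := by
  classical
  letI := h0.toField
  haveI := hC.1
  haveI : Module.Finite (GrLC.deg0 𝒜) (GrLC.comp 𝒜 𝒞 j) := finite_comp 𝒜 hp 𝒞 j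
  obtain ⟨c, hc, hc0⟩ := exists_ne_zero_piece' hp h0 hmsp he hC a ha
  by_contra hlt
  obtain ⟨w, hw⟩ := finrank_le_one_iff.1 (show Module.finrank (GrLC.deg0 𝒜) (GrLC.comp 𝒜 𝒞 j) ≤ 1 by omega)
  obtain ⟨i, hi, rfl⟩ : ∃ i : ℕ, 0 < i ∧ j = (i : ℤ) + -a := ⟨(j + a).toNat, by omega, by omega⟩
  have hsmul : ∀ r ∈ 𝒜 (i : ℤ), r • c ∈ 𝒞 ((i : ℤ) + -a) := fun r hr => by
    have := SetLike.GradedSMul.smul_mem (B := 𝒞) hr hc
    rwa [vadd_eq_add] at this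
  have him : ∀ r ∈ 𝒜 (i : ℤ), r ∈ m.toIdeal := fun r hr => hmsp.ge
    (Ideal.subset_span (Set.mem_biUnion (Set.mem_Ioi.2 (by exact_mod_cast hi)) hr))
  obtain ⟨u, hum, hu⟩ : ∃ u ∈ m.toIdeal, ∀ r ∈ 𝒜 (i : ℤ), r ∈ (R ∙ c).annihilator ⊔ Ideal.span {u} := by
    by_cases hall : ∀ r ∈ 𝒜 (i : ℤ), r • c = 0
    · exact ⟨0, zero_mem _, fun r hr => Ideal.mem_sup_left ((Submodule.mem_annihilator_span_singleton c r).2 (hall r hr))⟩
    · push Not at hall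
      obtain ⟨u, hu, hu0⟩ := hall
      refine ⟨u, him u hu, fun r hr => ?_⟩
      obtain ⟨α, hα⟩ := hw ⟨u • c, hsmul u hu⟩
      obtain ⟨β, hβ⟩ := hw ⟨r • c, hsmul r hr⟩
      have hα0 : α ≠ 0 := fun h => hu0 (by
        rw [h, zero_smul] at hα
        exact (congrArg Subtype.val hα).symm)
      have h : (β * α⁻¹) • (⟨u • c, hsmul u hu⟩ : GrLC.comp 𝒜 𝒞 ((i : ℤ) + -a)) = ⟨r • c, hsmul r hr⟩ := by
        rw [← hα, smul_smul, mul_assoc, inv_mul_cancel₀ hα0, mul_one, hβ]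
      have h' : ((β * α⁻¹ : GrLC.deg0 𝒜) : R) • u • c = r • c := congrArg Subtype.val h
      rw [smul_smul, ← sub_eq_zero, ← sub_smul] at h'
      have hann : ((β * α⁻¹ : GrLC.deg0 𝒜) : R) * u - r ∈ (R ∙ c).annihilator :=
        (Submodule.mem_annihilator_span_singleton c _).2 h'
      have := sub_mem (Ideal.mem_sup_right (S := (R ∙ c).annihilator)
        (Ideal.mul_mem_left (Ideal.span {u}) ((β * α⁻¹ : GrLC.deg0 𝒜) : R) (Ideal.mem_span_singleton_self u)))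
        (Ideal.mem_sup_left (T := Ideal.span {u}) hann)
      rwa [sub_sub_cancel] at this
  refine not_isMaximal_cut' hm hd h2 he hC hc hc0 u hum ?_
  rw [hmsp, hstd, Ideal.span_le]
  intro x hx
  refine ⟨i, hu _ ?_⟩
  simpa using SetLike.pow_mem_graded (A := 𝒜) i hx

end Gen

section Wrap

variable {R : Type u} [CommRing R] [LocCoh.IsCohenMacaulayRing R] {𝒜 : ℤ → AddSubgroup R} [GradedRing 𝒜]
variable {m : HomogeneousIdeal 𝒜} [m.toIdeal.IsMaximal]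
variable {n : ℕ} {I : GrLC.StarInjRes 𝒜 𝒜}
variable {E' : Type u} [AddCommGroup E'] [Module R E'] {𝓔 : ℤ → AddSubgroup E'} [Decomposition 𝓔]
  [SetLike.GradedSMul 𝒜 𝓔] {e : (R ⧸ m.toIdeal) →ₗ[R] E'}
variable {C : Type u} [AddCommGroup C] [Module R C] {𝒞 : ℤ → AddSubgroup C} [Decomposition 𝒞]
  [SetLike.GradedSMul 𝒜 𝒞]

/-- A cyclic submodule of the *canonical module of a standard graded ring is not cut to a point by one form. -/
theorem not_isMaximal_cut (hpos : ∀ g : ℤ, g < 0 → 𝒜 g = ⊥) (hm : GrLC.IsStarLocal 𝒜 m) (hn : ringKrullDim R = n)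
    (h2 : 2 ≤ n) (he : GrLC.IsStarInjHull 𝒜 (GrLC.quotGr 𝒜 m) 𝓔 e) (hC : GrLC.IsStarCanonical 𝒜 𝒞 𝓔 m n I)
    {g : ℤ} {c : C} (hc : c ∈ 𝒞 g) (hc0 : c ≠ 0) (u : R) (hum : u ∈ m.toIdeal) :
    ¬ m.toIdeal ≤ ((R ∙ c).annihilator ⊔ Ideal.span {u}).radical :=
  not_isMaximal_cut' hm (ringKrullDim_atPrime hpos hm hn) h2 he hC hc hc0 u hum

theorem exists_ne_zero_piece (hpos : ∀ g : ℤ, g < 0 → 𝒜 g = ⊥) (h0 : IsField (GrLC.deg0 𝒜))
    (hmsp : m.toIdeal = Ideal.span (⋃ g ∈ Set.Ioi (0 : ℤ), (𝒜 g : Set R)))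
    (he : GrLC.IsStarInjHull 𝒜 (GrLC.quotGr 𝒜 m) 𝓔 e) (hC : GrLC.IsStarCanonical 𝒜 𝒞 𝓔 m n I)
    (a : ℤ) (ha : GrLC.endDeg (I.Hgr m n) = ((a : WithTop ℤ) : WithBot (WithTop ℤ))) :
    ∃ c ∈ 𝒞 (-a), c ≠ 0 :=
  exists_ne_zero_piece' (nonneg_of_bot hpos) h0 hmsp he hC a ha

/-- Above its bottom the *canonical module has pieces of dimension at least two. -/
theorem two_le_finrank (hpos : ∀ g : ℤ, g < 0 → 𝒜 g = ⊥) (h0 : IsField (GrLC.deg0 𝒜)) (hm : GrLC.IsStarLocal 𝒜 m)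
    (hmsp : m.toIdeal = Ideal.span (⋃ g ∈ Set.Ioi (0 : ℤ), (𝒜 g : Set R)))
    (hstd : Ideal.span (⋃ g ∈ Set.Ioi (0 : ℤ), (𝒜 g : Set R)) = Ideal.span ((𝒜 1 : AddSubgroup R) : Set R))
    (hn : ringKrullDim R = n) (h2 : 2 ≤ n)
    (he : GrLC.IsStarInjHull 𝒜 (GrLC.quotGr 𝒜 m) 𝓔 e) (hC : GrLC.IsStarCanonical 𝒜 𝒞 𝓔 m n I)
    (a : ℤ) (ha : GrLC.endDeg (I.Hgr m n) = ((a : WithTop ℤ) : WithBot (WithTop ℤ))) (j : ℤ) (hj : -a < j) :
    2 ≤ Module.finrank (GrLC.deg0 𝒜) (GrLC.comp 𝒜 𝒞 j) :=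
  two_le_finrank' (nonneg_of_bot hpos) h0 hm hmsp hstd (ringKrullDim_atPrime hpos hm hn) h2 he hC a ha j hj

end Wrap

end Groth.Agent.GrLib8.Canon
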