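import Groth.Agent.LC.CanonIdeal

/-!
# The ideal of a canonical module of a Cohen-Macaulay domain is unmixed of height one
-/

set_option autoImplicit false
set_option linter.unusedSectionVars false
set_option linter.style.haveILetI false
set_option maxHeartbeats 800000

universe u

open IsLocalRing CategoryTheory RingTheory.Sequence

namespace Groth.Agent.GrLib8.CanonHeight

open Groth.Agent.LC Groth.Agent.LC.Canon

variable {R : Type u} [CommRing R] [IsDomain R] [LocCoh.IsCohenMacaulayLocalRing R] {n : ℕ}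
variable (hn : ringKrullDim R = n)
variable {E : Type u} [AddCommGroup E] [Module R E] {f : ResidueField R →ₗ[R] E} (hf : InjHull.IsInjectiveHull f)
variable {K : Type u} [AddCommGroup K] [Module R K] [Module.Finite R K]
variable (eK : (K →ₗ[R] E) ≃ₗ[R] (localCohomology (maximalIdeal R) n).obj (ModuleCat.of R R))

include hn hf eK

/-- Associated primes of `R / J` have height one, `J` the ideal of a canonical module. -/
theorem height_eq_one_of_mem_ass {J : Ideal R} (θ : K ≃ₗ[R] J) (hJ0 : J ≠ ⊥) (P : Ideal R)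
    (hP : P ∈ associatedPrimes R (R ⧸ J)) : P.height = 1 := by
  classical
  haveI := hP.isPrime
  obtain ⟨-, w, hw⟩ := Alg6.mem_ass_iff.1 hP
  obtain ⟨w, rfl⟩ := Submodule.Quotient.mk_surjective _ w
  have hJP : J ≤ P := fun x hx => (hw x).2 (by
    rw [← Submodule.Quotient.mk_smul, Submodule.Quotient.mk_eq_zero]
    exact J.mul_mem_right w hx)
  have h1 : 1 ≤ P.height := by
    rw [ENat.one_le_iff_ne_zero]
    intro h0
    have hPb : P ≠ ⊥ := fun h => hJ0 (le_bot_iff.1 (h ▸ hJP))
    have h2 := Ideal.height_strict_mono_of_isPrime (I := (⊥ : Ideal R)) (J := P) (bot_lt_iff_ne_bot.2 hPb)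
    rw [Ideal.height_bot, h0] at h2
    exact lt_irrefl _ h2
  refine le_antisymm ?_ h1
  by_contra hgt
  have hht : (2 : ℕ∞) ≤ P.height := by
    rw [show (2 : ℕ∞) = 1 + 1 from rfl]
    exact ENat.add_one_le_iff ENat.one_ne_top |>.2 (not_le.1 hgt)
  -- depth of `K` at `P` is at least two
  let A := Localization.AtPrime P
  haveI : IsNoetherianRing A := IsLocalization.isNoetherianRing P.primeCompl A inferInstance
  let KP := LocalizedModule P.primeCompl K
  haveI : Module.Finite A KP := Module.Finite.of_isLocalizedModule P.primeCompl (LocalizedModule.mkLinearMap _ K)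
  obtain ⟨z, hz⟩ := by haveI := nontrivial_dual hn hf eK; exact exists_ne (0 : K)
  have hsd : ringKrullDim A ≤ Module.supportDim A KP := by
    rw [← Module.supportDim_self_eq_ringKrullDim]
    refine Module.supportDim_le_of_injective (LinearMap.toSpanSingleton A KP (LocalizedModule.mkLinearMap _ K z)) ?_
    rw [injective_iff_map_eq_zero]
    intro a ha
    obtain ⟨⟨r, s⟩, hrs⟩ := IsLocalization.surj P.primeCompl a
    have h1 : LocalizedModule.mkLinearMap P.primeCompl K (r • z) = 0 := by
      rw [map_smul, ← algebraMap_smul A r, ← hrs, mul_comm, mul_smul]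
      exact (congrArg _ ha).trans (smul_zero _)
    obtain ⟨c, hc⟩ := (IsLocalizedModule.eq_zero_iff P.primeCompl _).1 h1
    have hc0 : (c : R) ≠ 0 := fun h => c.2 (h ▸ P.zero_mem)
    have hrz : r • z = 0 := (isSMulRegular_of_ne_zero hn hf eK hc0).right_eq_zero_of_smul hc
    have hr : r = 0 := by
      by_contra hr0
      exact hz ((isSMulRegular_of_ne_zero hn hf eK hr0).right_eq_zero_of_smul hrz)
    rw [hr, map_zero] at hrs
    exact (IsLocalization.map_units A s).mul_left_eq_zero.1 hrs
  have hdepth : (2 : ℕ∞) ≤ LocCoh.depth A KP := by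
    have h := hasSk_two hn hf eK P
    rw [min_eq_left ((show ((2 : ℕ) : WithBot ℕ∞) ≤ ringKrullDim A by
      rw [IsLocalization.AtPrime.ringKrullDim_eq_height P A]; exact WithBot.coe_le_coe.2 hht).trans hsd)] at h
    exact WithBot.coe_le_coe.1 h
  obtain ⟨a, haJ, ha0⟩ := Submodule.exists_mem_ne_zero_of_ne_bot hJ0
  have haP : a ∈ P := hJP haJ
  have hreg := isSMulRegular_of_ne_zero hn hf eK ha0
  have h1 := depth_localized_quot_add_one K P haP hreg
  refine (Alg6.one_le_depth_atPrime_iff (M := QuotSMulTop a K) P).1 ?_ ?_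
  · refine (ENat.add_le_add_iff_right ENat.one_ne_top).1 ?_
    rw [h1]
    exact hdepth
  have key : ∀ r : R, r * w ∈ J ↔ r ∈ P := fun r => by
    rw [hw r, ← Submodule.Quotient.mk_smul, Submodule.Quotient.mk_eq_zero]; rfl
  let y : J := ⟨a * w, by rw [key]; exact haP⟩
  refine Alg6.mem_ass_iff.2 ⟨inferInstance, Submodule.Quotient.mk (θ.symm y), fun r => ?_⟩
  rw [← key, ← Submodule.Quotient.mk_smul, Groth.Agent.Alg6.mem_pointwise_smul_top_iff]
  constructor
  · intro hr
    refine ⟨θ.symm ⟨r * w, hr⟩, ?_⟩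
    rw [← map_smul, ← map_smul]
    exact congrArg _ (Subtype.ext (show a * (r * w) = r * (a * w) by ring))
  · rintro ⟨v, hv⟩
    have h2 : a * (θ v : R) = r * (a * w) := by
      have h3 := congrArg (fun t => (θ t : R)) hv
      simpa [y] using h3
    rw [mul_left_comm] at h2
    rw [← mul_left_cancel₀ ha0 h2]
    exact (θ v).2

end Groth.Agent.GrLib8.CanonHeight
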