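import Groth.Agent.GrLib8.CanonExist

/-!
# *Canonical modules as degreewise duals: the pairing, and uniqueness
-/

set_option autoImplicit false
set_option linter.unusedSectionVars false
set_option linter.style.haveILetI false
set_option maxHeartbeats 1600000

universe u v

open DirectSum

namespace Groth.Agent.GrLib8.Canon

section Pair

variable {R : Type u} [CommRing R] {σ : Type u} [SetLike σ R] [AddSubgroupClass σ R] (𝒜 : ℤ → σ) [GradedRing 𝒜]
variable {C : Type u} [AddCommGroup C] [Module R C] (𝒞 : ℤ → AddSubgroup C)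
variable {H : Type u} [AddCommGroup H] [Module R H] (ℋ : ℤ → AddSubgroup H)

/-- A degreewise perfect pairing with values in the scalars. -/
structure GPair (B : C →+ H →+ GrLC.deg0 𝒜) : Prop where
  smul : ∀ (r : R) (c : C) (y : H), B (r • c) y = B c (r • y)
  scal : ∀ (a : GrLC.deg0 𝒜) (c : C) (y : H), B c ((a : R) • y) = a * B c y
  vanish : ∀ n, ∀ c ∈ 𝒞 n, ∀ d, d ≠ -n → ∀ y ∈ ℋ d, B c y = 0
  eq_zero : ∀ n, ∀ c ∈ 𝒞 n, (∀ y ∈ ℋ (-n), B c y = 0) → c = 0
  exists_eq : ∀ (n : ℤ) (g : H → GrLC.deg0 𝒜), (∀ y ∈ ℋ (-n), ∀ y' ∈ ℋ (-n), g (y + y') = g y + g y') →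
    (∀ (a : GrLC.deg0 𝒜), ∀ y ∈ ℋ (-n), g ((a : R) • y) = a * g y) → ∃ c ∈ 𝒞 n, ∀ y ∈ ℋ (-n), B c y = g y

end Pair

section Semilinear

variable {R R' : Type u} [CommRing R] [CommRing R'] {σ σ' : Type u} [SetLike σ R] [AddSubgroupClass σ R]
  [SetLike σ' R'] [AddSubgroupClass σ' R'] {𝒜 : ℤ → σ} [GradedRing 𝒜] {𝒜' : ℤ → σ'} [GradedRing 𝒜']
variable {C : Type u} [AddCommGroup C] [Module R C] {𝒞 : ℤ → AddSubgroup C} [Decomposition 𝒞]
  [SetLike.GradedSMul 𝒜 𝒞]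
variable {C' : Type u} [AddCommGroup C'] [Module R' C'] {𝒞' : ℤ → AddSubgroup C'} [Decomposition 𝒞']
  [SetLike.GradedSMul 𝒜' 𝒞']
variable {H : Type u} [AddCommGroup H] [Module R H] {ℋ : ℤ → AddSubgroup H} [Decomposition ℋ]
  {H' : Type u} [AddCommGroup H'] [Module R' H'] {ℋ' : ℤ → AddSubgroup H'} [Decomposition ℋ']
variable {B : C →+ H →+ GrLC.deg0 𝒜} (P : GPair 𝒜 𝒞 ℋ B) {B' : C' →+ H' →+ GrLC.deg0 𝒜'}
  (P' : GPair 𝒜' 𝒞' ℋ' B')
variable (φ : R' →+* R) {q : ℤ} (hq : q ≠ 0) (hφdeg : ∀ i, ∀ r ∈ 𝒜' i, φ r ∈ 𝒜 (i * q))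
  (e : GrLC.deg0 𝒜' ≃+* GrLC.deg0 𝒜) (he : ∀ a, (e a : R) = φ (a : R'))
  (ι : H' →+ H) (hι : Function.Injective ι) (hιs : ∀ (r : R') x, ι (r • x) = φ r • ι x)
  (hιg : ∀ j, (ℋ' j).map ι = ℋ (j * q))
  (hH' : ∀ i j, ∀ r ∈ 𝒜' i, ∀ y ∈ ℋ' j, r • y ∈ ℋ' (i + j))

include P P' hq hφdeg he hι hιs hιg hH' in
/-- Degreewise duals are functorial along a degree-scaling semilinear bijection of the pieces. -/
theorem exists_semilinear : ∃ g : C' →ₛₗ[φ] C, Function.Injective g ∧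
    ∀ j : ℤ, (𝒞' j).map (g : C' →+ C) = 𝒞 (j * q) := by
  classical
  have hmem : ∀ j, ∀ y' ∈ ℋ' j, ι y' ∈ ℋ (j * q) := fun j y' hy' => (hιg j).le ⟨y', hy', rfl⟩
  have hpre : ∀ j, ∀ y ∈ ℋ (j * q), ∃ y' ∈ ℋ' j, ι y' = y := fun j y hy => (hιg j).ge hy
  have huniq : ∀ (j : ℤ), ∀ c ∈ 𝒞 (j * q), ∀ d ∈ 𝒞 (j * q),
      (∀ y' ∈ ℋ' (-j), B c (ι y') = B d (ι y')) → c = d := by
    intro j c hc d hd h
    refine sub_eq_zero.1 (P.eq_zero (j * q) _ (sub_mem hc hd) fun y hy => ?_)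
    obtain ⟨y', hy', rfl⟩ := hpre (-j) y (by rwa [neg_mul])
    rw [map_sub, AddMonoidHom.sub_apply, h y' hy', sub_self]
  have hex : ∀ (j : ℤ) (c' : C'), ∃ c ∈ 𝒞 (j * q), ∀ y' ∈ ℋ' (-j), B c (ι y') = e (B' c' y') := by
    intro j c'
    choose f hf hfe using hpre (-j)
    let g : H → GrLC.deg0 𝒜 := fun y => if hy : y ∈ ℋ (-j * q) then e (B' c' (f y hy)) else 0
    have hg : ∀ y (hy : y ∈ ℋ (-(j * q))), ∀ y' ∈ ℋ' (-j), ι y' = y → g y = e (B' c' y') := by
      intro y hy y' _ h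
      simp only [g]
      rw [dif_pos (by rwa [neg_mul])]
      exact congrArg (fun z => e (B' c' z)) (hι ((hfe y _).trans h.symm))
    obtain ⟨c, hc, hcv⟩ := P.exists_eq (j * q) g (fun y hy y₂ hy₂ => by
        obtain ⟨y', hy', rfl⟩ := hpre (-j) y (by rwa [neg_mul])
        obtain ⟨y₂', hy₂', rfl⟩ := hpre (-j) y₂ (by rwa [neg_mul])
        rw [hg _ hy y' hy' rfl, hg _ hy₂ y₂' hy₂' rfl,
          hg _ (add_mem hy hy₂) (y' + y₂') (add_mem hy' hy₂') (map_add ι _ _), map_add, map_add])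
      (fun a y hy => by
        obtain ⟨y', hy', rfl⟩ := hpre (-j) y (by rwa [neg_mul])
        obtain ⟨a', rfl⟩ := e.surjective a
        have h1 : (e a' : R) • ι y' = ι ((a' : R') • y') := by rw [hιs, he]
        have h2 : (a' : R') • y' ∈ ℋ' (-j) := by simpa using hH' 0 (-j) _ a'.2 y' hy'
        have h3 : (e a' : R) • ι y' ∈ ℋ (-(j * q)) := by
          rw [h1, ← neg_mul]; exact hmem _ _ h2
        rw [hg _ hy y' hy' rfl, hg _ h3 _ h2 h1.symm, P'.scal, map_mul])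
    exact ⟨c, hc, fun y' hy' => by
      rw [hcv _ (by rw [← neg_mul]; exact hmem _ _ hy'), hg _ (by rw [← neg_mul]; exact hmem _ _ hy') y' hy' rfl]⟩
  choose G hGmem hGval using hex
  have hadd : ∀ j c' d', G j (c' + d') = G j c' + G j d' := fun j c' d' =>
    huniq j _ (hGmem _ _) _ (add_mem (hGmem _ _) (hGmem _ _)) fun y' hy' => by
      rw [hGval _ _ _ hy']
      simp only [map_add, AddMonoidHom.add_apply, hGval _ _ _ hy']
  let Gh : ∀ j, 𝒞' j →+ C := fun j => AddMonoidHom.mk' (fun c' => G j c') fun a b => hadd j a b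
  let F : C' →+ C := (DirectSum.toAddMonoid Gh).comp (decomposeAddEquiv 𝒞').toAddMonoidHom
  have hF : ∀ (j : ℤ) (c' : C'), c' ∈ 𝒞' j → F c' = G j c' := fun j c' hc' => by
    show DirectSum.toAddMonoid Gh (decompose 𝒞' c') = G j c'
    rw [decompose_of_mem 𝒞' hc', DirectSum.toAddMonoid_of]
    rfl
  have hlin : ∀ (r : R') (c' : C'), F (r • c') = φ r • F c' := by
    intro r c'
    induction r using DirectSum.Decomposition.inductionOn 𝒜' with
    | zero => simp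
    | add a b ha hb => rw [add_smul, map_add, ha, hb, map_add, add_smul]
    | @homogeneous i r =>
      induction c' using DirectSum.Decomposition.inductionOn 𝒞' with
      | zero => simp
      | add a b ha hb => rw [smul_add, map_add, ha, hb, map_add, smul_add]
      | @homogeneous j c' =>
        have hrc : (r : R') • (c' : C') ∈ 𝒞' (i + j) := SetLike.GradedSMul.smul_mem r.2 c'.2
        rw [hF _ _ hrc, hF _ _ c'.2]
        have hrG : φ r • G j c' ∈ 𝒞 ((i + j) * q) := by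
          rw [add_mul, ← vadd_eq_add]; exact SetLike.GradedSMul.smul_mem (hφdeg i r r.2) (hGmem j c')
        refine huniq (i + j) _ (hGmem _ _) _ hrG fun y' hy' => ?_
        have hry : (r : R') • y' ∈ ℋ' (-j) := by
          have := hH' i _ _ r.2 _ hy'
          rwa [show i + -(i + j) = -j by ring] at this
        rw [hGval _ _ _ hy', P.smul, ← hιs, hGval _ _ _ hry, P'.smul]
  let g : C' →ₛₗ[φ] C := { F with map_smul' := hlin }
  refine ⟨g, (injective_iff_map_eq_zero g).2 fun c' hc' => ?_, fun j => le_antisymm ?_ fun c hc => ?_⟩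
  · have hsum : ∑ j ∈ (decompose 𝒞' c').support, G j (decompose 𝒞' c' j : C') = 0 := by
      refine Eq.trans ?_ hc'
      show _ = F c'
      conv_rhs => rw [← sum_support_decompose 𝒞' c', map_sum]
      exact Finset.sum_congr rfl fun j _ => (hF j _ (SetLike.coe_mem _)).symm
    rw [← sum_support_decompose 𝒞' c']
    refine Finset.sum_eq_zero fun j hj => P'.eq_zero j _ (SetLike.coe_mem _) fun y' hy' => ?_
    have h0 : G j (decompose 𝒞' c' j : C') = 0 := by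
      have h := congrArg (fun z => (decompose 𝒞 z (j * q) : C)) hsum
      rw [decompose_sum, DFinsupp.finsetSum_apply, AddSubmonoidClass.coe_finsetSum, decompose_zero,
        DirectSum.zero_apply, ZeroMemClass.coe_zero] at h
      rw [Finset.sum_eq_single j (fun i _ hi => decompose_of_mem_ne 𝒞 (hGmem i _) fun hc => hi (mul_right_cancel₀ hq hc))
        fun h' => absurd hj h', decompose_of_mem_same 𝒞 (hGmem j _)] at h
      exact h
    refine e.injective ?_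
    rw [map_zero, ← hGval j _ y' hy', h0, map_zero, AddMonoidHom.zero_apply]
  · rintro _ ⟨c', hc', rfl⟩
    show F c' ∈ _
    rw [hF j c' hc']
    exact hGmem j c'
  · obtain ⟨c', hc', hv⟩ := P'.exists_eq j (fun y' => e.symm (B c (ι y')))
      (fun _ _ _ _ => by rw [map_add, map_add, map_add])
      (fun a y' _ => by
        rw [hιs, ← he, P.scal, map_mul, e.symm_apply_apply])
    refine ⟨c', hc', ?_⟩
    show F c' = c
    rw [hF j c' hc']
    refine huniq j _ (hGmem j c') c hc fun y' hy' => ?_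
    rw [hGval _ _ _ hy', hv y' hy', e.apply_symm_apply]

end Semilinear

section Canonical

variable {R : Type u} [CommRing R] [IsNoetherianRing R] {σ : Type u} [SetLike σ R] [AddSubgroupClass σ R]
variable {𝒜 : ℤ → σ} [GradedRing 𝒜] {m : HomogeneousIdeal 𝒜} [m.toIdeal.IsMaximal]
variable {E' : Type u} [AddCommGroup E'] [Module R E'] {𝓔 : ℤ → AddSubgroup E'} [Decomposition 𝓔]
  [SetLike.GradedSMul 𝒜 𝓔] {e : (R ⧸ m.toIdeal) →ₗ[R] E'}
variable {C : Type u} [AddCommGroup C] [Module R C] {𝒞 : ℤ → AddSubgroup C} [Decomposition 𝒞]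
  [SetLike.GradedSMul 𝒜 𝒞]
variable (hp : ∀ g < 0, ∀ r ∈ 𝒜 g, r = 0)
  (hmsp : m.toIdeal = Ideal.span (⋃ g ∈ Set.Ioi (0 : ℤ), (𝒜 g : Set R))) (hF : IsField (GrLC.deg0 𝒜))
  {n : ℕ} {I : GrLC.StarInjRes 𝒜 𝒜}
  (he : GrLC.IsStarInjHull 𝒜 (GrLC.quotGr 𝒜 m) 𝓔 e)

include hp hmsp hF he in
/-- The socle of the hull in degree zero is a line. -/
theorem exists_coord : ∃ u ∈ 𝓔 0, ∃ co : E' →+ GrLC.deg0 𝒜, co u = 1 ∧
    (∀ (z : E'), ((co z : GrLC.deg0 𝒜) : R) • u = (decompose 𝓔 z 0 : E')) ∧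
    ∀ (a : GrLC.deg0 𝒜) (z : E'), co ((a : R) • z) = a * co z := by
  classical
  let u₀ : E' := e (Ideal.Quotient.mk m.toIdeal 1)
  have hu₀ : u₀ ∈ 𝓔 0 := range_subset_zero hp hmsp he ⟨_, rfl⟩
  have hu0 : ∀ c : GrLC.deg0 𝒜, (c : R) • u₀ = 0 → c = 0 := fun c hc => by
    by_contra hne
    obtain ⟨b, hb⟩ := hF.mul_inv_cancel hne
    have h2 : ((b : R) * (c : R)) • u₀ = 0 := by rw [mul_smul, hc, smul_zero]
    rw [show (b : R) * (c : R) = 1 from (mul_comm _ _).trans (congrArg Subtype.val hb), one_smul] at h2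
    exact Ideal.IsMaximal.ne_top ‹_›
      ((Ideal.eq_top_iff_one _).2 (Ideal.Quotient.eq_zero_iff_mem.1 (he.injective (h2.trans (map_zero e).symm))))
  have hu_surj : ∀ z : E', ∃ c : GrLC.deg0 𝒜, (c : R) • u₀ = (decompose 𝓔 z 0 : E') := fun z => by
    obtain ⟨x, hx⟩ := (mem_zero_iff hp hmsp he hF).1 (SetLike.coe_mem (decompose 𝓔 z 0))
    obtain ⟨r, rfl⟩ := Ideal.Quotient.mk_surjective x
    refine ⟨⟨_, SetLike.coe_mem (decompose 𝒜 r 0)⟩, ?_⟩
    rw [← hx, ← map_smul]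
    refine congrArg e ?_
    show Ideal.Quotient.mk m.toIdeal ((decompose 𝒜 r 0 : R) * 1) = _
    rw [mul_one, eq_comm, Ideal.Quotient.eq]
    exact sub_decompose_zero_mem hp hmsp r
  choose co hco using hu_surj
  have huniq : ∀ a b : GrLC.deg0 𝒜, (a : R) • u₀ = (b : R) • u₀ → a = b := fun a b h =>
    sub_eq_zero.1 (hu0 _ (by rw [AddSubgroupClass.coe_sub, sub_smul, h, sub_self]))
  refine ⟨u₀, hu₀, AddMonoidHom.mk' co (fun z z' => huniq _ _ (by
      rw [hco, Subring.coe_add, add_smul, hco, hco, decompose_add, DirectSum.add_apply, AddMemClass.coe_add])),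
    huniq _ _ (by
      show (co u₀ : R) • u₀ = _
      rw [hco, decompose_of_mem_same 𝓔 hu₀, Subring.coe_one, one_smul]), hco, fun a z => huniq _ _ ?_⟩
  show (co ((a : R) • z) : R) • u₀ = ((a * co z : GrLC.deg0 𝒜) : R) • u₀
  rw [hco, Subring.coe_mul, mul_smul, hco, decompose_smul_of_mem_left 𝒜 𝓔 a.2, sub_zero]

/-- Homogeneous classes correspond to homogeneous maps. -/
theorem isGrHomDeg_symm {φ : (C →ₗ[R] E') ≃ₗ[R] I.H m n}
    (hφ : GrLC.IsGrHom (fun d => (GrLC.homDeg 𝒜 𝒞 𝓔 d).toAddSubgroup) (I.Hgr m n) φ.toLinearMap) [Module.Finite R C]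
    {d : ℤ} {y : I.H m n} (hy : y ∈ I.Hgr m n d) : GrLC.IsGrHomDeg 𝒞 𝓔 (φ.symm y) d := by
  classical
  letI := (isInternal_Hgr 𝒜 I m n).chooseDecomposition
  obtain ⟨D, hD⟩ := exists_sum_compHom 𝓔 𝒞 (𝒜 := 𝒜) (φ.symm y)
  have hw : y = ∑ j ∈ D, φ (compHom 𝓔 𝒞 (𝒜 := 𝒜) (φ.symm y) j) := by
    rw [← map_sum, ← hD, φ.apply_symm_apply]
  have hmem : ∀ j, φ (compHom 𝓔 𝒞 (𝒜 := 𝒜) (φ.symm y) j) ∈ I.Hgr m n j := fun j =>
    hφ j _ (isGrHomDeg_compHom 𝓔 𝒞 _ j)
  have hwd : (decompose (I.Hgr m n) y d : I.H m n) = y := decompose_of_mem_same (I.Hgr m n) hy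
  rw [hw, decompose_sum, DFinsupp.finsetSum_apply, AddSubmonoidClass.coe_finsetSum, ← hw] at hwd
  by_cases hdD : d ∈ D
  · rw [Finset.sum_eq_single d (fun j _ hj => decompose_of_mem_ne (I.Hgr m n) (hmem j) hj)
      (fun h => absurd hdD h), decompose_of_mem_same (I.Hgr m n) (hmem d)] at hwd
    intro g x hx
    rw [← hwd, φ.symm_apply_apply]
    exact isGrHomDeg_compHom 𝓔 𝒞 _ d g x hx
  · rw [Finset.sum_eq_zero fun j hj => decompose_of_mem_ne (I.Hgr m n) (hmem j)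
      (fun h : j = d => hdD (h ▸ hj))] at hwd
    intro g x _
    rw [← hwd, map_zero]
    exact zero_mem _

include hp hmsp hF he in
/-- The pairing of a *canonical module with the top local cohomology. -/
theorem exists_gpair (hC : GrLC.IsStarCanonical 𝒜 𝒞 𝓔 m n I) :
    ∃ B : C →+ I.H m n →+ GrLC.deg0 𝒜, GPair 𝒜 𝒞 (I.Hgr m n) B := by
  classical
  letI := hF.toField
  have hC' := hC
  obtain ⟨hfin, φ, hφ⟩ := hC
  haveI := hfin
  have hinj := (isInjectiveHull_of_isStarInjHull_maximal m 𝓔 e he).isInjective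
  obtain ⟨u, hu, co, hcou, hco, hcos⟩ := exists_coord hp hmsp hF he
  let B : C →+ I.H m n →+ GrLC.deg0 𝒜 := AddMonoidHom.mk' (fun c => AddMonoidHom.mk' (fun y => co (φ.symm y c))
      fun y y' => by rw [map_add, LinearMap.add_apply, map_add]) fun c c' => AddMonoidHom.ext fun y => by
    show co (φ.symm y (c + c')) = co (φ.symm y c) + co (φ.symm y c')
    rw [map_add, map_add]
  have heq0 : ∀ (d : ℤ) c, c ∈ 𝒞 d → (∀ y ∈ I.Hgr m n (-d), B c y = 0) → c = 0 := by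
    intro d c hc h
    by_contra hc0
    haveI := finite_comp 𝒜 hp 𝒞 (- -d)
    obtain ⟨ξ, hξ⟩ : ∃ ξ : GrLC.comp 𝒜 𝒞 (- -d) →ₗ[GrLC.deg0 𝒜] GrLC.deg0 𝒜, ξ ⟨c, by rwa [neg_neg]⟩ = 1 := by
      obtain ⟨ξ, hξ⟩ := Module.Projective.exists_dual_eq_one (GrLC.deg0 𝒜)
        (x := (⟨c, by rwa [neg_neg]⟩ : GrLC.comp 𝒜 𝒞 (- -d))) (fun h0 => hc0 (congrArg Subtype.val h0))
      exact ⟨ξ, hξ⟩
    obtain ⟨ψ, hψ, hψc⟩ := exists_extend_piece hp hmsp he hF (-d)
      (AddMonoidHom.mk' (fun c => ((ξ c : GrLC.deg0 𝒜) : R) • u) fun a b => by rw [map_add, Subring.coe_add, add_smul])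
      (fun a c => by
        show ((ξ (a • c) : GrLC.deg0 𝒜) : R) • u = (a : R) • ((ξ c : GrLC.deg0 𝒜) : R) • u
        rw [map_smul, smul_eq_mul, Subring.coe_mul, mul_smul])
      (fun c => by
        show ((ξ c : GrLC.deg0 𝒜) : R) • u ∈ 𝓔 0
        have := SetLike.GradedSMul.smul_mem (A := 𝒜) (B := 𝓔) (show ((ξ c : GrLC.deg0 𝒜) : R) ∈ 𝒜 0 from (ξ c).2) hu
        rwa [vadd_eq_add, zero_add] at this) hinj
    have h1 : co (φ.symm (φ ψ) c) = 0 := h _ (hφ (-d) ψ hψ)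
    rw [φ.symm_apply_apply, show ψ c = _ from hψc ⟨c, by rwa [neg_neg]⟩] at h1
    change co (((ξ _ : GrLC.deg0 𝒜) : R) • u) = 0 at h1
    rw [hξ, Subring.coe_one, one_smul, hcou] at h1
    exact one_ne_zero h1
  refine ⟨B, ⟨fun r c y => ?_, fun a c y => ?_, fun g c hc d hd y hy => ?_, heq0, fun d g hga hgs => ?_⟩⟩
  · show co (φ.symm y (r • c)) = co (φ.symm (r • y) c)
    rw [map_smul, map_smul φ.symm r y, LinearMap.smul_apply]
  · show co (φ.symm ((a : R) • y) c) = a * co (φ.symm y c)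
    rw [map_smul, LinearMap.smul_apply, hcos]
  · show co (φ.symm y c) = 0
    have h1 := isGrHomDeg_symm hφ hy g c hc
    have h2 := hco (φ.symm y c)
    rw [decompose_of_mem_ne 𝓔 h1 (by omega)] at h2
    by_contra hne
    obtain ⟨b, hb⟩ := hF.mul_inv_cancel hne
    have h3 : co (((b * co (φ.symm y c) : GrLC.deg0 𝒜) : R) • u) = 0 := by
      rw [Subring.coe_mul, mul_smul, h2, smul_zero, map_zero]
    rw [mul_comm b, hb, Subring.coe_one, one_smul, hcou] at h3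
    exact one_ne_zero h3
  · letI : SetLike.GradedSMul 𝒜 (I.Hgr m n) :=
      ⟨fun {_ _ _ _} hr hy => by rw [vadd_eq_add]; exact GorSocle.smul_mem_Hgr I hr hy⟩
    haveI := finite_comp 𝒜 hp 𝒞 d
    obtain ⟨E₂⟩ := exists_comp_dual hp hmsp hF he hC' hinj (-d)
    haveI := finite_comp 𝒜 hp 𝒞 (- -d)
    haveI : Module.Finite (GrLC.deg0 𝒜) (I.Hcomp m n (-d)) := Module.Finite.equiv E₂.symm
    let L : GrLC.comp 𝒜 𝒞 d →ₗ[GrLC.deg0 𝒜] Module.Dual (GrLC.deg0 𝒜) (I.Hcomp m n (-d)) :=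
      LinearMap.mk₂ (GrLC.deg0 𝒜) (fun c y => B (c : C) y.1)
        (fun c c' y => by rw [Submodule.coe_add, map_add, AddMonoidHom.add_apply])
        (fun a c y => by
          show B ((a : R) • (c : C)) y.1 = a * B (c : C) y.1
          show co (φ.symm y.1 ((a : R) • (c : C))) = a * co (φ.symm y.1 (c : C))
          rw [map_smul, hcos])
        (fun c y y' => by rw [Submodule.coe_add]; exact map_add (B (c : C)) _ _)
        (fun a c y => by
          show co (φ.symm ((a : R) • y.1) (c : C)) = a * co (φ.symm y.1 (c : C))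
          rw [map_smul, LinearMap.smul_apply, hcos])
    have hL : Function.Injective L := (injective_iff_map_eq_zero L).2 fun c hc => Subtype.ext
      (heq0 d c.1 c.2 fun y hy => LinearMap.congr_fun hc ⟨y, hy⟩)
    have hdim : Module.finrank (GrLC.deg0 𝒜) (GrLC.comp 𝒜 𝒞 d) =
        Module.finrank (GrLC.deg0 𝒜) (Module.Dual (GrLC.deg0 𝒜) (I.Hcomp m n (-d))) := by
      rw [Subspace.dual_finrank_eq, finrank_comp_eq hp hmsp hF he hC' hinj (-d), neg_neg]
    obtain ⟨c, hc⟩ := (LinearMap.injective_iff_surjective_of_finrank_eq_finrank hdim).1 hL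
      { toFun := fun y : I.Hcomp m n (-d) => g y.1
        map_add' := fun y y' => hga _ y.2 _ y'.2
        map_smul' := fun a y => hgs a _ y.2 }
    exact ⟨c.1, c.2, fun y hy => LinearMap.congr_fun hc ⟨y, hy⟩⟩

include hp hmsp hF he in
/-- A finite-or-not graded module with a degreewise perfect pairing is *canonical. -/
theorem isStarCanonical_of_gpair {D : Type u} [AddCommGroup D] [Module R D] {𝒟 : ℤ → AddSubgroup D} [Decomposition 𝒟]
    [SetLike.GradedSMul 𝒜 𝒟] {B : D →+ I.H m n →+ GrLC.deg0 𝒜} (P : GPair 𝒜 𝒟 (I.Hgr m n) B) :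
    GrLC.IsStarCanonical 𝒜 𝒟 𝓔 m n I := by
  classical
  letI := (isInternal_Hgr 𝒜 I m n).chooseDecomposition
  obtain ⟨C₀, _, _, 𝒞₀, _, _, hC⟩ := exists_starCanonical hp hmsp hF n I he
  obtain ⟨B₀, P₀⟩ := exists_gpair hp hmsp hF he hC
  obtain ⟨g, hg, hgmap⟩ := exists_semilinear P P₀ (RingHom.id R) (q := 1) one_ne_zero
    (fun i r hr => by simpa using hr) (RingEquiv.refl _) (fun _ => rfl) (AddMonoidHom.id _) Function.injective_id
    (fun _ _ => rfl) (fun j => by rw [mul_one]; exact AddSubgroup.map_id _)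
    fun i j r hr y hy => GorSocle.smul_mem_Hgr I hr hy
  have hsurj : Function.Surjective g := fun c => by
    induction c using DirectSum.Decomposition.inductionOn 𝒟 with
    | zero => exact ⟨0, map_zero g⟩
    | add a b ha hb =>
      obtain ⟨x, rfl⟩ := ha
      obtain ⟨y, rfl⟩ := hb
      exact ⟨x + y, map_add g x y⟩
    | @homogeneous j c =>
      obtain ⟨x, -, hx⟩ := (hgmap j).ge (show (c : D) ∈ 𝒟 (j * 1) by rw [mul_one]; exact c.2)
      exact ⟨x, hx⟩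
  let G := LinearEquiv.ofBijective g ⟨hg, hsurj⟩
  obtain ⟨hfin, φ, hφ⟩ := hC
  haveI := hfin
  refine ⟨Module.Finite.equiv G, (G.symm.congrLeft E' R).trans φ, fun d ψ hψ => hφ d _ fun i x hx => ?_⟩
  have : g x ∈ 𝒟 i := by
    have h := (hgmap i).le ⟨x, hx, rfl⟩
    rwa [mul_one] at h
  exact hψ i _ this

end Canonical

end Groth.Agent.GrLib8.Canon
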