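import Groth.Agent.GrLib8.CanonExist
import Groth.Agent.GrLib8.CanonGrowth
import Groth.Agent.LC.TopDim2

/-!
# The hull, the `a`-invariant and the pairing of a ring with its *canonical module
-/

set_option autoImplicit false
set_option linter.unusedSectionVars false
set_option linter.style.haveILetI false
set_option maxHeartbeats 1600000

universe u

open DirectSum CategoryTheory

namespace Groth.Agent.GrLib8.Canon

variable {R : Type u} [CommRing R] [IsNoetherianRing R] {σ : Type u} [SetLike σ R] [AddSubgroupClass σ R]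
variable {𝒜 : ℤ → σ} [GradedRing 𝒜] {m : HomogeneousIdeal 𝒜} [m.toIdeal.IsMaximal]

/-- The residue field has a *injective hull. -/
theorem exists_hull_residue : ∃ (E' : Type u) (_ : AddCommGroup E') (_ : Module R E') (𝓔 : ℤ → AddSubgroup E')
    (_ : Decomposition 𝓔) (_ : SetLike.GradedSMul 𝒜 𝓔) (e : (R ⧸ m.toIdeal) →ₗ[R] E'),
    GrLC.IsStarInjHull 𝒜 (GrLC.quotGr 𝒜 m) 𝓔 e := by
  classical
  let X := quotGMod (𝒜 := 𝒜) (M := R) 𝒜 m.toIdeal m.isHomogeneous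
  obtain ⟨E, f, hf⟩ := exists_hull X
  exact ⟨E.carrier, inferInstance, inferInstance, E.gr, inferInstance, inferInstance, f, ⟨⟨hf.1.injective, hf.1.grHom,
    hf.1.essential⟩, hf.starInj⟩⟩

variable {E' : Type u} [AddCommGroup E'] [Module R E'] {𝓔 : ℤ → AddSubgroup E'} [Decomposition 𝓔]
  [SetLike.GradedSMul 𝒜 𝓔] {e : (R ⧸ m.toIdeal) →ₗ[R] E'}
variable {C : Type u} [AddCommGroup C] [Module R C] {𝒞 : ℤ → AddSubgroup C} [Decomposition 𝒞]
  [SetLike.GradedSMul 𝒜 𝒞]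
variable (hp : ∀ g < 0, ∀ r ∈ 𝒜 g, r = 0)
  (hmsp : m.toIdeal = Ideal.span (⋃ g ∈ Set.Ioi (0 : ℤ), (𝒜 g : Set R))) (hF : IsField (GrLC.deg0 𝒜))
  {n : ℕ} {I : GrLC.StarInjRes 𝒜 𝒜}
  (he : GrLC.IsStarInjHull 𝒜 (GrLC.quotGr 𝒜 m) 𝓔 e) (hC : GrLC.IsStarCanonical 𝒜 𝒞 𝓔 m n I)

include hp hmsp hF he hC in
/-- A piece of the cohomology vanishes iff the dual piece of the *canonical module does. -/
theorem Hgr_eq_bot_iff_comp (d : ℤ) : I.Hgr m n d = ⊥ ↔ ∀ c ∈ 𝒞 (-d), c = 0 := by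
  classical
  letI := hF.toField
  haveI := hC.1
  obtain ⟨E₂⟩ := exists_comp_dual hp hmsp hF he hC
    (isInjectiveHull_of_isStarInjHull_maximal m 𝓔 e he).isInjective d
  haveI := finite_comp 𝒜 hp 𝒞 (-d)
  rw [Hgr_eq_bot_iff]
  constructor
  · intro h c hc
    have key : ∀ g : GrLC.comp 𝒜 𝒞 (-d) →ₗ[GrLC.deg0 𝒜] GrLC.deg0 𝒜, g = 0 := fun g => by
      obtain ⟨y, rfl⟩ := E₂.surjective g
      rw [show y = 0 from Subtype.ext ((Submodule.eq_bot_iff _).1 h _ y.2), map_zero]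
    exact congrArg Subtype.val ((Module.forall_dual_apply_eq_zero_iff (GrLC.deg0 𝒜)
      (⟨c, hc⟩ : GrLC.comp 𝒜 𝒞 (-d))).1 fun g => LinearMap.congr_fun (key g) _)
  · intro h
    refine (Submodule.eq_bot_iff _).2 fun y hy => ?_
    have h1 : E₂ ⟨y, hy⟩ = 0 := LinearMap.ext fun c => by
      rw [show c = 0 from Subtype.ext (h _ c.2), map_zero, map_zero]
    exact congrArg Subtype.val (E₂.map_eq_zero_iff.1 h1)

include hp hmsp hF in
/-- The `a`-invariant is an integer. -/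
theorem exists_endDeg (hd : m.toIdeal.height = n) :
    ∃ a : ℤ, GrLC.endDeg (I.Hgr m n) = ((a : WithTop ℤ) : WithBot (WithTop ℤ)) := by
  classical
  letI := (isInternal_Hgr 𝒜 I m n).chooseDecomposition
  obtain ⟨E, _, _, 𝓔, _, _, e, he⟩ := exists_hull_residue (𝒜 := 𝒜) (m := m)
  obtain ⟨C, _, _, 𝒞, _, _, hC⟩ := exists_starCanonical hp hmsp hF n I he
  haveI := hC.1
  obtain ⟨b, hb⟩ := exists_aboveSub_eq_top 𝒜 𝒞 hp
  have hbdd : ∀ d, -b < d → I.Hgr m n d = ⊥ := fun d hd' => (Hgr_eq_bot_iff_comp hp hmsp hF he hC d).2 fun c hc => by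
    have h := (hb.ge (Submodule.mem_top : c ∈ _)) (-d) (by omega)
    rwa [decompose_of_mem_same 𝒞 hc] at h
  obtain ⟨y, hy⟩ : ∃ y : I.H m n, y ≠ 0 := by
    obtain ⟨h⟩ := nonempty_H_equiv 𝒜 I m n
    haveI : Nontrivial ((localCohomology m.toIdeal n).obj (ModuleCat.of R R)) :=
      LC.nontrivial_H_height (Ideal.IsMaximal.ne_top ‹_›) n hd
    obtain ⟨z, hz⟩ := exists_ne (0 : (localCohomology m.toIdeal n).obj (ModuleCat.of R R))
    exact ⟨h.symm z, fun h0 => hz (h.symm.map_eq_zero_iff.1 h0)⟩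
  obtain ⟨g₀, hg₀⟩ : ∃ g, I.Hgr m n g ≠ ⊥ := by
    by_contra h
    push Not at h
    refine hy ((sum_support_decompose (I.Hgr m n) y).symm.trans (Finset.sum_eq_zero fun g _ => ?_))
    exact (AddSubgroup.eq_bot_iff_forall _).1 (h g) _ (SetLike.coe_mem _)
  obtain ⟨a, ha, hmax⟩ := Int.exists_greatest_of_bdd (P := fun g => I.Hgr m n g ≠ ⊥)
    ⟨-b, fun g hg => not_lt.1 fun h => hg (hbdd g h)⟩ ⟨g₀, hg₀⟩
  refine ⟨a, le_antisymm ((endDeg_le_iff _ a).2 fun g hg => ?_) (le_iSup₂_of_le a ha le_rfl)⟩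
  by_contra h
  exact absurd (hmax g h) (not_le.2 hg)

include hp hmsp hF he hC in
/-- Nondegeneracy of the action of a piece on the cohomology gives injectivity on a generator. -/
theorem smul_ne_zero_of_faith {a i : ℤ} {c : C} (hspan : ∀ z ∈ 𝒞 (-a), ∃ t ∈ 𝒜 0, t • c = z)
    {r : R} (hr : r ∈ 𝒜 i) {y : I.H m n} (hy : y ∈ I.Hgr m n (a - i)) (hry : r • y ≠ 0) : r • c ≠ 0 := by
  classical
  obtain ⟨φ, hφ⟩ := hC.2
  haveI := hC.1
  letI := (isInternal_Hgr 𝒜 I m n).chooseDecomposition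
  intro hrc
  obtain ⟨D, hD⟩ := exists_sum_compHom 𝓔 𝒞 (𝒜 := 𝒜) (φ.symm y)
  let ψ := compHom 𝓔 𝒞 (𝒜 := 𝒜) (φ.symm y) (a - i)
  have hψd := isGrHomDeg_compHom 𝓔 𝒞 (𝒜 := 𝒜) (φ.symm y) (a - i)
  have hψy : φ ψ = y := by
    have hw : y = ∑ j ∈ D, φ (compHom 𝓔 𝒞 (𝒜 := 𝒜) (φ.symm y) j) := by
      rw [← map_sum, ← hD, φ.apply_symm_apply]
    have hmem : ∀ j, φ (compHom 𝓔 𝒞 (𝒜 := 𝒜) (φ.symm y) j) ∈ I.Hgr m n j := fun j =>
      hφ j _ (isGrHomDeg_compHom 𝓔 𝒞 _ j)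
    have hwd := decompose_of_mem_same (I.Hgr m n) hy
    rw [hw, decompose_sum, DFinsupp.finsetSum_apply, AddSubmonoidClass.coe_finsetSum, ← hw] at hwd
    by_cases hdD : a - i ∈ D
    · rw [Finset.sum_eq_single (a - i) (fun j _ hj => decompose_of_mem_ne (I.Hgr m n) (hmem j) hj)
        (fun h => absurd hdD h), decompose_of_mem_same (I.Hgr m n) (hmem _)] at hwd
      exact hwd
    · exfalso
      rw [Finset.sum_eq_zero fun j hj => decompose_of_mem_ne (I.Hgr m n) (hmem j)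
        (fun h : j = a - i => hdD (h ▸ hj))] at hwd
      exact hry (by rw [← hwd, smul_zero])
  refine hry ?_
  rw [← hψy, ← map_smul, show r • ψ = 0 from zero_of_zero_on_piece hp hmsp he (r • ψ) (d := a) (fun g x hx => by
    rw [LinearMap.smul_apply, show g + a = i + (g + (a - i)) by ring, ← vadd_eq_add]
    exact SetLike.GradedSMul.smul_mem (B := 𝓔) hr (hψd g x hx)) fun z hz => by
      obtain ⟨t, -, rfl⟩ := hspan z hz
      rw [LinearMap.smul_apply, ← map_smul, smul_comm, hrc, smul_zero, map_zero], map_zero]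

include hp hmsp hF he hC in
/-- Nondegeneracy of the action on a piece of the cohomology gives generation by one element. -/
theorem mem_smul_of_ess {a i : ℤ} {c : C} (hc : c ∈ 𝒞 (-a))
    (hess : ∀ y ∈ I.Hgr m n (a - i), y ≠ 0 → ∃ r ∈ 𝒜 i, r • y ≠ 0)
    (hspan : ∀ z ∈ 𝒞 (-a), ∃ t ∈ 𝒜 0, t • c = z) {z : C} (hz : z ∈ 𝒞 (i - a)) : ∃ r ∈ 𝒜 i, r • c = z := by
  classical
  letI := hF.toField
  haveI := hC.1
  obtain ⟨φ, hφ⟩ := hC.2
  have hrc : ∀ r ∈ 𝒜 i, r • c ∈ 𝒞 (-(a - i)) := fun r hr => by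
    have := SetLike.GradedSMul.smul_mem (B := 𝒞) hr hc
    rwa [vadd_eq_add, show i + -a = -(a - i) by ring] at this
  have hz' : z ∈ 𝒞 (-(a - i)) := by rwa [neg_sub]
  let W : Submodule (GrLC.deg0 𝒜) (GrLC.comp 𝒜 𝒞 (-(a - i))) :=
    { carrier := {w | ∃ r ∈ 𝒜 i, r • c = (w : C)}
      add_mem' := by
        rintro x y ⟨r, hr, hx⟩ ⟨r', hr', hy⟩
        exact ⟨r + r', add_mem hr hr', by rw [add_smul, hx, hy]; rfl⟩
      zero_mem' := ⟨0, zero_mem _, zero_smul _ _⟩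
      smul_mem' := by
        rintro t x ⟨r, hr, hx⟩
        refine ⟨(t : R) * r, ?_, by rw [mul_smul, hx]; rfl⟩
        simpa using SetLike.mul_mem_graded (A := 𝒜) t.2 hr }
  by_contra hcon
  obtain ⟨g, hgz, hg⟩ := W.exists_le_ker_of_notMem (v := ⟨z, hz'⟩) (fun h => hcon h)
  have hu₀ : e (Ideal.Quotient.mk m.toIdeal 1) ∈ 𝓔 0 := range_subset_zero hp hmsp he ⟨_, rfl⟩
  obtain ⟨ψ, hψd, hψ⟩ := exists_extend_piece hp hmsp he hF (a - i)
    (AddMonoidHom.mk' (fun w => ((g w : GrLC.deg0 𝒜) : R) • e (Ideal.Quotient.mk m.toIdeal 1)) fun x y => by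
      rw [map_add, Subring.coe_add, add_smul])
    (fun t w => by
      show ((g (t • w) : GrLC.deg0 𝒜) : R) • e (Ideal.Quotient.mk m.toIdeal 1) = (t : R) • ((g w : GrLC.deg0 𝒜) : R) • e (Ideal.Quotient.mk m.toIdeal 1)
      rw [map_smul, smul_eq_mul, Subring.coe_mul, mul_smul])
    (fun w => by
      have := SetLike.GradedSMul.smul_mem (A := 𝒜) (B := 𝓔) (show ((g w : GrLC.deg0 𝒜) : R) ∈ 𝒜 0 from (g w).2) hu₀
      rwa [vadd_eq_add, zero_add] at this)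
    (isInjectiveHull_of_isStarInjHull_maximal m 𝓔 e he).isInjective
  have hψ0 : φ ψ ≠ 0 := by
    intro h
    have h1 : ((g ⟨z, hz'⟩ : GrLC.deg0 𝒜) : R) • e (Ideal.Quotient.mk m.toIdeal 1) = 0 :=
      (hψ ⟨z, hz'⟩).symm.trans (by rw [φ.map_eq_zero_iff.1 h]; rfl)
    obtain ⟨b, hb⟩ := hF.mul_inv_cancel hgz
    have h2 := congrArg ((b : R) • ·) h1
    simp only [smul_zero, smul_smul] at h2
    rw [show (b : R) * ((g ⟨z, hz'⟩ : GrLC.deg0 𝒜) : R) = 1 from (mul_comm _ _).trans (congrArg Subtype.val hb),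
      one_smul] at h2
    exact Ideal.IsMaximal.ne_top ‹_›
      ((Ideal.eq_top_iff_one _).2 (Ideal.Quotient.eq_zero_iff_mem.1 (he.injective (h2.trans (map_zero e).symm))))
  obtain ⟨r, hr, hry⟩ := hess (φ ψ) (hφ _ ψ hψd) hψ0
  refine hry ?_
  rw [← map_smul, show r • ψ = 0 from zero_of_zero_on_piece hp hmsp he (r • ψ) (d := a) (fun g x hx => by
    rw [LinearMap.smul_apply, show g + a = i + (g + (a - i)) by ring, ← vadd_eq_add]
    exact SetLike.GradedSMul.smul_mem (B := 𝓔) hr (hψd g x hx)) fun x hx => by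
      obtain ⟨t, ht, rfl⟩ := hspan x hx
      rw [LinearMap.smul_apply, ← map_smul, smul_comm, map_smul, hψ ⟨r • c, hrc r hr⟩]
      show t • ((g ⟨r • c, hrc r hr⟩ : GrLC.deg0 𝒜) : R) • e (Ideal.Quotient.mk m.toIdeal 1) = 0
      rw [show g ⟨r • c, hrc r hr⟩ = 0 from LinearMap.mem_ker.1 (hg (show (⟨r • c, hrc r hr⟩ : GrLC.comp 𝒜 𝒞 (-(a - i))) ∈ W from ⟨r, hr, rfl⟩))]
      rw [ZeroMemClass.coe_zero, zero_smul, smul_zero], map_zero]

end Groth.Agent.GrLib8.Canon
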