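import Groth.Agent.GrLib8.CechLC
import Groth.Agent.LC.CohBasic
import Mathlib.RingTheory.Filtration

/-!
# Cohomological dimension at most one and the unit decomposition
-/

set_option autoImplicit false
set_option linter.style.haveILetI false

universe u

open CategoryTheory Limits

namespace Groth.Agent.GrLib8.CdOne

variable {R : Type u} [CommRing R]

theorem isPowerTorsion_localCohomology (I : Ideal R) (i : ℕ) (M : ModuleCat.{u} R) :
    LocCoh.IsPowerTorsion I ((localCohomology I i).obj M) := fun z => by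
  obtain ⟨n, x, rfl⟩ := LC.exists_toH I i z
  refine ⟨n, fun s hs => ?_⟩
  have h0 : s • 𝟙 (LC.qObj I n) = 0 := ModuleCat.hom_ext (LinearMap.ext fun q => by
    obtain ⟨r, rfl⟩ := Submodule.mkQ_surjective (I ^ n) q
    show s • (Submodule.mkQ (I ^ n) r) = 0
    rw [← map_smul, Submodule.mkQ_apply, Submodule.Quotient.mk_eq_zero]
    exact Ideal.mul_mem_right r _ hs)
  rw [← map_smul, ← Abelian.Ext.mk₀_id_comp x, ← Abelian.Ext.smul_comp, ← Abelian.Ext.mk₀_smul, h0,
    Abelian.Ext.mk₀_zero, Abelian.Ext.zero_comp, map_zero]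

/-- A linear map on a power of an ideal into a power-torsion submodule vanishes on a smaller power. -/
theorem eq_zero_of_torsion (I : Ideal R) {T : Type u} [AddCommGroup T] [Module R T] (c k : ℕ)
    (g : ↥(I ^ c) →ₗ[R] T) (hT : ∀ x, ∀ a ∈ I ^ k, a • g x = 0) (x : R) (hx : x ∈ I ^ (k + c)) :
    g ⟨x, Ideal.pow_le_pow_right (Nat.le_add_left c k) hx⟩ = 0 := by
  rw [pow_add] at hx
  have key : ∃ h : x ∈ I ^ c, g ⟨x, h⟩ = 0 := by
    refine Submodule.mul_induction_on hx (fun a ha y hy => ⟨Ideal.mul_mem_left _ a hy, ?_⟩) ?_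
    · have h := hT ⟨y, hy⟩ a ha
      rw [← map_smul] at h
      exact h
    · rintro a b ⟨ha, h1⟩ ⟨hb, h2⟩
      exact ⟨add_mem ha hb, (map_add g ⟨a, ha⟩ ⟨b, hb⟩).trans (by rw [h1, h2, add_zero])⟩
  exact key.2

variable [IsNoetherianRing R] (fs : List R)

set_option quotPrecheck false in
local notation "I₀" => Ideal.span {x : R | x ∈ fs}

theorem exists_torsion_pow {M : Type u} [AddCommGroup M] [Module R M] [Module.Finite R M] (I : Ideal R) :
    ∃ k : ℕ, ∀ t ∈ DRing.torsionSub I M, ∀ a ∈ I ^ k, a • t = 0 := by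
  obtain ⟨s, hs⟩ := IsNoetherian.noetherian (DRing.torsionSub I M)
  have hmem : ∀ t ∈ s, ∃ n : ℕ, ∀ a ∈ I ^ n, a • t = 0 := fun t ht =>
    (show t ∈ DRing.torsionSub I M from hs ▸ Submodule.subset_span ht)
  choose n hn using hmem
  refine ⟨s.attach.sup fun t => n t.1 t.2, fun t ht a ha => ?_⟩
  rw [← hs] at ht
  refine Submodule.span_induction (fun y hy => hn y hy a ?_) (smul_zero a) (fun y z _ _ hy hz => by
    rw [smul_add, hy, hz, add_zero]) (fun r y _ hy => by rw [smul_comm, hy, smul_zero]) ht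
  exact Ideal.pow_le_pow_right (Finset.le_sup (f := fun t : {x // x ∈ s} => n t.1 t.2) (Finset.mem_attach s ⟨y, hy⟩)) ha

/-- A one-cocycle of the extended Cech complex is a boundary after multiplying by a high power; this gives a
linear map on a power of the ideal. -/
theorem exists_hom_of_cycle (b : (DerCA.extCech (ModuleCat.of R R) fs).X 1)
    (hb : ((DerCA.extCech (ModuleCat.of R R) fs).d 1 2).hom b = 0) :
    ∃ (c : ℕ) (φ : ↥(I₀ ^ c) →ₗ[R] R), ∀ (x : ↥(I₀ ^ c)) (y : (DerCA.extCech (ModuleCat.of R R) fs).X 0),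
      (CechLC.pi0 (ModuleCat.of R R) fs).hom y = φ x →
      ((DerCA.extCech (ModuleCat.of R R) fs).d 0 1).hom y = (x : R) • b := by
  let A := ModuleCat.of R R
  let C := DerCA.extCech A fs
  let π := LinearEquiv.ofBijective (CechLC.pi0 A fs).hom (CechLC.pi0_spec A fs).1
  let d0 : R →ₗ[R] C.X 1 := (C.d 0 1).hom ∘ₗ π.symm.toLinearMap
  have hker : ∀ m : R, d0 m = 0 ↔ m ∈ DRing.torsionSub I₀ R := fun m =>
    (CechLC.d01_eq_zero_iff fs _).trans (iff_of_eq (congrArg (· ∈ DRing.torsionSub I₀ R) (π.apply_symm_apply m)))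
  obtain ⟨z, hz⟩ := CechLC.exists_cycle fs 1 b hb
  obtain ⟨e⟩ := CechLC.nonempty_equiv fs 1 A
  obtain ⟨c, hc⟩ := isPowerTorsion_localCohomology I₀ 1 A (e ((C.homologyπ 1).hom z))
  have hbd : ∀ a ∈ I₀ ^ c, a • b ∈ LinearMap.range d0 := fun a ha => by
    have h0 : (C.homologyπ 1).hom (a • z) = 0 := by
      refine e.injective ?_
      rw [map_zero, map_smul]
      exact (map_smul e a _).trans (hc a ha)
    have hx := ShortComplex.exact_of_g_is_cokernel (ShortComplex.mk (C.toCycles 0 1)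
      (C.homologyπ 1) (C.toCycles_comp_homologyπ 0 1)) (C.homologyIsCokernel 0 1 (by simp))
    rw [ShortComplex.moduleCat_exact_iff] at hx
    obtain ⟨w, hw⟩ := hx _ h0
    refine ⟨π w, ?_⟩
    show (C.d 0 1).hom (π.symm (π w)) = a • b
    rw [π.symm_apply_apply, ← hz, ← map_smul]
    exact (ConcreteCategory.congr_hom (C.toCycles_i 0 1) w).symm.trans (congrArg (C.iCycles 1).hom hw)
  let P : Submodule R (R × R) := LinearMap.ker
    (d0 ∘ₗ LinearMap.snd R R R - LinearMap.toSpanSingleton R _ b ∘ₗ LinearMap.fst R R R)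
  have hP : ∀ p : R × R, p ∈ P ↔ d0 p.2 = p.1 • b := fun p => sub_eq_zero
  obtain ⟨k, hk⟩ := exists_torsion_pow (M := R) I₀
  obtain ⟨k', hk'⟩ := Ideal.exists_pow_inf_eq_pow_smul I₀ (LinearMap.ker ((LinearMap.fst R R R).comp P.subtype))
  let N := k + k'
  let Q : Submodule R P := I₀ ^ N • (⊤ : Submodule R P)
  let p1 : ↥Q →ₗ[R] R := (LinearMap.fst R R R).comp (P.subtype.comp Q.subtype)
  have hp0 : ∀ q : ↥Q, p1 q = 0 → q = 0 := fun q hq => by
    have hq' : q.1 ∈ I₀ ^ (N - k') • (I₀ ^ k' • (⊤ : Submodule R P) ⊓ LinearMap.ker ((LinearMap.fst R R R).comp P.subtype)) :=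
      hk' N (Nat.le_add_left _ _) ▸ ⟨q.2, hq⟩
    refine Subtype.ext (Submodule.smul_induction_on hq' (fun a ha n hn => ?_) fun u v hu hv => ?_)
    · have h1 : ((n : P) : R × R).1 = 0 := hn.2
      have h2 : ((n : P) : R × R).2 ∈ DRing.torsionSub I₀ R := by
        rw [← hker, (hP _).1 n.2, h1, zero_smul]
      refine Subtype.ext (Prod.ext ?_ (hk _ h2 a (Ideal.pow_le_pow_right (by omega) ha)))
      show a • ((n : P) : R × R).1 = 0
      rw [h1, smul_zero]
    · show u + v = 0
      exact (congrArg₂ (· + ·) hu hv).trans (add_zero _)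
  have hp1 : Function.Injective p1 := fun a b h => sub_eq_zero.1 (hp0 _ ((LinearMap.map_sub p1 a b).trans (sub_eq_zero.2 h)))
  have hrange : ∀ x ∈ I₀ ^ (N + c), x ∈ LinearMap.range p1 := by
    intro x hx
    rw [pow_add] at hx
    refine Submodule.mul_induction_on hx (fun a ha y hy => ?_) fun u v hu hv => add_mem hu hv
    obtain ⟨m, hm⟩ := hbd y hy
    exact ⟨⟨a • ⟨(y, m), (hP _).2 hm⟩, Submodule.smul_mem_smul ha trivial⟩, rfl⟩
  let s : ↥(I₀ ^ (N + c)) →ₗ[R] Q := (LinearEquiv.ofInjective p1 hp1).symm.toLinearMap ∘ₗ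
    LinearMap.codRestrict (LinearMap.range p1) (I₀ ^ (N + c)).subtype fun x => hrange x x.2
  have hs : ∀ x, p1 (s x) = (x : R) := fun x =>
    congrArg Subtype.val ((LinearEquiv.ofInjective p1 hp1).apply_symm_apply _)
  refine ⟨N + c, (LinearMap.snd R R R).comp (P.subtype.comp (Q.subtype.comp s)), fun x y hy => ?_⟩
  have h := (hP _).1 (s x).1.2
  rw [show (((s x).1 : P) : R × R).1 = (x : R) from hs x] at h
  rw [← h]
  show (C.d 0 1).hom y = (C.d 0 1).hom (π.symm _)
  exact congrArg _ ((LinearEquiv.eq_symm_apply π).2 hy)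

/-- Cohomological dimension at most one: the unit is a combination of the generators in the ideal transform. -/
theorem exists_unit_decomposition (r : ℕ) (f : Fin r → R) (h₁ : LocCoh.CdLE R (Ideal.span (Set.range f)) 1) :
    ∃ (c : ℕ) (φ : Fin r → (↥(Ideal.span (Set.range f) ^ (c + 1)) →ₗ[R] R)),
      ∀ x : ↥(Ideal.span (Set.range f) ^ (c + 1)), (x : R) = ∑ j, f j * φ j x := by
  let fs := List.ofFn f
  have hset : Set.range f = {x : R | x ∈ fs} := Set.ext fun x => by simp [fs, List.mem_ofFn]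
  rw [hset] at h₁ ⊢
  let A := ModuleCat.of R R
  let F := ModuleCat.of R (Fin r → R)
  let J : Ideal R := Ideal.span {x : R | x ∈ fs}
  let g : F ⟶ ModuleCat.of R J := ModuleCat.ofHom (LinearMap.codRestrict J
    (∑ j, f j • LinearMap.proj (φ := fun _ : Fin r => R) j) fun v => by
      simp only [LinearMap.coe_sum, Finset.sum_apply, LinearMap.smul_apply, LinearMap.proj_apply, smul_eq_mul]
      exact Ideal.sum_mem _ fun j _ => Ideal.mul_mem_right _ _ (Ideal.subset_span (hset ▸ ⟨j, rfl⟩)))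
  have hg : Function.Surjective g.hom := fun y => by
    obtain ⟨w, hw⟩ := (Ideal.mem_span_range_iff_exists_fun).1
      (show (y : R) ∈ Ideal.span (Set.range f) from hset.symm ▸ y.2)
    refine ⟨w, Subtype.ext (Eq.trans ?_ hw)⟩
    show (∑ j, f j • LinearMap.proj (φ := fun _ : Fin r => R) j) w = _
    simp [mul_comm]
  let K := ModuleCat.of R (LinearMap.ker g.hom)
  let k : K ⟶ F := ModuleCat.ofHom (LinearMap.ker g.hom).subtype
  have hk : Function.Injective k.hom := Subtype.val_injective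
  have hkg : Function.Exact k.hom g.hom := fun v => ⟨fun h => ⟨⟨v, h⟩, rfl⟩, by rintro ⟨w, rfl⟩; exact w.2⟩
  let ι : ModuleCat.of R J ⟶ A := ModuleCat.ofHom J.subtype
  let π : A ⟶ ModuleCat.of R (R ⧸ J) := ModuleCat.ofHom J.mkQ
  have hι : Function.Injective ι.hom := Subtype.val_injective
  have hπ : Function.Surjective π.hom := Submodule.mkQ_surjective J
  have hιπ : Function.Exact ι.hom π.hom := LinearMap.exact_subtype_mkQ J
  let CA := DerCA.extCech A fs
  obtain ⟨u1, hu1⟩ := (CechLC.pi0_spec A fs).1.2 (1 : R)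
  have hπu : ((DerCA.extCech (ModuleCat.of R (R ⧸ J)) fs).d 0 1).hom
      (((CechLC.cechMap π fs).f 0).hom u1) = 0 := by
    rw [CechLC.d01_eq_zero_iff]
    rw [show (CechLC.pi0 (ModuleCat.of R (R ⧸ J)) fs).hom (((CechLC.cechMap π fs).f 0).hom u1) = π.hom 1 from
      (ConcreteCategory.congr_hom (CechLC.pi0_natural π fs) u1).trans (congrArg π.hom hu1)]
    refine ⟨1, fun a ha => ?_⟩
    rw [pow_one] at ha
    show a • Submodule.mkQ J 1 = 0
    rw [← map_smul, Submodule.mkQ_apply, Submodule.Quotient.mk_eq_zero, smul_eq_mul, mul_one]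
    exact ha
  obtain ⟨y, hy⟩ := ((CechLC.cechMap_exact ι π hι hπ hιπ fs 1).2.2 ((CA.d 0 1).hom u1)).1
    ((ConcreteCategory.congr_hom ((CechLC.cechMap π fs).comm 0 1) u1).symm.trans hπu)
  have hdy : ((DerCA.extCech (ModuleCat.of R J) fs).d 1 2).hom y = 0 := by
    refine (CechLC.cechMap_exact ι π hι hπ hιπ fs 2).1 ((ConcreteCategory.congr_hom
      ((CechLC.cechMap ι fs).comm 1 2) y).symm.trans ?_)
    rw [map_zero]
    exact (congrArg (CA.d 1 2).hom hy).trans (ConcreteCategory.congr_hom (CA.d_comp_d 0 1 2) u1)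
  obtain ⟨z, hz⟩ := (CechLC.cechMap_exact k g hk hg hkg fs 1).2.1 y
  obtain ⟨v, hv⟩ := ((CechLC.cechMap_exact k g hk hg hkg fs 2).2.2 (((DerCA.extCech F fs).d 1 2).hom z)).1
    ((ConcreteCategory.congr_hom ((CechLC.cechMap g fs).comm 1 2) z).symm.trans
      ((congrArg _ hz).trans hdy))
  have hdv : ((DerCA.extCech K fs).d 2 (2 + 1)).hom v = 0 := by
    refine (CechLC.cechMap_exact k g hk hg hkg fs (2 + 1)).1 ((ConcreteCategory.congr_hom
      ((CechLC.cechMap k fs).comm 2 (2 + 1)) v).symm.trans ?_)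
    rw [map_zero]
    exact (congrArg ((DerCA.extCech F fs).d 2 (2 + 1)).hom hv).trans
      (ConcreteCategory.congr_hom ((DerCA.extCech F fs).d_comp_d 1 2 (2 + 1)) z)
  obtain ⟨w, hw⟩ : ∃ w, ((DerCA.extCech K fs).d 1 2).hom w = v := by
    haveI : Subsingleton (LocCoh.H J 2 K) := h₁ K 2 (by norm_num)
    obtain ⟨e⟩ := CechLC.nonempty_equiv fs 2 K
    haveI : Subsingleton ((DerCA.extCech K fs).homology ((2 : ℕ) : ℤ)) := e.toEquiv.subsingleton
    have hE := ((DerCA.extCech K fs).exactAt_iff' 1 2 (2 + 1) (by simp) (by simp)).1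
      (((DerCA.extCech K fs).exactAt_iff_isZero_homology 2).2 (ModuleCat.isZero_of_subsingleton _))
    rw [ShortComplex.moduleCat_exact_iff] at hE
    exact hE v hdv
  let z' := z - ((CechLC.cechMap k fs).f 1).hom w
  have hz' : ((DerCA.extCech F fs).d 1 2).hom z' = 0 := by
    rw [map_sub, sub_eq_zero]
    refine Eq.trans ?_ (ConcreteCategory.congr_hom ((CechLC.cechMap k fs).comm 1 2) w).symm
    exact hv.symm.trans (congrArg _ hw.symm)
  have hgz' : ((CechLC.cechMap g fs).f 1).hom z' = y := by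
    rw [map_sub, hz, sub_eq_self]
    exact (CechLC.cechMap_exact k g hk hg hkg fs 1).2.2.apply_apply_eq_zero w
  let q : Fin r → (F ⟶ A) := fun j => ModuleCat.ofHom (LinearMap.proj (φ := fun _ : Fin r => R) j)
  have hb : ∀ j, (CA.d 1 2).hom (((CechLC.cechMap (q j) fs).f 1).hom z') = 0 := fun j =>
    (ConcreteCategory.congr_hom ((CechLC.cechMap (q j) fs).comm 1 2) z').trans
      ((congrArg ((CechLC.cechMap (q j) fs).f 2).hom hz').trans (map_zero ((CechLC.cechMap (q j) fs).f 2).hom))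
  choose c φ hφ using fun j => exists_hom_of_cycle fs _ (hb j)
  -- the combination of the projections is the composite F → J → R
  have hadd : ∀ {M N : ModuleCat.{u} R} (a b : M ⟶ N) (n : ℤ) (x : (DerCA.extCech M fs).X n),
      ((CechLC.cechMap (a + b) fs).f n).hom x =
        ((CechLC.cechMap a fs).f n).hom x + ((CechLC.cechMap b fs).f n).hom x := fun a b n x => by
    rw [CechLC.cechMap_add]; rfl
  have hsum : ∀ (s : Finset (Fin r)) (n : ℤ) x, ((CechLC.cechMap (∑ j ∈ s, f j • q j) fs).f n).hom x =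
      ∑ j ∈ s, f j • ((CechLC.cechMap (q j) fs).f n).hom x := fun s n x => by
    classical
    induction s using Finset.induction with
    | empty => rw [Finset.sum_empty, Finset.sum_empty, CechLC.cechMap_zero]; rfl
    | insert a s ha ih => rw [Finset.sum_insert ha, Finset.sum_insert ha, hadd, ih, CechLC.cechMap_smul]; rfl
  have hcomp : ∀ n x, ((CechLC.cechMap ι fs).f n).hom (((CechLC.cechMap g fs).f n).hom x) =
      ∑ j, f j • ((CechLC.cechMap (q j) fs).f n).hom x := fun n x => by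
    rw [← hsum, ← show g ≫ ι = ∑ j, f j • q j from ModuleCat.hom_ext (by
      rw [ModuleCat.hom_sum]; rfl), CechLC.cechMap_comp]
    rfl
  have hmain : (CA.d 0 1).hom u1 = ∑ j, f j • ((CechLC.cechMap (q j) fs).f 1).hom z' := by
    rw [← hcomp, hgz', hy]
  -- the defect lands in the torsion
  let C := ∑ j, c j
  have hle : ∀ j, J ^ C ≤ J ^ c j := fun j => Ideal.pow_le_pow_right (Finset.single_le_sum (fun _ _ => Nat.zero_le _) (Finset.mem_univ j))
  let ψ : ↥(J ^ C) →ₗ[R] R := (∑ j, f j • (φ j).comp (Submodule.inclusion (hle j))) - (J ^ C).subtype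
  have hψ : ∀ x, ψ x ∈ DRing.torsionSub J R := fun x => by
    choose Y hY using fun j => (CechLC.pi0_spec A fs).1.2 (φ j (Submodule.inclusion (hle j) x))
    obtain ⟨W, hW⟩ : ∃ W, W = (∑ j, f j • Y j) - (x : R) • u1 := ⟨_, rfl⟩
    have e1 : (CechLC.pi0 A fs).hom W = ψ x := by
      rw [hW, map_sub, map_sum, map_smul, hu1]
      simp only [map_smul, hY, ψ, LinearMap.sub_apply, LinearMap.coe_sum, Finset.sum_apply, LinearMap.smul_apply,
        LinearMap.comp_apply, Submodule.subtype_apply, smul_eq_mul, mul_one]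
    rw [← e1]
    refine (CechLC.d01_eq_zero_iff fs W).1 ?_
    rw [hW, map_sub, map_sum, map_smul, hmain, Finset.smul_sum, sub_eq_zero]
    refine Finset.sum_congr rfl fun j _ => ?_
    rw [map_smul, hφ j _ _ (hY j), smul_comm]
    rfl
  obtain ⟨k0, hk0⟩ := exists_torsion_pow (M := R) J
  refine ⟨k0 + C, fun j => (φ j).comp (Submodule.inclusion ((Ideal.pow_le_pow_right (by omega)).trans (hle j))),
    fun x => ?_⟩
  have h0 := eq_zero_of_torsion J C k0 ψ (fun t => hk0 _ (hψ t)) x.1 (Ideal.pow_le_pow_right (Nat.le_succ _) x.2)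
  simp only [ψ, LinearMap.sub_apply, LinearMap.coe_sum, Finset.sum_apply, LinearMap.smul_apply,
    LinearMap.comp_apply, smul_eq_mul] at h0
  exact (sub_eq_zero.1 h0).symm

end Groth.Agent.GrLib8.CdOne
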