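import Mathlib.RingTheory.MvPolynomial.Homogeneous
import Mathlib.RingTheory.Filtration
import Mathlib.RingTheory.TensorProduct.Basic
import Mathlib.RingTheory.MvPolynomial.Tower

/-!
# The graded lifts attached to a decomposition of the identity of an ideal power
-/

set_option autoImplicit false
set_option linter.style.haveILetI false

universe u

open MvPolynomial TensorProduct

namespace Groth.Agent.GrLib8.CdOneGraded

variable {A : Type u} [CommRing A] {r : ℕ} (f : Fin r → A) (I : Ideal A) (c : ℕ)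
  (φ : Fin r → (↥(I ^ c) →ₗ[A] A))

open scoped Classical in
/-- The graded lift. -/
noncomputable def Φ : ℕ → A → MvPolynomial (Fin r) A
  | 0 => fun a => C a
  | n + 1 => fun x => if h : x ∈ I ^ c then ∑ k, Φ n (φ k ⟨x, h⟩) * X k else 0

theorem mem_pow {n : ℕ} {x : A} (hx : x ∈ I ^ ((n + 1) * c)) : x ∈ I ^ c :=
  Ideal.pow_le_pow_right (Nat.le_mul_of_pos_left c (Nat.succ_pos n)) hx

theorem apply_mem (j : Fin r) {n : ℕ} {x : A} (hx : x ∈ I ^ ((n + 1) * c)) :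
    φ j ⟨x, mem_pow I c hx⟩ ∈ I ^ (n * c) := by
  have key : ∃ h : x ∈ I ^ c, φ j ⟨x, h⟩ ∈ I ^ (n * c) := by
    rw [add_mul, one_mul, pow_add] at hx
    refine Submodule.mul_induction_on hx (fun a ha y hy => ⟨Ideal.mul_mem_left _ a hy, ?_⟩) ?_
    · rw [show (⟨a * y, _⟩ : ↥(I ^ c)) = a • ⟨y, hy⟩ from rfl, map_smul, smul_eq_mul]
      exact Ideal.mul_mem_right _ _ ha
    · rintro a b ⟨ha, h1⟩ ⟨hb, h2⟩
      refine ⟨add_mem ha hb, ?_⟩
      rw [show (⟨a + b, _⟩ : ↥(I ^ c)) = ⟨a, ha⟩ + ⟨b, hb⟩ from rfl, map_add]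
      exact add_mem h1 h2
  exact key.2

theorem Φ_succ (n : ℕ) {x : A} (hx : x ∈ I ^ ((n + 1) * c)) :
    Φ I c φ (n + 1) x = ∑ k, Φ I c φ n (φ k ⟨x, mem_pow I c hx⟩) * X k := by
  simp only [Φ]
  rw [dif_pos (mem_pow I c hx)]

theorem Φ_add : ∀ n : ℕ, ∀ g ∈ I ^ (n * c), ∀ h ∈ I ^ (n * c), Φ I c φ n (g + h) = Φ I c φ n g + Φ I c φ n h
  | 0 => fun g _ h _ => map_add C g h
  | n + 1 => fun g hg h hh => by
    rw [Φ_succ I c φ n (add_mem hg hh), Φ_succ I c φ n hg, Φ_succ I c φ n hh, ← Finset.sum_add_distrib]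
    refine Finset.sum_congr rfl fun k _ => ?_
    rw [show (⟨g + h, _⟩ : ↥(I ^ c)) = ⟨g, mem_pow I c hg⟩ + ⟨h, mem_pow I c hh⟩ from rfl, map_add,
      Φ_add n _ (apply_mem I c φ k hg) _ (apply_mem I c φ k hh), add_mul]

theorem Φ_smul : ∀ (n : ℕ) (a : A), ∀ g ∈ I ^ (n * c), Φ I c φ n (a * g) = a • Φ I c φ n g
  | 0 => fun a g _ => by simp only [Φ]; rw [map_mul, C_mul']
  | n + 1 => fun a g hg => by
    rw [Φ_succ I c φ n (Ideal.mul_mem_left _ a hg), Φ_succ I c φ n hg, Finset.smul_sum]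
    refine Finset.sum_congr rfl fun k _ => ?_
    rw [show (⟨a * g, _⟩ : ↥(I ^ c)) = a • ⟨g, mem_pow I c hg⟩ from rfl, map_smul, smul_eq_mul,
      Φ_smul n a _ (apply_mem I c φ k hg), smul_mul_assoc]

theorem Φ_homogeneous : ∀ n : ℕ, ∀ g ∈ I ^ (n * c), (Φ I c φ n g).IsHomogeneous n
  | 0 => fun g _ => isHomogeneous_C _ g
  | n + 1 => fun g hg => by
    rw [Φ_succ I c φ n hg]
    exact IsHomogeneous.sum _ _ _ fun k _ => (Φ_homogeneous n _ (apply_mem I c φ k hg)).mul (isHomogeneous_X A k)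

theorem Φ_mul : ∀ n m : ℕ, ∀ g ∈ I ^ (n * c), ∀ h ∈ I ^ (m * c),
    Φ I c φ (n + m) (g * h) = Φ I c φ n g * Φ I c φ m h
  | n, 0 => fun g hg h _ => by
    simp only [add_zero, Φ]
    rw [mul_comm g h, Φ_smul I c φ n h g hg, mul_comm (Φ I c φ n g), C_mul']
  | n, m + 1 => fun g hg h hh => by
    have hgh : g * h ∈ I ^ ((n + m + 1) * c) := by
      rw [show (n + m + 1) * c = n * c + (m + 1) * c by ring, pow_add]
      exact Ideal.mul_mem_mul hg hh
    show Φ I c φ (n + m + 1) (g * h) = _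
    rw [Φ_succ I c φ (n + m) hgh, Φ_succ I c φ m hh, Finset.mul_sum]
    refine Finset.sum_congr rfl fun k _ => ?_
    rw [show (⟨g * h, _⟩ : ↥(I ^ c)) = g • ⟨h, mem_pow I c hh⟩ from rfl, map_smul, smul_eq_mul,
      Φ_mul n m g hg _ (apply_mem I c φ k hh), mul_assoc]

theorem Φ_one {g : A} (hg : g ∈ I ^ c) : Φ I c φ 1 g = ∑ j, C (φ j ⟨g, hg⟩) * X j := by
  rw [Φ_succ I c φ 0 (by rwa [zero_add, one_mul])]
  rfl

/-- The defining properties of a graded lift. -/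
def IsLift (Ψ : ℕ → A → MvPolynomial (Fin r) A) : Prop :=
  (∀ n : ℕ, ∀ g ∈ I ^ (n * c), ∀ h ∈ I ^ (n * c), Ψ n (g + h) = Ψ n g + Ψ n h) ∧
  (∀ (n : ℕ) (a : A), ∀ g ∈ I ^ (n * c), Ψ n (a * g) = a • Ψ n g) ∧
  (∀ n : ℕ, ∀ g ∈ I ^ (n * c), (Ψ n g).IsHomogeneous n) ∧
  (∀ n m : ℕ, ∀ g ∈ I ^ (n * c), ∀ h ∈ I ^ (m * c), Ψ (n + m) (g * h) = Ψ n g * Ψ m h) ∧
  (∀ a : A, Ψ 0 a = C a) ∧ (∀ (g : A) (hg : g ∈ I ^ c), Ψ 1 g = ∑ j, C (φ j ⟨g, hg⟩) * X j)

theorem isLift_Φ : IsLift I c φ (Φ I c φ) :=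
  ⟨Φ_add I c φ, Φ_smul I c φ, Φ_homogeneous I c φ, Φ_mul I c φ, fun _ => rfl, fun _ hg => Φ_one I c φ hg⟩

theorem IsLift.eq_Φ {Ψ : ℕ → A → MvPolynomial (Fin r) A} (h : IsLift I c φ Ψ) :
    ∀ n : ℕ, ∀ g ∈ I ^ (n * c), Ψ n g = Φ I c φ n g := by
  obtain ⟨hadd, -, -, hmul, h0, h1⟩ := h
  intro n
  induction n with
  | zero => exact fun g _ => h0 g
  | succ n ih =>
    intro g hg
    refine (?_ : g ∈ I ^ ((n + 1) * c) ∧ Ψ (n + 1) g = Φ I c φ (n + 1) g).2
    have hg' := hg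
    rw [add_mul, one_mul, pow_add] at hg'
    refine Submodule.mul_induction_on hg' (fun a ha b hb => ?_) fun a b ha hb => ⟨add_mem ha.1 hb.1, by
      rw [hadd _ a ha.1 b hb.1, Φ_add I c φ _ a ha.1 b hb.1, ha.2, hb.2]⟩
    refine ⟨by rw [add_mul, one_mul, pow_add]; exact Ideal.mul_mem_mul ha hb, ?_⟩
    have hb' : b ∈ I ^ (1 * c) := by rwa [one_mul]
    rw [hmul n 1 a ha b hb', Φ_mul I c φ n 1 a ha b hb', ih a ha, h1 b hb, Φ_one I c φ hb]

theorem IsLift.aeval_eq {Ψ : ℕ → A → MvPolynomial (Fin r) A} (h : IsLift I c φ Ψ)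
    (hφ : ∀ x : ↥(I ^ c), (x : A) = ∑ j, f j * φ j x) :
    ∀ n : ℕ, ∀ g ∈ I ^ (n * c), aeval f (Ψ n g) = g
  | 0 => fun g _ => by rw [h.2.2.2.2.1, aeval_C]; rfl
  | n + 1 => fun g hg => by
    rw [h.eq_Φ I c φ (n + 1) g hg, Φ_succ I c φ n hg, map_sum]
    refine Eq.trans ?_ (hφ ⟨g, mem_pow I c hg⟩).symm
    refine Finset.sum_congr rfl fun k _ => ?_
    rw [map_mul, aeval_X, ← h.eq_Φ I c φ n _ (apply_mem I c φ k hg),
      IsLift.aeval_eq h hφ n _ (apply_mem I c φ k hg), mul_comm]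

section Module

variable {B : Type u} [CommRing B] [Algebra A B] {N : Type u} [AddCommGroup N] [Module B N]

variable (B N) in
/-- The submodule generated by the products with elements of a power. -/
abbrev J (k : ℕ) : Submodule B N := Submodule.span B {y : N | ∃ g ∈ I ^ k, ∃ x : N, y = algebraMap A B g • x}

theorem smul_mem_J {k : ℕ} {g : A} (hg : g ∈ I ^ k) (x : N) : algebraMap A B g • x ∈ J I B N k :=
  Submodule.subset_span ⟨g, hg, x, rfl⟩

theorem J_le {k : ℕ} : J I B N k ≤ (I.map (algebraMap A B)) ^ k • (⊤ : Submodule B N) := by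
  rw [Submodule.span_le]
  rintro _ ⟨g, hg, x, rfl⟩
  rw [← Ideal.map_pow]
  exact Submodule.smul_mem_smul (Ideal.mem_map_of_mem _ hg) trivial

variable [IsNoetherianRing B] [Module.Finite B N]

theorem exists_bound : ∃ m : ℕ, ∀ v ∈ (I.map (algebraMap A B)) ^ m • (⊤ : Submodule B N),
    (∀ a ∈ I ^ c, algebraMap A B a • v = 0) → v = 0 := by
  let IB := I.map (algebraMap A B)
  let T : Submodule B N :=
    { carrier := {v | ∀ a ∈ I ^ c, algebraMap A B a • v = 0}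
      add_mem' := fun hv hw a ha => by rw [smul_add, hv a ha, hw a ha, add_zero]
      zero_mem' := fun a _ => smul_zero _
      smul_mem' := fun b v hv a ha => by rw [smul_comm, hv a ha, smul_zero] }
  obtain ⟨k, hk⟩ := Ideal.exists_pow_inf_eq_pow_smul IB T
  refine ⟨k + c, fun v hv hv' => ?_⟩
  have h : v ∈ IB ^ (k + c - k) • (IB ^ k • ⊤ ⊓ T) := hk (k + c) (Nat.le_add_right _ _) ▸ ⟨hv, hv'⟩
  rw [Nat.add_sub_cancel_left] at h
  refine Submodule.smul_induction_on h (fun b hb w hw => ?_) (fun x y hx hy => by rw [hx, hy, add_zero])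
  have hb' : b ∈ Ideal.map (algebraMap A B) (I ^ c) := by rwa [Ideal.map_pow]
  refine Submodule.span_induction (fun y hy => ?_) (zero_smul B w) (fun y z _ _ hy hz => by
    rw [add_smul, hy, hz, add_zero]) (fun s y _ hy => by rw [smul_eq_mul, mul_smul, hy, smul_zero]) hb'
  obtain ⟨a, ha, rfl⟩ := hy
  exact hw.2 a ha

/-- The maps extend to the module after enlarging the power. -/
theorem exists_ext {m : ℕ} (hm : ∀ v ∈ (I.map (algebraMap A B)) ^ m • (⊤ : Submodule B N),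
      (∀ a ∈ I ^ c, algebraMap A B a • v = 0) → v = 0) (j : Fin r) :
    ∃ ψ : ↥(J I B N (m + c)) →ₗ[B] N, ∀ (g : A) (hg : g ∈ I ^ (m + c)) (x : N),
      ψ ⟨algebraMap A B g • x, smul_mem_J I hg x⟩ =
        algebraMap A B (φ j ⟨g, Ideal.pow_le_pow_right (Nat.le_add_left c m) hg⟩) • x := by
  let P : Submodule B (N × N) := Submodule.span B {p : N × N | ∃ (g : A) (hg : g ∈ I ^ (m + c)) (x : N),
    p = (algebraMap A B g • x, algebraMap A B (φ j ⟨g, Ideal.pow_le_pow_right (Nat.le_add_left c m) hg⟩) • x)}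
  have hP : ∀ p ∈ P, (∀ a (ha : a ∈ I ^ c), algebraMap A B a • p.2 = algebraMap A B (φ j ⟨a, ha⟩) • p.1) ∧
      p.2 ∈ (I.map (algebraMap A B)) ^ m • (⊤ : Submodule B N) := by
    intro p hp
    refine Submodule.span_induction ?_ ⟨fun a ha => by simp, zero_mem _⟩
      (fun p q _ _ hp hq => ⟨fun a ha => by
        rw [Prod.snd_add, Prod.fst_add, smul_add, smul_add, hp.1 a ha, hq.1 a ha], add_mem hp.2 hq.2⟩)
      (fun b p _ hp => ⟨fun a ha => by
        rw [Prod.smul_snd, Prod.smul_fst, smul_comm, hp.1 a ha, smul_comm], Submodule.smul_mem _ b hp.2⟩) hp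
    rintro _ ⟨g, hg, x, rfl⟩
    have hgc : g ∈ I ^ c := Ideal.pow_le_pow_right (Nat.le_add_left c m) hg
    refine ⟨fun a ha => ?_, ?_⟩
    · rw [smul_smul, smul_smul, ← map_mul, ← map_mul]
      refine congrArg (fun t => algebraMap A B t • x) ?_
      have e : a • (⟨g, hgc⟩ : ↥(I ^ c)) = g • (⟨a, ha⟩ : ↥(I ^ c)) := Subtype.ext (mul_comm a g)
      have := congrArg (φ j) e
      rw [map_smul, map_smul, smul_eq_mul, smul_eq_mul] at this
      rw [this, mul_comm]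
    · refine Submodule.smul_mem_smul ?_ trivial
      rw [← Ideal.map_pow]
      refine Ideal.mem_map_of_mem _ ?_
      have key : ∃ h : g ∈ I ^ c, φ j ⟨g, h⟩ ∈ I ^ m := by
        rw [pow_add] at hg
        refine Submodule.mul_induction_on hg (fun a ha y hy => ⟨Ideal.mul_mem_left _ a hy, ?_⟩) ?_
        · rw [show (⟨a * y, _⟩ : ↥(I ^ c)) = a • ⟨y, hy⟩ from rfl, map_smul, smul_eq_mul]
          exact Ideal.mul_mem_right _ _ ha
        · rintro a b ⟨ha, h1⟩ ⟨hb, h2⟩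
          refine ⟨add_mem ha hb, ?_⟩
          rw [show (⟨a + b, _⟩ : ↥(I ^ c)) = ⟨a, ha⟩ + ⟨b, hb⟩ from rfl, map_add]
          exact add_mem h1 h2
      exact key.2
  let p1 : ↥P →ₗ[B] N := (LinearMap.fst B N N).comp P.subtype
  have hp0 : ∀ p : ↥P, p1 p = 0 → p = 0 := fun p hp => by
    have hp' : p.1.1 = 0 := hp
    refine Subtype.ext (Prod.ext hp' (hm _ (hP _ p.2).2 fun a ha => ?_))
    rw [(hP _ p.2).1 a ha, hp', smul_zero]
  have hp1 : Function.Injective p1 := fun a b h =>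
    sub_eq_zero.1 (hp0 _ ((LinearMap.map_sub p1 a b).trans (sub_eq_zero.2 h)))
  have hr : J I B N (m + c) ≤ LinearMap.range p1 := by
    rw [Submodule.span_le]
    rintro _ ⟨g, hg, x, rfl⟩
    exact ⟨⟨_, Submodule.subset_span ⟨g, hg, x, rfl⟩⟩, rfl⟩
  let e := LinearEquiv.ofInjective p1 hp1
  refine ⟨(LinearMap.snd B N N).comp (P.subtype.comp (e.symm.toLinearMap.comp (Submodule.inclusion hr))),
    fun g hg x => ?_⟩
  have he : e.symm (Submodule.inclusion hr ⟨algebraMap A B g • x, smul_mem_J I hg x⟩) =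
      ⟨(algebraMap A B g • x, algebraMap A B (φ j ⟨g, Ideal.pow_le_pow_right (Nat.le_add_left c m) hg⟩) • x),
        Submodule.subset_span ⟨g, hg, x, rfl⟩⟩ := e.symm_apply_eq.2 (Subtype.ext rfl)
  exact congrArg (fun p : ↥P => p.1.2) he

theorem smul_tmul_eq (a : A) (x : N) :
    (MvPolynomial.map (algebraMap A B) (C a : MvPolynomial (Fin r) A)) ⊗ₜ[B] x =
      (1 : MvPolynomial (Fin r) B) ⊗ₜ[B] (algebraMap A B a • x) := by
  rw [map_C, ← TensorProduct.smul_tmul, smul_eq_C_mul, mul_one]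

theorem exists_module_lift (hφ : ∀ x : ↥(I ^ c), (x : A) = ∑ j, f j * φ j x) :
    ∃ c' : ℕ, ∃ hcc' : c ≤ c', ∀ Φ' : ℕ → A → MvPolynomial (Fin r) A,
      IsLift I c' (fun j => (φ j).comp (Submodule.inclusion (Ideal.pow_le_pow_right hcc'))) Φ' →
      ∀ n : ℕ, ∃ Ψ : ↥(J I B N (n * c')) →ₗ[B] (MvPolynomial (Fin r) B ⊗[B] N),
        (∀ (g : A) (hg : g ∈ I ^ (n * c')) (x : N), Ψ ⟨algebraMap A B g • x, smul_mem_J I hg x⟩ =
          MvPolynomial.map (algebraMap A B) (Φ' n g) ⊗ₜ[B] x) ∧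
        (∀ y : ↥(J I B N (n * c')), TensorProduct.lift ((LinearMap.lsmul B N).comp
          (MvPolynomial.aeval (fun j ↦ algebraMap A B (f j))).toLinearMap) (Ψ y) = (y : N)) ∧
        (∀ Ψ' : ↥(J I B N (n * c')) →ₗ[B] (MvPolynomial (Fin r) B ⊗[B] N),
          (∀ (g : A) (hg : g ∈ I ^ (n * c')) (x : N), Ψ' ⟨algebraMap A B g • x, smul_mem_J I hg x⟩ =
            MvPolynomial.map (algebraMap A B) (Φ' n g) ⊗ₜ[B] x) → Ψ' = Ψ) := by
  obtain ⟨m, hm⟩ := exists_bound I c (B := B) (N := N)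
  choose ψ hψ using exists_ext I c φ hm
  let φ' : Fin r → (↥(I ^ (m + c)) →ₗ[A] A) := fun j =>
    (φ j).comp (Submodule.inclusion (Ideal.pow_le_pow_right (Nat.le_add_left c m)))
  refine ⟨m + c, Nat.le_add_left c m, fun Φ' hΦ => ?_⟩
  have hext : ∀ (k : ℕ) {M : Type u} [AddCommGroup M] [Module B M] (Ψ Ψ' : ↥(J I B N k) →ₗ[B] M),
      (∀ (g : A) (hg : g ∈ I ^ k) (x : N),
        Ψ ⟨algebraMap A B g • x, smul_mem_J I hg x⟩ = Ψ' ⟨algebraMap A B g • x, smul_mem_J I hg x⟩) → Ψ = Ψ' := by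
    intro k M _ _ Ψ Ψ' h
    refine LinearMap.ext fun ⟨y, hy⟩ => ?_
    induction hy using Submodule.span_induction with
    | mem y hy => obtain ⟨g, hg, x, rfl⟩ := hy; exact h g hg x
    | zero => exact (map_zero Ψ).trans (map_zero Ψ').symm
    | add a b ha hb iha ihb => exact (map_add Ψ ⟨a, ha⟩ ⟨b, hb⟩).trans ((congrArg₂ (· + ·) iha ihb).trans (map_add Ψ' ⟨a, ha⟩ ⟨b, hb⟩).symm)
    | smul s a ha iha => exact (map_smul Ψ s ⟨a, ha⟩).trans ((congrArg (s • ·) iha).trans (map_smul Ψ' s ⟨a, ha⟩).symm)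
  intro n
  suffices h : ∃ Ψ : ↥(J I B N (n * (m + c))) →ₗ[B] (MvPolynomial (Fin r) B ⊗[B] N),
      ∀ (g : A) (hg : g ∈ I ^ (n * (m + c))) (x : N), Ψ ⟨algebraMap A B g • x, smul_mem_J I hg x⟩ =
        MvPolynomial.map (algebraMap A B) (Φ' n g) ⊗ₜ[B] x by
    obtain ⟨Ψ, hΨ⟩ := h
    refine ⟨Ψ, hΨ, fun y => ?_, fun Ψ' hΨ' => hext _ _ _ fun g hg x => (hΨ' g hg x).trans (hΨ g hg x).symm⟩
    refine LinearMap.congr_fun (hext _ ((TensorProduct.lift ((LinearMap.lsmul B N).comp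
      (MvPolynomial.aeval (fun j ↦ algebraMap A B (f j))).toLinearMap)).comp Ψ) (Submodule.subtype _) ?_) y
    intro g hg x
    rw [LinearMap.comp_apply, hΨ g hg x, TensorProduct.lift.tmul]
    show aeval (fun j ↦ algebraMap A B (f j)) (MvPolynomial.map (algebraMap A B) (Φ' n g)) • x = algebraMap A B g • x
    rw [aeval_map_algebraMap, show (fun j => algebraMap A B (f j)) = algebraMap A B ∘ f from rfl, aeval_algebraMap_apply,
      IsLift.aeval_eq f I (m + c) φ' hΦ (fun t => hφ (Submodule.inclusion _ t)) n g hg]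
  induction n with
  | zero =>
    refine ⟨(TensorProduct.mk B (MvPolynomial (Fin r) B) N 1).comp (Submodule.subtype _), fun g hg x => ?_⟩
    rw [hΦ.2.2.2.2.1, smul_tmul_eq]
    rfl
  | succ n ih =>
    obtain ⟨Ψ, hΨ⟩ := ih
    have hle : J I B N ((n + 1) * (m + c)) ≤ J I B N (m + c) := Submodule.span_mono (by
      rintro _ ⟨g, hg, x, rfl⟩
      exact ⟨g, mem_pow I (m + c) hg, x, rfl⟩)
    have hmap : ∀ (k : Fin r) (y : ↥(J I B N ((n + 1) * (m + c)))),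
        ψ k (Submodule.inclusion hle y) ∈ J I B N (n * (m + c)) := by
      intro k y
      obtain ⟨y, hy⟩ := y
      induction hy using Submodule.span_induction with
      | mem y hy =>
        obtain ⟨g, hg, x, rfl⟩ := hy
        exact (hψ k g (mem_pow I (m + c) hg) x).symm ▸ smul_mem_J I (g := φ' k ⟨g, mem_pow I (m + c) hg⟩) (apply_mem I (m + c) φ' k hg) x
      | zero => exact (map_zero (ψ k)).symm ▸ zero_mem _
      | add a b ha hb iha ihb => exact (map_add (ψ k) (Submodule.inclusion hle ⟨a, ha⟩) (Submodule.inclusion hle ⟨b, hb⟩)).symm ▸ add_mem iha ihb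
      | smul s a ha iha => exact (map_smul (ψ k) s (Submodule.inclusion hle ⟨a, ha⟩)).symm ▸ Submodule.smul_mem _ s iha
    refine ⟨∑ k, (LinearMap.rTensor N (LinearMap.mulRight B (X k : MvPolynomial (Fin r) B))).comp
      (Ψ.comp (LinearMap.codRestrict _ ((ψ k).comp (Submodule.inclusion hle)) (hmap k))), fun g hg x => ?_⟩
    rw [LinearMap.coe_sum, Finset.sum_apply, IsLift.eq_Φ I (m + c) φ' hΦ (n + 1) g hg, Φ_succ I (m + c) φ' n hg,
      map_sum, TensorProduct.sum_tmul]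
    refine Finset.sum_congr rfl fun k _ => ?_
    have e : LinearMap.codRestrict (J I B N (n * (m + c))) ((ψ k).comp (Submodule.inclusion hle)) (hmap k)
        ⟨algebraMap A B g • x, smul_mem_J I hg x⟩ =
        ⟨algebraMap A B (φ' k ⟨g, mem_pow I (m + c) hg⟩) • x, smul_mem_J I (apply_mem I (m + c) φ' k hg) x⟩ :=
      Subtype.ext (hψ k g (mem_pow I (m + c) hg) x)
    rw [LinearMap.comp_apply, LinearMap.comp_apply, e, hΨ _ (apply_mem I (m + c) φ' k hg) x, LinearMap.rTensor_tmul,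
      IsLift.eq_Φ I (m + c) φ' hΦ n _ (apply_mem I (m + c) φ' k hg), map_mul, map_X, LinearMap.mulRight_apply]

end Module

end Groth.Agent.GrLib8.CdOneGraded
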