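import Groth.Agent.GrLib8.ComplGamma.System
import Groth.Agent.LocCohDepth.TorsionBC
import Groth.Agent.H9Misc.DRingLBase

/-!
# Base change of extended Čech complexes, and of derived torsion along Frobenius
-/

set_option autoImplicit false
set_option linter.style.haveILetI false
set_option backward.isDefEq.respectTransparency false

universe u

open CategoryTheory CategoryTheory.Limits Pretriangulated CochainComplex

attribute [local instance] HasDerivedCategory.standard

namespace Groth.Agent.GrLib8.CechBaseChange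

open Groth.Agent.H9Misc Groth.Agent.KFlatLib

variable {A B : Type u} [CommRing A] [CommRing B] (φ : A →+* B)

/-- The map out of a localisation. -/
noncomputable def liftHom (S : Submonoid A) {P Z : ModuleCat.{u} A} (g : P ⟶ Z)
    (hu : ∀ x : S, IsUnit ((algebraMap A (Module.End A Z)) x)) : (DerCA.locFunctor S).obj P ⟶ Z :=
  ModuleCat.ofHom (LocalizedModule.lift S g.hom hu)

theorem unit_liftHom (S : Submonoid A) {P Z : ModuleCat.{u} A} (g : P ⟶ Z)
    (hu : ∀ x : S, IsUnit ((algebraMap A (Module.End A Z)) x)) : (DerCA.locUnit S).app P ≫ liftHom S g hu = g :=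
  ModuleCat.hom_ext (LocalizedModule.lift_comp S _ hu)

/-- Extension of scalars of a localisation is the localisation of the extension. -/
theorem exists_κ (f : A) :
    ∃ κ : DerCA.locFunctor (Submonoid.powers f) ⋙ ModuleCat.extendScalars.{u, u, u} φ ≅
        ModuleCat.extendScalars.{u, u, u} φ ⋙ DerCA.locFunctor (Submonoid.powers (φ f)),
      ∀ P : ModuleCat.{u} A, (ModuleCat.extendScalars.{u, u, u} φ).map ((DerCA.locUnit (Submonoid.powers f)).app P) ≫
        κ.hom.app P = (DerCA.locUnit (Submonoid.powers (φ f))).app ((ModuleCat.extendScalars.{u, u, u} φ).obj P) := by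
  let F := ModuleCat.extendScalars.{u, u, u} φ
  let R := ModuleCat.restrictScalars.{u} φ
  let adj := ModuleCat.extendRestrictScalarsAdj.{u, u, u} φ
  let S := Submonoid.powers f
  let T := Submonoid.powers (φ f)
  have huR : ∀ (P : ModuleCat.{u} A) (x : S),
      IsUnit ((algebraMap A (Module.End A (R.obj ((DerCA.locFunctor T).obj (F.obj P))))) x) := by
    rintro P ⟨_, k, rfl⟩
    refine (Module.End.isUnit_iff _).2 ?_
    have h := (Module.End.isUnit_iff _).1 (IsLocalizedModule.map_units (S := T)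
      (LocalizedModule.mkLinearMap T (F.obj P)) ⟨φ (f ^ k), k, (map_pow φ f k).symm⟩)
    exact h
  have huF : ∀ (P : ModuleCat.{u} A) (x : T),
      IsUnit ((algebraMap B (Module.End B (F.obj ((DerCA.locFunctor S).obj P)))) x) := by
    rintro P ⟨_, k, rfl⟩
    haveI : IsIso (f ^ k • 𝟙 ((DerCA.locFunctor S).obj P)) := (ConcreteCategory.isIso_iff_bijective _).2 (by
      exact (Module.End.isUnit_iff _).1 (IsLocalizedModule.map_units (S := S) (LocalizedModule.mkLinearMap S P)
        ⟨f ^ k, k, rfl⟩))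
    have h : IsIso ((φ f) ^ k • 𝟙 (F.obj ((DerCA.locFunctor S).obj P))) := by
      rw [← map_pow, ← LocCohDepth.TorsBC.extend_map_smul]
      infer_instance
    exact (Module.End.isUnit_iff _).2 ((ConcreteCategory.isIso_iff_bijective _).1 h)
  let a : ∀ P : ModuleCat.{u} A, (DerCA.locFunctor S).obj P ⟶ R.obj ((DerCA.locFunctor T).obj (F.obj P)) := fun P =>
    liftHom S (adj.unit.app P ≫ R.map ((DerCA.locUnit T).app (F.obj P))) (huR P)
  have ha : ∀ P, (DerCA.locUnit S).app P ≫ a P = adj.unit.app P ≫ R.map ((DerCA.locUnit T).app (F.obj P)) :=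
    fun P => unit_liftHom S _ (huR P)
  let hom : ∀ P : ModuleCat.{u} A, F.obj ((DerCA.locFunctor S).obj P) ⟶ (DerCA.locFunctor T).obj (F.obj P) := fun P =>
    (adj.homEquiv _ _).symm (a P)
  have hsq : ∀ P, F.map ((DerCA.locUnit S).app P) ≫ hom P = (DerCA.locUnit T).app (F.obj P) := fun P => by
    show F.map _ ≫ (adj.homEquiv _ _).symm (a P) = _
    rw [← adj.homEquiv_naturality_left_symm, ha]
    exact (congrArg (adj.homEquiv _ _).symm (adj.homEquiv_unit _ _ _).symm).trans ((adj.homEquiv _ _).symm_apply_apply _)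
  let inv' : ∀ P : ModuleCat.{u} A, (DerCA.locFunctor T).obj (F.obj P) ⟶ F.obj ((DerCA.locFunctor S).obj P) := fun P =>
    ModuleCat.ofHom (LocalizedModule.lift T (F.map ((DerCA.locUnit S).app P)).hom (huF P))
  have hinv : ∀ P, (DerCA.locUnit T).app (F.obj P) ≫ inv' P = F.map ((DerCA.locUnit S).app P) :=
    fun P => ModuleCat.hom_ext (LocalizedModule.lift_comp T _ (huF P))
  have h1 : ∀ P, inv' P ≫ hom P = 𝟙 _ := fun P => ModuleCat.hom_ext
    (IsLocalizedModule.ext T (LocalizedModule.mkLinearMap T (F.obj P))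
      (IsLocalizedModule.map_units (LocalizedModule.mkLinearMap T (F.obj P)))
      (show ((DerCA.locUnit T).app (F.obj P) ≫ inv' P ≫ hom P).hom = ((DerCA.locUnit T).app (F.obj P) ≫ 𝟙 _).hom by
        rw [← Category.assoc, hinv, hsq, Category.comp_id]))
  have hext : ∀ (P : ModuleCat.{u} A) (X : ModuleCat.{u} B)
      (_ : ∀ x : S, IsUnit ((algebraMap A (Module.End A (R.obj X))) x))
      (g g' : F.obj ((DerCA.locFunctor S).obj P) ⟶ X),
      F.map ((DerCA.locUnit S).app P) ≫ g = F.map ((DerCA.locUnit S).app P) ≫ g' → g = g' := by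
    intro P X hX g g' h
    refine (adj.homEquiv _ _).injective (ModuleCat.hom_ext (IsLocalizedModule.ext S (LocalizedModule.mkLinearMap S P) hX ?_))
    show ((DerCA.locUnit S).app P ≫ adj.homEquiv _ _ g).hom = ((DerCA.locUnit S).app P ≫ adj.homEquiv _ _ g').hom
    rw [← adj.homEquiv_naturality_left, ← adj.homEquiv_naturality_left, h]
  have hRF : ∀ (P : ModuleCat.{u} A) (x : S),
      IsUnit ((algebraMap A (Module.End A (R.obj (F.obj ((DerCA.locFunctor S).obj P))))) x) := by
    rintro P ⟨_, k, rfl⟩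
    refine (Module.End.isUnit_iff _).2 ?_
    have h := (Module.End.isUnit_iff _).1 (huF P ⟨φ (f ^ k), k, (map_pow φ f k).symm⟩)
    exact h
  have h2 : ∀ P, hom P ≫ inv' P = 𝟙 _ := fun P => hext P _ (hRF P) _ _ (by
    rw [← Category.assoc, hsq, hinv, Category.comp_id])
  have hnat : ∀ {P Q : ModuleCat.{u} A} (g : P ⟶ Q),
      F.map ((DerCA.locFunctor S).map g) ≫ hom Q = hom P ≫ (DerCA.locFunctor T).map (F.map g) := fun {P Q} g =>
    hext P _ (huR Q) _ _ (by
      have e1 : (DerCA.locUnit S).app P ≫ (DerCA.locFunctor S).map g = g ≫ (DerCA.locUnit S).app Q :=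
        ((DerCA.locUnit S).naturality g).symm
      have e2 : F.map g ≫ (DerCA.locUnit T).app (F.obj Q) =
          (DerCA.locUnit T).app (F.obj P) ≫ (DerCA.locFunctor T).map (F.map g) := (DerCA.locUnit T).naturality (F.map g)
      rw [← Category.assoc, ← F.map_comp, e1, F.map_comp, Category.assoc, hsq, e2, ← Category.assoc, hsq])
  exact ⟨NatIso.ofComponents (fun P => ⟨hom P, inv' P, h2 P, h1 P⟩) fun g => hnat g, hsq⟩

/-- Extension of scalars commutes with extended Čech complexes. -/
theorem nonempty_extCech_map [IsNoetherianRing B] (M : ModuleCat.{u} A) : ∀ l : List A,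
    Nonempty (((ModuleCat.extendScalars.{u, u, u} φ).mapHomologicalComplex (ComplexShape.up ℤ)).obj (DerCA.extCech M l) ≅
      DerCA.extCech ((ModuleCat.extendScalars.{u, u, u} φ).obj M) (l.map φ)) := by
  intro l
  induction l with
  | nil => exact ⟨(HomologicalComplex.singleMapHomologicalComplex (ModuleCat.extendScalars.{u, u, u} φ) (ComplexShape.up ℤ) 0).app M⟩
  | cons f l ih =>
    obtain ⟨e⟩ := ih
    obtain ⟨κ, hκ⟩ := exists_κ φ f
    let FC := (ModuleCat.extendScalars.{u, u, u} φ).mapHomologicalComplex (ComplexShape.up ℤ)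
    let κC : FC.obj ((DerCA.locCx (Submonoid.powers f)).obj (DerCA.extCech M l)) ≅
        (DerCA.locCx (Submonoid.powers (φ f))).obj (FC.obj (DerCA.extCech M l)) :=
      HomologicalComplex.Hom.isoOfComponents (fun i => κ.app _) (fun i j _ => (κ.hom.naturality _).symm)
    refine ⟨(FC.commShiftIso (-1 : ℤ)).app _ ≪≫
      (CategoryTheory.shiftFunctor (DRing.Cx B) (-1 : ℤ)).mapIso (mappingCone.mapHomologicalComplexIso _ _) ≪≫
      ComplGamma.coconeMapIso _ _ e (κC ≪≫ (DerCA.locCx (Submonoid.powers (φ f))).mapIso e) ?_⟩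
    refine HomologicalComplex.hom_ext _ _ fun i => ?_
    show (ModuleCat.extendScalars.{u, u, u} φ).map ((DerCA.locUnit _).app _) ≫ κ.hom.app _ ≫
      (DerCA.locFunctor _).map (e.hom.f i) = e.hom.f i ≫ (DerCA.locUnit _).app _
    rw [← Category.assoc, hκ]
    exact ((DerCA.locUnit (Submonoid.powers (φ f))).naturality (e.hom.f i)).symm

theorem flat_extCech_X : ∀ (l : List A) (n : ℤ), Module.Flat A ((DerCA.extCech (ModuleCat.of A A) l).X n)
  | [], n => by
    by_cases hn : n = 0
    · subst hn
      exact Module.Flat.of_linearEquiv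
        (HomologicalComplex.singleObjXSelf (ComplexShape.up ℤ) 0 (ModuleCat.of A A)).toLinearEquiv
    · haveI : Subsingleton ((DerCA.extCech (ModuleCat.of A A) []).X n) := ModuleCat.subsingleton_of_isZero
        (HomologicalComplex.isZero_single_obj_X (ComplexShape.up ℤ) 0 (ModuleCat.of A A) n hn)
      exact @Module.Flat.of_free _ _ _ _ _ (Module.Free.of_subsingleton A _)
  | f :: l, n => by
    haveI := flat_extCech_X l (n - 1)
    haveI : Module.Flat A (Localization (Submonoid.powers f)) := IsLocalization.flat _ (Submonoid.powers f)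
    have h : Module.Flat A (LocalizedModule (Submonoid.powers f) ((DerCA.extCech (ModuleCat.of A A) l).X (n - 1))) :=
      Module.Flat.of_linearEquiv ((LocalizedModule.equivTensorProduct (Submonoid.powers f) _).restrictScalars A)
    exact (KFlatLib.ringCover A).of_iso
      (DerCA.mappingCoconeXIso (DerCA.locCxUnit (Submonoid.powers f) (DerCA.extCech (ModuleCat.of A A) l)) n).symm
      ((KFlatLib.ringCover A).biprod _ _ (flat_extCech_X l n) h)

theorem nonempty_extend_self : Nonempty ((ModuleCat.extendScalars.{u, u, u} φ).obj (ModuleCat.of A A) ≅ ModuleCat.of B B) := by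
  letI := φ.toAlgebra
  exact ⟨(TensorProduct.AlgebraTensorModule.rid A B B).toModuleIso⟩

/-- Derived torsion of the ring is invariant under Frobenius base change. -/
theorem nonempty_frobenius (p : ℕ) [Fact p.Prime] [IsNoetherianRing A] [CharP A p] (I : Ideal A)
    [DRing.HasRgammaI I] [DRing.HasLBaseChange (frobenius A p)] :
    Nonempty ((DRing.LBaseChange (frobenius A p)).obj ((DRing.RgammaI I).obj (Dual.inD A A)) ≅
      (DRing.RgammaI I).obj (Dual.inD A A)) := by
  obtain ⟨S, hS⟩ := (IsNoetherian.noetherian I : I.FG)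
  have hl : Ideal.ofList S.toList = I := by
    rw [Ideal.ofList, ← hS]
    exact congrArg Ideal.span (by ext; simp)
  let M := ModuleCat.of A A
  let φ := frobenius A p
  have hlI : ∀ f ∈ S.toList, f ∈ I := fun f hf => hl ▸ Ideal.subset_span hf
  obtain ⟨q, hq⟩ := ComplGamma.exists_proj I M S.toList hlI
  obtain ⟨e, -⟩ := ComplGamma.exists_iso_rgamma I M S.toList hl q hq
  have hKF : DRingLTensor.IsKF (DerCA.extCech M S.toList) :=
    DRingTor.isKF_of_flat (fun n => flat_extCech_X S.toList n) (b := (S.toList.length : ℤ))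
      (fun n hn => ExtCechTors.isZero_X_gt M S.toList n (by omega))
  obtain ⟨eb⟩ := DRingLBase.nonempty_lbase_iso φ hKF
  obtain ⟨ec⟩ := nonempty_extCech_map φ M S.toList
  obtain ⟨eM⟩ : Nonempty ((ModuleCat.extendScalars.{u, u, u} φ).obj M ≅ M) := nonempty_extend_self φ
  let l' := S.toList.map φ
  have hl'I : ∀ f ∈ l', f ∈ I := fun f hf => by
    obtain ⟨g, hg, rfl⟩ := List.mem_map.1 hf
    exact Ideal.pow_mem_of_mem _ (hlI g hg) p (Nat.Prime.pos Fact.out)
  obtain ⟨q', hq'⟩ := ComplGamma.exists_proj I ((ModuleCat.extendScalars.{u, u, u} φ).obj M) l' hl'I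
  have hrad : I ≤ (Ideal.ofList l').radical := by
    rw [← hl, Ideal.ofList, Ideal.span_le]
    intro g hg
    exact ⟨p, Ideal.subset_span (List.mem_map.2 ⟨g, hg, rfl⟩)⟩
  obtain ⟨N, hN⟩ := Ideal.exists_pow_le_of_le_radical_of_fg hrad (IsNoetherian.noetherian I)
  have hY : ∀ k, LocCoh.IsPowerTorsion I (Dual.HD A (ComplGamma.QC ((ModuleCat.extendScalars.{u, u, u} φ).obj M) l') k) :=
    fun k x => by
      obtain ⟨n, hn⟩ := ComplGamma.tors_hd (J := Ideal.ofList l') _ l' rfl k x
      exact ⟨N * n, fun a ha => hn a (Ideal.pow_right_mono hN n (by rwa [← pow_mul]))⟩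
  obtain ⟨e', -⟩ := ComplGamma.exists_iso_rgamma' I _ _ q' hY hq'
  exact ⟨(DRing.LBaseChange φ).mapIso e ≪≫ eb ≪≫ DerivedCategory.Q.mapIso ec ≪≫ e'.symm ≪≫
    (DRing.RgammaI I).mapIso ((DerivedCategory.singleFunctor (ModuleCat.{u} A) 0).mapIso eM)⟩

end Groth.Agent.GrLib8.CechBaseChange
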