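import Groth.Agent.GrLib8.CechInjective
import Mathlib.Algebra.Homology.ShortComplex.ShortExact
import Mathlib.Algebra.Homology.HomologicalComplexLimits

/-!
# Functoriality of the extended Cech complex
-/

set_option autoImplicit false
set_option linter.style.haveILetI false

universe u

open CategoryTheory Limits CochainComplex

namespace Groth.Agent.GrLib8.CechLC

variable {R : Type u} [CommRing R]

abbrev Cx (R : Type u) [CommRing R] := CochainComplex (ModuleCat.{u} R) ℤ

theorem locCxUnit_naturality (S : Submonoid R) {K L : Cx R} (α : K ⟶ L) :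
    DerCA.locCxUnit S K ≫ (DerCA.locCx S).map α = α ≫ DerCA.locCxUnit S L :=
  HomologicalComplex.hom_ext _ _ fun i => ((DerCA.locUnit S).naturality (α.f i)).symm

/-- The map of extended Cech complexes. -/
noncomputable def cechMap {M N : ModuleCat.{u} R} (g : M ⟶ N) :
    ∀ fs : List R, DerCA.extCech M fs ⟶ DerCA.extCech N fs
  | [] => (HomologicalComplex.single (ModuleCat.{u} R) (ComplexShape.up ℤ) 0).map g
  | f :: fs => (CategoryTheory.shiftFunctor (Cx R) (-1 : ℤ)).map
      (mappingCone.map (DerCA.locCxUnit (Submonoid.powers f) (DerCA.extCech M fs))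
        (DerCA.locCxUnit (Submonoid.powers f) (DerCA.extCech N fs)) (cechMap g fs)
        ((DerCA.locCx (Submonoid.powers f)).map (cechMap g fs)) (locCxUnit_naturality _ _))

section Cone

variable {K L K' L' : Cx R} (φ : K ⟶ L) (φ' : K' ⟶ L') (a : K ⟶ K') (b : L ⟶ L') (w : φ ≫ b = a ≫ φ')

theorem map_fst_apply (p : ℤ) (x : (mappingCone φ).X p) :
    ((mappingCone.fst φ').1.v p (p + 1) rfl).hom (((mappingCone.map φ φ' a b w).f p).hom x) =
      (a.f (p + 1)).hom (((mappingCone.fst φ).1.v p (p + 1) rfl).hom x) := by
  have h : (mappingCone.map φ φ' a b w).f p ≫ (mappingCone.fst φ').1.v p (p + 1) rfl =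
      (mappingCone.fst φ).1.v p (p + 1) rfl ≫ a.f (p + 1) :=
    mappingCone.ext_from φ (p + 1) p rfl (by simp [mappingCone.map]) (by simp [mappingCone.map])
  exact ConcreteCategory.congr_hom h x

theorem map_snd_apply (p : ℤ) (x : (mappingCone φ).X p) :
    ((mappingCone.snd φ').v p p (add_zero p)).hom (((mappingCone.map φ φ' a b w).f p).hom x) =
      (b.f p).hom (((mappingCone.snd φ).v p p (add_zero p)).hom x) := by
  have h : (mappingCone.map φ φ' a b w).f p ≫ (mappingCone.snd φ').v p p (add_zero p) =
      (mappingCone.snd φ).v p p (add_zero p) ≫ b.f p :=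
    mappingCone.ext_from φ (p + 1) p rfl (by simp [mappingCone.map]) (by simp [mappingCone.map])
  exact ConcreteCategory.congr_hom h x

theorem cone_ext {p : ℤ} {x y : (mappingCone φ).X p}
    (h1 : ((mappingCone.fst φ).1.v p (p + 1) rfl).hom x = ((mappingCone.fst φ).1.v p (p + 1) rfl).hom y)
    (h2 : ((mappingCone.snd φ).v p p (add_zero p)).hom x = ((mappingCone.snd φ).v p p (add_zero p)).hom y) : x = y := by
  have e := fun z => ConcreteCategory.congr_hom (mappingCone.id_X φ p (p + 1) rfl) z
  rw [← show _ = x from e x, ← show _ = y from e y]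
  simp only [ModuleCat.hom_add, ModuleCat.hom_comp, LinearMap.add_apply, LinearMap.comp_apply]
  erw [h1, h2]

theorem cone_mk (p : ℤ) (u : K.X (p + 1)) (v : L.X p) : ∃ x : (mappingCone φ).X p,
    ((mappingCone.fst φ).1.v p (p + 1) rfl).hom x = u ∧ ((mappingCone.snd φ).v p p (add_zero p)).hom x = v := by
  refine ⟨((mappingCone.inl φ).v (p + 1) p (by omega)).hom u + ((mappingCone.inr φ).f p).hom v, ?_, ?_⟩
  · rw [map_add]
    have h1 := ConcreteCategory.congr_hom (mappingCone.inl_v_fst_v φ (p + 1) p rfl) u
    have h2 := ConcreteCategory.congr_hom (mappingCone.inr_f_fst_v φ p (p + 1) rfl) v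
    erw [show _ = u from h1, show _ = (0 : K.X (p + 1)) from h2]
    rw [add_zero]
  · rw [map_add]
    have h1 := ConcreteCategory.congr_hom (mappingCone.inl_v_snd_v φ (p + 1) p (by omega)) u
    have h2 := ConcreteCategory.congr_hom (mappingCone.inr_f_snd_v φ p) v
    erw [show _ = (0 : L.X p) from h1, show _ = v from h2]
    rw [zero_add]

end Cone

variable {A B C : ModuleCat.{u} R} (g : A ⟶ B) (h : B ⟶ C) (hg : Function.Injective g.hom)
  (hh : Function.Surjective h.hom) (hex : Function.Exact g.hom h.hom)

include hg hh hex in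
theorem cechMap_exact : ∀ (fs : List R) (n : ℤ),
    Function.Injective ((cechMap g fs).f n).hom ∧ Function.Surjective ((cechMap h fs).f n).hom ∧
      Function.Exact ((cechMap g fs).f n).hom ((cechMap h fs).f n).hom
  | [], n => by
    rcases eq_or_ne n 0 with rfl | hn
    · let e : ∀ X : ModuleCat.{u} R, (DerCA.extCech X ([] : List R)).X 0 ≃ₗ[R] X :=
        fun X => (HomologicalComplex.singleObjXSelf (ComplexShape.up ℤ) 0 X).toLinearEquiv
      have he : ∀ {X Y : ModuleCat.{u} R} (k : X ⟶ Y) x, e Y (((cechMap k []).f 0).hom x) = k.hom (e X x) := by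
        intro X Y k x
        have h1 := ConcreteCategory.congr_hom (HomologicalComplex.single_map_f_self (ComplexShape.up ℤ) 0 k) x
        refine (congrArg (e Y) h1).trans ?_
        exact (e Y).apply_symm_apply _
      refine ⟨fun x y hxy => (e A).injective (hg ((he g x).symm.trans ((congrArg (e B) hxy).trans (he g y)))),
        fun z => ?_, fun x => ?_⟩
      · obtain ⟨y, hy⟩ := hh (e C z)
        exact ⟨(e B).symm y, (e C).injective ((he h _).trans (by rw [LinearEquiv.apply_symm_apply, hy]))⟩
      · rw [← (e C).map_eq_zero_iff, he, hex]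
        constructor
        · rintro ⟨y, hy⟩
          exact ⟨(e A).symm y, (e B).injective ((he g _).trans (by rw [LinearEquiv.apply_symm_apply, hy]))⟩
        · rintro ⟨y, rfl⟩
          exact ⟨_, (he g y).symm⟩
    · haveI : ∀ X : ModuleCat.{u} R, Subsingleton ((DerCA.extCech X ([] : List R)).X n) := fun X =>
        ModuleCat.subsingleton_of_isZero (HomologicalComplex.isZero_single_obj_X (ComplexShape.up ℤ) 0 X n hn)
      exact ⟨fun x y _ => Subsingleton.elim x y, fun z => ⟨0, Subsingleton.elim _ _⟩,
        fun x => ⟨fun _ => ⟨0, Subsingleton.elim _ _⟩, fun _ => Subsingleton.elim _ _⟩⟩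
  | f :: fs, n => by
    let S := Submonoid.powers f
    let p : ℤ := n + (-1)
    obtain ⟨i1, s1, e1⟩ := cechMap_exact fs (p + 1)
    obtain ⟨i0, s0, e0⟩ := cechMap_exact fs p
    let lA := LocalizedModule.mkLinearMap S ((DerCA.extCech A fs).X p)
    let lB := LocalizedModule.mkLinearMap S ((DerCA.extCech B fs).X p)
    let lC := LocalizedModule.mkLinearMap S ((DerCA.extCech C fs).X p)
    have iL : Function.Injective (((DerCA.locCx S).map (cechMap g fs)).f p).hom :=
      IsLocalizedModule.map_injective S lA lB _ i0
    have sL : Function.Surjective (((DerCA.locCx S).map (cechMap h fs)).f p).hom :=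
      IsLocalizedModule.map_surjective S lB lC _ s0
    have eL : Function.Exact (((DerCA.locCx S).map (cechMap g fs)).f p).hom (((DerCA.locCx S).map (cechMap h fs)).f p).hom :=
      IsLocalizedModule.map_exact S lA lB lC _ _ e0
    show Function.Injective ((mappingCone.map _ _ (cechMap g fs) ((DerCA.locCx S).map (cechMap g fs))
        (locCxUnit_naturality S _)).f p).hom ∧
      Function.Surjective ((mappingCone.map _ _ (cechMap h fs) ((DerCA.locCx S).map (cechMap h fs))
        (locCxUnit_naturality S _)).f p).hom ∧
      Function.Exact ((mappingCone.map _ _ (cechMap g fs) ((DerCA.locCx S).map (cechMap g fs))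
        (locCxUnit_naturality S _)).f p).hom ((mappingCone.map _ _ (cechMap h fs) ((DerCA.locCx S).map (cechMap h fs))
        (locCxUnit_naturality S _)).f p).hom
    refine ⟨fun x y hxy => cone_ext _ (i1 ?_) (iL ?_), fun z => ?_, fun x => ⟨fun hx => ?_, ?_⟩⟩
    · rw [← map_fst_apply _ _ _ _ (locCxUnit_naturality S _), ← map_fst_apply _ _ _ _ (locCxUnit_naturality S _), hxy]
    · rw [← map_snd_apply _ _ _ _ (locCxUnit_naturality S _), ← map_snd_apply _ _ _ _ (locCxUnit_naturality S _), hxy]
    · obtain ⟨u, hu⟩ := s1 (((mappingCone.fst (DerCA.locCxUnit S (DerCA.extCech C fs))).1.v p (p + 1) rfl).hom z)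
      obtain ⟨v, hv⟩ := sL (((mappingCone.snd (DerCA.locCxUnit S (DerCA.extCech C fs))).v p p (add_zero p)).hom z)
      obtain ⟨x, hx1, hx2⟩ := cone_mk (DerCA.locCxUnit S (DerCA.extCech B fs)) p u v
      refine ⟨x, cone_ext _ ?_ ?_⟩
      · rw [map_fst_apply, hx1, hu]
      · rw [map_snd_apply, hx2, hv]
    · obtain ⟨u, hu⟩ := (e1 _).1 ((map_fst_apply _ _ _ _ (locCxUnit_naturality S (cechMap h fs)) p x).symm.trans
        ((congrArg _ hx).trans (map_zero _)))
      obtain ⟨v, hv⟩ := (eL _).1 ((map_snd_apply _ _ _ _ (locCxUnit_naturality S (cechMap h fs)) p x).symm.trans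
        ((congrArg _ hx).trans (map_zero _)))
      obtain ⟨y, hy1, hy2⟩ := cone_mk (DerCA.locCxUnit S (DerCA.extCech A fs)) p u v
      refine ⟨y, cone_ext _ ?_ ?_⟩
      · rw [map_fst_apply, hy1, hu]
      · rw [map_snd_apply, hy2, hv]
    · rintro ⟨y, rfl⟩
      refine cone_ext _ ?_ ?_
      · rw [map_fst_apply, map_fst_apply, map_zero]
        exact (e1 _).2 ⟨_, rfl⟩
      · rw [map_snd_apply, map_snd_apply, map_zero]
        exact (eL _).2 ⟨_, rfl⟩

include hg hh hex in
/-- A short exact sequence gives a short exact sequence of extended Cech complexes. -/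
theorem exists_shortExact (fs : List R) : ∃ w : cechMap g fs ≫ cechMap h fs = 0,
    (ShortComplex.mk (cechMap g fs) (cechMap h fs) w).ShortExact := by
  have key := cechMap_exact g h hg hh hex fs
  refine ⟨HomologicalComplex.hom_ext _ _ fun n => ModuleCat.hom_ext (LinearMap.ext fun x => (key n).2.2.apply_apply_eq_zero x),
    HomologicalComplex.shortExact_of_degreewise_shortExact _ fun n => ?_⟩
  exact
    { exact := (ShortComplex.ShortExact.moduleCat_exact_iff_function_exact _).2 (key n).2.2
      mono_f := (ModuleCat.mono_iff_injective _).2 (key n).1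
      epi_g := (ModuleCat.epi_iff_surjective _).2 (key n).2.1 }

theorem cechMap_add {M N : ModuleCat.{u} R} (a b : M ⟶ N) : ∀ fs : List R,
    cechMap (a + b) fs = cechMap a fs + cechMap b fs
  | [] => Functor.map_add _
  | f :: fs => HomologicalComplex.hom_ext _ _ fun n => ModuleCat.hom_ext (LinearMap.ext fun x =>
      cone_ext _ (p := n + -1)
        (((map_fst_apply _ _ _ _ (locCxUnit_naturality (Submonoid.powers f) (cechMap (a + b) fs)) (n + -1) x).trans
          (by rw [cechMap_add a b fs]; exact (congrArg₂ (· + ·)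
            (map_fst_apply _ _ _ _ (locCxUnit_naturality (Submonoid.powers f) (cechMap a fs)) (n + -1) x)
            (map_fst_apply _ _ _ _ (locCxUnit_naturality (Submonoid.powers f) (cechMap b fs)) (n + -1) x)).symm)).trans
          (map_add _ _ _).symm)
        (((map_snd_apply _ _ _ _ (locCxUnit_naturality (Submonoid.powers f) (cechMap (a + b) fs)) (n + -1) x).trans
          (by rw [cechMap_add a b fs, (DerCA.locCx (Submonoid.powers f)).map_add]; exact (congrArg₂ (· + ·)
            (map_snd_apply _ _ _ _ (locCxUnit_naturality (Submonoid.powers f) (cechMap a fs)) (n + -1) x)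
            (map_snd_apply _ _ _ _ (locCxUnit_naturality (Submonoid.powers f) (cechMap b fs)) (n + -1) x)).symm)).trans
          (map_add _ _ _).symm))

theorem cechMap_smul {M N : ModuleCat.{u} R} (r : R) (a : M ⟶ N) : ∀ fs : List R,
    cechMap (r • a) fs = r • cechMap a fs
  | [] => HomologicalComplex.hom_ext _ _ fun n => by
    rcases eq_or_ne n 0 with rfl | hn
    · show ((HomologicalComplex.single (ModuleCat.{u} R) (ComplexShape.up ℤ) 0).map (r • a)).f 0 =
        r • ((HomologicalComplex.single (ModuleCat.{u} R) (ComplexShape.up ℤ) 0).map a).f 0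
      rw [HomologicalComplex.single_map_f_self, HomologicalComplex.single_map_f_self, Linear.smul_comp,
        Linear.comp_smul]
    · exact (HomologicalComplex.isZero_single_obj_X (ComplexShape.up ℤ) 0 N n hn).eq_of_tgt _ _
  | f :: fs => HomologicalComplex.hom_ext _ _ fun n => ModuleCat.hom_ext (LinearMap.ext fun x =>
      cone_ext _ (p := n + -1)
        (((map_fst_apply _ _ _ _ (locCxUnit_naturality (Submonoid.powers f) (cechMap (r • a) fs)) (n + -1) x).trans
          (by rw [cechMap_smul r a fs]; exact (congrArg (r • ·)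
            (map_fst_apply _ _ _ _ (locCxUnit_naturality (Submonoid.powers f) (cechMap a fs)) (n + -1) x)).symm)).trans
          (map_smul _ _ _).symm)
        (((map_snd_apply _ _ _ _ (locCxUnit_naturality (Submonoid.powers f) (cechMap (r • a) fs)) (n + -1) x).trans
          (by
            rw [cechMap_smul r a fs]
            refine Eq.trans ?_ (congrArg (r • ·)
              (map_snd_apply _ _ _ _ (locCxUnit_naturality (Submonoid.powers f) (cechMap a fs)) (n + -1) x)).symm
            exact LinearMap.congr_fun (map_smul (IsLocalizedModule.map (Submonoid.powers f)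
              (LocalizedModule.mkLinearMap _ _) (LocalizedModule.mkLinearMap _ _)) r
              ((cechMap a fs).f (n + -1)).hom) _)).trans
          (map_smul _ _ _).symm))

theorem cechMap_comp {M N P : ModuleCat.{u} R} (a : M ⟶ N) (b : N ⟶ P) : ∀ fs : List R,
    cechMap (a ≫ b) fs = cechMap a fs ≫ cechMap b fs
  | [] => Functor.map_comp _ _ _
  | f :: fs => HomologicalComplex.hom_ext _ _ fun n => ModuleCat.hom_ext (LinearMap.ext fun x =>
      cone_ext _ (p := n + -1)
        ((map_fst_apply _ _ _ _ (locCxUnit_naturality (Submonoid.powers f) (cechMap (a ≫ b) fs)) (n + -1) x).trans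
          (by
            rw [cechMap_comp a b fs]
            exact ((map_fst_apply _ _ _ _ (locCxUnit_naturality (Submonoid.powers f) (cechMap b fs)) (n + -1) _).trans
              (congrArg ((cechMap b fs).f (n + -1 + 1)).hom
                (map_fst_apply _ _ _ _ (locCxUnit_naturality (Submonoid.powers f) (cechMap a fs)) (n + -1) x))).symm))
        ((map_snd_apply _ _ _ _ (locCxUnit_naturality (Submonoid.powers f) (cechMap (a ≫ b) fs)) (n + -1) x).trans
          (by
            rw [cechMap_comp a b fs, (DerCA.locCx (Submonoid.powers f)).map_comp]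
            exact ((map_snd_apply _ _ _ _ (locCxUnit_naturality (Submonoid.powers f) (cechMap b fs)) (n + -1) _).trans
              (congrArg (((DerCA.locCx (Submonoid.powers f)).map (cechMap b fs)).f (n + -1)).hom
                (map_snd_apply _ _ _ _ (locCxUnit_naturality (Submonoid.powers f) (cechMap a fs)) (n + -1) x))).symm)))

theorem cechMap_zero (M N : ModuleCat.{u} R) (fs : List R) : cechMap (0 : M ⟶ N) fs = 0 := by
  have h := cechMap_add (0 : M ⟶ N) 0 fs
  rw [add_zero, left_eq_add] at h
  exact h

end Groth.Agent.GrLib8.CechLC
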