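import Groth.Agent.LC.ExtCechAcyclic
import Groth.Agent.LC.ExtCechZero
import Groth.Agent.LC.CohAcyclic

/-!
# The extended Cech complex of an injective module
-/

set_option autoImplicit false

universe u

open CategoryTheory Limits Pretriangulated HomotopyCategory

namespace Groth.Agent.GrLib8.CechInj

open LC.ExtCech

variable {R : Type u} [CommRing R]

theorem epi_quotient_map {K L : Cx R} (φ : K ⟶ L) (n : ℤ) [Epi (HomologicalComplex.homologyMap φ n)] :
    Epi ((homologyFunctor (ModuleCat.{u} R) (ComplexShape.up ℤ) n).map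
      ((HomotopyCategory.quotient (ModuleCat.{u} R) (ComplexShape.up ℤ)).map φ)) :=
  ((MorphismProperty.epimorphisms _).arrow_mk_iso_iff
    (Arrow.isoMk ((homologyFunctorFactors (ModuleCat.{u} R) (ComplexShape.up ℤ) n).app K)
      ((homologyFunctorFactors (ModuleCat.{u} R) (ComplexShape.up ℤ) n).app L)
      ((homologyFunctorFactors (ModuleCat.{u} R) (ComplexShape.up ℤ) n).hom.naturality φ).symm)).2
    (show Epi ((HomologicalComplex.homologyFunctor (ModuleCat.{u} R) (ComplexShape.up ℤ) n).map φ) from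
      inferInstanceAs (Epi (HomologicalComplex.homologyMap φ n)))

theorem isZero_cocone_above {K L : Cx R} (φ : K ⟶ L) (hK : ∀ q : ℤ, 1 ≤ q → IsZero (K.homology q))
    (hL : ∀ q : ℤ, 1 ≤ q → IsZero (L.homology q)) [Epi (HomologicalComplex.homologyMap φ 0)]
    (q : ℤ) (hq : 1 ≤ q) : IsZero ((CochainComplex.mappingCocone φ).homology q) := by
  obtain ⟨m, hm, rfl⟩ : ∃ m : ℤ, 0 ≤ m ∧ q = 1 + m := ⟨q - 1, by omega, by omega⟩
  have key : IsZero ((CochainComplex.mappingCone φ).homology m) := by
    refine (isZero_quotient_iff _ m).1 ?_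
    let F := homologyFunctor (ModuleCat.{u} R) (ComplexShape.up ℤ) m
    have hT := mappingCone_triangleh_distinguished φ
    refine (F.map_distinguished_exact _ (rot_of_distTriang _ hT)).isZero_of_both_zeros ?_ ?_
    · rcases eq_or_lt_of_le hm with hm' | hm'
      · subst hm'
        have hzero : F.map (CochainComplex.mappingCone.triangleh φ).mor₁ ≫
            F.map (CochainComplex.mappingCone.triangleh φ).mor₂ = 0 :=
          (F.map_comp _ _).symm.trans ((congrArg (fun v => F.map v) (comp_distTriang_mor_zero₁₂ _ hT)).trans (F.map_zero _ _))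
        exact (epi_quotient_map φ 0).left_cancellation _ _ (hzero.trans comp_zero.symm)
      · exact ((isZero_quotient_iff L m).2 (hL m (by omega))).eq_of_src _ _
    · have h1 : IsZero ((K⟦(1 : ℤ)⟧ : Cx R).homology m) :=
        (hK (1 + m) (by omega)).of_iso
          (((HomologicalComplex.homologyFunctor (ModuleCat.{u} R) (ComplexShape.up ℤ) 0).shiftIso 1 m (1 + m) rfl).app K)
      have h : IsZero (F.obj (((HomotopyCategory.quotient (ModuleCat.{u} R) (ComplexShape.up ℤ)).obj K)⟦(1 : ℤ)⟧)) :=
        ((isZero_quotient_iff (K⟦(1 : ℤ)⟧) m).2 h1).of_iso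
          (F.mapIso (((HomotopyCategory.quotient (ModuleCat.{u} R) (ComplexShape.up ℤ)).commShiftIso (1 : ℤ)).app K).symm)
      exact h.eq_of_tgt _ _
  exact key.of_iso (((HomologicalComplex.homologyFunctor (ModuleCat.{u} R) (ComplexShape.up ℤ) 0).shiftIso (-1) (1 + m) m
    (by omega)).app _)

theorem isZero_locCx_degree (S : Submonoid R) (K : Cx R) (q : ℤ) (hK : IsZero (K.homology q)) :
    IsZero (((DerCA.locCx S).obj K).homology q) := by
  have h := (K.exactAt_iff' (q - 1) q (q + 1) (by simp) (by simp)).1 ((K.exactAt_iff_isZero_homology q).2 hK)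
  rw [ShortComplex.moduleCat_exact_iff_ker_sub_range] at h
  refine ((DerCA.locCx S).obj K).exactAt_iff_isZero_homology q |>.1 ?_
  rw [((DerCA.locCx S).obj K).exactAt_iff' (q - 1) q (q + 1) (by simp) (by simp),
    ShortComplex.moduleCat_exact_iff]
  exact fun x hx => ((IsLocalizedModule.map_exact S (LocalizedModule.mkLinearMap S (K.X (q - 1)))
    (LocalizedModule.mkLinearMap S (K.X q)) (LocalizedModule.mkLinearMap S (K.X (q + 1)))
    (K.d (q - 1) q).hom (K.d q (q + 1)).hom (fun y => ⟨fun hy => h hy, fun ⟨z, hz⟩ => hz ▸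
      ConcreteCategory.congr_hom (K.d_comp_d (q - 1) q (q + 1)) z⟩)) x).1 hx

variable [IsNoetherianRing R]

theorem epi_unit (M : ModuleCat.{u} R) [Module.Injective R M] (fs : List R) (g : R) :
    Epi (HomologicalComplex.homologyMap (DerCA.locCxUnit (Submonoid.powers g) (DerCA.extCech M fs)) 0) := by
  let K := DerCA.extCech M fs
  let S := Submonoid.powers g
  let L := (DerCA.locCx S).obj K
  let φ : K ⟶ L := DerCA.locCxUnit S K
  suffices hc : Epi (HomologicalComplex.cyclesMap φ 0) by
    haveI : Epi (K.homologyπ 0 ≫ HomologicalComplex.homologyMap φ 0) := by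
      rw [HomologicalComplex.homologyπ_naturality]
      infer_instance
    exact epi_of_epi (K.homologyπ 0) _
  rw [ModuleCat.epi_iff_surjective]
  intro z
  let x : LocalizedModule S (K.X 0) := (L.iCycles 0).hom z
  have hx : (L.d 0 1).hom x = 0 := ConcreteCategory.congr_hom (L.iCycles_d 0 1) z
  obtain ⟨e, he⟩ := exists_X0_iso M fs
  let e' : K.X 0 ≃ₗ[R] M := e.toLinearEquiv
  have he' : ∀ y, (K.d 0 1).hom y = 0 ↔ y ∈ DRing.torsionSub (Ideal.span {a : R | a ∈ fs}) (K.X 0) := fun y => by
    rw [mem_torsionSub_span_iff]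
    refine (he y).trans (forall₂_congr fun f _ => exists_congr fun n => ?_)
    rw [← LinearEquiv.map_eq_zero_iff e', map_smul]
    rfl
  haveI : Module.Injective R (K.X 0) := LC.injective_of_linearEquiv e'.symm
  have hxt : x ∈ DRing.torsionSub (Ideal.span {a : R | a ∈ fs}) (LocalizedModule S (K.X 0)) := by
    clear_value x
    induction x using LocalizedModule.induction_on with
    | h y s =>
      have h1 : IsLocalizedModule.map S (LocalizedModule.mkLinearMap S (K.X 0)) (LocalizedModule.mkLinearMap S (K.X 1))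
          (K.d 0 1).hom (LocalizedModule.mk y s) = 0 := hx
      rw [IsLocalizedModule.mk_eq_mk', IsLocalizedModule.map_mk', IsLocalizedModule.mk'_eq_zero'] at h1
      obtain ⟨t, ht⟩ := h1
      rw [Submonoid.smul_def, ← map_smul, he'] at ht
      obtain ⟨n, hn⟩ := ht
      refine ⟨n, fun a ha => ?_⟩
      rw [LocalizedModule.smul'_mk, ← LocalizedModule.mk_cancel_common_left t s (a • y), Submonoid.smul_def,
        smul_comm, hn a ha, LocalizedModule.zero_mk]
  obtain ⟨w, hw, hwx⟩ := LC.exists_lift_of_hasDiv (LC.hasDiv_of_injective (K.X 0)) _ g hxt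
  let i : ModuleCat.of R R ⟶ K.X 0 := ModuleCat.ofHom (LinearMap.toSpanSingleton R _ w)
  have hi : i ≫ K.d 0 1 = 0 := ModuleCat.hom_ext (LinearMap.ext_ring (by
    show (K.d 0 1).hom ((1 : R) • w) = 0
    rw [one_smul, (he' w).2 hw]))
  refine ⟨(K.liftCycles i 1 (by simp) hi).hom 1, ?_⟩
  apply (ModuleCat.mono_iff_injective (L.iCycles 0)).1 inferInstance
  refine (ConcreteCategory.congr_hom (HomologicalComplex.cyclesMap_i φ 0) _).trans ?_
  show (φ.f 0).hom ((K.iCycles 0).hom ((K.liftCycles i 1 (by simp) hi).hom 1)) = x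
  rw [show (K.iCycles 0).hom ((K.liftCycles i 1 (by simp) hi).hom 1) = i.hom 1 from
    ConcreteCategory.congr_hom (K.liftCycles_i i 1 (by simp) hi) 1]
  show LocalizedModule.mkLinearMap S (K.X 0) ((1 : R) • w) = x
  rw [one_smul]
  exact hwx

theorem isZero_extCech_injective (M : ModuleCat.{u} R) [Module.Injective R M] :
    ∀ (fs : List R) (q : ℤ), 1 ≤ q → IsZero ((DerCA.extCech M fs).homology q)
  | [], q, hq => ShortComplex.isZero_homology_of_isZero_X₂ _
      (HomologicalComplex.isZero_single_obj_X (ComplexShape.up ℤ) 0 M q (by omega))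
  | g :: fs, q, hq => by
    haveI := epi_unit M fs g
    exact isZero_cocone_above _ (isZero_extCech_injective M fs)
      (fun p hp => isZero_locCx_degree _ _ p (isZero_extCech_injective M fs p hp)) q hq

end Groth.Agent.GrLib8.CechInj
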