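import Groth.Agent.GrLib8.CechFunct
import Groth.Agent.LC.GammaRes
import Groth.Agent.LC.CohDT
import Groth.Agent.LC.InjBasic
import Mathlib.Algebra.Homology.HomologySequence

/-!
# The extended Cech complex computes local cohomology
-/

set_option autoImplicit false
set_option linter.style.haveILetI false

universe u

open CategoryTheory Limits

namespace Groth.Agent.GrLib8.CechLC

open LC.ExtCech (isZero_extCech_X_neg exists_X0_iso mem_torsionSub_span_iff)

variable {R : Type u} [CommRing R]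

/-- The degree-zero term is the module itself. -/
noncomputable def pi0 (M : ModuleCat.{u} R) : ∀ fs : List R, (DerCA.extCech M fs).X 0 ⟶ M
  | [] => (HomologicalComplex.singleObjXSelf (ComplexShape.up ℤ) 0 M).hom
  | g :: fs => (CochainComplex.mappingCone.fst
      (DerCA.locCxUnit (Submonoid.powers g) (DerCA.extCech M fs))).1.v (-1) 0 rfl ≫ pi0 M fs

theorem pi0_natural {M N : ModuleCat.{u} R} (k : M ⟶ N) : ∀ fs : List R,
    (cechMap k fs).f 0 ≫ pi0 N fs = pi0 M fs ≫ k
  | [] => by
    show ((HomologicalComplex.single (ModuleCat.{u} R) (ComplexShape.up ℤ) 0).map k).f 0 ≫ _ = _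
    rw [HomologicalComplex.single_map_f_self]
    simp [pi0]
    rfl
  | g :: fs => by
    refine ModuleCat.hom_ext (LinearMap.ext fun x => ?_)
    refine (congrArg (pi0 N fs).hom ?_).trans (ConcreteCategory.congr_hom (pi0_natural k fs)
      (((CochainComplex.mappingCone.fst (DerCA.locCxUnit (Submonoid.powers g) (DerCA.extCech M fs))).1.v (-1) 0 rfl).hom x))
    exact map_fst_apply _ _ _ _ (locCxUnit_naturality (Submonoid.powers g) (cechMap k fs)) (-1) _

theorem pi0_spec (M : ModuleCat.{u} R) : ∀ fs : List R, Function.Bijective (pi0 M fs).hom ∧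
    ∀ x, ((DerCA.extCech M fs).d 0 1).hom x = 0 ↔ ∀ f ∈ fs, ∃ k : ℕ, f ^ k • (pi0 M fs).hom x = 0
  | [] => by
    refine ⟨ConcreteCategory.bijective_of_isIso (HomologicalComplex.singleObjXSelf (ComplexShape.up ℤ) 0 M).hom,
      fun x => ?_⟩
    have h : (DerCA.extCech M ([] : List R)).d 0 1 = 0 :=
      (HomologicalComplex.isZero_single_obj_X (ComplexShape.up ℤ) 0 M 1 (by omega)).eq_of_tgt _ _
    rw [h]
    exact ⟨fun _ f hf => absurd hf List.not_mem_nil, fun _ => rfl⟩
  | g :: fs => by
    obtain ⟨hbij, he⟩ := pi0_spec M fs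
    let φ := DerCA.locCxUnit (Submonoid.powers g) (DerCA.extCech M fs)
    let C := CochainComplex.mappingCone φ
    have hL : IsZero (((DerCA.locCx (Submonoid.powers g)).obj (DerCA.extCech M fs)).X (-1)) :=
      Functor.map_isZero (DerCA.locFunctor (Submonoid.powers g)) (isZero_extCech_X_neg M fs (-1) (by omega))
    let p : C.X (-1) ⟶ (DerCA.extCech M fs).X 0 := (CochainComplex.mappingCone.fst φ).1.v (-1) 0 rfl
    haveI hp : IsIso p := ⟨(CochainComplex.mappingCone.inl φ).v 0 (-1) rfl, by
      have h := CochainComplex.mappingCone.id_X φ (-1) 0 rfl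
      rw [hL.eq_of_tgt ((CochainComplex.mappingCone.snd φ).v (-1) (-1) (add_zero _)) 0, zero_comp, add_zero] at h
      exact h, CochainComplex.mappingCone.inl_v_fst_v φ 0 (-1) rfl⟩
    refine ⟨hbij.comp (ConcreteCategory.bijective_of_isIso p), fun x => ?_⟩
    have hd : (DerCA.extCech M (g :: fs)).d 0 1 = -(C.d (-1) 0) := by
      show (-1 : ℤ).negOnePow • C.d (-1) 0 = _
      rw [Int.negOnePow_odd _ (odd_neg_one), Units.neg_smul, one_smul]
    rw [hd]
    show -((C.d (-1) 0).hom x) = 0 ↔ ∀ f ∈ g :: fs, ∃ k : ℕ, f ^ k • (pi0 M fs).hom (p x) = 0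
    rw [neg_eq_zero]
    have h1 : C.d (-1) 0 ≫ (CochainComplex.mappingCone.fst φ).1.v 0 1 rfl = -(p ≫ (DerCA.extCech M fs).d 0 1) :=
      CochainComplex.mappingCone.d_fst_v φ (-1) 0 1 rfl rfl
    have h2 : C.d (-1) 0 ≫ (CochainComplex.mappingCone.snd φ).v 0 0 (add_zero _) = p ≫ φ.f 0 := by
      rw [CochainComplex.mappingCone.d_snd_v φ (-1) 0 rfl]
      rw [hL.eq_of_tgt ((CochainComplex.mappingCone.snd φ).v (-1) (-1) (add_zero _)) 0, zero_comp, add_zero]
    have hiff : (C.d (-1) 0).hom x = 0 ↔ ((DerCA.extCech M fs).d 0 1).hom (p x) = 0 ∧ (φ.f 0).hom (p x) = 0 := by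
      constructor
      · intro hx
        have e1 := ConcreteCategory.congr_hom h1 x
        have e2 := ConcreteCategory.congr_hom h2 x
        change _ = -_ at e1
        simp only [ConcreteCategory.comp_apply, hx, map_zero] at e1 e2
        exact ⟨neg_eq_zero.1 e1.symm, e2.symm⟩
      · rintro ⟨hx1, hx2⟩
        have e := ConcreteCategory.congr_hom (CochainComplex.mappingCone.id_X φ 0 1 rfl) ((C.d (-1) 0).hom x)
        refine e.symm.trans ?_
        have e1 := ConcreteCategory.congr_hom h1 x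
        have e2 := ConcreteCategory.congr_hom h2 x
        change _ = -_ at e1
        simp only [ConcreteCategory.comp_apply] at e1 e2
        simp only [ModuleCat.hom_add, ModuleCat.hom_comp, LinearMap.add_apply, LinearMap.comp_apply]
        erw [e1, e2, hx1, hx2]
        simp
    rw [hiff, he, List.forall_mem_cons, and_comm]
    refine and_congr_left fun _ => ?_
    show LocalizedModule.mkLinearMap (Submonoid.powers g) ((DerCA.extCech M fs).X 0) (p x) = 0 ↔ _
    rw [IsLocalizedModule.eq_zero_iff (Submonoid.powers g)]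
    constructor
    · rintro ⟨⟨_, k, rfl⟩, hk⟩
      exact ⟨k, (map_smul (pi0 M fs).hom (g ^ k) (p x)).symm.trans ((congrArg (pi0 M fs).hom hk).trans (map_zero _))⟩
    · rintro ⟨k, hk⟩
      exact ⟨⟨g ^ k, k, rfl⟩, hbij.1 ((map_smul (pi0 M fs).hom (g ^ k) (p x)).trans (hk.trans (map_zero _).symm))⟩

variable (fs : List R)

set_option quotPrecheck false in
local notation "I₀" => Ideal.span {x : R | x ∈ fs}

theorem d01_eq_zero_iff {M : ModuleCat.{u} R} (x : (DerCA.extCech M fs).X 0) :
    ((DerCA.extCech M fs).d 0 1).hom x = 0 ↔ (pi0 M fs).hom x ∈ DRing.torsionSub I₀ M :=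
  ((pi0_spec M fs).2 x).trans (mem_torsionSub_span_iff fs _).symm

/-- The degree-zero cohomology, inside the module. -/
noncomputable def sig (M : ModuleCat.{u} R) : (DerCA.extCech M fs).homology 0 ⟶ M :=
  ((DerCA.extCech M fs).isoHomologyπ (-1) 0 (by simp)
      ((isZero_extCech_X_neg M fs (-1) (by omega)).eq_of_src _ _)).inv ≫ (DerCA.extCech M fs).iCycles 0 ≫ pi0 M fs

theorem homologyπ_sig (M : ModuleCat.{u} R) :
    (DerCA.extCech M fs).homologyπ 0 ≫ sig fs M = (DerCA.extCech M fs).iCycles 0 ≫ pi0 M fs := by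
  rw [sig, ← Category.assoc]
  exact congrArg (· ≫ (DerCA.extCech M fs).iCycles 0 ≫ pi0 M fs) ((DerCA.extCech M fs).isoHomologyπ (-1) 0 (by simp)
      ((isZero_extCech_X_neg M fs (-1) (by omega)).eq_of_src _ _)).hom_inv_id |>.trans (Category.id_comp _)

theorem sig_natural {M N : ModuleCat.{u} R} (k : M ⟶ N) :
    HomologicalComplex.homologyMap (cechMap k fs) 0 ≫ sig fs N = sig fs M ≫ k := by
  rw [← cancel_epi ((DerCA.extCech M fs).homologyπ 0), HomologicalComplex.homologyπ_naturality_assoc, homologyπ_sig,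
    ← Category.assoc ((DerCA.extCech M fs).homologyπ 0), homologyπ_sig, HomologicalComplex.cyclesMap_i_assoc,
    pi0_natural, Category.assoc]

theorem sig_injective (M : ModuleCat.{u} R) : Function.Injective (sig fs M).hom := by
  refine ((pi0_spec M fs).1.1.comp ((ModuleCat.mono_iff_injective ((DerCA.extCech M fs).iCycles 0)).1 inferInstance)).comp ?_
  exact (ConcreteCategory.bijective_of_isIso ((DerCA.extCech M fs).isoHomologyπ (-1) 0 (by simp)
      ((isZero_extCech_X_neg M fs (-1) (by omega)).eq_of_src _ _)).inv).1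

theorem exists_cycle {M : ModuleCat.{u} R} (n : ℤ) (x : (DerCA.extCech M fs).X n)
    (hx : ((DerCA.extCech M fs).d n (n + 1)).hom x = 0) :
    ∃ z : (DerCA.extCech M fs).cycles n, ((DerCA.extCech M fs).iCycles n).hom z = x := by
  let K := DerCA.extCech M fs
  let i : ModuleCat.of R R ⟶ K.X n := ModuleCat.ofHom (LinearMap.toSpanSingleton R _ x)
  have hi : i ≫ K.d n (n + 1) = 0 := ModuleCat.hom_ext (LinearMap.ext_ring (by
    show (K.d n (n + 1)).hom ((1 : R) • x) = 0
    rw [one_smul, hx]))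
  refine ⟨(K.liftCycles i (n + 1) (by simp) hi).hom 1, ?_⟩
  exact (ConcreteCategory.congr_hom (K.liftCycles_i i (n + 1) (by simp) hi) 1).trans (one_smul R x)

theorem sig_mem {M : ModuleCat.{u} R} (y : (DerCA.extCech M fs).homology 0) :
    (sig fs M).hom y ∈ DRing.torsionSub I₀ M := by
  obtain ⟨z, rfl⟩ := (ModuleCat.epi_iff_surjective ((DerCA.extCech M fs).homologyπ 0)).1 inferInstance y
  have h : (sig fs M).hom (((DerCA.extCech M fs).homologyπ 0).hom z) =
      (pi0 M fs).hom (((DerCA.extCech M fs).iCycles 0).hom z) := ConcreteCategory.congr_hom (homologyπ_sig fs M) z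
  rw [h, ← d01_eq_zero_iff]
  exact ConcreteCategory.congr_hom ((DerCA.extCech M fs).iCycles_d 0 1) z

theorem sig_surj {M : ModuleCat.{u} R} {m : M} (hm : m ∈ DRing.torsionSub I₀ M) :
    ∃ y, (sig fs M).hom y = m := by
  obtain ⟨x, rfl⟩ := (pi0_spec M fs).1.2 m
  obtain ⟨z, hz⟩ := exists_cycle fs 0 x ((d01_eq_zero_iff fs x).2 hm)
  exact ⟨((DerCA.extCech M fs).homologyπ 0).hom z,
    (ConcreteCategory.congr_hom (homologyπ_sig fs M) z).trans (congrArg (pi0 M fs).hom hz)⟩

variable [IsNoetherianRing R]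

theorem exists_presentation (M : ModuleCat.{u} R) :
    ∃ (E Q : ModuleCat.{u} R) (_ : Module.Injective R E) (f : M ⟶ E) (g : E ⟶ Q),
      Function.Injective f.hom ∧ Function.Surjective g.hom ∧ Function.Exact f.hom g.hom := by
  obtain ⟨J, _, _, hJ, i, hi⟩ := LC.exists_injective_embedding R M
  exact ⟨ModuleCat.of R J, ModuleCat.of R (J ⧸ LinearMap.range i), hJ, ModuleCat.ofHom i,
    ModuleCat.ofHom (LinearMap.range i).mkQ, hi, Submodule.mkQ_surjective _, LinearMap.exact_map_mkQ_range i⟩

/-- The extended Cech complex computes local cohomology. -/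
theorem nonempty_equiv : ∀ (i : ℕ) (M : ModuleCat.{u} R),
    Nonempty ((DerCA.extCech M fs).homology (i : ℤ) ≃ₗ[R] (localCohomology I₀ i).obj M) := by
  intro i
  induction i with
  | zero =>
    intro M
    let σ : (DerCA.extCech M fs).homology 0 →ₗ[R] DRing.torsionSub I₀ M :=
      (sig fs M).hom.codRestrict _ (sig_mem fs)
    have hσ : Function.Bijective σ := ⟨fun a b h => sig_injective fs M (congrArg Subtype.val h), fun m => by
      obtain ⟨y, hy⟩ := sig_surj fs m.2
      exact ⟨y, Subtype.ext hy⟩⟩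
    exact ⟨(LinearEquiv.ofBijective σ hσ).trans (LC.H0Equiv I₀ M).symm⟩
  | succ i ih =>
    intro M
    obtain ⟨E, Q, _, f, g, hf, hg, hex⟩ := exists_presentation M
    let S : ShortComplex (ModuleCat.{u} R) := ShortComplex.mk f g (ModuleCat.hom_ext (LinearMap.ext hex.apply_apply_eq_zero))
    have hS : S.ShortExact :=
      { exact := (ShortComplex.ShortExact.moduleCat_exact_iff_function_exact _).2 hex
        mono_f := (ModuleCat.mono_iff_injective _).2 hf
        epi_g := (ModuleCat.epi_iff_surjective _).2 hg }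
    haveI : CategoryTheory.Injective E := Module.injective_object_of_injective_module R E
    have hX : ∀ j, Subsingleton ((localCohomology I₀ (j + 1)).obj S.X₂) := fun j => LC.subsingleton_of_injective I₀ E j
    obtain ⟨w, hK⟩ := exists_shortExact f g hf hg hex fs
    have hE : ∀ q : ℤ, 1 ≤ q → IsZero ((DerCA.extCech E fs).homology q) := CechInj.isZero_extCech_injective E fs
    let δ := hK.δ (i : ℤ) ((i + 1 : ℕ) : ℤ) (by simp)
    have hδs : Function.Surjective δ.hom := fun z => by
      have h := hK.homology_exact₁ (i : ℤ) ((i + 1 : ℕ) : ℤ) (by simp)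
      rw [ShortComplex.moduleCat_exact_iff] at h
      haveI := ModuleCat.subsingleton_of_isZero (hE ((i + 1 : ℕ) : ℤ) (by omega))
      exact h z (Subsingleton.elim _ _)
    have hδk : ∀ y, δ.hom y = 0 ↔ ∃ x, (HomologicalComplex.homologyMap (cechMap g fs) (i : ℤ)).hom x = y := fun y => by
      have h := hK.homology_exact₃ (i : ℤ) ((i + 1 : ℕ) : ℤ) (by simp)
      exact (ShortComplex.ShortExact.moduleCat_exact_iff_function_exact _).1 h y
    cases i with
    | zero =>
      let σ : DRing.torsionSub I₀ Q →ₗ[R] (DerCA.extCech Q fs).homology 0 :=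
        (LinearEquiv.ofBijective ((sig fs Q).hom.codRestrict (DRing.torsionSub I₀ Q) (sig_mem fs))
          ⟨fun a b h => sig_injective fs Q (congrArg Subtype.val h), fun m => by
            obtain ⟨y, hy⟩ := sig_surj fs m.2
            exact ⟨y, Subtype.ext hy⟩⟩).symm.toLinearMap
      have hσ : ∀ m : DRing.torsionSub I₀ Q, (sig fs Q).hom (σ m) = m := fun m =>
        congrArg Subtype.val (LinearEquiv.apply_symm_apply (LinearEquiv.ofBijective
          ((sig fs Q).hom.codRestrict (DRing.torsionSub I₀ Q) (sig_mem fs)) _) m)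
      let a : DRing.torsionSub I₀ Q →ₗ[R] (DerCA.extCech M fs).homology ((0 + 1 : ℕ) : ℤ) := δ.hom ∘ₗ σ
      have hσs : Function.Surjective σ := LinearEquiv.surjective _
      have hak : LinearMap.ker a = LinearMap.ker (LC.coker₁ I₀ hS) := by
        ext m
        refine Iff.trans ?_ (LC.coker₁_eq_zero_iff I₀ hS m).symm
        refine (hδk (σ m)).trans ⟨?_, ?_⟩
        · rintro ⟨x, hx⟩
          refine ⟨(sig fs E).hom x, sig_mem fs x, ?_⟩
          refine (ConcreteCategory.congr_hom (sig_natural fs g) x).symm.trans ?_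
          exact (congrArg (sig fs Q).hom hx).trans (hσ m)
        · rintro ⟨e, he, hem⟩
          obtain ⟨x, rfl⟩ := sig_surj fs he
          refine ⟨x, sig_injective fs Q ?_⟩
          exact ((ConcreteCategory.congr_hom (sig_natural fs g) x).trans hem).trans (hσ m).symm
      exact ⟨((a.quotKerEquivOfSurjective (hδs.comp hσs)).symm.trans (Submodule.quotEquivOfEq _ _ hak)).trans
        ((LC.coker₁ I₀ hS).quotKerEquivOfSurjective (LC.coker₁_surjective I₀ hS hX))⟩
    | succ j =>
      obtain ⟨e⟩ := ih Q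
      have hδi : Function.Injective δ.hom := (injective_iff_map_eq_zero δ.hom).2 fun y hy => by
        obtain ⟨x, rfl⟩ := (hδk y).1 hy
        haveI := ModuleCat.subsingleton_of_isZero (hE ((j + 1 : ℕ) : ℤ) (by omega))
        rw [Subsingleton.elim x 0, map_zero]
      exact ⟨((LinearEquiv.ofBijective δ.hom ⟨hδi, hδs⟩).symm.trans e).trans (LC.shiftEquiv I₀ hS hX j)⟩

theorem DT_map_injective {A B : ModuleCat.{u} R} (f : A ⟶ B) (hf : Function.Injective f.hom) (I : Ideal R) :
    Function.Injective ((LocCoh.idealTransform I).map f).hom := by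
  refine (injective_iff_map_eq_zero _).2 fun z hz => ?_
  obtain ⟨n, h, rfl⟩ := LC.exists_toD I z
  rw [LC.toD_natural, LC.toD_eq_zero_iff] at hz
  obtain ⟨m, hm, h0⟩ := hz
  refine (LC.toD_eq_zero_iff I h).2 ⟨m, hm, ModuleCat.hom_ext (LinearMap.ext fun r => hf ?_)⟩
  exact (ConcreteCategory.congr_hom h0 r).trans (map_zero f.hom).symm

/-- One-cocycles compute the ideal transform. -/
theorem nonempty_cycles_one (M : ModuleCat.{u} R) :
    Nonempty ((DerCA.extCech M fs).cycles 1 ≃ₗ[R] (LocCoh.idealTransform I₀).obj M) := by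
  obtain ⟨E, Q, _, f, g, hf, hg, hex⟩ := exists_presentation M
  haveI : CategoryTheory.Injective E := Module.injective_object_of_injective_module R E
  let P : Submodule R E := (DRing.torsionSub I₀ Q).comap g.hom
  let KE := DerCA.extCech E fs
  let KQ := DerCA.extCech Q fs
  let KM := DerCA.extCech M fs
  have key := cechMap_exact f g hf hg hex fs 1
  have hcomm : ∀ {A B : ModuleCat.{u} R} (k : A ⟶ B) (p q : ℤ) (x : (DerCA.extCech A fs).X p),
      ((cechMap k fs).f q).hom (((DerCA.extCech A fs).d p q).hom x) =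
        ((DerCA.extCech B fs).d p q).hom (((cechMap k fs).f p).hom x) := fun k p q x =>
    (ConcreteCategory.congr_hom ((cechMap k fs).comm p q) x).symm
  have hpi : ∀ {A B : ModuleCat.{u} R} (k : A ⟶ B) x,
      (pi0 B fs).hom (((cechMap k fs).f 0).hom x) = k.hom ((pi0 A fs).hom x) := fun k x =>
    ConcreteCategory.congr_hom (pi0_natural k fs) x
  let πE := LinearEquiv.ofBijective (pi0 E fs).hom (pi0_spec E fs).1
  let b : P →ₗ[R] KE.X 1 := (KE.d 0 1).hom ∘ₗ πE.symm.toLinearMap ∘ₗ P.subtype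
  let j : KM.cycles 1 →ₗ[R] KE.X 1 := ((cechMap f fs).f 1).hom ∘ₗ (KM.iCycles 1).hom
  have hj : Function.Injective j := key.1.comp ((ModuleCat.mono_iff_injective (KM.iCycles 1)).1 inferInstance)
  have hb : ∀ x : P, b x ∈ LinearMap.range j := fun x => by
    have h0 : ((cechMap g fs).f 1).hom (b x) = 0 := by
      refine (hcomm g 0 1 _).trans ((d01_eq_zero_iff fs _).2 ?_)
      rw [hpi]
      exact (congrArg (fun e => g.hom e ∈ DRing.torsionSub I₀ Q) (πE.apply_symm_apply x.1)).mpr x.2
    obtain ⟨y, hy⟩ := (key.2.2 _).1 h0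
    have hy0 : (KM.d 1 2).hom y = 0 := by
      refine (cechMap_exact f g hf hg hex fs 2).1 ((hcomm f 1 2 y).trans ?_)
      rw [hy, map_zero]
      exact ConcreteCategory.congr_hom (KE.d_comp_d 0 1 2) _
    obtain ⟨z, hz⟩ := exists_cycle fs 1 y hy0
    exact ⟨z, (congrArg ((cechMap f fs).f 1).hom hz).trans hy⟩
  let θ : P →ₗ[R] KM.cycles 1 :=
    (LinearEquiv.ofInjective j hj).symm.toLinearMap ∘ₗ b.codRestrict (LinearMap.range j) hb
  have hθ : ∀ x, j (θ x) = b x := fun x =>
    congrArg Subtype.val ((LinearEquiv.ofInjective j hj).apply_symm_apply ⟨b x, hb x⟩)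
  have hθs : Function.Surjective θ := fun z => by
    have hd : (KE.d 1 2).hom (j z) = 0 := by
      refine (hcomm f 1 2 _).symm.trans ?_
      rw [show (KM.d 1 2).hom ((KM.iCycles 1).hom z) = 0 from ConcreteCategory.congr_hom (KM.iCycles_d 1 2) z, map_zero]
    have hE1 := (KE.exactAt_iff' 0 1 2 (by simp) (by simp)).1
      ((KE.exactAt_iff_isZero_homology 1).2 (CechInj.isZero_extCech_injective E fs 1 le_rfl))
    rw [ShortComplex.moduleCat_exact_iff] at hE1
    obtain ⟨x, hx⟩ := hE1 _ hd
    have hxP : (pi0 E fs).hom x ∈ P := by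
      show g.hom _ ∈ DRing.torsionSub I₀ Q
      rw [← hpi, ← d01_eq_zero_iff]
      refine (hcomm g 0 1 x).symm.trans ?_
      refine (congrArg ((cechMap g fs).f 1).hom hx).trans ?_
      exact key.2.2.apply_apply_eq_zero _
    refine ⟨⟨_, hxP⟩, hj ((hθ _).trans ?_)⟩
    exact (congrArg (KE.d 0 1).hom (πE.symm_apply_apply x)).trans hx
  let D := LocCoh.idealTransform I₀
  let i : D.obj M →ₗ[R] D.obj E := (D.map f).hom
  have hi : Function.Injective i := DT_map_injective f hf _
  let c : P →ₗ[R] D.obj E := (LocCoh.toDT I₀ E).comp P.subtype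
  have hc : ∀ x : P, c x ∈ LinearMap.range i := fun x => by
    obtain ⟨n, hn⟩ := x.2
    have hmem : ∀ r : ↥(I₀ ^ n), (r : R) • (x : E) ∈ LinearMap.range f.hom := fun r =>
      (hex _).1 (by rw [map_smul]; exact hn r r.2)
    let h : ↥(I₀ ^ n) →ₗ[R] M := (LinearEquiv.ofInjective f.hom hf).symm.toLinearMap ∘ₗ
      ((LinearMap.toSpanSingleton R E (x : E)).domRestrict (I₀ ^ n)).codRestrict (LinearMap.range f.hom) hmem
    refine ⟨LC.toD I₀ M n (ModuleCat.ofHom h), ?_⟩
    refine (LC.toD_natural I₀ f _).trans ((congrArg (LC.toD I₀ E n) ?_).trans (LC.toDT_eq I₀ E x n).symm)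
    exact ModuleCat.hom_ext (LinearMap.ext fun r =>
      congrArg Subtype.val ((LinearEquiv.ofInjective f.hom hf).apply_symm_apply ⟨_, hmem r⟩))
  let η : P →ₗ[R] D.obj M := (LinearEquiv.ofInjective i hi).symm.toLinearMap ∘ₗ c.codRestrict (LinearMap.range i) hc
  have hη : ∀ x, i (η x) = c x := fun x =>
    congrArg Subtype.val ((LinearEquiv.ofInjective i hi).apply_symm_apply ⟨c x, hc x⟩)
  have hηs : Function.Surjective η := fun z => by
    obtain ⟨e, he⟩ := LC.toDT_surjective_of_injective I₀ E (i z)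
    have heP : e ∈ P := by
      show g.hom e ∈ DRing.torsionSub I₀ Q
      rw [← LC.ker_toDT, LinearMap.mem_ker, ← LC.toDT_natural, he]
      obtain ⟨n, h, rfl⟩ := LC.exists_toD I₀ z
      show ((D.map g).hom) ((D.map f).hom (LC.toD I₀ M n h)) = 0
      rw [LC.toD_natural, LC.toD_natural, show (h ≫ f) ≫ g = 0 from
        ModuleCat.hom_ext (LinearMap.ext fun r => hex.apply_apply_eq_zero _), map_zero]
    exact ⟨⟨e, heP⟩, hi ((hη _).trans he)⟩
  have hker : LinearMap.ker θ = LinearMap.ker η := by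
    ext x
    rw [LinearMap.mem_ker, LinearMap.mem_ker, ← map_eq_zero_iff j hj, hθ, ← map_eq_zero_iff i hi, hη]
    show (KE.d 0 1).hom (πE.symm x.1) = 0 ↔ LocCoh.toDT I₀ E x.1 = 0
    rw [d01_eq_zero_iff, ← LinearMap.mem_ker, LC.ker_toDT]
    exact iff_of_eq (congrArg (· ∈ DRing.torsionSub I₀ E) (πE.apply_symm_apply x.1))
  exact ⟨((θ.quotKerEquivOfSurjective hθs).symm.trans (Submodule.quotEquivOfEq _ _ hker)).trans
    (η.quotKerEquivOfSurjective hηs)⟩

end Groth.Agent.GrLib8.CechLC
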