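import Mathlib.Algebra.Homology.HomotopyCategory.MappingCone
import Mathlib.Algebra.Homology.BifunctorHomotopy
import Mathlib.Algebra.Category.ModuleCat.Colimits

/-!
# The total complex functor in the first variable commutes with mapping cones
-/

set_option autoImplicit false
set_option linter.style.haveILetI false
set_option backward.isDefEq.respectTransparency false

universe v u

open CategoryTheory CategoryTheory.Limits CochainComplex HomologicalComplex

namespace Groth.Agent.GrLib8.ConeTensor

variable {C : Type u} [Category.{v} C] [Abelian C] [∀ S : Type, HasColimitsOfShape (Discrete S) C]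
  (T : C ⥤ C ⥤ C) [T.Additive] [∀ X, (T.obj X).Additive]

/-- The total complex. -/
noncomputable abbrev tot (K L : CochainComplex C ℤ) : CochainComplex C ℤ :=
  HomologicalComplex.mapBifunctor K L T (ComplexShape.up ℤ)

/-- Functoriality in the first variable. -/
noncomputable abbrev tot₁ {K K' : CochainComplex C ℤ} (f : K ⟶ K') (L : CochainComplex C ℤ) : tot T K L ⟶ tot T K' L :=
  HomologicalComplex.mapBifunctorMap f (𝟙 L) T (ComplexShape.up ℤ)

variable {F G : CochainComplex C ℤ} (φ : F ⟶ G) (L : CochainComplex C ℤ)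

/-- `φ ≫ inr` is null-homotopic. -/
noncomputable def hInr : Homotopy (φ ≫ mappingCone.inr φ) 0 :=
  (HomComplex.Cochain.equivHomotopy _ _).symm ⟨mappingCone.inl φ, by
    rw [mappingCone.δ_inl, HomComplex.Cochain.ofHom_zero, add_zero]⟩

/-- The image of the null homotopy. -/
noncomputable def hTot : Homotopy (tot₁ T φ L ≫ tot₁ T (mappingCone.inr φ) L) 0 :=
  (Homotopy.ofEq (show tot₁ T φ L ≫ tot₁ T (mappingCone.inr φ) L = tot₁ T (φ ≫ mappingCone.inr φ) L from by
    ext n : 1
    apply HomologicalComplex.mapBifunctor.hom_ext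
    intro p q h
    simp [ι_mapBifunctorMap])).trans
    ((HomologicalComplex.mapBifunctorMapHomotopy₁ (hInr φ) (𝟙 L) T (ComplexShape.up ℤ)).trans
      (Homotopy.ofEq (show tot₁ T (0 : F ⟶ mappingCone φ) L = 0 from by
        ext n : 1
        apply HomologicalComplex.mapBifunctor.hom_ext
        intro p q h
        simp [ι_mapBifunctorMap])))

/-- The comparison map. -/
noncomputable def ψ : mappingCone (tot₁ T φ L) ⟶ tot T (mappingCone φ) L :=
  mappingCone.desc _ (HomComplex.Cochain.ofHomotopy (hTot T φ L)) (tot₁ T (mappingCone.inr φ) L) (by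
    simp)

/-- The inverse in each degree. -/
noncomputable def θ (n : ℤ) : (tot T (mappingCone φ) L).X n ⟶ (mappingCone (tot₁ T φ L)).X n :=
  mapBifunctorDesc fun p q h =>
    (T.map ((mappingCone.fst φ).1.v p (p + 1) rfl)).app (L.X q) ≫
        ιMapBifunctor F L T (ComplexShape.up ℤ) (p + 1) q (n + 1) (by
          change p + 1 + q = n + 1; change p + q = n at h; omega) ≫
        (mappingCone.inl (tot₁ T φ L)).v (n + 1) n (by omega) +
      (T.map ((mappingCone.snd φ).v p p (add_zero p))).app (L.X q) ≫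
        ιMapBifunctor G L T (ComplexShape.up ℤ) p q n h ≫ (mappingCone.inr (tot₁ T φ L)).f n

theorem inl_ψ (p q n : ℤ) (h : p + 1 + q = n + 1) :
    ιMapBifunctor F L T (ComplexShape.up ℤ) (p + 1) q (n + 1) h ≫
      (mappingCone.inl (tot₁ T φ L)).v (n + 1) n (by omega) ≫ (ψ T φ L).f n =
    (T.map ((mappingCone.inl φ).v (p + 1) p (by omega))).app (L.X q) ≫
      ιMapBifunctor (mappingCone φ) L T (ComplexShape.up ℤ) p q n (by change p + q = n; omega) := by
  rw [ψ, mappingCone.inl_v_desc_f]
  dsimp [HomComplex.Cochain.ofHomotopy, hTot, Homotopy.trans, Homotopy.ofEq]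
  simp only [zero_add, add_zero, HomologicalComplex.mapBifunctorMapHomotopy₁]
  rw [mapBifunctorMapHomotopy.ιMapBifunctor_hom₁ _ _ _ _ p (p + 1) q _ n h (by simp)]
  simp [hInr, HomComplex.Cochain.equivHomotopy,
    ιMapBifunctorOrZero_eq (mappingCone φ) L T (ComplexShape.up ℤ) p q n (by change p + q = n; omega)]

theorem inr_ψ (p q n : ℤ) (h : p + q = n) :
    ιMapBifunctor G L T (ComplexShape.up ℤ) p q n h ≫ (mappingCone.inr (tot₁ T φ L)).f n ≫ (ψ T φ L).f n =
    (T.map ((mappingCone.inr φ).f p)).app (L.X q) ≫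
      ιMapBifunctor (mappingCone φ) L T (ComplexShape.up ℤ) p q n h := by
  rw [ψ, mappingCone.inr_f_desc_f]
  simp [ι_mapBifunctorMap]

theorem θ_ψ (n : ℤ) : θ T φ L n ≫ (ψ T φ L).f n = 𝟙 _ := by
  apply HomologicalComplex.mapBifunctor.hom_ext
  intro p q h
  rw [θ, ι_mapBifunctorDesc_assoc, Preadditive.add_comp, Category.assoc, Category.assoc, Category.assoc,
    Category.assoc, inl_ψ, inr_ψ, ← NatTrans.comp_app_assoc, ← NatTrans.comp_app_assoc, ← T.map_comp,
    ← T.map_comp, ← Preadditive.add_comp, ← NatTrans.app_add, ← T.map_add, mappingCone.id_X, T.map_id,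
    NatTrans.id_app, Category.id_comp, Category.comp_id]

theorem ψ_θ (n : ℤ) : (ψ T φ L).f n ≫ θ T φ L n = 𝟙 _ := by
  apply mappingCone.ext_from _ (n + 1) n rfl
  · rw [Category.comp_id]
    apply HomologicalComplex.mapBifunctor.hom_ext
    intro p q h
    obtain ⟨p, rfl⟩ : ∃ p', p = p' + 1 := ⟨p - 1, by omega⟩
    rw [reassoc_of% (inl_ψ T φ L p q n h), θ, ι_mapBifunctorDesc, Preadditive.comp_add, ← NatTrans.comp_app_assoc,
      ← NatTrans.comp_app_assoc, ← T.map_comp, ← T.map_comp, mappingCone.inl_v_fst_v, mappingCone.inl_v_snd_v,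
      T.map_id, T.map_zero, zero_app, zero_comp, add_zero, NatTrans.id_app, Category.id_comp]
  · rw [Category.comp_id]
    apply HomologicalComplex.mapBifunctor.hom_ext
    intro p q h
    rw [reassoc_of% (inr_ψ T φ L p q n h), θ, ι_mapBifunctorDesc, Preadditive.comp_add, ← NatTrans.comp_app_assoc,
      ← NatTrans.comp_app_assoc, ← T.map_comp, ← T.map_comp, mappingCone.inr_f_fst_v, mappingCone.inr_f_snd_v,
      T.map_id, T.map_zero, zero_app, zero_comp, zero_add, NatTrans.id_app, Category.id_comp]

/-- Cones commute with total complexes. -/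
noncomputable def totConeIso : tot T (mappingCone φ) L ≅ mappingCone (tot₁ T φ L) :=
  (HomologicalComplex.Hom.isoOfComponents (fun n => ⟨(ψ T φ L).f n, θ T φ L n, ψ_θ T φ L n, θ_ψ T φ L n⟩)
    fun i j _ => (ψ T φ L).comm i j).symm

end Groth.Agent.GrLib8.ConeTensor
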