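import Groth.Agent.GrLib8.StdLen
import Groth.Agent.GrLib8.Basic

/-!
# A cyclic graded module of finite length is at least as long as its degree
-/

set_option autoImplicit false
set_option linter.unusedSectionVars false

universe u

open DirectSum MvPolynomial

namespace Groth.Agent.GrLib8.CyclicLength

variable {k : Type u} [Field k] {n : ℕ}
variable {N : Type u} [AddCommGroup N] [Module k N] [Module (MvPolynomial (Fin n) k) N]
  [IsScalarTower k (MvPolynomial (Fin n) k) N]
  (𝒩 : ℤ → Submodule k N) [DirectSum.Decomposition 𝒩] [SetLike.GradedSMul (GrSyz.stdGr k (Fin n)) 𝒩]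

theorem X_mem (i : Fin n) : (X i : MvPolynomial (Fin n) k) ∈ GrSyz.stdGr k (Fin n) 1 :=
  MvPolynomial.isWeightedHomogeneous_X _ _ i

theorem comp_X_smul (i : Fin n) (v : N) (g : ℤ) :
    (decompose 𝒩 ((X i : MvPolynomial (Fin n) k) • v) g : N) =
      (X i : MvPolynomial (Fin n) k) • (decompose 𝒩 v (g - 1) : N) :=
  GrLib8.decompose_smul_of_mem_left (GrSyz.stdGr k (Fin n)) 𝒩 (X_mem i) v g

theorem comp_C_smul (c : k) (v : N) (g : ℤ) :
    (decompose 𝒩 ((C c : MvPolynomial (Fin n) k) • v) g : N) =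
      (C c : MvPolynomial (Fin n) k) • (decompose 𝒩 v g : N) := by
  rw [GrLib8.decompose_smul_of_mem_left (GrSyz.stdGr k (Fin n)) 𝒩 (GrLib8.C_mem_stdGr_zero k n c) v g, sub_zero]

variable (n) in
/-- The part in degrees `≥ j`. -/
def tail (j : ℤ) : Submodule (MvPolynomial (Fin n) k) N where
  carrier := {v | ∀ g : ℤ, g < j → (decompose 𝒩 v g : N) = 0}
  zero_mem' g hg := by simp
  add_mem' {a b} ha hb g hg := by simp [ha g hg, hb g hg]
  smul_mem' r v hv := by
    induction r using MvPolynomial.induction_on generalizing v with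
    | C c => exact fun g hg => by rw [comp_C_smul, hv g hg, smul_zero]
    | add p q hp hq => exact fun g hg => by rw [add_smul]; simp [hp v hv g hg, hq v hv g hg]
    | mul_X p i hp =>
      rw [mul_smul]
      refine hp _ fun g hg => ?_
      rw [comp_X_smul, hv (g - 1) (by omega), smul_zero]

theorem mem_tail {j g : ℤ} (hg : j ≤ g) {v : N} (hv : v ∈ 𝒩 g) : v ∈ tail n 𝒩 j := fun g' hg' =>
  decompose_of_mem_ne 𝒩 hv (by omega)

theorem X_smul_mem_tail {j : ℤ} (i : Fin n) {v : N} (hv : v ∈ tail n 𝒩 j) :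
    (X i : MvPolynomial (Fin n) k) • v ∈ tail n 𝒩 (j + 1) := fun g hg => by
  rw [comp_X_smul, hv (g - 1) (by omega), smul_zero]

theorem tail_antitone {i j : ℤ} (h : i ≤ j) : tail n 𝒩 j ≤ tail n 𝒩 i := fun _ hv g hg => hv g (by omega)

theorem smul_sub_mem_tail {j : ℤ} (r : MvPolynomial (Fin n) k) {v : N} (hv : v ∈ tail n 𝒩 j) :
    r • v - constantCoeff r • v ∈ tail n 𝒩 (j + 1) := by
  induction r using MvPolynomial.induction_on generalizing v with
  | C c =>
    rw [constantCoeff_C, ← algebraMap_smul (MvPolynomial (Fin n) k) c v, MvPolynomial.algebraMap_eq, sub_self]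
    exact Submodule.zero_mem _
  | add p q hp hq =>
    rw [add_smul, map_add, add_smul, add_sub_add_comm]
    exact Submodule.add_mem _ (hp hv) (hq hv)
  | mul_X p i hp =>
    rw [map_mul, constantCoeff_X, mul_zero, zero_smul, sub_zero, mul_smul]
    exact Submodule.smul_mem _ p (X_smul_mem_tail 𝒩 i hv)

theorem finrank_add_length_le (j : ℤ) [Module.Finite k (𝒩 j)] :
    (Module.finrank k (𝒩 j) : ℕ∞) + Module.length (MvPolynomial (Fin n) k) (tail n 𝒩 (j + 1)) ≤
      Module.length (MvPolynomial (Fin n) k) (tail n 𝒩 j) := by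
  classical
  let K := (tail n 𝒩 (j + 1)).comap (tail n 𝒩 j).subtype
  have hlen := Module.length_eq_add_of_exact (R := MvPolynomial (Fin n) k)
    (Submodule.inclusion (tail_antitone 𝒩 (show j ≤ j + 1 by omega))) K.mkQ (Submodule.inclusion_injective _)
    (Submodule.mkQ_surjective K) (by
      intro z
      rw [Submodule.mkQ_apply, Submodule.Quotient.mk_eq_zero]
      exact ⟨fun h => ⟨⟨z.1, h⟩, rfl⟩, fun ⟨w, hw⟩ => hw ▸ w.2⟩)
  rw [hlen, add_comm]
  gcongr
  let φ : 𝒩 j →ₗ[k] (tail n 𝒩 j ⧸ K) :=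
    (K.mkQ.restrictScalars k).comp ((𝒩 j).subtype.codRestrict ((tail n 𝒩 j).restrictScalars k)
      fun v => mem_tail (n := n) 𝒩 le_rfl v.2)
  have hφ : Function.Injective φ := by
    rw [injective_iff_map_eq_zero]
    intro v hv
    have h : (v : N) ∈ tail n 𝒩 (j + 1) := (Submodule.Quotient.mk_eq_zero K).1 hv
    refine Subtype.ext ?_
    rw [← decompose_of_mem_same 𝒩 v.2]
    exact h j (by omega)
  let Φ : Submodule k (𝒩 j) → Submodule (MvPolynomial (Fin n) k) (tail n 𝒩 j ⧸ K) := fun W =>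
    { __ := (W.map φ).toAddSubmonoid
      smul_mem' := fun r q hq => by
        obtain ⟨v, hv, rfl⟩ := hq
        refine ⟨constantCoeff r • v, W.smul_mem _ hv, ?_⟩
        rw [map_smul]
        refine ((Submodule.Quotient.eq K).2 ?_).symm
        exact smul_sub_mem_tail 𝒩 r (mem_tail 𝒩 le_rfl v.2) }
  have hΦ : StrictMono Φ := fun W W' h => by
    have h' := Submodule.map_strictMono_of_injective (f := φ) hφ h
    exact lt_iff_le_not_ge.2 ⟨fun x hx => h'.le hx, fun hle => h'.not_ge fun x hx => hle hx⟩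
  have h2 := Order.krullDim_le_of_strictMono Φ hΦ
  rw [← Module.coe_length, ← Module.coe_length, WithBot.coe_le_coe, Module.length_eq_finrank] at h2
  exact h2

theorem sum_finrank_le (hfin : ∀ g, Module.Finite k (𝒩 g)) (m : ℕ) (j : ℤ) :
    ((∑ i ∈ Finset.range m, Module.finrank k (𝒩 (j + i)) : ℕ) : ℕ∞) ≤
      Module.length (MvPolynomial (Fin n) k) (tail n 𝒩 j) := by
  induction m generalizing j with
  | zero => simp
  | succ m ih =>
    haveI := hfin j
    refine le_trans ?_ (finrank_add_length_le 𝒩 j)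
    rw [Finset.sum_range_succ', Nat.cast_add, add_comm]
    gcongr
    · exact le_of_eq (congrArg (fun g => Module.finrank k (𝒩 g)) (by omega : j + ((0 : ℕ) : ℤ) = j))
    · refine le_trans (le_of_eq ?_) (ih (j + 1))
      congr 1
      exact Finset.sum_congr rfl fun i _ => by rw [Nat.cast_add, Nat.cast_one, add_assoc, add_comm (1 : ℤ)]

variable {n₀ : N} (h₀ : n₀ ∈ 𝒩 0)

include h₀ in
theorem comp_zero_smul_gen (r : MvPolynomial (Fin n) k) (g : ℤ) (hg : g ≤ 0) :
    (decompose 𝒩 (r • n₀) g : N) = if g = 0 then constantCoeff r • n₀ else 0 := by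
  have h := smul_sub_mem_tail 𝒩 r (mem_tail 𝒩 le_rfl h₀) g (by omega)
  rw [decompose_sub, DirectSum.sub_apply, AddSubgroupClass.coe_sub, sub_eq_zero] at h
  rw [h]
  split_ifs with h0
  · subst h0
    exact decompose_of_mem_same 𝒩 ((𝒩 0).smul_mem _ h₀)
  · exact decompose_of_mem_ne 𝒩 ((𝒩 0).smul_mem _ h₀) (Ne.symm h0)

variable (hgen : ∀ v : N, ∃ r : MvPolynomial (Fin n) k, r • n₀ = v)

include h₀ hgen in
theorem eq_bot_succ {g : ℤ} (hg : 0 ≤ g) (h : 𝒩 g = ⊥) : 𝒩 (g + 1) = ⊥ := by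
  refine (Submodule.eq_bot_iff _).2 fun v hv => ?_
  obtain ⟨r, rfl⟩ := hgen v
  rw [← decompose_of_mem_same 𝒩 hv]
  clear hv
  induction r using MvPolynomial.induction_on with
  | C c =>
    rw [comp_C_smul, decompose_of_mem_ne 𝒩 h₀ (by omega), smul_zero]
  | add p q hp hq => rw [add_smul]; simp [hp, hq]
  | mul_X p i _ =>
    rw [mul_comm, mul_smul, comp_X_smul, add_sub_cancel_right]
    have := (decompose 𝒩 (p • n₀) g).2
    rw [(Submodule.eq_bot_iff _).1 h _ this, smul_zero]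

include h₀ hgen in
theorem ne_bot_of_le {d : ℤ} (hd : 𝒩 d ≠ ⊥) : ∀ g, 0 ≤ g → g ≤ d → 𝒩 g ≠ ⊥ := fun g hg hgd hgb => by
  refine hd ?_
  obtain ⟨m, rfl⟩ := Int.le.dest hgd
  clear hgd hd
  induction m with
  | zero => simpa using hgb
  | succ m ih =>
    rw [Nat.cast_succ, ← add_assoc]
    exact eq_bot_succ 𝒩 h₀ hgen (by omega) ih

include h₀ hgen in
theorem eq_bot_of_neg {g : ℤ} (hg : g < 0) : 𝒩 g = ⊥ := by
  refine (Submodule.eq_bot_iff _).2 fun v hv => ?_
  obtain ⟨r, rfl⟩ := hgen v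
  rw [← decompose_of_mem_same 𝒩 hv, comp_zero_smul_gen 𝒩 h₀ r g hg.le, if_neg hg.ne]

include h₀ hgen in
/-- The degree of a nonzero piece is bounded by the length. -/
theorem deg_le (hfin : ∀ g, Module.Finite k (𝒩 g)) {ℓ : ℕ}
    (hℓ : Module.length (MvPolynomial (Fin n) k) N = (ℓ : ℕ∞)) {d : ℤ} (hd : 𝒩 d ≠ ⊥) :
    d + Module.finrank k (𝒩 1) ≤ ℓ := by
  classical
  have h0d : 0 ≤ d := not_lt.1 fun h => hd (eq_bot_of_neg 𝒩 h₀ hgen h)
  obtain ⟨D, rfl⟩ := Int.eq_ofNat_of_zero_le h0d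
  have hpos : ∀ i : ℕ, i ≤ D → 1 ≤ Module.finrank k (𝒩 (0 + i)) := fun i hi => by
    haveI := hfin (0 + i)
    exact Submodule.one_le_finrank_iff.2 (ne_bot_of_le 𝒩 h₀ hgen hd _ (by omega) (by omega))
  have key : D + Module.finrank k (𝒩 1) ≤ ∑ i ∈ Finset.range (max D 1 + 1), Module.finrank k (𝒩 (0 + i)) := by
    have h1 : (1 : ℕ) ∈ Finset.range (max D 1 + 1) := by simp
    rw [← Finset.add_sum_erase _ _ h1]
    have h2 : D ≤ ∑ i ∈ (Finset.range (max D 1 + 1)).erase 1, Module.finrank k (𝒩 (0 + i)) := by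
      rcases Nat.eq_zero_or_pos D with rfl | hD
      · exact Nat.zero_le _
      calc D = ∑ i ∈ (Finset.range (max D 1 + 1)).erase 1, 1 := by
              rw [Finset.sum_const, smul_eq_mul, mul_one, Finset.card_erase_of_mem h1, Finset.card_range]
              omega
        _ ≤ _ := Finset.sum_le_sum fun i hi => hpos i (by
              have := Finset.mem_range.1 (Finset.mem_of_mem_erase hi)
              omega)
    have e : Module.finrank k (𝒩 (0 + ((1 : ℕ) : ℤ))) = Module.finrank k (𝒩 1) :=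
      congrArg (fun g => Module.finrank k (𝒩 g)) (by omega)
    omega
  have hle : ((∑ i ∈ Finset.range (max D 1 + 1), Module.finrank k (𝒩 (0 + i)) : ℕ) : ℕ∞) ≤ (ℓ : ℕ∞) :=
    (sum_finrank_le 𝒩 hfin _ 0).trans ((Module.length_le_of_injective _ (Submodule.injective_subtype _)).trans hℓ.le)
  have := Nat.cast_le.1 hle
  exact_mod_cast le_trans key this

end Groth.Agent.GrLib8.CyclicLength

namespace Groth.Agent.GrLib8.CyclicLength

variable {k : Type u} [Field k] {n : ℕ}

theorem finite_piece {N : Type u} [AddCommGroup N] [Module k N] [Module (MvPolynomial (Fin n) k) N]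
    [IsScalarTower k (MvPolynomial (Fin n) k) N] [Module.Finite (MvPolynomial (Fin n) k) N]
    (𝒩 : ℤ → Submodule k N) [DirectSum.Decomposition 𝒩] [SetLike.GradedSMul (GrSyz.stdGr k (Fin n)) 𝒩] (g : ℤ) :
    Module.Finite k (𝒩 g) := by
  classical
  let 𝒜 := GrSyz.stdGr k (Fin n)
  letI : Algebra k (GrLC.deg0 𝒜) := (toDeg0 k n).toAlgebra
  letI : Module k (GrLC.comp 𝒜 𝒩 g) := Module.compHom _ (toDeg0 k n)
  haveI : IsScalarTower k (GrLC.deg0 𝒜) (GrLC.comp 𝒜 𝒩 g) := IsScalarTower.of_algebraMap_smul fun _ _ => rfl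
  haveI := finite_comp 𝒜 (fun m hm r hr => stdGr_nonneg k (Fin n) m hm r hr) 𝒩 g
  haveI : Module.Finite k (GrLC.deg0 𝒜) :=
    Module.Finite.of_surjective (Algebra.linearMap k (GrLC.deg0 𝒜)) (toDeg0_bijective k n).2
  haveI : Module.Finite k (GrLC.comp 𝒜 𝒩 g) := Module.Finite.trans (GrLC.deg0 𝒜) _
  let e : GrLC.comp 𝒜 𝒩 g ≃ₗ[k] 𝒩 g :=
    { toFun := fun z => ⟨(z : N), z.2⟩
      invFun := fun z => ⟨(z : N), z.2⟩
      left_inv := fun _ => rfl
      right_inv := fun _ => rfl
      map_add' := fun _ _ => rfl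
      map_smul' := fun c z => Subtype.ext (by
        show (MvPolynomial.C c : MvPolynomial (Fin n) k) • (z : N) = c • (z : N)
        rw [← MvPolynomial.algebraMap_eq, algebraMap_smul]) }
  exact Module.Finite.equiv e

variable {M : Type u} [AddCommGroup M] [Module k M] [Module (MvPolynomial (Fin n) k) M]
  [IsScalarTower k (MvPolynomial (Fin n) k) M]
  (ℳ : ℤ → Submodule k M) [DirectSum.Decomposition ℳ] [SetLike.GradedSMul (GrSyz.stdGr k (Fin n)) ℳ]
  (π : MvPolynomial (Fin n) k →ₗ[MvPolynomial (Fin n) k] M)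

/-- Degree one components of the submodule generated by linear forms. -/
theorem comp_one_mem_span (hπ : Function.Surjective π) (h₀ : π 1 ∈ ℳ 0) (ys : List (MvPolynomial (Fin n) k))
    (hys : ∀ y ∈ ys, y ∈ GrSyz.stdGr k (Fin n) 1) {z : M}
    (hz : z ∈ Ideal.ofList ys • (⊤ : Submodule (MvPolynomial (Fin n) k) M)) :
    (decompose ℳ z 1 : M) ∈ Submodule.span k ((fun y => π y) '' {y | y ∈ ys}) := by
  classical
  have hgen : ∀ v : M, ∃ r : MvPolynomial (Fin n) k, r • π 1 = v := fun v => by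
    obtain ⟨r, rfl⟩ := hπ v
    exact ⟨r, by rw [← map_smul, smul_eq_mul, mul_one]⟩
  refine Submodule.smul_induction_on hz ?_ ?_
  · intro a ha v hvt
    clear hvt
    induction ha using Submodule.span_induction generalizing v with
    | mem y hy =>
      obtain ⟨r, rfl⟩ := hgen v
      rw [decompose_smul_of_mem_left (GrSyz.stdGr k (Fin n)) ℳ (hys y hy) (r • π 1) 1, sub_self,
        comp_zero_smul_gen ℳ h₀ r 0 le_rfl, if_pos rfl, smul_comm]
      refine Submodule.smul_mem _ _ (Submodule.subset_span ⟨y, hy, ?_⟩)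
      show π y = y • π 1
      rw [← map_smul, smul_eq_mul, mul_one]
    | zero => simp
    | add a b _ _ ha hb => rw [add_smul]; simpa using Submodule.add_mem _ (ha v) (hb v)
    | smul c a _ ha =>
      rw [smul_eq_mul, mul_comm, mul_smul]
      exact ha _
  · intro a b ha hb
    simpa using Submodule.add_mem _ ha hb

end Groth.Agent.GrLib8.CyclicLength
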