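import Groth.Agent.SkSeq.Basic
import Groth.Agent.LC.PuncturedConn
import Mathlib

/-!
# Depth along a closed subset near its generic point
-/

universe u

open IsLocalRing
open scoped Pointwise

namespace Groth.Agent.GrLib8.DepthOpen

variable {R : Type u} [CommRing R] [IsNoetherianRing R]

theorem add_one_cancel {x y : ℕ∞} (h : x + 1 = y + 1) : x = y := by
  cases x <;> cases y <;> simp_all [← ENat.coe_one, ← Nat.cast_add, -Nat.cast_one]

theorem mem_ass_of_depth_zero (M : Type u) [AddCommGroup M] [Module R M] [Module.Finite R M] (q : Ideal R) [q.IsPrime]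
    (h : LocCoh.depth (Localization.AtPrime q) (LocalizedModule q.primeCompl M) = 0) : q ∈ associatedPrimes R M := by
  haveI : Module.Finite (Localization.AtPrime q) (LocalizedModule q.primeCompl M) :=
    Module.Finite.of_isLocalizedModule q.primeCompl (LocalizedModule.mkLinearMap _ M)
  refine (Alg6.ass_localized_iff (M := M) q).1 ?_
  by_contra hn
  obtain ⟨x, hx, hreg⟩ := (Alg6.exists_isSMulRegular_mem_iff (M := LocalizedModule q.primeCompl M)
    (maximalIdeal (Localization.AtPrime q))).2 fun P hP hle => hn
      ((maximalIdeal.isMaximal (Localization.AtPrime q)).eq_of_le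
        (IsAssociatedPrime.isPrime (AssociatedPrimes.mem_iff.1 hP)).ne_top hle ▸ hP)
  have h1 := Alg6.length_le_idealDepth (M := LocalizedModule q.primeCompl M)
    (I := maximalIdeal (Localization.AtPrime q)) (rs := [x])
    ((RingTheory.Sequence.isWeaklyRegular_cons_iff _ _ _).2 ⟨hreg, RingTheory.Sequence.IsWeaklyRegular.nil _ _⟩)
    (fun r hr => (List.mem_singleton.1 hr) ▸ hx)
  rw [show LocCoh.idealDepth (maximalIdeal (Localization.AtPrime q)) (LocalizedModule q.primeCompl M) = 0 from h] at h1
  simp at h1

theorem exists_open (p : Ideal R) [p.IsPrime] : ∀ (e : ℕ) (M : Type u) [AddCommGroup M] [Module R M] [Module.Finite R M],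
    LocCoh.depth (Localization.AtPrime p) (LocalizedModule p.primeCompl M) = e →
    ∃ f : R, f ∉ p ∧ (∀ (q : Ideal R) [q.IsPrime], p ≤ q → f ∉ q →
        (e : ℕ∞) ≤ LocCoh.depth (Localization.AtPrime q) (LocalizedModule q.primeCompl M)) ∧
      {q : PrimeSpectrum R | p ≤ q.asIdeal ∧ f ∉ q.asIdeal ∧
        LocCoh.depth (Localization.AtPrime q.asIdeal) (LocalizedModule q.asIdeal.primeCompl M) = e}.Finite := by
  intro e
  induction e with
  | zero =>
    intro M _ _ _ _
    refine ⟨1, fun h => ‹p.IsPrime›.ne_top (p.eq_top_iff_one.2 h), fun q _ _ _ => by simp, ?_⟩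
    refine Set.Finite.subset ((associatedPrimes.finite R M).preimage
      (fun a _ b _ h => PrimeSpectrum.ext h)) fun q hq => mem_ass_of_depth_zero M q.asIdeal ?_
    rw [hq.2.2]
    rfl
  | succ e ih =>
    intro M _ _ _ he
    haveI : Module.Finite (Localization.AtPrime p) (LocalizedModule p.primeCompl M) :=
      Module.Finite.of_isLocalizedModule p.primeCompl (LocalizedModule.mkLinearMap _ M)
    haveI : Nontrivial (LocalizedModule p.primeCompl M) := by
      by_contra hn
      rw [not_nontrivial_iff_subsingleton] at hn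
      rw [LocCoh.depth, LocCoh.idealDepth, if_pos (Subsingleton.elim _ _)] at he
      exact ENat.top_ne_coe _ he
    obtain ⟨z, hz, hzreg⟩ := LC.exists_regular_of_depth (R := Localization.AtPrime p)
      (M := LocalizedModule p.primeCompl M) (k := e + 1) (Nat.succ_pos e) he.ge
    obtain ⟨⟨a, s⟩, ha⟩ := IsLocalization.surj p.primeCompl z
    have hareg : IsSMulRegular (LocalizedModule p.primeCompl M) (algebraMap R (Localization.AtPrime p) a) := by
      rw [← ha]
      exact hzreg.mul (IsUnit.isSMulRegular (M := LocalizedModule p.primeCompl M)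
        (IsLocalization.map_units (Localization.AtPrime p) s))
    have hap : a ∈ p := (Alg6.mem_maximalIdeal_iff p).1 (ha ▸ Ideal.mul_mem_right _ _ hz)
    -- the kernel of `a` vanishes near `p`
    obtain ⟨T, hT⟩ := IsNoetherian.noetherian (LinearMap.ker (a • LinearMap.id : M →ₗ[R] M))
    have hkill : ∀ v : M, a • v = 0 → ∃ t : R, t ∉ p ∧ t • v = 0 := by
      intro v hv
      have h0 : LocalizedModule.mkLinearMap p.primeCompl M v = 0 := by
        refine hareg.right_eq_zero_of_smul ?_
        rw [algebraMap_smul, ← map_smul, hv, map_zero]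
      obtain ⟨t, ht⟩ := (IsLocalizedModule.eq_zero_iff p.primeCompl (LocalizedModule.mkLinearMap p.primeCompl M)).1 h0
      exact ⟨t, t.2, ht⟩
    have hTker : ∀ v ∈ T, a • v = 0 := fun v hv => by
      have : v ∈ LinearMap.ker (a • LinearMap.id : M →ₗ[R] M) := hT ▸ Submodule.subset_span hv
      simpa using this
    choose! t ht htv using hkill
    let f₁ := ∏ v ∈ T, t v
    have hf₁ : f₁ ∉ p := fun h => by
      obtain ⟨v, hv, hvp⟩ := (Ideal.IsPrime.prod_mem_iff (hp := ‹p.IsPrime›)).1 h
      exact ht v (hTker v hv) hvp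
    have hf₁k : ∀ v : M, a • v = 0 → f₁ • v = 0 := by
      intro v hv
      have hv' : v ∈ Submodule.span R (T : Set M) := by
        rw [hT]; simpa using hv
      induction hv' using Submodule.span_induction with
      | mem w hw =>
        show (∏ v ∈ T, t v) • w = 0
        classical
        rw [← Finset.prod_erase_mul T t hw, mul_smul, htv w (hTker w hw), smul_zero]
      | zero => exact smul_zero _
      | add x y hx hy ihx ihy =>
        have hx' : a • x = 0 := by
          have : x ∈ LinearMap.ker (a • LinearMap.id : M →ₗ[R] M) := hT ▸ hx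
          simpa using this
        have hy' : a • y = 0 := by
          have : y ∈ LinearMap.ker (a • LinearMap.id : M →ₗ[R] M) := hT ▸ hy
          simpa using this
        rw [smul_add, ihx hx', ihy hy', add_zero]
      | smul c x hx ihx =>
        have hx' : a • x = 0 := by
          have : x ∈ LinearMap.ker (a • LinearMap.id : M →ₗ[R] M) := hT ▸ hx
          simpa using this
        rw [smul_comm, ihx hx', smul_zero]
    have hregq : ∀ (q : Ideal R) [q.IsPrime], f₁ ∉ q →
        IsSMulRegular (LocalizedModule q.primeCompl M) (algebraMap R (Localization.AtPrime q) a) := by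
      intro q _ hq
      refine isSMulRegular_iff_right_eq_zero_of_smul.2 fun w hw => ?_
      induction w using LocalizedModule.induction_on with
      | h m r =>
        rw [algebraMap_smul, LocalizedModule.smul'_mk] at hw
        obtain ⟨u, hu⟩ := (IsLocalizedModule.mk'_eq_zero' (f := LocalizedModule.mkLinearMap q.primeCompl M) r).1
          (by rwa [IsLocalizedModule.mk_eq_mk'] at hw)
        rw [IsLocalizedModule.mk_eq_mk', IsLocalizedModule.mk'_eq_zero']
        refine ⟨⟨f₁ * u, q.primeCompl.mul_mem hq u.2⟩, ?_⟩
        show (f₁ * (u : R)) • m = 0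
        rw [mul_smul]
        exact hf₁k _ (by rw [smul_comm]; exact hu)
    have hq1 := SkSeq.depth_quot_add_one M p hap hareg
    rw [he, Nat.cast_add, Nat.cast_one] at hq1
    replace hq1 := add_one_cancel hq1
    obtain ⟨f₂, hf₂, hge, hfin⟩ := ih (QuotSMulTop a M) hq1
    have key : ∀ (q : Ideal R) [q.IsPrime], p ≤ q → f₁ * f₂ ∉ q →
        LocCoh.depth (Localization.AtPrime q) (LocalizedModule q.primeCompl (QuotSMulTop a M)) + 1 =
          LocCoh.depth (Localization.AtPrime q) (LocalizedModule q.primeCompl M) := fun q _ hpq hq =>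
      SkSeq.depth_quot_add_one M q (hpq hap) (hregq q fun h => hq (q.mul_mem_right f₂ h))
    refine ⟨f₁ * f₂, fun h => (‹p.IsPrime›.mem_or_mem h).elim hf₁ hf₂, fun q _ hpq hq => ?_, ?_⟩
    · rw [← key q hpq hq, Nat.cast_add, Nat.cast_one]
      exact add_le_add_left (hge q hpq fun h => hq (q.mul_mem_left f₁ h)) 1
    · refine hfin.subset ?_
      rintro q ⟨hpq, hq, heq⟩
      refine ⟨hpq, fun h => hq (Ideal.mul_mem_left _ f₁ h), ?_⟩
      rw [← key q.asIdeal hpq hq, Nat.cast_add, Nat.cast_one] at heq
      exact add_one_cancel heq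

end Groth.Agent.GrLib8.DepthOpen
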