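import Groth.Agent.GrLib8.KoszulColim
import Mathlib.RingTheory.Derivation.Basic

/-!
# Derivations act on local cohomology
-/

set_option autoImplicit false
set_option linter.style.haveILetI false

universe u

open CategoryTheory Limits

namespace Groth.Agent.GrLib8.DerivLC

variable {R : Type u} [CommRing R] (θ : Derivation ℤ R R)

/-- A Leibniz operator over the derivation `θ`. -/
def IsTwisted {N : Type*} [AddCommGroup N] [Module R N] (D : N →+ N) : Prop :=
  ∀ (a : R) (x : N), D (a • x) = θ a • x + a • D x

section Loc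

variable {S : Submonoid R} {N : Type u} [AddCommGroup N] [Module R N] {D : N →+ N}

/-- The operator on fractions. -/
noncomputable def locFun (hD : IsTwisted θ D) : LocalizedModule S N → LocalizedModule S N := fun p =>
  LocalizedModule.liftOn p (fun q => LocalizedModule.mk ((q.2 : R) • D q.1 - θ q.2 • q.1) (q.2 * q.2)) fun q q' hqq => by
    obtain ⟨m, s⟩ := q
    obtain ⟨m', s'⟩ := q'
    obtain ⟨t, ht⟩ := hqq
    simp only [Submonoid.smul_def] at ht
    have h1 := congrArg D ht
    rw [hD, hD, hD, hD] at h1
    refine LocalizedModule.mk_eq.2 ⟨t * t, ?_⟩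
    simp only [Submonoid.smul_def, Submonoid.coe_mul]
    linear_combination (norm := module) ((t : R) * s * s') • h1 - (θ (t : R) * s * s') • ht -
      ((t : R) * (s * θ (s' : R) + s' * θ (s : R))) • ht

theorem locFun_mk (hD : IsTwisted θ D) (m : N) (s : S) :
    locFun θ hD (LocalizedModule.mk m s) = LocalizedModule.mk ((s : R) • D m - θ s • m) (s * s) :=
  LocalizedModule.liftOn_mk ..

/-- The additive operator on the localization. -/
noncomputable def locHom (hD : IsTwisted θ D) : LocalizedModule S N →+ LocalizedModule S N where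
  toFun := locFun θ hD
  map_zero' := by
    rw [← LocalizedModule.zero_mk (1 : S), locFun_mk, map_zero, smul_zero, smul_zero, sub_zero, LocalizedModule.zero_mk,
      LocalizedModule.zero_mk]
  map_add' x y := by
    induction x using LocalizedModule.induction_on with
    | h m s =>
    induction y using LocalizedModule.induction_on with
    | h m' s' =>
    rw [LocalizedModule.mk_add_mk, locFun_mk, locFun_mk, locFun_mk, LocalizedModule.mk_add_mk]
    refine LocalizedModule.mk_eq.2 ⟨1, ?_⟩
    simp only [Submonoid.smul_def, Submonoid.coe_mul, OneMemClass.coe_one, one_smul, map_add, hD _ _,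
      Derivation.leibniz, smul_eq_mul]
    module

theorem locHom_mk (hD : IsTwisted θ D) (m : N) (s : S) :
    locHom θ hD (LocalizedModule.mk m s) = LocalizedModule.mk ((s : R) • D m - θ s • m) (s * s) :=
  locFun_mk θ hD m s

theorem isTwisted_locHom (hD : IsTwisted θ D) : IsTwisted θ (locHom (S := S) θ hD) := fun a x => by
  induction x using LocalizedModule.induction_on with
  | h m s =>
    rw [LocalizedModule.smul'_mk, locHom_mk, locHom_mk, LocalizedModule.smul'_mk, LocalizedModule.smul'_mk,
      LocalizedModule.mk_add_mk]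
    refine LocalizedModule.mk_eq.2 ⟨1, ?_⟩
    simp only [Submonoid.smul_def, Submonoid.coe_mul, OneMemClass.coe_one, one_smul, hD _ _]
    module

theorem locHom_unit (hD : IsTwisted θ D) (m : N) :
    locHom (S := S) θ hD (LocalizedModule.mkLinearMap S N m) = LocalizedModule.mkLinearMap S N (D m) := by
  show locHom θ hD (LocalizedModule.mk m 1) = LocalizedModule.mk (D m) 1
  rw [locHom_mk, OneMemClass.coe_one, one_smul, Derivation.map_one_eq_zero, zero_smul, sub_zero, mul_one]

theorem locHom_map {N' : Type u} [AddCommGroup N'] [Module R N'] {D' : N' →+ N'} (hD : IsTwisted θ D)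
    (hD' : IsTwisted θ D') (g : N →ₗ[R] N') (hg : ∀ x, g (D x) = D' (g x)) (x : LocalizedModule S N) :
    IsLocalizedModule.map S (LocalizedModule.mkLinearMap S N) (LocalizedModule.mkLinearMap S N') g (locHom θ hD x) =
      locHom θ hD' (IsLocalizedModule.map S (LocalizedModule.mkLinearMap S N) (LocalizedModule.mkLinearMap S N') g x) := by
  induction x using LocalizedModule.induction_on with
  | h m s =>
    rw [locHom_mk, IsLocalizedModule.mk_eq_mk', IsLocalizedModule.mk_eq_mk', IsLocalizedModule.map_mk',
      IsLocalizedModule.map_mk', ← IsLocalizedModule.mk_eq_mk', ← IsLocalizedModule.mk_eq_mk', locHom_mk, map_sub,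
      map_smul, map_smul, hg]

end Loc

theorem exists_twisted : ∀ fs : List R, ∃ D : ∀ n : ℤ, (DerCA.extCech (ModuleCat.of R R) fs).X n →+
      (DerCA.extCech (ModuleCat.of R R) fs).X n, (∀ n, IsTwisted θ (D n)) ∧
    ∀ (n m : ℤ) x, ((DerCA.extCech (ModuleCat.of R R) fs).d n m).hom (D n x) =
      D m (((DerCA.extCech (ModuleCat.of R R) fs).d n m).hom x)
  | [] => by
    let A := ModuleCat.of R R
    let K := (HomologicalComplex.single (ModuleCat.{u} R) (ComplexShape.up ℤ) 0).obj A
    let e : K.X 0 ≃ₗ[R] R := (HomologicalComplex.singleObjXSelf (ComplexShape.up ℤ) 0 A).toLinearEquiv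
    have hd : ∀ n m, K.d n m = 0 := fun n m => by
      rcases eq_or_ne n 0 with rfl | hn
      · rcases eq_or_ne m 0 with rfl | hm
        · exact K.shape _ _ (by simp)
        · exact (HomologicalComplex.isZero_single_obj_X (ComplexShape.up ℤ) 0 A m hm).eq_of_tgt _ _
      · exact (HomologicalComplex.isZero_single_obj_X (ComplexShape.up ℤ) 0 A n hn).eq_of_src _ _
    let D : ∀ n : ℤ, K.X n →+ K.X n := fun n => if h : n = 0 then
      h ▸ e.symm.toLinearMap.toAddMonoidHom.comp ((θ.toLinearMap.toAddMonoidHom).comp e.toLinearMap.toAddMonoidHom) else 0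
    refine ⟨D, fun n => ?_, fun n m x => ?_⟩
    · rcases eq_or_ne n 0 with rfl | hn
      · suffices h : ∀ (a : R) (x : K.X 0), D 0 (a • x) = θ a • x + a • D 0 x from h
        intro a x
        simp only [D, dif_pos]
        refine e.injective ?_
        show e (e.symm (θ (e (a • x)))) = e (θ a • x + a • e.symm (θ (e x)))
        rw [e.apply_symm_apply, map_smul e, map_add e, map_smul e, map_smul e, e.apply_symm_apply, smul_eq_mul,
          Derivation.leibniz, smul_eq_mul, smul_eq_mul, smul_eq_mul]
        ring
      · intro a x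
        haveI := ModuleCat.subsingleton_of_isZero (HomologicalComplex.isZero_single_obj_X (ComplexShape.up ℤ) 0 A n hn)
        exact Subsingleton.elim (α := K.X n) _ _
    · show (K.d n m).hom (D n x) = D m ((K.d n m).hom x)
      rw [hd]
      exact (map_zero (D m)).symm
  | f :: fs => by
    obtain ⟨D, hD, hd⟩ := exists_twisted fs
    let C := DerCA.extCech (ModuleCat.of R R) fs
    let S := Submonoid.powers f
    let φ := DerCA.locCxUnit S C
    let E : ∀ p : ℤ, (CochainComplex.mappingCone φ).X p →+ (CochainComplex.mappingCone φ).X p := fun p =>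
      ((CochainComplex.mappingCone.inl φ).v (p + 1) p (by omega)).hom.toAddMonoidHom.comp
          ((D (p + 1)).comp ((CochainComplex.mappingCone.fst φ).1.v p (p + 1) rfl).hom.toAddMonoidHom) +
        ((CochainComplex.mappingCone.inr φ).f p).hom.toAddMonoidHom.comp
          ((locHom (S := S) θ (hD p)).comp ((CochainComplex.mappingCone.snd φ).v p p (add_zero p)).hom.toAddMonoidHom)
    have hfst : ∀ p x, ((CochainComplex.mappingCone.fst φ).1.v p (p + 1) rfl).hom (E p x) =
        D (p + 1) (((CochainComplex.mappingCone.fst φ).1.v p (p + 1) rfl).hom x) := by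
      intro p x
      have h1 := fun u => ConcreteCategory.congr_hom
        (CochainComplex.mappingCone.inl_v_fst_v φ (p + 1) p rfl) u
      have h2 := fun v => ConcreteCategory.congr_hom
        (CochainComplex.mappingCone.inr_f_fst_v φ p (p + 1) rfl) v
      refine (map_add _ _ _).trans ?_
      exact (congrArg₂ (· + ·) (h1 _) (h2 _)).trans (add_zero _)
    have hsnd : ∀ p x, ((CochainComplex.mappingCone.snd φ).v p p (add_zero p)).hom (E p x) =
        locHom (S := S) θ (hD p) (((CochainComplex.mappingCone.snd φ).v p p (add_zero p)).hom x) := by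
      intro p x
      have h1 := fun u => ConcreteCategory.congr_hom
        (CochainComplex.mappingCone.inl_v_snd_v φ (p + 1) p (by omega)) u
      have h2 := fun v => ConcreteCategory.congr_hom (CochainComplex.mappingCone.inr_f_snd_v φ p) v
      refine (map_add _ _ _).trans ?_
      exact (congrArg₂ (· + ·) (h1 _) (h2 _)).trans (zero_add _)
    refine ⟨fun n => E (n + -1), fun n a x => ?_, fun n m x => ?_⟩
    · refine CechLC.cone_ext (p := n + -1) φ ?_ ?_
      · refine (hfst _ _).trans ?_
        refine (congrArg (D (n + -1 + 1)) (map_smul _ a x)).trans ((hD _ a _).trans ?_)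
        refine Eq.symm ((map_add _ _ _).trans ?_)
        exact congrArg₂ (· + ·) (map_smul _ _ _) ((map_smul _ _ _).trans (congrArg (a • ·) (hfst _ x)))
      · refine (hsnd _ _).trans ?_
        refine (congrArg (locHom (S := S) θ (hD (n + -1))) (map_smul _ a x)).trans
          ((isTwisted_locHom θ (hD _) a _).trans ?_)
        refine Eq.symm ((map_add _ _ _).trans ?_)
        exact congrArg₂ (· + ·) (map_smul _ _ _) ((map_smul _ _ _).trans (congrArg (a • ·) (hsnd _ x)))
    · show ((-1 : ℤ).negOnePow • (CochainComplex.mappingCone φ).d (n + -1) (m + -1)).hom (E (n + -1) x) =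
        E (m + -1) (((-1 : ℤ).negOnePow • (CochainComplex.mappingCone φ).d (n + -1) (m + -1)).hom x)
      rw [Int.negOnePow_odd _ (odd_neg_one), Units.neg_smul, one_smul]
      show -(((CochainComplex.mappingCone φ).d (n + -1) (m + -1)).hom (E (n + -1) x)) =
        E (m + -1) (-(((CochainComplex.mappingCone φ).d (n + -1) (m + -1)).hom x))
      rw [map_neg, neg_inj]
      refine (?_ : ∀ (p q : ℤ) (x : (CochainComplex.mappingCone φ).X p),
        ((CochainComplex.mappingCone φ).d p q).hom (E p x) = E q (((CochainComplex.mappingCone φ).d p q).hom x)) _ _ x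
      intro p q x
      by_cases hpq : p + 1 = q
      · subst hpq
        refine CechLC.cone_ext (p := p + 1) φ ?_ ?_
        · have e := fun u => ConcreteCategory.congr_hom
            (CochainComplex.mappingCone.d_fst_v φ p (p + 1) (p + 1 + 1) rfl rfl) u
          refine (e _).trans (Eq.trans ?_ ((hfst _ _).trans (congrArg (D (p + 1 + 1)) (e x))).symm)
          show -((C.d (p + 1) (p + 1 + 1)).hom (((CochainComplex.mappingCone.fst φ).1.v p (p + 1) rfl).hom (E p x))) =
            D (p + 1 + 1) (-((C.d (p + 1) (p + 1 + 1)).hom (((CochainComplex.mappingCone.fst φ).1.v p (p + 1) rfl).hom x)))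
          rw [map_neg, hfst, hd]
        · have e := fun u => ConcreteCategory.congr_hom (CochainComplex.mappingCone.d_snd_v φ p (p + 1) rfl) u
          refine (e _).trans (Eq.trans ?_ ((hsnd _ _).trans (congrArg (locHom (S := S) θ (hD (p + 1))) (e x))).symm)
          show LocalizedModule.mkLinearMap S (C.X (p + 1))
              (((CochainComplex.mappingCone.fst φ).1.v p (p + 1) rfl).hom (E p x)) +
              IsLocalizedModule.map S (LocalizedModule.mkLinearMap S (C.X p)) (LocalizedModule.mkLinearMap S (C.X (p + 1)))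
                (C.d p (p + 1)).hom (((CochainComplex.mappingCone.snd φ).v p p (add_zero p)).hom (E p x)) =
            locHom (S := S) θ (hD (p + 1)) (LocalizedModule.mkLinearMap S (C.X (p + 1))
              (((CochainComplex.mappingCone.fst φ).1.v p (p + 1) rfl).hom x) +
              IsLocalizedModule.map S (LocalizedModule.mkLinearMap S (C.X p)) (LocalizedModule.mkLinearMap S (C.X (p + 1)))
                (C.d p (p + 1)).hom (((CochainComplex.mappingCone.snd φ).v p p (add_zero p)).hom x))
          rw [map_add, locHom_unit, hfst, hsnd, locHom_map θ (hD p) (hD (p + 1)) _ (hd p (p + 1))]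
      · rw [(CochainComplex.mappingCone φ).shape p q hpq]
        exact (map_zero (E q)).symm

theorem exists_operator [IsNoetherianRing R] (I : Ideal R) (i : ℕ) :
    ∃ D : LocCoh.H I i R →+ LocCoh.H I i R, ∀ (a : R) (ξ : LocCoh.H I i R), D (a • ξ) = θ a • ξ + a • D ξ := by
  obtain ⟨s, hs⟩ := IsNoetherian.noetherian I
  obtain rfl : I = Ideal.span {x : R | x ∈ s.toList} := by
    rw [← hs]; exact congrArg _ (Set.ext fun x => by simp)
  obtain ⟨e⟩ := CechLC.nonempty_equiv s.toList i (ModuleCat.of R R)
  obtain ⟨D, hD, hd⟩ := exists_twisted θ s.toList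
  let C := DerCA.extCech (ModuleCat.of R R) s.toList
  let p : ℤ := (i : ℤ)
  have hi : Function.Injective (C.iCycles p).hom := (ModuleCat.mono_iff_injective _).1 inferInstance
  have hπ : Function.Surjective (C.homologyπ p).hom.toAddMonoidHom :=
    (ModuleCat.epi_iff_surjective (C.homologyπ p)).1 inferInstance
  have hex : ∀ z : C.cycles p, ∃ z' : C.cycles p, (C.iCycles p).hom z' = D p ((C.iCycles p).hom z) := fun z =>
    CechLC.exists_cycle s.toList p _ ((hd p (p + 1) _).trans
      ((congrArg (D (p + 1)) (ConcreteCategory.congr_hom (C.iCycles_d p (p + 1)) z)).trans (map_zero _)))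
  choose Z hZ using hex
  let G : C.cycles p →+ C.homology p := (C.homologyπ p).hom.toAddMonoidHom.comp (AddMonoidHom.mk' Z fun a b => hi (by
    rw [hZ, map_add, map_add, map_add, hZ, hZ]))
  have hker : (C.homologyπ p).hom.toAddMonoidHom.ker ≤ G.ker := fun z hz => by
    obtain ⟨w, hw⟩ := (KoszulColim.homologyπ_eq_zero_iff C p z).1 hz
    refine (KoszulColim.homologyπ_eq_zero_iff C p (Z z)).2 ⟨D _ w, ?_⟩
    rw [hZ, hd, hw]
  let DH : C.homology p →+ C.homology p := (C.homologyπ p).hom.toAddMonoidHom.liftOfSurjective hπ ⟨G, hker⟩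
  have hDH : ∀ z, DH ((C.homologyπ p).hom z) = (C.homologyπ p).hom (Z z) := fun z =>
    AddMonoidHom.liftOfRightInverse_comp_apply _ _ _ _ z
  refine ⟨e.toLinearMap.toAddMonoidHom.comp (DH.comp e.symm.toLinearMap.toAddMonoidHom), fun a ξ => ?_⟩
  obtain ⟨z, hz⟩ := hπ (e.symm ξ)
  replace hz : (C.homologyπ p).hom z = e.symm ξ := hz
  obtain rfl : ξ = e ((C.homologyπ p).hom z) := by rw [hz]; exact (e.apply_symm_apply ξ).symm
  show e (DH (e.symm (a • e ((C.homologyπ p).hom z)))) =
    θ a • e ((C.homologyπ p).hom z) + a • e (DH (e.symm (e ((C.homologyπ p).hom z))))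
  rw [← map_smul, e.symm_apply_apply, e.symm_apply_apply, ← map_smul ((C.homologyπ p).hom), hDH, hDH, ← map_smul e,
    ← map_smul e, ← map_add e, ← map_smul ((C.homologyπ p).hom), ← map_smul ((C.homologyπ p).hom), ← map_add]
  refine congrArg e (congrArg _ (hi ?_))
  rw [hZ, map_add, map_smul ((C.iCycles p).hom), map_smul ((C.iCycles p).hom), map_smul ((C.iCycles p).hom), hZ]
  exact hD p a _

end Groth.Agent.GrLib8.DerivLC
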