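import Groth.Agent.GrLib8.Koszul
import Groth.Agent.GrLib8.Irrel

/-!
# Persistence of diagonal vanishing, filter-regular elements
-/

set_option autoImplicit false
set_option linter.unusedSectionVars false

universe u

open DirectSum

namespace Groth.Agent.GrLib8

theorem exists_list_span {R : Type u} [CommRing R] [IsNoetherianRing R] (S : Set R) :
    ∃ xs : List R, (∀ x ∈ xs, x ∈ S) ∧ Ideal.span S ≤ Ideal.ofList xs := by
  classical
  obtain ⟨F, hF⟩ := (Ideal.span S).fg_of_isNoetherianRing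
  have hsub : ∀ f ∈ F, ∃ T : Finset R, (T : Set R) ⊆ S ∧ f ∈ Ideal.span (T : Set R) := fun f hf =>
    Submodule.mem_span_finite_of_mem_span (hF.le (Submodule.subset_span hf))
  choose! T hT hfT using hsub
  refine ⟨(F.biUnion T).toList, fun x hx => ?_, hF.ge.trans (Submodule.span_le.2 fun f hf => ?_)⟩
  · obtain ⟨f, hf, hxf⟩ := Finset.mem_biUnion.1 (Finset.mem_toList.1 hx)
    exact hT f hf hxf
  · refine Ideal.span_mono ?_ (hfT f hf)
    intro x hx
    exact Finset.mem_toList.2 (Finset.mem_biUnion.2 ⟨f, hf, hx⟩)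

variable {R : Type u} [CommRing R] [IsNoetherianRing R] {σ : Type u} [SetLike σ R] [AddSubgroupClass σ R]
  {𝒜 : ℤ → σ} [GradedRing 𝒜] {a : HomogeneousIdeal 𝒜}

/-- Diagonal vanishing persists. -/
theorem hVan_persist (h1 : a.toIdeal ≤ Ideal.span ((𝒜 1 : σ) : Set R)) (X : GrLC.GMod.{u} 𝒜) (r : ℤ) (l : ℕ)
    (hl : 1 ≤ l) (h : ∀ i : ℕ, l ≤ i → HVan a X i (r - i)) :
    ∀ s : ℤ, r ≤ s → ∀ i : ℕ, l ≤ i → HVan a X i (s - i) := by
  obtain ⟨xs, hxs, hspan⟩ := exists_list_span ((𝒜 1 : σ) : Set R)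
  intro s hs
  induction s, hs using Int.le_induction with
  | base => exact h
  | succ s _ ih =>
    intro i hi
    obtain ⟨j, rfl⟩ : ∃ j, i = j + 1 := ⟨i - 1, by omega⟩
    refine hVan_of_diagonal X 1 xs hxs (h1.trans hspan) j _ fun q => ?_
    have h2 := ih (j + 1 + q) (by omega)
    rw [show s + 1 - ((j + 1 : ℕ) : ℤ) - (q + 1) • (1 : ℤ) = s - ((j + 1 + q : ℕ) : ℤ) by
      rw [nsmul_eq_mul, mul_one]; push_cast; ring]
    exact h2

/-- `T = ker x`, `Q = X/T`, `0 → T → X → Q → 0` and `0 → Q → X → Y → 0`. -/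
theorem exists_filter_seqs {X Y : GrLC.GMod.{u} 𝒜} {x : R} {d : ℤ} (hx : x ∈ 𝒜 d)
    (π : X.carrier →ₗ[R] Y.carrier) (hker : LinearMap.ker π = LinearMap.range (x • (LinearMap.id : X.carrier →ₗ[R] X.carrier)))
    (htors : LocCoh.IsPowerTorsion a.toIdeal (Submodule.torsionBy R X.carrier x)) :
    ∃ (T Q : GrLC.GMod.{u} 𝒜) (j : T.carrier →ₗ[R] X.carrier) (p : X.carrier →ₗ[R] Q.carrier)
      (f : Q.carrier →ₗ[R] X.carrier),
      LocCoh.IsPowerTorsion a.toIdeal T.carrier ∧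
      GrLC.IsGrHomDeg T.gr X.gr j 0 ∧ GrLC.IsGrHomDeg X.gr Q.gr p 0 ∧ Function.Injective j ∧ Function.Surjective p ∧
      Function.Exact j p ∧ GrLC.IsGrHomDeg Q.gr X.gr f d ∧ Function.Injective f ∧ Function.Exact f π ∧
      f ∘ₗ p = x • LinearMap.id := by
  let μ : X.carrier →ₗ[R] X.carrier := x • LinearMap.id
  have hμ : GrLC.IsGrHomDeg X.gr X.gr μ d := isGrHomDeg_smul_id hx
  let K := LinearMap.ker μ
  have hK : K.IsHomogeneous X.gr := isHomogeneous_ker_deg hμ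
  let T := subGMod 𝒜 X.gr K hK
  let Q := quotGMod 𝒜 X.gr K hK
  let p : X.carrier →ₗ[R] Q.carrier := K.mkQ
  let f : Q.carrier →ₗ[R] X.carrier := K.liftQ μ le_rfl
  let j : T.carrier →ₗ[R] X.carrier := K.subtype
  refine ⟨T, Q, j, p, f, ?_, fun g m hm => (add_zero g).symm ▸ hm,
    fun g m hm => (add_zero g).symm ▸ isGrHom_mkQ X.gr K g m hm, Subtype.val_injective, Submodule.mkQ_surjective K,
    LinearMap.exact_subtype_mkQ K, ?_, ?_, ?_, Submodule.liftQ_mkQ K μ le_rfl⟩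
  · intro (t : K)
    obtain ⟨n, hn⟩ := htors ⟨t.1, show x • t.1 = 0 from LinearMap.mem_ker.1 t.2⟩
    exact ⟨n, fun r hr => Subtype.ext (show r • t.1 = 0 from congrArg Subtype.val (hn r hr))⟩
  · rintro g z ⟨m, hm, rfl⟩
    exact hμ g m hm
  · exact LinearMap.ker_eq_bot.1 (Submodule.ker_liftQ_eq_bot K μ le_rfl le_rfl)
  · rw [LinearMap.exact_iff, hker]
    exact (Submodule.range_liftQ K μ le_rfl).symm

end Groth.Agent.GrLib8
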