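import Mathlib
import Groth.Prelude.Def_Coh

/-!
# Derivations of the base act on étale schemes
-/

set_option autoImplicit false
set_option linter.style.haveILetI false

universe u

open CategoryTheory AlgebraicGeometry Opposite TopologicalSpace

namespace Groth.Agent.GrLib8.EtaleDerivation

theorem derivation_ext {A B C : Type u} [CommRing A] [CommRing B] [CommRing C] [Algebra A B] [Algebra B C]
    [Algebra.FormallyUnramified A B] (d : Derivation ℤ B C) (h : ∀ a : A, d (algebraMap A B a) = 0) : d = 0 := by
  letI : Algebra A C := ((algebraMap B C).comp (algebraMap A B)).toAlgebra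
  haveI : IsScalarTower A B C := IsScalarTower.of_algebraMap_eq fun _ => rfl
  let d' : Derivation A B C := Derivation.mk'
    { toFun := d
      map_add' := d.map_add
      map_smul' := fun a b => by
        rw [RingHom.id_apply, Algebra.smul_def, d.leibniz, h, smul_zero, add_zero, algebraMap_smul] }
    fun x y => d.leibniz x y
  have h0 : d'.liftKaehlerDifferential = 0 := Subsingleton.elim _ _
  ext x
  show d' x = 0
  rw [← Derivation.liftKaehlerDifferential_comp_D d' x, h0, LinearMap.zero_apply]

theorem exists_derivation_extend (A B : Type u) [CommRing A] [CommRing B] [Algebra A B]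
    [Algebra.FormallyEtale A B] (θ : Derivation ℤ A A) :
    ∃ D : Derivation ℤ B B, ∀ a : A, D (algebraMap A B a) = algebraMap A B (θ a) := by
  have hinj : Function.Injective (KaehlerDifferential.mapBaseChange ℤ A B) := by
    refine (injective_iff_map_eq_zero _).2 fun x hx => ?_
    obtain ⟨y, rfl⟩ := (Algebra.H1Cotangent.exact_δ_mapBaseChange ℤ A B x).1 hx
    rw [Subsingleton.elim y 0, map_zero]
  have hsurj : Function.Surjective (KaehlerDifferential.mapBaseChange ℤ A B) := fun y =>
    (KaehlerDifferential.exact_mapBaseChange_map ℤ A B y).1 (Subsingleton.elim _ _)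
  let e := LinearEquiv.ofBijective (KaehlerDifferential.mapBaseChange ℤ A B) ⟨hinj, hsurj⟩
  let l : TensorProduct A B (KaehlerDifferential ℤ A) →ₗ[B] B :=
    LinearMap.liftBaseChange B ((Algebra.linearMap A B).comp θ.liftKaehlerDifferential)
  refine ⟨(l.comp e.symm.toLinearMap).compDer (KaehlerDifferential.D ℤ B), fun a => ?_⟩
  show l (e.symm (KaehlerDifferential.D ℤ B (algebraMap A B a))) = _
  have h1 : e.symm (KaehlerDifferential.D ℤ B (algebraMap A B a)) = (1 : B) ⊗ₜ KaehlerDifferential.D ℤ A a := by
    rw [LinearEquiv.symm_apply_eq]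
    show _ = KaehlerDifferential.mapBaseChange ℤ A B _
    rw [KaehlerDifferential.mapBaseChange_tmul, KaehlerDifferential.map_D, one_smul]
  rw [h1]
  simp [l]

variable {A : Type u} [CommRing A] (V : Scheme.{u}) [V.Over (Spec (CommRingCat.of A))]

/-- The structure map on sections over an open. -/
noncomputable def toSec (U : V.Opens) : A →+* Γ(V, U) :=
  (Coh.resTop V (op U)).comp (Coh.toGlobal (V ↘ Spec (CommRingCat.of A)))

theorem res_toSec {U W : V.Opens} (h : W ≤ U) (a : A) :
    (V.presheaf.map (homOfLE h).op).hom (toSec V U a) = toSec V W a :=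
  Coh.resTop_comp (X := V) (op U) (op W) (homOfLE h).op _

theorem etale_toSec [Etale (V ↘ Spec (CommRingCat.of A))] (U : V.affineOpens) : (toSec (A := A) V U.1).Etale := by
  let f : V ⟶ Spec (CommRingCat.of A) := V ↘ Spec (CommRingCat.of A)
  have h := f.etale_appLE (isAffineOpen_top (Spec (CommRingCat.of A))) U.2 le_top
  exact RingHom.Etale.respectsIso.2 _ (Scheme.ΓSpecIso (CommRingCat.of A)).symm.commRingCatIsoToRingEquiv h

theorem exists_sheaf_derivation [Etale (V ↘ Spec (CommRingCat.of A))] (θ : Derivation ℤ A A) :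
    ∃ D : Coh.toAb (Coh.structureModule V) ⟶ Coh.toAb (Coh.structureModule V), ∀ a : A,
      Coh.smulAb (Coh.structureModule V) (Coh.toGlobal (V ↘ Spec (CommRingCat.of A)) a) ≫ D =
        Coh.smulAb (Coh.structureModule V) (Coh.toGlobal (V ↘ Spec (CommRingCat.of A)) (θ a)) +
          D ≫ Coh.smulAb (Coh.structureModule V) (Coh.toGlobal (V ↘ Spec (CommRingCat.of A)) a) := by
  let F := Coh.toAb (Coh.structureModule V)
  let B : V.affineOpens → Opens V := fun U => U.1
  have hB : Opens.IsBasis (Set.range B) := by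
    have : Set.range B = V.affineOpens := Subtype.range_coe
    rw [this]
    exact V.isBasis_affineOpens
  have hD : ∀ U : V.affineOpens, ∃ D : Derivation ℤ Γ(V, U.1) Γ(V, U.1),
      ∀ a : A, D (toSec (A := A) V U.1 a) = toSec (A := A) V U.1 (θ a) := fun U => by
    letI := (toSec (A := A) V U.1).toAlgebra
    haveI : Algebra.Etale A Γ(V, U.1) := etale_toSec V U
    exact exists_derivation_extend A Γ(V, U.1) θ
  choose D hD using hD
  have hnat : ∀ (U W : V.affineOpens) (h : W.1 ≤ U.1) (s : Γ(V, U.1)),
      (V.presheaf.map (homOfLE h).op).hom (D U s) = D W ((V.presheaf.map (homOfLE h).op).hom s) := by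
    intro U W h s
    let ρ := (V.presheaf.map (homOfLE h).op).hom
    letI := (toSec (A := A) V U.1).toAlgebra
    haveI : Algebra.Etale A Γ(V, U.1) := etale_toSec V U
    letI := ρ.toAlgebra
    let d : Derivation ℤ Γ(V, U.1) Γ(V, W.1) := Derivation.mk'
      { toFun := fun x => ρ (D U x) - D W (ρ x)
        map_add' := fun x y => by simp only [map_add]; abel
        map_smul' := fun c x => by simp only [map_zsmul, RingHom.id_apply, smul_sub] }
      (fun x y => by
        show ρ (D U (x * y)) - D W (ρ (x * y)) = ρ x * (ρ (D U y) - D W (ρ y)) + ρ y * (ρ (D U x) - D W (ρ x))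
        simp only [Derivation.leibniz, map_mul, map_add, smul_eq_mul]
        ring)
    have h0 : d = 0 := derivation_ext d fun a => by
      show ρ (D U (toSec (A := A) V U.1 a)) - D W (ρ (toSec (A := A) V U.1 a)) = 0
      rw [hD, res_toSec, res_toSec, hD, sub_self]
    exact sub_eq_zero.1 (DFunLike.congr_fun h0 s)
  let α : (inducedFunctor B).op ⋙ F.obj ⟶ (inducedFunctor B).op ⋙ F.obj :=
    { app := fun U => AddCommGrpCat.ofHom
        (show Γ(V, U.unop.1) →+ Γ(V, U.unop.1) from (D U.unop).toLinearMap.toAddMonoidHom)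
      naturality := fun U W g => by
        ext s
        exact (hnat U.unop W.unop (leOfHom g.unop.hom) s).symm }
  refine ⟨⟨TopCat.Sheaf.restrictHomEquivHom F.obj F hB α⟩, fun a => ?_⟩
  refine CategoryTheory.Sheaf.hom_ext (TopCat.Sheaf.hom_ext F.obj F hB fun U => ?_)
  ext s
  simp only [ObjectProperty.FullSubcategory.comp_hom, NatTrans.comp_app]
  have e := TopCat.Sheaf.extend_hom_app F.obj F hB α U
  let R := ((TopCat.Sheaf.restrictHomEquivHom F.obj F hB) α).app (op (B U))
  show R.hom (toSec (A := A) V U.1 a * (show Γ(V, U.1) from s) : Γ(V, U.1)) =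
    (toSec (A := A) V U.1 (θ a) * (show Γ(V, U.1) from s) + toSec (A := A) V U.1 a * (show Γ(V, U.1) from R.hom s) : Γ(V, U.1))
  simp only [R, e]
  show (D U) (toSec (A := A) V U.1 a * (show Γ(V, U.1) from s)) =
    toSec (A := A) V U.1 (θ a) * (show Γ(V, U.1) from s) + toSec (A := A) V U.1 a * (D U) (show Γ(V, U.1) from s)
  rw [Derivation.leibniz, hD, smul_eq_mul, smul_eq_mul]
  ring

theorem exists_cohomology_derivation [Etale (V ↘ Spec (CommRingCat.of A))] (θ : Derivation ℤ A A) (i : ℕ) :
    ∃ D : Coh.HH V (Coh.structureModule V) i →+ Coh.HH V (Coh.structureModule V) i,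
      ∀ (a : A) (ξ : Coh.HH V (Coh.structureModule V) i), D (a • ξ) = θ a • ξ + a • D ξ := by
  obtain ⟨φ, hφ⟩ := exists_sheaf_derivation V θ
  refine ⟨AddMonoidHom.mk' (fun x => CategoryTheory.Sheaf.H.map φ i x) (fun x y => map_add _ x y), fun a ξ => ?_⟩
  let M := Coh.structureModule V
  let g : A → (Coh.toAb M ⟶ Coh.toAb M) := fun b => Coh.smulAb M (Coh.toGlobal (V ↘ Spec (CommRingCat.of A)) b)
  have hs : ∀ (b : A) (y : Coh.HH V M i), b • y = CategoryTheory.Sheaf.H.map (g b) i y := fun _ _ => rfl
  rw [hs, hs, hs]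
  simp only [AddMonoidHom.mk'_apply]
  rw [← CategoryTheory.Sheaf.H.map_comp_apply, ← CategoryTheory.Sheaf.H.map_comp_apply,
    ← CategoryTheory.Sheaf.H.map_add_apply]
  exact congrArg (fun ψ => CategoryTheory.Sheaf.H.map ψ i ξ) (hφ a)

end Groth.Agent.GrLib8.EtaleDerivation
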