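import Groth.Agent.SiteBase.DerivedPrecomp
import Groth.Agent.SiteBase.ExtByZero
import Groth.Agent.SiteBase.Rpush
import Groth.Agent.QCoh.Ab.Restrict

/-!
# Restriction to an open subspace is exact and preserves injectives
-/

universe u

open CategoryTheory CategoryTheory.Limits TopologicalSpace

namespace Groth.Agent.GrLib8.RestrExact

variable {X : TopCat.{u}} (U : Opens X)

theorem lim : PreservesFiniteLimits (CohTop.restrFunctor U) :=
  QCoh.Ab.preservesFiniteLimits_restr (j := TopCat.ofHom ⟨Subtype.val, continuous_subtype_val⟩) U.isOpenEmbedding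

theorem colim : PreservesFiniteColimits (CohTop.restrFunctor U) := by
  refine (Functor.preservesFiniteColimits_iff_forall_exact_map_and_epi _).2 fun S hS => ?_
  have h := QCoh.Ab.restr_shortExact (j := TopCat.ofHom ⟨Subtype.val, continuous_subtype_val⟩) U.isOpenEmbedding hS
  exact ⟨h.exact, h.epi_g⟩

theorem inj : (CohTop.restrFunctor U).PreservesInjectiveObjects := ⟨fun {I} hI => by
  haveI := ExtByZero.preservesFiniteLimits_ext0 U
  haveI : (ExtByZero.ext0 U).PreservesMonomorphisms := preservesMonomorphisms_of_preservesLimitsOfShape _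
  exact (ExtByZero.adj U).map_injective I hI⟩

/-- Right derived functors of restriction followed by an additive functor. -/
theorem nonempty_precompIso {B : Type*} [Category B] [Abelian B] (G : CohTop.Ab (TopCat.of U) ⥤ B) [G.Additive]
    (n : ℕ) :
    Nonempty ((CohTop.restrFunctor U ⋙ G).rightDerived n ≅ CohTop.restrFunctor U ⋙ G.rightDerived n) := by
  haveI := lim U
  haveI := colim U
  haveI := inj U
  exact ⟨SiteBase.rightDerivedPrecompIso (CohTop.restrFunctor U) G n⟩

end Groth.Agent.GrLib8.RestrExact
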