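import Groth.Agent.GrLib8.RHZIso
import Groth.Agent.GrLib8.RestrExact

/-!
# Excision: cohomology with supports on an open subspace
-/

set_option autoImplicit false
set_option linter.style.haveILetI false

universe u

open CategoryTheory CategoryTheory.Limits Opposite TopologicalSpace

noncomputable section

namespace Groth.Agent.GrLib8.Excision

open HZshPre

variable {X : TopCat.{u}} {W V : Opens X} (h : W ≤ V)

local notation "JX" => Opens.grothendieckTopology X

instance evalAt_additive : ((evaluation (Opens X)ᵒᵖ AddCommGrpCat.{u}).obj (op V)).Additive where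

/-- `ℤ_V/ℤ_W ≅ ℤ_V/ℤ_{V ∩ W}`. -/
def zqIso : LocCohZ.zq h ≅ (P W).obj V where
  hom := LocCohZ.zqMap (inf_le_left : V ⊓ W ≤ V) h (le_inf h le_rfl) le_rfl
  inv := LocCohZ.zqMap h (inf_le_left : V ⊓ W ≤ V) inf_le_right le_rfl
  hom_inv_id := (SuppFam.zqMap_comp _ _ _ _ _ _ _).trans (SuppFam.zqMap_id _)
  inv_hom_id := (SuppFam.zqMap_comp _ _ _ _ _ _ _).trans (SuppFam.zqMap_id _)

/-- Sections of `Γ_Z` over `V`. -/
abbrev evGamma (W V : Opens X) : CohTop.Ab X ⥤ AddCommGrpCat.{u} :=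
  (LocCohZ.sectSuppF W ⋙ sheafToPresheaf JX AddCommGrpCat.{u}) ⋙
    (evaluation (Opens X)ᵒᵖ AddCommGrpCat.{u}).obj (op V)

/-- `R^i` of sections of `Γ_Z` over `V`. -/
def rightDerivedEvGamma (i : ℕ) :
    (evGamma W V).rightDerived i ≅ (Abelian.extFunctor.{u} i).obj (op (LocCohZ.zq h)) :=
  SiteBase.rightDerivedCompIso (LocCohZ.sectSuppF W ⋙ sheafToPresheaf JX AddCommGrpCat.{u})
      ((evaluation (Opens X)ᵒᵖ AddCommGrpCat.{u}).obj (op V)) i ≪≫
    Functor.isoWhiskerRight ((pres W).rightDerivedIso i) _ ≪≫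
    (Abelian.extFunctor.{u} i).mapIso (zqIso h).op

theorem img_top : V.isOpenEmbedding.isOpenMap.functor.obj ⊤ = V := by
  ext y
  constructor
  · rintro ⟨z, -, rfl⟩
    exact z.2
  · exact fun hy => ⟨⟨y, hy⟩, trivial, rfl⟩

/-- The open `W` of the subspace `V`. -/
abbrev W' (W V : Opens X) : Opens (TopCat.of V) := (Opens.map (CohCx.incl V)).obj W

/-- The sections of `Γ_Z(F|_V)` inside `F(V)`. -/
def inclV (W V : Opens X) (F : CohTop.Ab X) :
    ((LocCohZ.sectSuppF (W' W V)).obj ((CohTop.restrFunctor V).obj F)).obj.obj (op ⊤) →+ F.obj.obj (op V) :=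
  (F.obj.map (homOfLE (img_top (V := V)).ge).op).hom.comp (incl0 (W' W V) ((CohTop.restrFunctor V).obj F) ⊤)

theorem inclV_injective (F : CohTop.Ab X) : Function.Injective (inclV W V F) := by
  intro a b hab
  apply incl0_injective (W' W V) ((CohTop.restrFunctor V).obj F) ⊤
  refine sub_eq_zero.1 ((SuppFamLib.res_eq_zero_iff F img_top.ge img_top.le _).1 ?_)
  exact (map_sub (F.obj.map (homOfLE (img_top (V := V)).ge).op).hom _ _).trans (sub_eq_zero.2 hab)

theorem range_inclV (F : CohTop.Ab X) (s : F.obj.obj (op V)) :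
    (∃ t, inclV W V F t = s) ↔ F.obj.map (homOfLE (inf_le_left : V ⊓ W ≤ V)).op s = 0 := by
  have hle : V ⊓ W ≤ V.isOpenEmbedding.isOpenMap.functor.obj (⊤ ⊓ W' W V) :=
    fun y hy => ⟨⟨y, hy.1⟩, ⟨trivial, hy.2⟩, rfl⟩
  have hge : V.isOpenEmbedding.isOpenMap.functor.obj (⊤ ⊓ W' W V) ≤ V ⊓ W := by
    rintro _ ⟨z, hz, rfl⟩
    exact ⟨z.2, hz.2⟩
  constructor
  · rintro ⟨t, rfl⟩
    have h1 := (range_incl0 (W' W V) ((CohTop.restrFunctor V).obj F) ⊤ _).1 ⟨t, rfl⟩
    refine (SuppFamLib.res_res F _ _ _).trans ?_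
    refine Eq.trans ?_ ((SuppFamLib.res_eq_zero_iff F hle hge _).2 h1)
    exact (SuppFamLib.res_res F _ hle _).symm
  · intro hs
    obtain ⟨t, ht⟩ := (range_incl0 (W' W V) ((CohTop.restrFunctor V).obj F) ⊤
      (F.obj.map (homOfLE (img_top (V := V)).le).op s)).2 (by
        refine (SuppFamLib.res_eq_zero_iff F hle hge _).1 ?_
        have hm : V.isOpenEmbedding.isOpenMap.functor.obj (⊤ ⊓ W' W V) ≤
            V.isOpenEmbedding.isOpenMap.functor.obj ⊤ := V.isOpenEmbedding.isOpenMap.functor.monotone inf_le_left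
        refine (SuppFamLib.res_res F hm hle _).trans ?_
        refine (SuppFamLib.res_res F (img_top (V := V)).le (hle.trans hm) s).trans ?_
        exact hs)
    refine ⟨t, (congrArg (fun z => F.obj.map (homOfLE (img_top (V := V)).ge).op z) ht).trans ?_⟩
    rw [SuppFamLib.res_res]
    exact ConcreteCategory.congr_hom (F.obj.map_id (op V)) s

theorem exists_eq (F : CohTop.Ab X)
    (t : ((LocCohZ.sectSuppF (W' W V)).obj ((CohTop.restrFunctor V).obj F)).obj.obj (op ⊤)) :
    ∃ s, incl0 W F V s = inclV W V F t :=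
  (range_incl0 W F V _).2 ((range_inclV F _).1 ⟨t, rfl⟩)

/-- The comparison in degree zero. -/
def degZero (W V : Opens X) (F : CohTop.Ab X) :
    ((LocCohZ.sectSuppF (W' W V)).obj ((CohTop.restrFunctor V).obj F)).obj.obj (op ⊤) ≃+
      ((LocCohZ.sectSuppF W).obj F).obj.obj (op V) :=
  AddEquiv.ofBijective
    (AddMonoidHom.mk' (fun t => (exists_eq F t).choose) fun a b => incl0_injective W F V
      ((exists_eq F (a + b)).choose_spec.trans ((map_add _ a b).trans (Eq.trans
        (congrArg₂ (· + ·) (exists_eq F a).choose_spec.symm (exists_eq F b).choose_spec.symm)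
        (map_add _ _ _).symm))))
    ⟨fun a b hab => inclV_injective F (by
      rw [← (exists_eq F a).choose_spec, ← (exists_eq F b).choose_spec]
      exact congrArg (incl0 W F V) hab),
    fun s => by
      obtain ⟨t, ht⟩ := (range_inclV (W := W) (V := V) F _).2 ((range_incl0 W F V _).1 ⟨s, rfl⟩)
      exact ⟨t, incl0_injective W F V ((exists_eq F t).choose_spec.trans ht)⟩⟩

theorem incl0_degZero (F : CohTop.Ab X)
    (t : ((LocCohZ.sectSuppF (W' W V)).obj ((CohTop.restrFunctor V).obj F)).obj.obj (op ⊤)) :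
    incl0 W F V (degZero W V F t) = inclV W V F t :=
  (exists_eq F t).choose_spec

/-- `Γ_Z(V, F|_V) ≅ Γ_Z(V, F)`. -/
def degZeroIso (W V : Opens X) :
    CohTop.restrFunctor V ⋙ LocCohZ.gammaZF (W' W V) ≅ evGamma W V :=
  NatIso.ofComponents (fun F => (degZero W V F).toAddCommGrpIso) (fun {F G} g => by
    ext t
    refine incl0_injective W G V ?_
    refine (incl0_degZero G _).trans ?_
    refine Eq.trans ?_ (incl0_map W g V _).symm
    refine Eq.trans ?_ (congrArg (g.hom.app (op V)).hom (incl0_degZero F t)).symm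
    refine (congrArg (fun z => G.obj.map (homOfLE (img_top (V := V)).ge).op z)
      (incl0_map (W' W V) ((CohTop.restrFunctor V).map g) ⊤ t)).trans ?_
    exact (ConcreteCategory.congr_hom (g.hom.naturality (homOfLE (img_top (V := V)).ge).op) _).symm)

theorem nonempty_iso (i : ℕ) :
    Nonempty ((Abelian.extFunctor.{u} i).obj (op (LocCohZ.zq h)) ≅
      CohTop.restrFunctor V ⋙ (Abelian.extFunctor.{u} i).obj (op (LocCohZ.zq (le_top : W' W V ≤ ⊤)))) := by
  haveI : (LocCohZ.gammaZF (X := TopCat.of V) (W' W V)).Additive := by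
    haveI : (LocCohZ.sectSuppF (X := TopCat.of V) (W' W V)).Additive := LocCohZ.instAdditiveAbSectSuppF _
    unfold LocCohZ.gammaZF
    infer_instance
  obtain ⟨e⟩ := RestrExact.nonempty_precompIso V (LocCohZ.gammaZF (W' W V)) i
  exact ⟨(rightDerivedEvGamma h i).symm ≪≫ SiteBase.rightDerivedCongr (degZeroIso W V).symm i ≪≫ e ≪≫
    Functor.isoWhiskerLeft _ (rhzIso (W' W V) i ≪≫
      (Abelian.extFunctor.{u} i).mapIso (LocCohZ.zqIsoQuotZ (W' W V)).op)⟩

end Groth.Agent.GrLib8.Excision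

namespace Groth.Agent.GrLib8.Excision

theorem exists_addEquiv_of_iso {A : Type*} [Category A] {G H : A ⥤ AddCommGrpCat.{u}} (η : G ≅ H) :
    ∃ e : ∀ F, G.obj F ≃+ H.obj F, ∀ (F F' : A) (φ : F ⟶ F') (x : G.obj F), e F' (G.map φ x) = H.map φ (e F x) :=
  ⟨fun F => (η.app F).addCommGroupIsoToAddEquiv, fun _ _ φ x => ConcreteCategory.congr_hom (η.hom.naturality φ) x⟩

end Groth.Agent.GrLib8.Excision
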