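import Groth.Prelude.Def_Wider
import Groth.Agent.LC.InjNoeth
import Groth.Agent.S0314
import Groth.Agent.AssLib.Basic

/-!
# Injective torsion modules are sums of injective hulls of the residue field
-/

set_option autoImplicit false
set_option linter.style.haveILetI false

universe u

open IsLocalRing

namespace Groth.Agent.GrLib8.TorsionHull

variable {R : Type u} [CommRing R] [IsLocalRing R] [IsNoetherianRing R]
  {E : Type u} [AddCommGroup E] [Module R E] {e : ResidueField R →ₗ[R] E}

/-- A nonzero element killed by a power of the maximal ideal has a nonzero socle multiple. -/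
theorem exists_socle_multiple {M : Type u} [AddCommGroup M] [Module R M] : ∀ (n : ℕ) (z : M), z ≠ 0 →
    (∀ a ∈ maximalIdeal R ^ n, a • z = 0) → ∃ c : R, c • z ≠ 0 ∧ ∀ a ∈ maximalIdeal R, a • c • z = 0 := by
  intro n
  induction n with
  | zero => exact fun z hz h => absurd (by simpa using h 1 (by simp)) hz
  | succ n ih =>
    intro z hz h
    by_cases h1 : ∀ a ∈ maximalIdeal R, a • z = 0
    · exact ⟨1, by rwa [one_smul], by simpa using h1⟩
    push Not at h1
    obtain ⟨a, ha, haz⟩ := h1
    obtain ⟨c, hc, hc'⟩ := ih (a • z) haz fun b hb => by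
      rw [smul_smul]
      exact h _ (by rw [pow_succ]; exact Ideal.mul_mem_mul hb ha)
    exact ⟨c * a, by rwa [mul_smul], fun b hb => by rw [mul_smul]; exact hc' b hb⟩

theorem nonempty_iso_of_injective (he : InjHull.IsInjectiveHull e) (M : Type u) [AddCommGroup M] [Module R M]
    (hM : LocCoh.IsPowerTorsion (maximalIdeal R) M) [Module.Injective R M] :
    ∃ J : Type u, Nonempty (M ≃ₗ[R] (J →₀ E)) := by
  classical
  let 𝔪 := maximalIdeal R
  let V := LocCoh.torsionBy 𝔪 M
  letI := Ideal.Quotient.field 𝔪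
  let J := Module.Free.ChooseBasisIndex (R ⧸ 𝔪) V
  let b := Module.Free.chooseBasis (R ⧸ 𝔪) V
  have hJE : Module.Baer R (J →₀ E) :=
    (Module.Baer.iff_injective.2 (LC.injective_directSum (fun _ : J => E) fun _ => he.isInjective)).of_equiv
      (finsuppLEquivDirectSum R E J).symm
  let s : V →ₗ[R] (J →₀ E) :=
    (Finsupp.mapRange.linearMap e) ∘ₗ (b.repr.toLinearMap.restrictScalars R)
  have hs : Function.Injective s :=
    (Finsupp.mapRange_injective _ (map_zero e) he.injective).comp b.repr.injective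
  obtain ⟨f, hf⟩ := Module.Baer.extension_property hJE V.subtype (Submodule.injective_subtype _) s
  have hsocV : ∀ v : M, (∀ a ∈ 𝔪, a • v = 0) → v ∈ V := fun v hv =>
    (Submodule.mem_torsionBySet_iff _ _).2 fun a => hv a a.2
  have hfinj : Function.Injective f := by
    refine (injective_iff_map_eq_zero _).2 fun z hz => ?_
    by_contra hz0
    obtain ⟨n, hn⟩ := hM z
    obtain ⟨c, hc, hc'⟩ := exists_socle_multiple n z hz0 hn
    have h2 : s ⟨c • z, hsocV _ hc'⟩ = 0 := by
      rw [← hf, LinearMap.comp_apply, Submodule.subtype_apply, map_smul, hz, smul_zero]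
    exact hc (congrArg Subtype.val (hs (h2.trans (map_zero s).symm)))
  have hsocE : ∀ t : E, (∀ a ∈ 𝔪, a • t = 0) → ∃ r, e r = t := fun t ht => by
    by_cases h0 : t = 0
    · exact ⟨0, by rw [map_zero, h0]⟩
    obtain ⟨y, hy, hy0⟩ := Submodule.exists_mem_ne_zero_of_ne_bot
      (he.essential (Submodule.span R {t}) (by rwa [Ne, Submodule.span_singleton_eq_bot]))
    obtain ⟨hy1, r, hr⟩ := hy
    obtain ⟨c, rfl⟩ := Submodule.mem_span_singleton.1 hy1
    have hc : IsUnit c := IsLocalRing.notMem_maximalIdeal.1 fun hc => hy0 (ht c hc)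
    obtain ⟨u, rfl⟩ := hc
    exact ⟨(↑u⁻¹ : R) • r, by rw [map_smul, hr, smul_smul, Units.inv_mul, one_smul]⟩
  have hsocJ : ∀ y : J →₀ E, (∀ a ∈ 𝔪, a • y = 0) → ∃ v, f v = y := fun y hy => by
    choose r hr using fun j => hsocE (y j) (fun a ha => congrArg (fun w : J →₀ E => w j) (hy a ha))
    have hr0 : ∀ j, y j = 0 → r j = 0 := fun j hj => he.injective ((hr j).trans (hj.trans (map_zero e).symm))
    let c : J →₀ (R ⧸ 𝔪) := Finsupp.onFinset y.support r fun j hj =>
      Finsupp.mem_support_iff.2 fun h => hj (hr0 j h)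
    refine ⟨(b.repr.symm c : V), ?_⟩
    refine (LinearMap.congr_fun hf (b.repr.symm c)).trans ?_
    show Finsupp.mapRange.linearMap e (b.repr (b.repr.symm c)) = y
    rw [LinearEquiv.apply_symm_apply]
    ext j
    simp only [c, Finsupp.mapRange.linearMap_apply, Finsupp.mapRange_apply, Finsupp.onFinset_apply]
    exact hr j
  have htors : ∀ t : E, ∃ n : ℕ, ∀ a ∈ 𝔪 ^ n, a • t = 0 := fun t => by
    haveI := Groth.Agent.S0314.result R E e he
    obtain ⟨n, hn⟩ := AssLib.exists_pow_le_annihilator R (Submodule.span R {t})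
    exact ⟨n, fun a ha => congrArg Subtype.val
      (Module.mem_annihilator.1 (hn ha) ⟨t, Submodule.mem_span_singleton_self t⟩)⟩
  choose n hn using htors
  obtain ⟨r, hr⟩ := Module.Baer.extension_property (Module.Baer.iff_injective.2 ‹Module.Injective R M›) f hfinj
    LinearMap.id
  have hr' : ∀ v, r (f v) = v := fun v => LinearMap.congr_fun hr v
  refine ⟨J, ⟨LinearEquiv.ofBijective f ⟨hfinj, fun y => ⟨r y, ?_⟩⟩⟩⟩
  by_contra hne
  obtain ⟨c, hc, hc'⟩ := exists_socle_multiple (R := R) (∑ j ∈ (f (r y) - y).support, n ((f (r y) - y) j)) (f (r y) - y)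
    (sub_ne_zero.2 hne) fun a ha => Finsupp.ext fun j => by
    show a • ((f (r y) - y) j) = 0
    by_cases hj : j ∈ (f (r y) - y).support
    · exact hn _ a (Ideal.pow_le_pow_right (Finset.single_le_sum (f := fun j => n ((f (r y) - y) j))
        (fun i _ => Nat.zero_le _) hj) ha)
    · rw [Finsupp.notMem_support_iff.1 hj, smul_zero]
  obtain ⟨v, hv⟩ := hsocJ _ hc'
  have h0 : r (c • (f (r y) - y)) = 0 := by rw [map_smul, map_sub, hr', sub_self, smul_zero]
  rw [← hv, hr'] at h0
  exact hc (by rw [← hv, h0, map_zero])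

end Groth.Agent.GrLib8.TorsionHull
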