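import Groth.Agent.GrLib8.Kunz
import Groth.Agent.GrLib8.TorsionHull
import Groth.Agent.LC.GorQuot
import Groth.Agent.EGA41Lib.RegSeqPow
import Mathlib.RingTheory.TensorProduct.Quotient
import Mathlib.LinearAlgebra.DirectSum.Finsupp
import Mathlib.RingTheory.Filtration
import Mathlib.Algebra.Category.ModuleCat.ChangeOfRings

/-!
# Torsion F-modules over regular rings are injective
-/

set_option autoImplicit false
set_option linter.style.haveILetI false

universe u

open IsLocalRing RingTheory.Sequence CategoryTheory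
open scoped TensorProduct

namespace Groth.Agent.GrLib8.FModule

section Flat

variable {R B : Type u} [CommRing R] [CommRing B] [Algebra R B] [Module.Flat R B]

/-- Flat base change commutes with the submodule killed by a finitely generated ideal. -/
theorem nonempty_torsion_baseChange (I : Ideal R) (hI : I.FG) (M : Type u) [AddCommGroup M] [Module R M] :
    Nonempty (B ⊗[R] LocCoh.torsionBy I M ≃ₗ[B]
      LocCoh.torsionBy (I.map (algebraMap R B)) (B ⊗[R] M)) := by
  classical
  obtain ⟨s, hs⟩ := hI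
  let L : M →ₗ[R] ({a // a ∈ s} → M) := LinearMap.pi fun a : {a // a ∈ s} => (a.1 : R) • LinearMap.id
  have hex : Function.Exact (LocCoh.torsionBy I M).subtype L := fun m => by
    constructor
    · intro hm
      refine ⟨⟨m, (Submodule.mem_torsionBySet_iff _ _).2 fun a => ?_⟩, rfl⟩
      have hle : I ≤ LinearMap.ker (LinearMap.toSpanSingleton R M m) := by
        rw [← hs]
        exact Submodule.span_le.2 fun b hb => congrFun hm ⟨b, hb⟩
      exact hle a.2
    · rintro ⟨w, rfl⟩
      funext a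
      exact (Submodule.mem_torsionBySet_iff _ _).1 w.2 ⟨a.1, hs ▸ Submodule.subset_span a.2⟩
  have hex' := Module.Flat.lTensor_exact B hex
  let g : B ⊗[R] LocCoh.torsionBy I M →ₗ[B] B ⊗[R] M := (LocCoh.torsionBy I M).subtype.baseChange B
  have hg : Function.Injective g :=
    Module.Flat.lTensor_preserves_injective_linearMap _ (Submodule.injective_subtype _)
  have hL : ∀ x, TensorProduct.piRight R R B (fun _ : {a // a ∈ s} => M) (L.lTensor B x) =
      fun a : {a // a ∈ s} => algebraMap R B a • x := fun x => by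
    induction x using TensorProduct.induction_on with
    | zero => simp; rfl
    | tmul b m =>
      funext a
      rw [LinearMap.lTensor_tmul, TensorProduct.piRight_apply, TensorProduct.piRightHom_tmul, algebraMap_smul,
        ← TensorProduct.tmul_smul]
      rfl
    | add x y hx hy => rw [map_add, map_add, hx, hy]; funext a; simp
  have hrange : LinearMap.range g = LocCoh.torsionBy (I.map (algebraMap R B)) (B ⊗[R] M) := by
    ext x
    rw [LinearMap.mem_range, Submodule.mem_torsionBySet_iff]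
    constructor
    · rintro ⟨w, rfl⟩ ⟨a, ha⟩
      have h0 : L.lTensor B (g w) = 0 := hex'.apply_apply_eq_zero w
      have hle : I.map (algebraMap R B) ≤ LinearMap.ker (LinearMap.toSpanSingleton B (B ⊗[R] M) (g w)) := by
        conv_lhs => rw [← hs]
        rw [Ideal.map_span, Ideal.span_le]
        rintro _ ⟨c, hc, rfl⟩
        have := congrFun ((hL (g w)).symm.trans (by rw [h0, map_zero])) ⟨c, hc⟩
        exact this
      exact hle ha
    · intro hx
      refine (hex' x).1 ((TensorProduct.piRight R R B (fun _ : {a // a ∈ s} => M)).injective ?_)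
      rw [hL, map_zero]
      funext a
      exact hx ⟨algebraMap R B a, Ideal.mem_map_of_mem _ (hs ▸ Submodule.subset_span a.2)⟩
  exact ⟨(LinearEquiv.ofInjective g hg).trans (LinearEquiv.ofEq _ _ hrange)⟩

theorem nonempty_finsupp_baseChange (I : Ideal R) (ι : Type u) :
    Nonempty (B ⊗[R] (ι →₀ R ⧸ I) ≃ₗ[B] (ι →₀ B ⧸ I.map (algebraMap R B))) := by
  classical
  exact ⟨(TensorProduct.finsuppRight R B B (R ⧸ I) ι).trans
    (Finsupp.mapRange.linearEquiv (Algebra.TensorProduct.quotIdealMapEquivTensorQuot B I).symm.toLinearEquiv)⟩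

/-- The freeness step. -/
theorem step {M : Type u} [AddCommGroup M] [Module R M] (N : Type u) [AddCommGroup N] [Module B N]
    (eN : B ⊗[R] M ≃ₗ[B] N) (I : Ideal R) (hI : I.FG) (ι : Type u)
    (e : LocCoh.torsionBy I M ≃ₗ[R] (ι →₀ R ⧸ I)) :
    Nonempty (LocCoh.torsionBy (I.map (algebraMap R B)) N ≃ₗ[B] (ι →₀ B ⧸ I.map (algebraMap R B))) := by
  obtain ⟨e1⟩ := nonempty_torsion_baseChange (B := B) I hI M
  obtain ⟨e2⟩ := nonempty_finsupp_baseChange (B := B) I ι
  let J := I.map (algebraMap R B)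
  have hmap : (LocCoh.torsionBy J (B ⊗[R] M)).map (eN : B ⊗[R] M →ₗ[B] N) = LocCoh.torsionBy J N := by
    ext x
    rw [Submodule.mem_map]
    constructor
    · rintro ⟨y, hy, rfl⟩
      rw [Submodule.mem_torsionBySet_iff] at hy ⊢
      intro a
      rw [← map_smul, hy a, map_zero]
    · intro hx
      refine ⟨eN.symm x, ?_, eN.apply_symm_apply x⟩
      rw [Submodule.mem_torsionBySet_iff] at hx ⊢
      intro a
      rw [← map_smul, hx a, map_zero]
  exact ⟨(LinearEquiv.ofEq _ _ hmap.symm).trans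
    ((eN.submoduleMap (LocCoh.torsionBy J (B ⊗[R] M))).symm.trans
      (e1.symm.trans ((TensorProduct.AlgebraTensorModule.congr (LinearEquiv.refl B B) e).trans e2)))⟩

end Flat

variable {R : Type u} [CommRing R] [IsRegularLocalRing R] (p : ℕ) [Fact p.Prime] [CharP R p]

theorem injective_quot (e : ℕ) :
    Module.Injective (R ⧸ (maximalIdeal R).map (iterateFrobenius R p e))
      (R ⧸ (maximalIdeal R).map (iterateFrobenius R p e)) := by
  obtain ⟨rs, hreg, hm⟩ := RegLoc6.exists_regularSequence_maximalIdeal R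
  let q := p ^ e
  have hq : 1 ≤ q := Nat.one_le_pow _ _ (Fact.out : p.Prime).pos
  have hmem : ∀ r ∈ rs, r ∈ maximalIdeal R := fun r hr => hm ▸ Ideal.subset_span hr
  have hmap : (maximalIdeal R).map (iterateFrobenius R p e) = Ideal.ofList (rs.map fun r => r ^ q) := by
    rw [← hm, Ideal.map_ofList]
    congr 1
  have hregq : IsWeaklyRegular R (rs.map fun r => r ^ q) := by
    have := EGA41Lib.isWeaklyRegular_pow rs.length (fun i => rs.get i) (fun _ => q) (fun _ => hq) (M := R)
      (by rw [List.ofFn_get]; exact hreg.toIsWeaklyRegular)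
    rwa [List.ofFn_comp' (fun i => rs.get i) (fun a => a ^ q), List.ofFn_get] at this
  have hmemq : ∀ r ∈ rs.map (fun r => r ^ q), r ∈ maximalIdeal R := fun r hr => by
    obtain ⟨a, ha, rfl⟩ := List.mem_map.1 hr
    exact Ideal.pow_mem_of_mem _ (hmem a ha) _ (by omega)
  haveI := LC.gorenstein_of_isRegularLocalRing (R := R)
  haveI : LocCoh.IsGorensteinLocalRing (R ⧸ (maximalIdeal R).map (iterateFrobenius R p e)) := by
    rw [hmap]; exact LC.gorenstein_quotient_ofList _ hmemq hregq
  obtain ⟨d, hd, -, hv⟩ := LC.gorenstein_basic (R := R ⧸ (maximalIdeal R).map (iterateFrobenius R p e))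
  obtain rfl : d = 0 := by
    let I := (maximalIdeal R).map (iterateFrobenius R p e)
    haveI : Subsingleton (PrimeSpectrum.zeroLocus (R := R) (I : Set R)) := ⟨fun a b => by
      have key : ∀ Q : PrimeSpectrum R, Q ∈ PrimeSpectrum.zeroLocus (I : Set R) → Q.asIdeal = maximalIdeal R :=
        fun Q hQ => le_antisymm (le_maximalIdeal Q.isPrime.ne_top) fun x hx =>
          Q.isPrime.mem_of_pow_mem q (hQ (show x ^ q ∈ I from Ideal.mem_map_of_mem (iterateFrobenius R p e) hx))
      exact Subtype.ext (PrimeSpectrum.ext ((key a a.2).trans (key b b.2).symm))⟩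
    have h : ringKrullDim (R ⧸ I) ≤ 0 := by
      rw [ringKrullDim_quotient]; exact Order.krullDim_nonpos_of_subsingleton
    rw [hd] at h
    have h' : d ≤ 0 := by exact_mod_cast h
    omega
  exact (Groth.Agent.CAlgGlobalDim.baer_of_ext_one (ModuleCat.of _ (R ⧸ (maximalIdeal R).map (iterateFrobenius R p e)))
    fun I => hv _ 1 Nat.one_pos).injective

/-- The base change step along Frobenius, with no instance diamond. -/
theorem step_frobenius {R B : Type u} [CommRing R] [CommRing B] (φ : R →+* B) (hflat : φ.Flat)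
    {M : Type u} [AddCommGroup M] [Module R M] {N : Type u} [AddCommGroup N] [Module B N]
    (eN : (ModuleCat.extendScalars φ).obj (ModuleCat.of R M) ≅ ModuleCat.of B N) (I : Ideal R) (hI : I.FG) (ι : Type u)
    (e : LocCoh.torsionBy I M ≃ₗ[R] (ι →₀ R ⧸ I)) :
    Nonempty (LocCoh.torsionBy (I.map φ) N ≃ₗ[B] (ι →₀ B ⧸ I.map φ)) := by
  letI := φ.toAlgebra
  haveI : Module.Flat R B := hflat
  exact step (B := B) N (eN.toLinearEquiv : B ⊗[R] M ≃ₗ[B] N) I hI ι e

theorem injective_of_frobenius (M : Type u) [AddCommGroup M] [Module R M]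
    (hM : LocCoh.IsPowerTorsion (maximalIdeal R) M)
    (eF : (ModuleCat.extendScalars (frobenius R p)).obj (ModuleCat.of R M) ≅ ModuleCat.of R M) :
    Module.Injective R M := by
  classical
  let 𝔪 := maximalIdeal R
  letI := Ideal.Quotient.field 𝔪
  let ι := Module.Free.ChooseBasisIndex (R ⧸ 𝔪) (LocCoh.torsionBy 𝔪 M)
  have hfree : ∀ e : ℕ, Nonempty (LocCoh.torsionBy (𝔪.map (iterateFrobenius R p e)) M ≃ₗ[R]
      (ι →₀ R ⧸ 𝔪.map (iterateFrobenius R p e))) := by
    intro e
    induction e with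
    | zero =>
      rw [iterateFrobenius_zero, Ideal.map_id]
      exact ⟨(Module.Free.chooseBasis (R ⧸ 𝔪) (LocCoh.torsionBy 𝔪 M)).repr.restrictScalars R⟩
    | succ e ih =>
      obtain ⟨e0⟩ := ih
      rw [show 𝔪.map (iterateFrobenius R p (e + 1)) = (𝔪.map (iterateFrobenius R p e)).map (frobenius R p) by
        rw [Ideal.map_map, add_comm, iterateFrobenius_add, iterateFrobenius_one]]
      exact step_frobenius (frobenius R p) (Kunz.flat_frobenius R p) eF _ (IsNoetherian.noetherian _) ι e0
  refine Module.Baer.injective fun I g => ?_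
  obtain ⟨N, hN⟩ : ∃ N, ∀ x : I, ∀ a ∈ 𝔪 ^ N, a • g x = 0 := by
    obtain ⟨s, hs⟩ := Module.Finite.fg_top (R := R) (M := I)
    choose n hn using fun x : I => hM (g x)
    refine ⟨∑ x ∈ s, n x, fun x a ha => ?_⟩
    have hle : (⊤ : Submodule R I) ≤ LinearMap.ker (a • g) := by
      rw [← hs, Submodule.span_le]
      exact fun y hy => hn y a (Ideal.pow_le_pow_right (Finset.single_le_sum (fun i _ => Nat.zero_le _) hy) ha)
    exact hle (Submodule.mem_top (x := x))
  obtain ⟨k, hk⟩ := Ideal.exists_pow_inf_eq_pow_smul 𝔪 (I : Submodule R R)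
  let e := N + k
  let J := 𝔪.map (iterateFrobenius R p e)
  have hJ : J ≤ 𝔪 ^ e := by
    rw [Ideal.map_le_iff_le_comap]
    intro a ha
    rw [Ideal.mem_comap, iterateFrobenius_def]
    exact Ideal.pow_le_pow_right (Nat.lt_pow_self (Fact.out : p.Prime).one_lt).le (Ideal.pow_mem_pow ha _)
  have hzero : ∀ x : I, (x : R) ∈ J → g x = 0 := fun x hx => by
    have h1 : (x : R) ∈ 𝔪 ^ e • (⊤ : Submodule R R) ⊓ (I : Submodule R R) :=
      ⟨by rw [smul_eq_mul, Ideal.mul_top]; exact hJ hx, x.2⟩
    rw [hk e (Nat.le_add_left k N), show e - k = N by omega] at h1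
    have h2 : x ∈ 𝔪 ^ N • (⊤ : Submodule R I) := by
      rw [Submodule.mem_smul_top_iff]
      exact Submodule.smul_mono le_rfl inf_le_right h1
    refine Submodule.smul_induction_on h2 (fun a ha y _ => ?_) (fun u v hu hv => by rw [map_add, hu, hv, add_zero])
    rw [map_smul, hN y a ha]
  obtain ⟨eJ⟩ := hfree e
  have hmem : ∀ x : I, g x ∈ LocCoh.torsionBy J M := fun x => (Submodule.mem_torsionBySet_iff _ _).2 fun a => by
    rw [← map_smul]
    exact hzero _ (Ideal.mul_mem_right _ _ a.2)
  let g' : I →ₗ[R] (ι →₀ R ⧸ J) := eJ.toLinearMap ∘ₗ g.codRestrict _ hmem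
  let Ibar : Ideal (R ⧸ J) := I.map (Ideal.Quotient.mk J)
  let π : I →ₗ[R] Ibar :=
    { toFun := fun x => ⟨Ideal.Quotient.mk J (x : R), Ideal.mem_map_of_mem _ x.2⟩
      map_add' := fun x y => Subtype.ext (map_add _ _ _)
      map_smul' := fun a x => Subtype.ext (map_mul _ _ _) }
  have hπ : Function.Surjective π := fun y => by
    obtain ⟨x, hx, hxy⟩ := (Ideal.mem_map_iff_of_surjective _ Ideal.Quotient.mk_surjective).1 y.2
    exact ⟨⟨x, hx⟩, Subtype.ext hxy⟩
  have hker : LinearMap.ker π ≤ LinearMap.ker g' := fun x hx => by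
    have h0 : g x = 0 := hzero x (Ideal.Quotient.eq_zero_iff_mem.1 (congrArg Subtype.val hx))
    show eJ (g.codRestrict _ hmem x) = 0
    rw [show g.codRestrict _ hmem x = 0 from Subtype.ext h0, map_zero]
  let gbar : Ibar →ₗ[R] (ι →₀ R ⧸ J) :=
    (Submodule.liftQ (LinearMap.ker π) g' hker) ∘ₗ (π.quotKerEquivOfSurjective hπ).symm.toLinearMap
  have hgbar : ∀ x, gbar (π x) = g' x := fun x => by
    show Submodule.liftQ (LinearMap.ker π) g' hker ((π.quotKerEquivOfSurjective hπ).symm (π x)) = _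
    rw [show π x = π.quotKerEquivOfSurjective hπ (Submodule.Quotient.mk x) from rfl, LinearEquiv.symm_apply_apply]
    rfl
  let gJ : Ibar →ₗ[R ⧸ J] (ι →₀ R ⧸ J) := LinearMap.extendScalarsOfSurjective Ideal.Quotient.mk_surjective gbar
  have hinjJ := injective_quot (R := R) p e
  have hB : Module.Baer (R ⧸ J) (ι →₀ R ⧸ J) :=
    (Module.Baer.iff_injective.2 (LC.injective_directSum (fun _ : ι => R ⧸ J) fun _ => hinjJ)).of_equiv
      (finsuppLEquivDirectSum (R ⧸ J) (R ⧸ J) ι).symm
  obtain ⟨h, hh⟩ := hB Ibar gJ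
  refine ⟨LinearMap.toSpanSingleton R M ((eJ.symm (h 1) : LocCoh.torsionBy J M) : M), fun x hx => ?_⟩
  have h1 := hh _ (π ⟨x, hx⟩).2
  have h2 : h (Ideal.Quotient.mk J x) = eJ (g.codRestrict _ hmem ⟨x, hx⟩) := h1.trans (hgbar ⟨x, hx⟩)
  rw [show Ideal.Quotient.mk J x = (Ideal.Quotient.mk J x) • (1 : R ⧸ J) by rw [smul_eq_mul, mul_one], map_smul] at h2
  have h3 : x • h 1 = eJ (g.codRestrict _ hmem ⟨x, hx⟩) := (algebraMap_smul (R ⧸ J) x (h 1)).symm.trans h2
  rw [LinearMap.toSpanSingleton_apply, ← Submodule.coe_smul, ← map_smul, h3, LinearEquiv.symm_apply_apply]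
  rfl

end Groth.Agent.GrLib8.FModule
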