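import Groth.Prelude.Def_ega3
import Groth.Agent.GrLib8.CechLC

/-!
# The colimit of the Koszul cohomology of the powers is the extended Cech cohomology
-/

set_option autoImplicit false
set_option linter.style.haveILetI false

universe u

open CategoryTheory Limits

namespace Groth.Agent.GrLib8.KoszulColim

variable {R : Type u} [CommRing R]

/-- Division by the `n`-th power of `f`. -/
noncomputable def divPow (f : R) (n : ℕ) (N : Type u) [AddCommGroup N] [Module R N] :
    N →ₗ[R] LocalizedModule (Submonoid.powers f) N where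
  toFun x := LocalizedModule.mk x ⟨f ^ n, n, rfl⟩
  map_add' x y := by
    rw [LocalizedModule.mk_add_mk, LocalizedModule.mk_eq]
    exact ⟨1, by simp only [Submonoid.smul_def, Submonoid.coe_mul, OneMemClass.coe_one, smul_add, one_smul, smul_smul,
      mul_comm]⟩
  map_smul' r x := by rw [RingHom.id_apply, LocalizedModule.smul'_mk]

theorem pow_smul_divPow (f : R) (n : ℕ) (N : Type u) [AddCommGroup N] [Module R N] (x : N) :
    f ^ n • divPow f n N x = LocalizedModule.mkLinearMap (Submonoid.powers f) N x := by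
  show f ^ n • LocalizedModule.mk x _ = LocalizedModule.mk x 1
  rw [LocalizedModule.smul'_mk]
  refine LocalizedModule.mk_eq.2 ⟨1, ?_⟩
  simp only [Submonoid.smul_def, OneMemClass.coe_one, one_smul]

theorem locMap_mk {S : Submonoid R} {A B : ModuleCat.{u} R} (k : A ⟶ B) (x : A) (s : S) :
    IsLocalizedModule.map S (LocalizedModule.mkLinearMap S A) (LocalizedModule.mkLinearMap S B) k.hom
      (LocalizedModule.mk x s) = LocalizedModule.mk (k.hom x) s := by
  have hA : LocalizedModule.mk x s = IsLocalizedModule.mk' (LocalizedModule.mkLinearMap S A) x s := by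
    rw [IsLocalizedModule.mk_eq_mk']
  have hB : LocalizedModule.mk (k.hom x) s = IsLocalizedModule.mk' (LocalizedModule.mkLinearMap S B) (k.hom x) s := by
    rw [IsLocalizedModule.mk_eq_mk']
  rw [hA, hB]
  exact IsLocalizedModule.map_mk' _ _ _ _ _ _

theorem exists_psi (M : ModuleCat.{u} R) : ∀ fs : List R, ∃ (ε : R) (ψ : ∀ (n : ℕ) (q p : ℤ), q + fs.length = p →
    ((CohIII.koszulCx M (fs.map (· ^ n))).X q →ₗ[R] (DerCA.extCech M fs).X p)), ε * ε = 1 ∧
    (∀ (n : ℕ) (q q' p p' : ℤ) (h : q + fs.length = p) (h' : q' + fs.length = p'), q + 1 = q' →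
      ∀ x, ((DerCA.extCech M fs).d p p').hom (ψ n q p h x) =
        ε • ψ n q' p' h' (((CohIII.koszulCx M (fs.map (· ^ n))).d q q').hom x)) ∧
    (∀ (n m : ℕ) (hnm : n ≤ m) (q p : ℤ) (h : q + fs.length = p),
      ∀ x, ψ m q p h (((CohIII.koszulTrans M n m hnm fs).f q).hom x) = ψ n q p h x) ∧
    (∀ (q p : ℤ) (h : q + fs.length = p) (y), ∃ n, ∀ m, n ≤ m → ∃ x, ψ m q p h x = y) ∧
    (∀ (n : ℕ) (q p : ℤ) (h : q + fs.length = p) (x), ψ n q p h x = 0 →
      ∃ m0, ∀ (m : ℕ) (hm : n ≤ m), m0 ≤ m → ((CohIII.koszulTrans M n m hm fs).f q).hom x = 0)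
  | [] => by
    let e : ∀ (n : ℕ) (q p : ℤ), q + ([] : List R).length = p →
        ((CohIII.koszulCx M (([] : List R).map (· ^ n))).X q →ₗ[R] (DerCA.extCech M ([] : List R)).X p) :=
      fun n q p h => (((HomologicalComplex.single (ModuleCat.{u} R) (ComplexShape.up ℤ) 0).obj M).XIsoOfEq
        (p := q) (q := p) (by simpa using h)).hom.hom
    refine ⟨1, e, one_mul 1, ?_, ?_, ?_, ?_⟩
    · intro n q q' p p' h h' _ x
      obtain rfl : q = p := by simpa using h
      obtain rfl : q' = p' := by simpa using h'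
      rw [one_smul]
      rfl
    · intro n m hnm q p h x
      rfl
    · intro q p h y
      obtain rfl : q = p := by simpa using h
      exact ⟨0, fun m _ => ⟨y, rfl⟩⟩
    · intro n q p h x hx
      obtain rfl : q = p := by simpa using h
      exact ⟨0, fun m hm _ => hx⟩
  | f :: fs => by
    obtain ⟨ε, ψ, hε, hd, hc, hs, hk⟩ := exists_psi M fs
    let S := Submonoid.powers f
    let C := DerCA.extCech M fs
    let φ := DerCA.locCxUnit S C
    let κ : ∀ n : ℕ, CohIII.koszulCx M (fs.map (· ^ n)) ⟶ CohIII.koszulCx M (fs.map (· ^ n)) :=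
      fun n => f ^ n • 𝟙 (CohIII.koszulCx M (fs.map (· ^ n)))
    have hl : ((f :: fs).length : ℤ) = fs.length + 1 := by simp
    let ψ' : ∀ (n : ℕ) (q p : ℤ), q + (f :: fs).length = p →
        ((CochainComplex.mappingCone (κ n)).X q →ₗ[R] (CochainComplex.mappingCone φ).X (p + -1)) := fun n q p h =>
      ((CochainComplex.mappingCone.inl φ).v (p + -1 + 1) (p + -1) (by omega)).hom ∘ₗ
          (ε • ψ n (q + 1) (p + -1 + 1) (by omega)) ∘ₗ ((CochainComplex.mappingCone.fst (κ n)).1.v q (q + 1) rfl).hom +
        ((CochainComplex.mappingCone.inr φ).f (p + -1)).hom ∘ₗ divPow f n (C.X (p + -1)) ∘ₗ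
          ψ n q (p + -1) (by omega) ∘ₗ ((CochainComplex.mappingCone.snd (κ n)).v q q (add_zero q)).hom
    have hfst : ∀ n q p h x, ((CochainComplex.mappingCone.fst φ).1.v (p + -1) (p + -1 + 1) rfl).hom (ψ' n q p h x) =
        ε • ψ n (q + 1) (p + -1 + 1) (by omega) (((CochainComplex.mappingCone.fst (κ n)).1.v q (q + 1) rfl).hom x) := by
      intro n q p h x
      have h1 := fun u => ConcreteCategory.congr_hom
        (CochainComplex.mappingCone.inl_v_fst_v φ (p + -1 + 1) (p + -1) rfl) u
      have h2 := fun v => ConcreteCategory.congr_hom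
        (CochainComplex.mappingCone.inr_f_fst_v φ (p + -1) (p + -1 + 1) rfl) v
      refine (map_add _ _ _).trans ?_
      exact (congrArg₂ (· + ·) (h1 _) (h2 _)).trans (add_zero _)
    have hsnd : ∀ n q p h x, ((CochainComplex.mappingCone.snd φ).v (p + -1) (p + -1) (add_zero _)).hom (ψ' n q p h x) =
        divPow f n (C.X (p + -1)) (ψ n q (p + -1) (by omega)
          (((CochainComplex.mappingCone.snd (κ n)).v q q (add_zero q)).hom x)) := by
      intro n q p h x
      have h1 := fun u => ConcreteCategory.congr_hom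
        (CochainComplex.mappingCone.inl_v_snd_v φ (p + -1 + 1) (p + -1) (by omega)) u
      have h2 := fun v => ConcreteCategory.congr_hom (CochainComplex.mappingCone.inr_f_snd_v φ (p + -1)) v
      refine (map_add _ _ _).trans ?_
      exact (congrArg₂ (· + ·) (h1 _) (h2 _)).trans (zero_add _)
    refine ⟨-ε, ψ', by rw [neg_mul_neg, hε], ?_, ?_, ?_, ?_⟩
    · intro n q q' p p' h h' hq x
      obtain rfl : q' = q + 1 := hq.symm
      obtain rfl : p' = p + 1 := by omega
      show ((-1 : ℤ).negOnePow • (CochainComplex.mappingCone φ).d (p + -1) (p + 1 + -1)).hom (ψ' n q p h x) =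
        -ε • ψ' n (q + 1) (p + 1) h' (((CochainComplex.mappingCone (κ n)).d q (q + 1)).hom x)
      rw [Int.negOnePow_odd _ (odd_neg_one), Units.neg_smul, one_smul]
      show -(((CochainComplex.mappingCone φ).d (p + -1) (p + 1 + -1)).hom (ψ' n q p h x)) = _
      refine CechLC.cone_ext (p := p + 1 + -1) φ ?_ ?_
      · rw [map_neg, map_smul, hfst n (q + 1) (p + 1) h']
        have e1 := fun u => ConcreteCategory.congr_hom (CochainComplex.mappingCone.d_fst_v φ (p + -1) (p + 1 + -1)
          (p + 1 + -1 + 1) (by omega) rfl) u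
        have e2 := fun u => ConcreteCategory.congr_hom (CochainComplex.mappingCone.d_fst_v (κ n) q (q + 1)
          (q + 1 + 1) rfl rfl) u
        refine (congrArg Neg.neg (e1 _)).trans ?_
        refine Eq.trans ?_ (congrArg (fun t => -ε • (ε • ψ n (q + 1 + 1) (p + 1 + -1 + 1) (by omega) t)) (e2 x)).symm
        show -(-((C.d (p + 1 + -1) (p + 1 + -1 + 1)).hom
            (((CochainComplex.mappingCone.fst φ).1.v (p + -1) (p + 1 + -1) (by omega)).hom (ψ' n q p h x)))) =
          -ε • (ε • ψ n (q + 1 + 1) (p + 1 + -1 + 1) _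
            (-(((CohIII.koszulCx M (fs.map (· ^ n))).d (q + 1) (q + 1 + 1)).hom _)))
        rw [neg_neg, map_neg, smul_neg, smul_neg, smul_smul, neg_mul, hε, neg_smul, neg_neg, one_smul]
        have e3 : ∀ (a b : ℤ) (ha : p + -1 + 1 = a) (hb : a + 1 = b) (hb' : q + 1 + 1 + (fs.length : ℤ) = b),
            (C.d a b).hom (((CochainComplex.mappingCone.fst φ).1.v (p + -1) a ha).hom (ψ' n q p h x)) =
              ψ n (q + 1 + 1) b hb' (((CohIII.koszulCx M (fs.map (· ^ n))).d (q + 1) (q + 1 + 1)).hom
                (((CochainComplex.mappingCone.fst (κ n)).1.v q (q + 1) rfl).hom x)) := by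
          rintro a b rfl rfl hb'
          rw [hfst n q p h, map_smul, hd n (q + 1) (q + 1 + 1) _ _ _ hb' rfl, smul_smul, hε, one_smul]
        exact e3 _ _ _ (by omega) (by omega)
      · rw [map_neg, map_smul, hsnd n (q + 1) (p + 1) h']
        have e1 := fun u => ConcreteCategory.congr_hom (CochainComplex.mappingCone.d_snd_v φ (p + -1) (p + 1 + -1)
          (by omega)) u
        have e2 := fun u => ConcreteCategory.congr_hom (CochainComplex.mappingCone.d_snd_v (κ n) q (q + 1) rfl) u
        refine (congrArg Neg.neg (e1 _)).trans ?_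
        refine Eq.trans ?_ (congrArg (fun t => -ε • divPow f n (C.X (p + 1 + -1))
          (ψ n (q + 1) (p + 1 + -1) (by omega) t)) (e2 x)).symm
        show -((HAdd.hAdd (α := LocalizedModule S (C.X (p + 1 + -1))) (β := LocalizedModule S (C.X (p + 1 + -1)))
            ((φ.f (p + 1 + -1)).hom
            (((CochainComplex.mappingCone.fst φ).1.v (p + -1) (p + 1 + -1) (by omega)).hom (ψ' n q p h x)))
            (IsLocalizedModule.map S (LocalizedModule.mkLinearMap S _) (LocalizedModule.mkLinearMap S _)
              (C.d (p + -1) (p + 1 + -1)).hom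
              (((CochainComplex.mappingCone.snd φ).v (p + -1) (p + -1) (add_zero _)).hom (ψ' n q p h x))) :
              LocalizedModule S (C.X (p + 1 + -1)))) =
          -ε • divPow f n (C.X (p + 1 + -1)) (ψ n (q + 1) (p + 1 + -1) _
            (f ^ n • ((CochainComplex.mappingCone.fst (κ n)).1.v q (q + 1) rfl).hom x +
              ((CohIII.koszulCx M (fs.map (· ^ n))).d q (q + 1)).hom
                (((CochainComplex.mappingCone.snd (κ n)).v q q (add_zero q)).hom x)))
        have e3 : ∀ (a : ℤ) (ha : p + -1 + 1 = a) (ha' : q + 1 + (fs.length : ℤ) = a),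
            ((CochainComplex.mappingCone.fst φ).1.v (p + -1) a ha).hom (ψ' n q p h x) =
              ε • ψ n (q + 1) a ha' (((CochainComplex.mappingCone.fst (κ n)).1.v q (q + 1) rfl).hom x) := by
          rintro a rfl ha'
          exact hfst n q p h x
        rw [hsnd n q p h, e3 _ _ (by omega)]
        show -(LocalizedModule.mk _ 1 + IsLocalizedModule.map S (LocalizedModule.mkLinearMap S _)
            (LocalizedModule.mkLinearMap S _) (C.d (p + -1) (p + 1 + -1)).hom (LocalizedModule.mk _ _)) = _
        rw [locMap_mk, hd n q (q + 1) _ _ _ (by omega) rfl, map_add, map_smul, map_add, map_smul, smul_add, neg_smul,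
          neg_smul, neg_add]
        refine congrArg₂ (· + ·) (congrArg Neg.neg ?_) (congrArg Neg.neg ?_)
        · show _ = ε • (f ^ n • LocalizedModule.mk _ _)
          rw [smul_smul, mul_comm, ← smul_smul, LocalizedModule.smul'_mk, LocalizedModule.smul'_mk]
          refine LocalizedModule.mk_eq.2 ⟨1, ?_⟩
          simp only [Submonoid.smul_def, OneMemClass.coe_one, one_smul]
        · show _ = ε • LocalizedModule.mk _ _
          rw [LocalizedModule.smul'_mk]
    · intro n m hnm q p h x
      show ψ' m q p h ((CochainComplex.mappingCone.map (κ n) (κ m) (CohIII.koszulTrans M n m hnm fs)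
        (f ^ (m - n) • CohIII.koszulTrans M n m hnm fs) _).f q |>.hom x) = ψ' n q p h x
      refine CechLC.cone_ext (p := p + -1) φ ?_ ?_
      · rw [hfst m q p h, hfst n q p h, CechLC.map_fst_apply, hc]
      · rw [hsnd m q p h, hsnd n q p h, CechLC.map_snd_apply]
        show divPow f m _ (ψ m q _ _ (f ^ (m - n) • ((CohIII.koszulTrans M n m hnm fs).f q).hom _)) = _
        rw [map_smul, hc, map_smul]
        show f ^ (m - n) • LocalizedModule.mk _ _ = LocalizedModule.mk _ _
        rw [LocalizedModule.smul'_mk]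
        refine LocalizedModule.mk_eq.2 ⟨1, ?_⟩
        simp only [Submonoid.smul_def, OneMemClass.coe_one, one_smul, smul_smul, ← pow_add, Nat.add_sub_cancel' hnm]
    · intro q p h y
      obtain ⟨n1, h1⟩ := hs (q + 1) (p + -1 + 1) (by omega)
        (ε • ((CochainComplex.mappingCone.fst φ).1.v (p + -1) (p + -1 + 1) rfl).hom y)
      obtain ⟨⟨c, ⟨_, k, rfl⟩⟩, hy⟩ : ∃ t : C.X (p + -1) × S, LocalizedModule.mk t.1 t.2 =
          ((CochainComplex.mappingCone.snd φ).v (p + -1) (p + -1) (add_zero _)).hom y := by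
        induction ((CochainComplex.mappingCone.snd φ).v (p + -1) (p + -1) (add_zero _)).hom y using
          LocalizedModule.induction_on with
        | h a s => exact ⟨(a, s), rfl⟩
      obtain ⟨n2, h2⟩ := hs q (p + -1) (by omega) c
      refine ⟨n1 + n2 + k, fun m hm => ?_⟩
      obtain ⟨u, hu⟩ := h1 m (by omega)
      obtain ⟨v, hv⟩ := h2 m (by omega)
      obtain ⟨x, hx1, hx2⟩ := CechLC.cone_mk (κ m) q u (f ^ (m - k) • v)
      refine ⟨x, CechLC.cone_ext (p := p + -1) φ ?_ ?_⟩
      · refine (hfst m q p h x).trans ?_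
        rw [hx1, hu, smul_smul, hε, one_smul]
      · refine (hsnd m q p h x).trans ?_
        rw [hx2, map_smul, hv, map_smul, ← hy]
        show f ^ (m - k) • LocalizedModule.mk _ _ = _
        rw [LocalizedModule.smul'_mk]
        refine LocalizedModule.mk_eq.2 ⟨1, ?_⟩
        simp only [Submonoid.smul_def, OneMemClass.coe_one, one_smul, smul_smul, ← pow_add]
        rw [Nat.add_sub_cancel' (by omega : k ≤ m)]
    · intro n q p h x hx
      have a1 := hfst n q p h x
      have a2 := hsnd n q p h x
      replace a1 := (map_zero _).symm.trans ((congrArg ((CochainComplex.mappingCone.fst φ).1.v (p + -1) (p + -1 + 1) rfl).hom hx.symm).trans a1)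
      replace a2 := (map_zero _).symm.trans ((congrArg ((CochainComplex.mappingCone.snd φ).v (p + -1) (p + -1) (add_zero _)).hom hx.symm).trans a2)
      have u0 : ψ n (q + 1) (p + -1 + 1) (by omega) (((CochainComplex.mappingCone.fst (κ n)).1.v q (q + 1) rfl).hom x)
          = 0 := by
        have := congrArg (ε • ·) a1
        simpa only [smul_zero, smul_smul, hε, one_smul] using this.symm
      obtain ⟨⟨_, j, rfl⟩, hj⟩ := (IsLocalizedModule.eq_zero_iff S (LocalizedModule.mkLinearMap S _)).1
        (show LocalizedModule.mkLinearMap S _ (ψ n q (p + -1) (by omega)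
          (((CochainComplex.mappingCone.snd (κ n)).v q q (add_zero q)).hom x)) = 0 from by
          have h0 := congrArg (f ^ n • ·) a2.symm
          exact (pow_smul_divPow f n _ _).symm.trans (h0.trans (smul_zero _)))
      obtain ⟨m1, hm1⟩ := hk _ _ _ _ _ u0
      obtain ⟨m2, hm2⟩ := hk n q (p + -1) (by omega) _ ((map_smul (ψ n q (p + -1) (by omega)) (f ^ j) _).trans hj)
      refine ⟨m1 + m2 + n + j, fun m hm hm0 => ?_⟩
      show ((CochainComplex.mappingCone.map (κ n) (κ m) (CohIII.koszulTrans M n m hm fs)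
        (f ^ (m - n) • CohIII.koszulTrans M n m hm fs) _).f q).hom x = 0
      refine CechLC.cone_ext (κ m) ?_ ?_
      · rw [CechLC.map_fst_apply, map_zero]
        exact hm1 m hm (by omega)
      · rw [CechLC.map_snd_apply, map_zero]
        rw [HomologicalComplex.smul_f_apply]
        show f ^ (m - n) • ((CohIII.koszulTrans M n m hm fs).f q).hom _ = _
        rw [show m - n = (m - n - j) + j by omega, pow_add, mul_smul, ← map_smul, hm2 m hm (by omega), smul_zero]

/-- A cycle has class zero iff it is a boundary. -/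
theorem homologyπ_eq_zero_iff (K : CechLC.Cx R) (q : ℤ) (z : K.cycles q) :
    (K.homologyπ q).hom z = 0 ↔
      ∃ w, (K.d ((ComplexShape.up ℤ).prev q) q).hom w = (K.iCycles q).hom z := by
  have h := ShortComplex.exact_of_g_is_cokernel (ShortComplex.mk (K.toCycles ((ComplexShape.up ℤ).prev q) q)
    (K.homologyπ q) (K.toCycles_comp_homologyπ _ q)) (K.homologyIsCokernel _ q rfl)
  rw [ShortComplex.moduleCat_exact_iff] at h
  constructor
  · intro hz
    obtain ⟨w, hw⟩ := h z hz
    exact ⟨w, (ConcreteCategory.congr_hom (K.toCycles_i ((ComplexShape.up ℤ).prev q) q) w).symm.trans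
      (congrArg (K.iCycles q).hom hw)⟩
  · rintro ⟨w, hw⟩
    rw [← (ModuleCat.mono_iff_injective (K.iCycles q)).1 inferInstance
      ((ConcreteCategory.congr_hom (K.toCycles_i ((ComplexShape.up ℤ).prev q) q) w).trans hw)]
    exact ConcreteCategory.congr_hom (K.toCycles_comp_homologyπ ((ComplexShape.up ℤ).prev q) q) w

theorem nonempty_equiv (fs : List R) (M : ModuleCat.{u} R) (i : ℕ) :
    Nonempty (CohIII.koszulHLim fs M i ≃ₗ[R] (DerCA.extCech M fs).homology (i : ℤ)) := by
  obtain ⟨ε, ψ, hε, hd, hc, hs, hk⟩ := exists_psi M fs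
  let C := DerCA.extCech M fs
  let K : ℕ → CechLC.Cx R := fun n => CohIII.koszulCx M (fs.map (· ^ n))
  let q : ℤ := (i : ℤ) - fs.length
  let p : ℤ := (i : ℤ)
  let T : ∀ n m, n ≤ m → (K n ⟶ K m) := fun n m h => CohIII.koszulTrans M n m h fs
  have hq : q + fs.length = p := by simp [q, p]
  have hprev : (ComplexShape.up ℤ).prev q + fs.length = (ComplexShape.up ℤ).prev p := by
    simp only [CochainComplex.prev]; omega
  have hnext : (ComplexShape.up ℤ).next q + fs.length = (ComplexShape.up ℤ).next p := by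
    simp only [CochainComplex.next]; omega
  let F : ∀ n, (K n).sc q ⟶ C.sc p := fun n =>
    { τ₁ := ModuleCat.ofHom (ε • ψ n _ _ hprev)
      τ₂ := ModuleCat.ofHom (ψ n q p hq)
      τ₃ := ModuleCat.ofHom (ε • ψ n _ _ hnext)
      comm₁₂ := ModuleCat.hom_ext (LinearMap.ext fun x => by
        show (C.d _ p).hom (ε • ψ n _ _ hprev x) = ψ n q p hq (((K n).d _ q).hom x)
        rw [map_smul, hd n _ q _ p hprev hq (by simp), smul_smul, hε, one_smul])
      comm₂₃ := ModuleCat.hom_ext (LinearMap.ext fun x => by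
        show (C.d p _).hom (ψ n q p hq x) = ε • ψ n _ _ hnext (((K n).d q _).hom x)
        exact hd n q _ p _ hq hnext (by simp) x) }
  let Θ : ∀ n, (K n).homology q →ₗ[R] C.homology p := fun n => (ShortComplex.homologyMap (F n)).hom
  have hΘ : ∀ n (z : (K n).cycles q), ∃ z' : C.cycles p, (C.iCycles p).hom z' = ψ n q p hq (((K n).iCycles q).hom z) ∧
      Θ n (((K n).homologyπ q).hom z) = (C.homologyπ p).hom z' := fun n z =>
    ⟨(ShortComplex.cyclesMap (F n)).hom z, ConcreteCategory.congr_hom (ShortComplex.cyclesMap_i (F n)) z,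
      ConcreteCategory.congr_hom (ShortComplex.homologyπ_naturality (F n)) z⟩
  have hH : ∀ n m h (z : (K n).cycles q), (HomologicalComplex.homologyMap (T n m h) q).hom (((K n).homologyπ q).hom z) =
      ((K m).homologyπ q).hom ((HomologicalComplex.cyclesMap (T n m h) q).hom z) := fun n m h z =>
    ConcreteCategory.congr_hom (HomologicalComplex.homologyπ_naturality (T n m h) q) z
  have hi : ∀ n m h (z : (K n).cycles q), ((K m).iCycles q).hom ((HomologicalComplex.cyclesMap (T n m h) q).hom z) =
      ((T n m h).f q).hom (((K n).iCycles q).hom z) := fun n m h z =>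
    ConcreteCategory.congr_hom (HomologicalComplex.cyclesMap_i (T n m h) q) z
  have hiC : Function.Injective (C.iCycles p).hom := (ModuleCat.mono_iff_injective _).1 inferInstance
  have hcompat : ∀ n m (h : n ≤ m) (a : (K n).homology q),
      Θ m ((HomologicalComplex.homologyMap (T n m h) q).hom a) = Θ n a := by
    intro n m h a
    obtain ⟨z, rfl⟩ := (ModuleCat.epi_iff_surjective ((K n).homologyπ q)).1 inferInstance a
    obtain ⟨z1, hz1, e1⟩ := hΘ n z
    obtain ⟨z2, hz2, e2⟩ := hΘ m ((HomologicalComplex.cyclesMap (T n m h) q).hom z)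
    rw [hH, e1, e2]
    refine congrArg _ (hiC ?_)
    rw [hz1, hz2, hi]
    exact hc n m h q p hq _
  let f : CohIII.koszulHLim fs M i →ₗ[R] C.homology p :=
    Module.DirectLimit.lift R ℕ (fun n => ((K n).homology q : Type u))
      (fun n m h => (HomologicalComplex.homologyMap (T n m h) q).hom) Θ hcompat
  have hf : ∀ n a, f (Module.DirectLimit.of R ℕ (fun n => ((K n).homology q : Type u))
      (fun n m h => (HomologicalComplex.homologyMap (T n m h) q).hom) n a) = Θ n a :=
    fun n a => Module.DirectLimit.lift_of _ _ _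
  refine ⟨LinearEquiv.ofBijective f ⟨(injective_iff_map_eq_zero f).2 fun t => ?_, fun b => ?_⟩⟩
  · obtain ⟨n, a, rfl⟩ := Module.DirectLimit.exists_of (R := R) (G := fun n => ((K n).homology q : Type u))
      (f := fun n m h => (HomologicalComplex.homologyMap (T n m h) q).hom) t
    intro ht
    rw [hf] at ht
    obtain ⟨z, rfl⟩ := (ModuleCat.epi_iff_surjective ((K n).homologyπ q)).1 inferInstance a
    obtain ⟨z', hz', e⟩ := hΘ n z
    rw [e, homologyπ_eq_zero_iff] at ht
    obtain ⟨w, hw⟩ := ht
    obtain ⟨n1, hn1⟩ := hs _ _ hprev w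
    obtain ⟨w', rfl⟩ := hn1 (max n n1) (le_max_right _ _)
    let k := max n n1
    let z1 := (HomologicalComplex.cyclesMap (T n k (le_max_left _ _)) q).hom z
    have h0 : ψ k q p hq (((K k).iCycles q).hom z1 - ε • ((K k).d _ q).hom w') = 0 := by
      rw [map_sub, map_smul, hi, ← hd k _ q _ p hprev hq (by simp) w', hw, hz', sub_eq_zero]
      exact hc n k _ q p hq _
    obtain ⟨m0, hm0⟩ := hk k q p hq _ h0
    have hkl : k ≤ max k m0 := le_max_left _ _
    have h1 := hm0 _ hkl (le_max_right _ _)
    rw [map_sub, map_smul, sub_eq_zero] at h1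
    rw [← Module.DirectLimit.of_f (hij := le_max_left n n1), ← Module.DirectLimit.of_f (hij := hkl), hH, hH]
    refine (congrArg _ ((homologyπ_eq_zero_iff (K (max k m0)) q _).2
      ⟨ε • ((T k (max k m0) hkl).f _).hom w', ?_⟩)).trans (map_zero _)
    rw [hi]
    refine Eq.trans ?_ h1.symm
    rw [map_smul]
    exact congrArg (ε • ·) (ConcreteCategory.congr_hom ((T k (max k m0) hkl).comm _ q) w')
  · obtain ⟨z, rfl⟩ := (ModuleCat.epi_iff_surjective (C.homologyπ p)).1 inferInstance b
    obtain ⟨n, hn⟩ := hs q p hq ((C.iCycles p).hom z)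
    obtain ⟨x, hx⟩ := hn n le_rfl
    have hdx : ψ n _ _ hnext (((K n).d q ((ComplexShape.up ℤ).next q)).hom x) = 0 := by
      have := congrArg (ε • ·) (hd n q _ p _ hq hnext (by simp) x)
      simp only [smul_smul, hε, one_smul] at this
      rw [← this, hx]
      exact (congrArg (ε • ·) (ConcreteCategory.congr_hom (C.iCycles_d p _) z)).trans (smul_zero ε)
    obtain ⟨m0, hm0⟩ := hk n _ _ hnext _ hdx
    have hnm : n ≤ max n m0 := le_max_left _ _
    let x' := ((T n (max n m0) hnm).f q).hom x
    have hx' : ((K (max n m0)).d q (q + 1)).hom x' = 0 := by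
      have e := (ConcreteCategory.congr_hom ((T n (max n m0) hnm).comm q ((ComplexShape.up ℤ).next q)) x).trans
        (hm0 _ hnm (le_max_right _ _))
      rw [show (ComplexShape.up ℤ).next q = q + 1 from CochainComplex.next ℤ q] at e
      exact e
    let i' : ModuleCat.of R R ⟶ (K (max n m0)).X q := ModuleCat.ofHom (LinearMap.toSpanSingleton R _ x')
    have hi' : i' ≫ (K (max n m0)).d q (q + 1) = 0 := ModuleCat.hom_ext (LinearMap.ext_ring (by
      show ((K (max n m0)).d q (q + 1)).hom ((1 : R) • x') = 0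
      rw [one_smul, hx']))
    let z' := ((K (max n m0)).liftCycles i' (q + 1) (by simp) hi').hom 1
    have hz' : ((K (max n m0)).iCycles q).hom z' = x' :=
      (ConcreteCategory.congr_hom ((K (max n m0)).liftCycles_i i' (q + 1) (by simp) hi') 1).trans (one_smul R x')
    refine ⟨Module.DirectLimit.of R ℕ (fun n => ((K n).homology q : Type u))
      (fun n m h => (HomologicalComplex.homologyMap (T n m h) q).hom) (max n m0)
        (((K (max n m0)).homologyπ q).hom z'), ?_⟩
    obtain ⟨z2, hz2, e⟩ := hΘ _ z'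
    rw [hf, e]
    refine congrArg _ (hiC ?_)
    rw [hz2, hz', ← hx]
    exact hc n _ hnm q p hq x

end Groth.Agent.GrLib8.KoszulColim
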