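import Groth.Agent.GrLib8.KoszulSupp
import Groth.Agent.GrLib8.KoszulColim
import Groth.Agent.FlasqueSupp.Core
import Groth.Agent.S6024
import Mathlib.Topology.NoetherianSpace

/-!
# Flasqueness of `M~` and the Koszul limits
-/

set_option autoImplicit false

universe u

open CategoryTheory CategoryTheory.Limits AlgebraicGeometry TopologicalSpace

namespace Groth.Agent.GrLib8.KoszulSupp

variable {A : Type u} [CommRing A]

theorem nonempty_koszulHLim_equiv (fs : List A) (M : ModuleCat.{u} A) (i : ℕ) :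
    Nonempty (CohIII.koszulHLim fs M i ≃+ G (R := CommRingCat.of A) fs M i) := by
  obtain ⟨e₁⟩ := KoszulColim.nonempty_equiv fs M i
  obtain ⟨e₂⟩ := nonempty_equiv (R := CommRingCat.of A) fs M i
  exact ⟨e₁.toAddEquiv.trans e₂.symm⟩

theorem exists_eq_uni [NoetherianSpace (PrimeSpectrum A)] (U : (Spec (CommRingCat.of A)).Opens) :
    ∃ fs : List A, U = Lib.KoszulSheaf.uni (R := CommRingCat.of A) fs := by
  obtain ⟨s, hs, hU⟩ := (isCompact_open_iff_eq_finite_iUnion_of_isTopologicalBasis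
    (fun f : A => (PrimeSpectrum.basicOpen f : Set (PrimeSpectrum A))) PrimeSpectrum.isTopologicalBasis_basic_opens
    PrimeSpectrum.isCompact_basicOpen (U.1 : Set (PrimeSpectrum A))).1 ⟨NoetherianSpace.isCompact _, U.2⟩
  refine ⟨hs.toFinset.toList, SetLike.ext fun x => ?_⟩
  refine Iff.trans (show x ∈ U ↔ x ∈ ⋃ f ∈ s, (PrimeSpectrum.basicOpen f : Set (PrimeSpectrum A)) from Iff.of_eq (congrArg (fun S => x ∈ S) hU)) ?_
  constructor
  · intro hx'
    obtain ⟨f, hf, hx⟩ := Set.mem_iUnion₂.1 hx'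
    obtain ⟨i, rfl⟩ := List.get_of_mem (Finset.mem_toList.2 (hs.mem_toFinset.2 hf))
    exact Opens.mem_iSup.2 ⟨i, hx⟩
  · intro hx
    obtain ⟨i, hi⟩ := Opens.mem_iSup.1 hx
    exact Set.mem_iUnion₂.2 ⟨_, hs.mem_toFinset.1 (Finset.mem_toList.1 (List.get_mem _ i)), hi⟩

theorem isFlasque_tilde_of_koszul [NoetherianSpace (PrimeSpectrum A)] (M : ModuleCat.{u} A)
    (h : ∀ fs : List A, Subsingleton (CohIII.koszulHLim fs M 1)) :
    TopCat.Sheaf.IsFlasque (X := (Spec (CommRingCat.of A)).carrier) (Coh.toAb (tilde (R := CommRingCat.of A) M)) := by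
  refine S6024.result (X := (Spec (CommRingCat.of A)).carrier) _ fun U => ?_
  obtain ⟨fs, rfl⟩ := exists_eq_uni (A := A) U
  obtain ⟨e⟩ := nonempty_koszulHLim_equiv fs M 1
  exact e.symm.toEquiv.subsingleton_congr.2 (h fs)

theorem subsingleton_of_isFlasque (M : ModuleCat.{u} A)
    (h : TopCat.Sheaf.IsFlasque (X := (Spec (CommRingCat.of A)).carrier) (Coh.toAb (tilde (R := CommRingCat.of A) M)))
    (fs : List A) (i : ℕ) : Subsingleton (CohIII.koszulHLim fs M (i + 1)) := by
  obtain ⟨e⟩ := nonempty_koszulHLim_equiv fs M (i + 1)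
  haveI := h
  exact e.toEquiv.subsingleton_congr.2 (FlasqueSupp.subsingleton_HZ _ _ i)

end Groth.Agent.GrLib8.KoszulSupp
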