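import Groth.Agent.GrLib8.MinCover
import Groth.Prelude.Def_GrSyz

/-!
# Minimal graded free resolutions exist; basic properties
-/

set_option autoImplicit false
set_option linter.unusedSectionVars false

universe u

open DirectSum

namespace Groth.Agent.GrLib8

variable {R : Type u} [CommRing R] {σ : Type u} [SetLike σ R] [AddSubgroupClass σ R] {𝒜 : ℤ → σ} [GradedRing 𝒜]
variable {M : Type u} [AddCommGroup M] [Module R M] {τ : Type u} [SetLike τ M] [AddSubgroupClass τ M] {ℳ : ℤ → τ}
  [Decomposition ℳ] [SetLike.GradedSMul 𝒜 ℳ]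

theorem isGrHomDeg_linComb {n : ℕ} {e : Fin n → ℤ} (t : Fin n → M) (ht : ∀ j, t j ∈ ℳ (e j)) :
    GrLC.IsGrHomDeg (freeGMod (𝒜 := 𝒜) e).gr ℳ
      (Fintype.linearCombination R t : (freeGMod (𝒜 := 𝒜) e).carrier →ₗ[R] M) 0 := fun g x hx => by
  show Fintype.linearCombination R t (x : Fin n → R) ∈ _
  rw [Fintype.linearCombination_apply, add_zero]
  refine sum_mem fun j _ => ?_
  have hxj : (x : Fin n → R) j ∈ 𝒜 (g - e j) := (show (x : Fin n → R) ∈ freePieces (𝒜 := 𝒜) e g from hx) j trivial
  have h := SetLike.GradedSMul.smul_mem (B := ℳ) hxj (ht j)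
  rwa [vadd_eq_add, sub_add_cancel] at h

theorem mulVecLin_eq_linComb {n m : ℕ} (A : Matrix (Fin n) (Fin m) R) :
    Matrix.mulVecLin A = Fintype.linearCombination R (fun b a => A a b) := by
  refine LinearMap.ext fun v => funext fun a => ?_
  rw [Fintype.linearCombination_apply, Finset.sum_apply]
  simp [Matrix.mulVec, dotProduct, mul_comm]

variable [IsNoetherianRing R] (hpos : ∀ n < 0, ∀ r ∈ 𝒜 n, r = 0) (hk : ∀ r ∈ 𝒜 (0 : ℤ), r ≠ 0 → IsUnit r)

/-- A stage of the construction: a homogeneous submodule of a free module, inside the irrelevant ideal. -/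
structure Stage (𝒜 : ℤ → σ) [GradedRing 𝒜] : Type u where
  n : ℕ
  e : Fin n → ℤ
  K : Submodule R (freeGMod (𝒜 := 𝒜) e).carrier
  hom : K.IsHomogeneous (freeGMod (𝒜 := 𝒜) e).gr
  le : ∀ v : Fin n → R, v ∈ K → ∀ j, v j ∈ (GrSyz.irrel 𝒜).toIdeal

include hpos hk

theorem exists_step (S : Stage 𝒜) : ∃ (S' : Stage 𝒜) (t : Fin S'.n → (Fin S.n → R)),
    (∀ b a, t b a ∈ 𝒜 (S'.e b - S.e a)) ∧ (∀ b a, t b a ∈ (GrSyz.irrel 𝒜).toIdeal) ∧
      LinearMap.range (Fintype.linearCombination R t) = S.K ∧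
      LinearMap.ker (Fintype.linearCombination R t) = S'.K := by
  haveI : IsNoetherian R (freeGMod (𝒜 := 𝒜) S.e).carrier := inferInstanceAs (IsNoetherian R (Fin S.n → R))
  let T := subGMod 𝒜 (freeGMod (𝒜 := 𝒜) S.e).gr S.K S.hom
  haveI : Module.Finite R T.carrier := Module.Finite.iff_fg.2 (IsNoetherian.noetherian S.K)
  obtain ⟨m, t, e, ht, htop, hmin⟩ := exists_minimal_gens 𝒜 hpos T.gr hk
  let ι₁ : T.carrier →ₗ[R] (Fin S.n → R) := S.K.subtype
  let π : (freeGMod (𝒜 := 𝒜) e).carrier →ₗ[R] T.carrier := Fintype.linearCombination R t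
  have hπ : GrLC.IsGrHomDeg (freeGMod (𝒜 := 𝒜) e).gr T.gr π 0 := isGrHomDeg_linComb t ht
  have hcomb : ∀ v : Fin m → R, Fintype.linearCombination R (fun b => ι₁ (t b)) v = ι₁ (π v) := fun v => by
    rw [Fintype.linearCombination_apply, show π v = ∑ i, v i • t i from Fintype.linearCombination_apply _ _ _, map_sum]
    simp only [map_smul]
  refine ⟨⟨m, e, LinearMap.ker π, isHomogeneous_ker_deg hπ, fun v hv j => hmin v ?_ j⟩, fun b => ι₁ (t b),
    fun b a => ht b a trivial, fun b a => S.le _ (t b).2 a, ?_, ?_⟩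
  · exact (Fintype.linearCombination_apply R t v).symm.trans (LinearMap.mem_ker.1 hv)
  · refine le_antisymm ?_ fun x hx => ?_
    · rintro _ ⟨v, rfl⟩
      rw [hcomb]; exact (π v).2
    · obtain ⟨v, hv⟩ : (⟨x, hx⟩ : S.K) ∈ LinearMap.range π := by
        show _ ∈ LinearMap.range (Fintype.linearCombination R t)
        rw [Fintype.range_linearCombination, htop]; trivial
      exact ⟨v, (hcomb v).trans (congrArg Subtype.val hv)⟩
  · refine Submodule.ext fun v => ?_
    let w : Fin m → R := v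
    show Fintype.linearCombination R (fun b => ι₁ (t b)) w = 0 ↔ π w = 0
    rw [hcomb]
    exact ⟨fun h => Subtype.ext h, fun h => congrArg ι₁ h |>.trans (map_zero _)⟩

/-- Existence of minimal graded free resolutions. -/
theorem exists_freeRes [Module.Finite R M] :
    ∃ F : GrSyz.FreeRes 𝒜 ℳ, F.IsMinimal (GrSyz.irrel 𝒜).toIdeal := by
  classical
  obtain ⟨n, t, e, ht, htop, hmin⟩ := exists_minimal_gens 𝒜 hpos ℳ hk
  let π : (freeGMod (𝒜 := 𝒜) e).carrier →ₗ[R] M := Fintype.linearCombination R t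
  have hπ : GrLC.IsGrHomDeg (freeGMod (𝒜 := 𝒜) e).gr ℳ π 0 := isGrHomDeg_linComb t ht
  let S0 : Stage 𝒜 := ⟨n, e, LinearMap.ker π, isHomogeneous_ker_deg hπ, fun v hv j =>
    hmin v ((Fintype.linearCombination_apply R t v).symm.trans (LinearMap.mem_ker.1 hv)) j⟩
  choose next cols hdeg hirr hrange hker using exists_step (𝒜 := 𝒜) hpos hk
  let S : ℕ → Stage 𝒜 := fun i => Nat.rec S0 (fun _ s => next s) i
  refine ⟨{ rk := fun i => (S i).n
            deg := fun i => (S i).e
            d := fun i a b => cols (S i) b a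
            aug := t
            d_mem := fun i a b => hdeg (S i) b a
            aug_mem := ht
            aug_surjective := ?_
            exact_zero := ?_
            exact_succ := fun i => ?_ }, fun i a b => hirr (S i) b a⟩
  · rw [← LinearMap.range_eq_top, Fintype.range_linearCombination, htop]
  · rw [mulVecLin_eq_linComb]
    exact (hrange S0).symm
  · rw [mulVecLin_eq_linComb, mulVecLin_eq_linComb]
    exact (hker (S i)).trans (hrange (S (i + 1))).symm

omit [IsNoetherianRing R] in
/-- Minimality is irredundance. -/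
theorem isMinimal_iff [Nontrivial R] (F : GrSyz.FreeRes 𝒜 ℳ) :
    F.IsMinimal (GrSyz.irrel 𝒜).toIdeal ↔
      ((∀ b : Fin (F.rk 0), F.aug b ∉ Submodule.span R (F.aug '' {b' | b' ≠ b})) ∧
        ∀ (i : ℕ) (b : Fin (F.rk (i + 1))),
          (fun a => F.d i a b) ∉ Submodule.span R ((fun b' a => F.d i a b') '' {b' | b' ≠ b})) := by
  classical
  constructor
  · intro hmin
    have key : ∀ {K N : ℕ} {X : Type u} [AddCommGroup X] [Module R X] (t : Fin K → X) (A : Matrix (Fin K) (Fin N) R),
        LinearMap.ker (Fintype.linearCombination R t) = LinearMap.range (Matrix.mulVecLin A) →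
        (∀ a b, A a b ∈ (GrSyz.irrel 𝒜).toIdeal) → ∀ b, t b ∉ Submodule.span R (t '' {b' | b' ≠ b}) := by
      intro K N X _ _ t A hex hA b hb
      obtain ⟨l, hl, hle⟩ := (Finsupp.mem_span_image_iff_linearCombination R).1 hb
      let v : Fin K → R := Pi.single b 1 - ⇑l
      have hv : Fintype.linearCombination R t v = 0 := by
        rw [map_sub, Fintype.linearCombination_apply_single, one_smul, sub_eq_zero, ← hle,
          Fintype.linearCombination_apply, Finsupp.linearCombination_apply, Finsupp.sum_fintype _ _ (fun i => zero_smul R (t i))]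
      obtain ⟨w, hw⟩ := hex.le (LinearMap.mem_ker.2 hv)
      have h1 : v b ∈ (GrSyz.irrel 𝒜).toIdeal := by
        rw [← hw, Matrix.mulVecLin_apply]
        show (∑ j, A b j * w j) ∈ _
        exact Ideal.sum_mem _ fun j _ => Ideal.mul_mem_right _ _ (hA b j)
      have hlb : l b = 0 := Finsupp.notMem_support_iff.1 fun h => hl h rfl
      rw [show v b = 1 by simp [v, hlb], mem_irrel_iff 𝒜 hpos, decompose_of_mem_same 𝒜 (SetLike.one_mem_graded 𝒜)] at h1
      exact one_ne_zero h1
    refine ⟨key F.aug (F.d 0) F.exact_zero fun a b => hmin 0 a b, fun i => key _ (F.d (i + 1)) ?_ fun a b => hmin (i + 1) a b⟩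
    rw [← mulVecLin_eq_linComb]; exact F.exact_succ i
  · rintro ⟨h0, hs⟩ i a b
    by_contra hab
    have hcol : ∀ {X : Type u} [AddCommGroup X] [Module R X] (t : Fin (F.rk i) → X),
        LinearMap.ker (Fintype.linearCombination R t) = LinearMap.range (Matrix.mulVecLin (F.d i)) →
        ∑ j, F.d i j b • t j = 0 := fun t hex => by
      have hmem : (fun j => F.d i j b) ∈ LinearMap.ker (Fintype.linearCombination R t) := by
        rw [hex]
        exact ⟨Pi.single b 1, funext fun j => by simp [Matrix.mulVec_single]⟩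
      rwa [LinearMap.mem_ker, Fintype.linearCombination_apply] at hmem
    rcases i with _ | i
    · exact h0 a (mem_span_others 𝒜 hpos ℳ hk F.aug_mem _ (hcol F.aug F.exact_zero) hab)
    · let X := freeGMod (𝒜 := 𝒜) (F.deg i)
      refine hs i a (mem_span_others (M := X.carrier) 𝒜 hpos X.gr hk (t := fun b' a' => F.d i a' b')
        (fun b' a' _ => F.d_mem i a' b') _ (hcol _ ?_) hab)
      exact (congrArg LinearMap.ker (mulVecLin_eq_linComb (F.d i)).symm).trans (F.exact_succ i)

omit [IsNoetherianRing R] in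
/-- In a minimal resolution degrees go up strictly. -/
theorem succ_le_deg [Nontrivial R] (F : GrSyz.FreeRes 𝒜 ℳ) (hF : F.IsMinimal (GrSyz.irrel 𝒜).toIdeal) (i : ℕ) (d : ℤ)
    (h : ∀ a : Fin (F.rk i), d ≤ F.deg i a) (b : Fin (F.rk (i + 1))) : d + 1 ≤ F.deg (i + 1) b := by
  classical
  by_contra hb
  refine ((isMinimal_iff hpos hk F).1 hF).2 i b ?_
  rw [show (fun a => F.d i a b) = 0 from funext fun a =>
    eq_zero_of_mem_irrel_of_deg 𝒜 hpos (by have := h a; omega) (F.d_mem i a b) (hF i a b)]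
  exact zero_mem _

end Groth.Agent.GrLib8
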