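import Groth.Agent.GrLib8.DegMap

/-!
# Functoriality of graded local cohomology
-/

set_option autoImplicit false
set_option linter.unusedSectionVars false

universe u

open DirectSum

namespace Groth.Agent.GrLib8

variable {ι : Type} [AddCommGroup ι] [DecidableEq ι]
variable {R : Type u} [CommRing R] {σ : Type u} [SetLike σ R] [AddSubgroupClass σ R] {𝒜 : ι → σ} [GradedRing 𝒜]
variable {M : Type u} [AddCommGroup M] [Module R M] {τ : Type u} [SetLike τ M] [AddSubgroupClass τ M] {ℳ : ι → τ}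
  [Decomposition ℳ] [SetLike.GradedSMul 𝒜 ℳ]
variable {N : Type u} [AddCommGroup N] [Module R N] {τ' : Type u} [SetLike τ' N] [AddSubgroupClass τ' N] {𝒩 : ι → τ'}
  [Decomposition 𝒩] [SetLike.GradedSMul 𝒜 𝒩]
variable {P : Type u} [AddCommGroup P] [Module R P] {τ'' : Type u} [SetLike τ'' P] [AddSubgroupClass τ'' P]
  {𝒬 : ι → τ''} [Decomposition 𝒬] [SetLike.GradedSMul 𝒜 𝒬]

/-- A homogeneous chain map over a homogeneous map. -/
structure IsLift (E : GrLC.StarInjRes 𝒜 ℳ) (F : GrLC.StarInjRes 𝒜 𝒩) (f : M →ₗ[R] N) (d : ι)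
    (L : ∀ n, (E.X n).carrier →ₗ[R] (F.X n).carrier) : Prop where
  deg : ∀ n, GrLC.IsGrHomDeg (E.X n).gr (F.X n).gr (L n) d
  eps : L 0 ∘ₗ E.ε = F.ε ∘ₗ f
  comm : ∀ n, L (n + 1) ∘ₗ E.d n = F.d n ∘ₗ L n

variable (E : GrLC.StarInjRes 𝒜 ℳ) (F : GrLC.StarInjRes 𝒜 𝒩)

theorem range_d_le_ker (n : ℕ) (x : (E.X n).carrier) : E.d (n + 1) (E.d n x) = 0 :=
  LinearMap.mem_ker.1 ((E.exact_succ n).ge ⟨x, rfl⟩)

theorem exists_lift (f : M →ₗ[R] N) {d : ι} (hf : GrLC.IsGrHomDeg ℳ 𝒩 f d) : ∃ L, IsLift E F f d L := by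
  classical
  obtain ⟨L0, hL0, hL0e⟩ := extend_deg (A := gmodPieces 𝒜 ℳ) (B := E.X 0) (I := F.X 0) (F.starInj 0)
    (f := E.ε) (a := 0) (isGrHomDeg_zero_iff.2 E.ε_grHom) E.ε_injective (g := F.ε ∘ₗ f) (b := d)
    (fun j m hm => by
      have h := F.ε_grHom (j + d) _ (hf j m hm)
      exact h) (zero_add d)
  let S : ℕ → Type u := fun n => {m : (E.X n).carrier →ₗ[R] (F.X n).carrier //
    GrLC.IsGrHomDeg (E.X n).gr (F.X n).gr m d ∧ LinearMap.ker (E.d n) ≤ LinearMap.ker (F.d n ∘ₗ m)}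
  have hstep : ∀ (n : ℕ) (s : S n), ∃ t : S (n + 1), t.1 ∘ₗ E.d n = F.d n ∘ₗ s.1 := by
    intro n s
    obtain ⟨ψ, hψ, hψd⟩ := factor_deg (A := E.X n) (B := E.X (n + 1)) (I := F.X (n + 1)) (F.starInj (n + 1))
      (δ := E.d n) (a := 0) (isGrHomDeg_zero_iff.2 (E.d_grHom n)) (φ := F.d n ∘ₗ s.1) (b := d)
      (fun j m hm => F.d_grHom n _ _ (s.2.1 j m hm)) s.2.2 (zero_add d)
    refine ⟨⟨ψ, hψ, fun x hx => ?_⟩, hψd⟩
    obtain ⟨y, rfl⟩ := (E.exact_succ n).le hx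
    show F.d (n + 1) (ψ (E.d n y)) = 0
    rw [← LinearMap.comp_apply ψ, hψd]
    exact range_d_le_ker F n _
  let s0 : S 0 := ⟨L0, hL0, fun x hx => by
    obtain ⟨m, rfl⟩ := E.exact_zero.le hx
    show F.d 0 (L0 (E.ε m)) = 0
    rw [show L0 (E.ε m) = F.ε (f m) from LinearMap.congr_fun hL0e m]
    exact LinearMap.mem_ker.1 (F.exact_zero.ge ⟨_, rfl⟩)⟩
  let s : ∀ n, S n := fun n => Nat.rec (motive := S) s0 (fun n t => (hstep n t).choose) n
  exact ⟨fun n => (s n).1, fun n => (s n).2.1, hL0e, fun n => (hstep n (s n)).choose_spec⟩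

/-- A chain map killing the augmentation is null-homotopic. -/
theorem exists_homotopy {d : ι} (L : ∀ n, (E.X n).carrier →ₗ[R] (F.X n).carrier)
    (hdeg : ∀ n, GrLC.IsGrHomDeg (E.X n).gr (F.X n).gr (L n) d) (heps : L 0 ∘ₗ E.ε = 0)
    (hcomm : ∀ n, L (n + 1) ∘ₗ E.d n = F.d n ∘ₗ L n) :
    ∃ h : ∀ n, (E.X (n + 1)).carrier →ₗ[R] (F.X n).carrier, L 0 = h 0 ∘ₗ E.d 0 ∧
      ∀ n, L (n + 1) = h (n + 1) ∘ₗ E.d (n + 1) + F.d n ∘ₗ h n := by
  classical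
  obtain ⟨h0, hh0, h0e⟩ := factor_deg (A := E.X 0) (B := E.X 1) (I := F.X 0) (F.starInj 0)
    (δ := E.d 0) (a := 0) (isGrHomDeg_zero_iff.2 (E.d_grHom 0)) (φ := L 0) (b := d) (hdeg 0)
    (fun x hx => by
      obtain ⟨m, rfl⟩ := E.exact_zero.le hx
      exact LinearMap.congr_fun heps m) (zero_add d)
  let S : ℕ → Type u := fun n => {h : (E.X (n + 1)).carrier →ₗ[R] (F.X n).carrier //
    GrLC.IsGrHomDeg (E.X (n + 1)).gr (F.X n).gr h d ∧ (L (n + 1) - F.d n ∘ₗ h) ∘ₗ E.d n = 0}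
  have hstep : ∀ (n : ℕ) (s : S n), ∃ t : S (n + 1), t.1 ∘ₗ E.d (n + 1) = L (n + 1) - F.d n ∘ₗ s.1 := by
    intro n s
    obtain ⟨ψ, hψ, hψd⟩ := factor_deg (A := E.X (n + 1)) (B := E.X (n + 1 + 1)) (I := F.X (n + 1)) (F.starInj (n + 1))
      (δ := E.d (n + 1)) (a := 0) (isGrHomDeg_zero_iff.2 (E.d_grHom (n + 1))) (φ := L (n + 1) - F.d n ∘ₗ s.1) (b := d)
      (isGrHomDeg_sub (hdeg (n + 1)) (fun j m hm => F.d_grHom n _ _ (s.2.1 j m hm)))
      (fun x hx => by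
        obtain ⟨y, rfl⟩ := (E.exact_succ n).le hx
        exact LinearMap.congr_fun s.2.2 y) (zero_add d)
    refine ⟨⟨ψ, hψ, LinearMap.ext fun x => ?_⟩, hψd⟩
    show L (n + 1 + 1) (E.d (n + 1) x) - F.d (n + 1) (ψ (E.d (n + 1) x)) = 0
    rw [← LinearMap.comp_apply ψ, hψd, ← LinearMap.comp_apply (L (n + 1 + 1)), hcomm (n + 1), LinearMap.sub_apply,
      map_sub, LinearMap.comp_apply, LinearMap.comp_apply, range_d_le_ker F n, sub_zero, sub_self]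
  let s0 : S 0 := ⟨h0, hh0, LinearMap.ext fun x => by
    show L 1 (E.d 0 x) - F.d 0 (h0 (E.d 0 x)) = 0
    rw [← LinearMap.comp_apply h0, h0e, ← LinearMap.comp_apply (L 1), hcomm 0, LinearMap.comp_apply, sub_self]⟩
  let s : ∀ n, S n := fun n => Nat.rec (motive := S) s0 (fun n t => (hstep n t).choose) n
  refine ⟨fun n => (s n).1, h0e.symm, fun n => ?_⟩
  have := (hstep n (s n)).choose_spec
  show L (n + 1) = (hstep n (s n)).choose.1 ∘ₗ E.d (n + 1) + F.d n ∘ₗ (s n).1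
  rw [this, sub_add_cancel]

variable (a : HomogeneousIdeal 𝒜)

theorem map_gam {X Y : Type u} [AddCommGroup X] [Module R X] [AddCommGroup Y] [Module R Y] (f : X →ₗ[R] Y)
    {I : Ideal R} {x : X} (hx : x ∈ GrLC.gam I X) : f x ∈ GrLC.gam I Y := by
  obtain ⟨k, hk⟩ := hx
  exact ⟨k, fun r hr => by rw [← map_smul, hk r hr, map_zero]⟩

variable {E F}

/-- The map on cohomology induced by a chain map. -/
noncomputable def chainH (L : ∀ n, (E.X n).carrier →ₗ[R] (F.X n).carrier)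
    (hL : ∀ n, L (n + 1) ∘ₗ E.d n = F.d n ∘ₗ L n) (i : ℕ) : E.H a i →ₗ[R] F.H a i :=
  Submodule.mapQ _ _ ((L i).restrict fun x (hx : x ∈ E.cocyc a i) => (⟨map_gam (L i) hx.1, by
    show F.d i (L i x) = 0
    rw [← LinearMap.comp_apply (F.d i), ← hL i, LinearMap.comp_apply, LinearMap.mem_ker.1 hx.2, map_zero]⟩ :
      L i x ∈ F.cocyc a i)) fun z hz => by
    cases i with
    | zero =>
      have hz : (z : (E.X 0).carrier) = 0 := hz
      show L 0 (z : (E.X 0).carrier) = 0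
      rw [hz, map_zero]
    | succ n =>
      obtain ⟨w, hw, hwz⟩ := hz
      refine ⟨L n w, map_gam (L n) hw, ?_⟩
      rw [← LinearMap.comp_apply (F.d n), ← hL n, LinearMap.comp_apply, hwz]
      rfl

theorem chainH_toH (L : ∀ n, (E.X n).carrier →ₗ[R] (F.X n).carrier)
    (hL : ∀ n, L (n + 1) ∘ₗ E.d n = F.d n ∘ₗ L n) (i : ℕ) (z : E.cocyc a i) :
    ∃ h, chainH a L hL i (E.toH a i z) = F.toH a i ⟨L i z, h⟩ := ⟨_, rfl⟩

theorem toH_eq_of {i : ℕ} {z z' : E.cocyc a i} (h : (z : (E.X i).carrier) - z' ∈ E.cobdy a i) :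
    E.toH a i z = E.toH a i z' := (Submodule.Quotient.eq _).2 h

theorem chainH_eq_of_eps {d : ι} (L L' : ∀ n, (E.X n).carrier →ₗ[R] (F.X n).carrier)
    (hd : ∀ n, GrLC.IsGrHomDeg (E.X n).gr (F.X n).gr (L n) d)
    (hd' : ∀ n, GrLC.IsGrHomDeg (E.X n).gr (F.X n).gr (L' n) d)
    (he : L 0 ∘ₗ E.ε = L' 0 ∘ₗ E.ε) (hL : ∀ n, L (n + 1) ∘ₗ E.d n = F.d n ∘ₗ L n)
    (hL' : ∀ n, L' (n + 1) ∘ₗ E.d n = F.d n ∘ₗ L' n) (i : ℕ) : chainH a L hL i = chainH a L' hL' i := by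
  obtain ⟨h, h0, hs⟩ := exists_homotopy E F (fun n => L n - L' n) (fun n => isGrHomDeg_sub (hd n) (hd' n))
    (by rw [LinearMap.sub_comp, he, sub_self])
    (fun n => by rw [LinearMap.sub_comp, LinearMap.comp_sub, hL n, hL' n])
  refine Submodule.linearMap_qext _ (LinearMap.ext fun z => ?_)
  refine toH_eq_of a ?_
  show L i z - L' i z ∈ F.cobdy a i
  cases i with
  | zero =>
    have := LinearMap.congr_fun h0 (z : (E.X 0).carrier)
    rw [LinearMap.sub_apply, LinearMap.comp_apply, LinearMap.mem_ker.1 z.2.2, map_zero] at this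
    rw [this]
    exact zero_mem _
  | succ n =>
    refine ⟨h n z, map_gam (h n) z.2.1, ?_⟩
    have := LinearMap.congr_fun (hs n) (z : (E.X (n + 1)).carrier)
    rw [LinearMap.sub_apply, LinearMap.add_apply, LinearMap.comp_apply, LinearMap.comp_apply,
      LinearMap.mem_ker.1 z.2.2, map_zero, zero_add] at this
    exact this.symm

variable (E F)

/-- The map on graded local cohomology. -/
noncomputable def hmap (f : M →ₗ[R] N) {d : ι} (hf : GrLC.IsGrHomDeg ℳ 𝒩 f d) (i : ℕ) : E.H a i →ₗ[R] F.H a i :=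
  chainH a (exists_lift E F f hf).choose (exists_lift E F f hf).choose_spec.comm i

variable {E F}

theorem hmap_eq {f : M →ₗ[R] N} {d : ι} (hf : GrLC.IsGrHomDeg ℳ 𝒩 f d) {L : ∀ n, (E.X n).carrier →ₗ[R] (F.X n).carrier}
    (hL : IsLift E F f d L) (i : ℕ) : hmap E F a f hf i = chainH a L hL.comm i :=
  let c := (exists_lift E F f hf).choose_spec
  chainH_eq_of_eps a _ L c.deg hL.deg (c.eps.trans hL.eps.symm) c.comm hL.comm i

theorem hmap_congr {f f' : M →ₗ[R] N} {d : ι} (h : f = f') (hf : GrLC.IsGrHomDeg ℳ 𝒩 f d)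
    (hf' : GrLC.IsGrHomDeg ℳ 𝒩 f' d) (i : ℕ) : hmap E F a f hf i = hmap E F a f' hf' i := by
  subst h; rfl

theorem hmap_id (i : ℕ) (h : GrLC.IsGrHomDeg ℳ ℳ (LinearMap.id : M →ₗ[R] M) 0) :
    hmap E E a LinearMap.id h i = LinearMap.id := by
  rw [hmap_eq a h (L := fun _ => LinearMap.id)
    ⟨fun n => isGrHomDeg_zero_iff.2 fun _ _ hm => hm, rfl, fun n => rfl⟩]
  exact Submodule.linearMap_qext _ (LinearMap.ext fun z => rfl)

theorem hmap_comp {G : GrLC.StarInjRes 𝒜 𝒬} {f : M →ₗ[R] N} {g : N →ₗ[R] P} {d e d' : ι}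
    (hf : GrLC.IsGrHomDeg ℳ 𝒩 f d) (hg : GrLC.IsGrHomDeg 𝒩 𝒬 g e) (hgf : GrLC.IsGrHomDeg ℳ 𝒬 (g ∘ₗ f) d')
    (hde : d + e = d') (i : ℕ) : hmap F G a g hg i ∘ₗ hmap E F a f hf i = hmap E G a (g ∘ₗ f) hgf i := by
  obtain ⟨L, hL⟩ := exists_lift E F f hf
  obtain ⟨K, hK⟩ := exists_lift F G g hg
  have hKL : IsLift E G (g ∘ₗ f) d' fun n => K n ∘ₗ L n :=
    { deg := fun n => isGrHomDeg_comp (hL.deg n) (hK.deg n) hde
      eps := by rw [LinearMap.comp_assoc, hL.eps, ← LinearMap.comp_assoc, hK.eps, LinearMap.comp_assoc]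
      comm := fun n => by
        rw [LinearMap.comp_assoc, hL.comm n, ← LinearMap.comp_assoc, hK.comm n, LinearMap.comp_assoc] }
  rw [hmap_eq a hf hL, hmap_eq a hg hK, hmap_eq a hgf hKL]
  exact Submodule.linearMap_qext _ (LinearMap.ext fun z => rfl)

theorem hmap_smul_id {x : R} {d : ι} (h : GrLC.IsGrHomDeg ℳ ℳ (x • (LinearMap.id : M →ₗ[R] M)) d) (hx : x ∈ 𝒜 d) (i : ℕ) :
    hmap E E a (x • LinearMap.id) h i = x • LinearMap.id := by
  rw [hmap_eq a h (L := fun _ => x • LinearMap.id)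
    ⟨fun n => isGrHomDeg_smul_id hx, by rw [LinearMap.smul_comp, LinearMap.id_comp, LinearMap.comp_smul, LinearMap.comp_id],
      fun n => by rw [LinearMap.smul_comp, LinearMap.id_comp, LinearMap.comp_smul, LinearMap.comp_id]⟩]
  exact Submodule.linearMap_qext _ (LinearMap.ext fun z => rfl)

theorem hmap_zero {d : ι} (h : GrLC.IsGrHomDeg ℳ 𝒩 (0 : M →ₗ[R] N) d) (i : ℕ) : hmap E F a 0 h i = 0 := by
  rw [hmap_eq a h (L := fun _ => 0) ⟨fun n j m _ => zero_mem _, by rw [LinearMap.zero_comp, LinearMap.comp_zero],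
    fun n => by rw [LinearMap.zero_comp, LinearMap.comp_zero]⟩]
  exact Submodule.linearMap_qext _ (LinearMap.ext fun z => rfl)

theorem isGrHomDeg_hmap {f : M →ₗ[R] N} {d : ι} (hf : GrLC.IsGrHomDeg ℳ 𝒩 f d) (i : ℕ) :
    GrLC.IsGrHomDeg (E.Hgr a i) (F.Hgr a i) (hmap E F a f hf i) d := by
  rintro g x ⟨z, hz, rfl⟩
  obtain ⟨L, hL⟩ := exists_lift E F f hf
  rw [hmap_eq a hf hL]
  obtain ⟨h, e⟩ := chainH_toH a L hL.comm i z
  exact ⟨⟨L i z, h⟩, hL.deg i g _ hz, e.symm⟩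

/-- Any two resolutions compute the same graded local cohomology. -/
noncomputable def hmapEquiv (E E' : GrLC.StarInjRes 𝒜 ℳ) (i : ℕ) : E.H a i ≃ₗ[R] E'.H a i :=
  have h : GrLC.IsGrHomDeg ℳ ℳ (LinearMap.id : M →ₗ[R] M) 0 := isGrHomDeg_zero_iff.2 fun _ _ hm => hm
  LinearEquiv.ofLinear (hmap E E' a LinearMap.id h i) (hmap E' E a LinearMap.id h i)
    ((hmap_comp a h h h (add_zero 0) i).trans (hmap_id a i h)) ((hmap_comp a h h h (add_zero 0) i).trans (hmap_id a i h))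

end Groth.Agent.GrLib8
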