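import Groth.Agent.GrLib8.PosGr
import Groth.Agent.GrLib8.DegMap
import Groth.Prelude.Def_GrSeg
import Mathlib.LinearAlgebra.Dual.Lemmas
import Mathlib.RingTheory.FiniteType
import Mathlib.RingTheory.HopkinsLevitzki

/-!
# Graded duals over a field
-/

set_option autoImplicit false
set_option linter.unusedSectionVars false

universe u

open DirectSum

namespace Groth.Agent.GrLib8

variable {k : Type u} [Field k] {R : Type u} [CommRing R] [Algebra k R] (𝒜 : ℤ → Submodule k R) [GradedAlgebra 𝒜]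

/-- The pieces of a graded module as subspaces. -/
def pieceK {M : Type u} [AddCommGroup M] [Module R M] [Module k M] [IsScalarTower k R M] (ℳ : ℤ → AddSubgroup M)
    [SetLike.GradedSMul 𝒜 ℳ] (n : ℤ) : Submodule k M where
  carrier := ℳ n
  add_mem' := add_mem
  zero_mem' := zero_mem _
  smul_mem' := fun c x hx => by
    have h := SetLike.GradedSMul.smul_mem (B := ℳ) (SetLike.algebraMap_mem_graded 𝒜 c) hx
    rw [vadd_eq_add, zero_add, algebraMap_smul] at h
    exact h

variable {M : Type u} [AddCommGroup M] [Module R M] [Module k M] [IsScalarTower k R M] (ℳ : ℤ → AddSubgroup M)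
  [Decomposition ℳ] [SetLike.GradedSMul 𝒜 ℳ]

include 𝒜 in
theorem decompose_smul_k (c : k) (x : M) (n : ℤ) : (decompose ℳ (c • x) n : M) = c • (decompose ℳ x n : M) := by
  rw [← algebraMap_smul R c x, ← algebraMap_smul R c (decompose ℳ x n : M),
    decompose_smul_of_mem_left 𝒜 ℳ (SetLike.algebraMap_mem_graded 𝒜 c), sub_zero]

theorem eq_algebraMap_of_mem_zero (h0 : 𝒜 0 = Submodule.span k {(1 : R)}) {r : R} (hr : r ∈ 𝒜 0) :
    ∃ c : k, r = algebraMap k R c := by
  rw [h0, Submodule.mem_span_singleton] at hr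
  obtain ⟨c, hc⟩ := hr
  exact ⟨c, by rw [← hc, Algebra.smul_def, mul_one]⟩

theorem finite_pieceK (hpos : ∀ n : ℤ, n < 0 → 𝒜 n = ⊥) (h0 : 𝒜 0 = Submodule.span k {(1 : R)})
    [Algebra.FiniteType k R] [Module.Finite R M] (n : ℤ) : Module.Finite k (pieceK 𝒜 ℳ n) := by
  haveI : IsNoetherianRing R := Algebra.FiniteType.isNoetherianRing k R
  haveI := finite_comp 𝒜 (fun m hm r hr => (Submodule.mem_bot k).1 ((hpos m hm).le hr)) ℳ n
  let f : k →+* GrLC.deg0 𝒜 := (algebraMap k R).codRestrict (GrLC.deg0 𝒜) fun c => SetLike.algebraMap_mem_graded 𝒜 c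
  have hf : Function.Surjective f := fun z => by
    obtain ⟨c, hc⟩ := eq_algebraMap_of_mem_zero 𝒜 h0 z.2
    exact ⟨c, Subtype.ext hc.symm⟩
  obtain ⟨S, hS⟩ := Module.Finite.fg_top (R := GrLC.deg0 𝒜) (M := GrLC.comp 𝒜 ℳ n)
  classical
  let e : GrLC.comp 𝒜 ℳ n → pieceK 𝒜 ℳ n := fun z => ⟨(z : M), z.2⟩
  refine ⟨⟨S.image e, eq_top_iff.2 fun x _ => ?_⟩⟩
  have hx : (⟨(x : M), x.2⟩ : GrLC.comp 𝒜 ℳ n) ∈ Submodule.span (GrLC.deg0 𝒜) (S : Set (GrLC.comp 𝒜 ℳ n)) :=
    hS.ge Submodule.mem_top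
  suffices key : ∀ z ∈ Submodule.span (GrLC.deg0 𝒜) (S : Set (GrLC.comp 𝒜 ℳ n)),
      e z ∈ Submodule.span k (↑(S.image e) : Set (pieceK 𝒜 ℳ n)) from key _ hx
  intro z hz
  induction hz using Submodule.span_induction with
  | mem z hz => exact Submodule.subset_span (Finset.mem_coe.2 (Finset.mem_image_of_mem e hz))
  | zero => exact zero_mem (Submodule.span k (↑(S.image e) : Set (pieceK 𝒜 ℳ n)))
  | add a b _ _ ha hb => exact add_mem ha hb
  | smul r a _ ha =>
    obtain ⟨c, hc⟩ := hf r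
    have he : e (r • a) = c • e a := Subtype.ext (by
      show (r : R) • (a : M) = c • (a : M)
      rw [← hc]
      exact algebraMap_smul R c (a : M))
    rw [he]
    exact Submodule.smul_mem _ _ ha

theorem finite_pieceK_of_isArtinian (hpos : ∀ n : ℤ, n < 0 → 𝒜 n = ⊥) (h0 : 𝒜 0 = Submodule.span k {(1 : R)})
    [IsArtinian R M] (n : ℤ) : Module.Finite k (pieceK 𝒜 ℳ n) := by
  classical
  let ι := pieceK 𝒜 ℳ n
  let F : Submodule k ι → Submodule R M := fun W => Submodule.span R (Subtype.val '' (W : Set ι))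
  have key : ∀ (W : Submodule k ι) (z : M), z ∈ F W →
      (∀ g < n, (decompose ℳ z g : M) = 0) ∧ ∃ w ∈ W, (decompose ℳ z n : M) = (w : M) := by
    intro W z hz
    induction hz using Submodule.span_induction with
    | mem y hy =>
      obtain ⟨w, hw, rfl⟩ := hy
      exact ⟨fun g hg => decompose_of_mem_ne ℳ w.2 hg.ne', w, hw, decompose_of_mem_same ℳ w.2⟩
    | zero => exact ⟨fun g _ => by simp, 0, zero_mem _, by simp⟩
    | add a b _ _ ha hb =>
      obtain ⟨wa, hwa, ea⟩ := ha.2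
      obtain ⟨wb, hwb, eb⟩ := hb.2
      refine ⟨fun g hg => ?_, wa + wb, add_mem hwa hwb, ?_⟩
      · rw [decompose_add, DirectSum.add_apply, AddMemClass.coe_add, ha.1 g hg, hb.1 g hg, add_zero]
      · rw [decompose_add, DirectSum.add_apply, AddMemClass.coe_add, ea, eb]; rfl
    | smul r a _ ha =>
      have hcomp : ∀ g ≤ n, (decompose ℳ (r • a) g : M) = (decompose 𝒜 r 0 : R) • (decompose ℳ a g : M) := by
        intro g hg
        conv_lhs => rw [← sum_support_decompose 𝒜 r, Finset.sum_smul, decompose_sum]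
        rw [show (((∑ i ∈ (decompose 𝒜 r).support, decompose ℳ ((decompose 𝒜 r i : R) • a)) g : ℳ g) : M) =
            ∑ i ∈ (decompose 𝒜 r).support, (decompose ℳ ((decompose 𝒜 r i : R) • a) g : M) from
          map_sum ((AddSubgroup.subtype (ℳ g)).comp (DFinsupp.evalAddMonoidHom (β := fun i => ℳ i) g)) _ _,
          Finset.sum_eq_single 0]
        · rw [decompose_smul_of_mem_left 𝒜 ℳ (SetLike.coe_mem _), sub_zero]
        · intro i _ hi
          rw [decompose_smul_of_mem_left 𝒜 ℳ (SetLike.coe_mem _)]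
          rcases lt_or_gt_of_ne hi with h | h
          · rw [(Submodule.mem_bot k).1 ((hpos i h).le (SetLike.coe_mem (decompose 𝒜 r i))), zero_smul]
          · rw [ha.1 (g - i) (by omega), smul_zero]
        · intro h
          rw [DFinsupp.notMem_support_iff.1 h, ZeroMemClass.coe_zero, zero_smul, decompose_zero,
            DirectSum.zero_apply, ZeroMemClass.coe_zero]
      obtain ⟨c, hc⟩ := eq_algebraMap_of_mem_zero 𝒜 h0 (decompose 𝒜 r 0).2
      obtain ⟨w, hw, ew⟩ := ha.2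
      refine ⟨fun g hg => by rw [hcomp g hg.le, ha.1 g hg, smul_zero], c • w, W.smul_mem c hw, ?_⟩
      rw [hcomp n le_rfl, hc, algebraMap_smul, ew]; rfl
  have hF : StrictMono F := by
    intro W W' hWW
    refine lt_of_le_not_ge (Submodule.span_mono (Set.image_mono hWW.le)) fun hle => hWW.not_ge fun x hx => ?_
    obtain ⟨-, w, hw, ew⟩ := key W x (hle (Submodule.subset_span ⟨x, hx, rfl⟩))
    rw [decompose_of_mem_same ℳ x.2] at ew
    rwa [show x = w from Subtype.ext ew]
  haveI : IsArtinian k ι := hF.wellFoundedLT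
  haveI : IsNoetherian k ι := IsSemiprimaryRing.isNoetherian_iff_isArtinian.2 inferInstance
  exact inferInstanceAs (Module.Finite k ι)

section Pairing

variable {D : Type u} [AddCommGroup D] [Module R D] [Module k D] [IsScalarTower k R D]
  {𝒟 : ℤ → AddSubgroup D} [Decomposition 𝒟] [SetLike.GradedSMul 𝒜 𝒟] {β : D →ₗ[k] M →ₗ[k] k}
variable {ℳ} (hD : GrSeg.IsGDual R ℳ 𝒟 β)

include hD

theorem pair_left (d : D) {m : ℤ} {x : M} (hx : x ∈ ℳ m) : β d x = β (decompose 𝒟 d (-m) : D) x := by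
  classical
  conv_lhs => rw [← sum_support_decompose 𝒟 d, map_sum, LinearMap.sum_apply]
  refine (Finset.sum_eq_single (-m) (fun i _ hi => ?_) fun h => ?_)
  · exact hD.vanish i _ (SetLike.coe_mem _) m (fun h => hi (by omega)) x hx
  · rw [DFinsupp.notMem_support_iff.1 h]; simp

theorem pair_right {n : ℤ} {d : D} (hd : d ∈ 𝒟 n) (x : M) : β d x = β d (decompose ℳ x (-n) : M) := by
  classical
  conv_lhs => rw [← sum_support_decompose ℳ x, map_sum]
  refine (Finset.sum_eq_single (-n) (fun i _ hi => ?_) fun h => ?_)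
  · exact hD.vanish n d hd i hi _ (SetLike.coe_mem _)
  · rw [DFinsupp.notMem_support_iff.1 h]; simp

theorem eq_zero_of_pair {d : D} (h : ∀ x, β d x = 0) : d = 0 := by
  classical
  rw [← sum_support_decompose 𝒟 d]
  refine Finset.sum_eq_zero fun n _ => hD.eq_zero n _ (SetLike.coe_mem _) fun x hx => ?_
  have := pair_left hD d hx
  rw [neg_neg] at this
  rw [← this, h]

include 𝒜

/-- An element outside a subspace of a piece is detected by the dual. -/
theorem exists_pair_ne {n : ℤ} (W : Submodule k M) {x : M} (hx : x ∈ ℳ n) (hW : x ∉ W) :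
    ∃ d ∈ 𝒟 (-n), β d x ≠ 0 ∧ ∀ w ∈ W, w ∈ ℳ n → β d w = 0 := by
  obtain ⟨g, hgx, hg⟩ := W.exists_le_ker_of_notMem hW
  obtain ⟨d, hd, hdg⟩ := hD.exists_eq (-n) g
  rw [neg_neg] at hdg
  exact ⟨d, hd, (hdg x hx).symm ▸ hgx, fun w hw hwn => (hdg w hwn).trans (LinearMap.mem_ker.1 (hg hw))⟩

theorem eq_zero_of_pair_right {x : M} (h : ∀ d, β d x = 0) : x = 0 := by
  classical
  rw [← sum_support_decompose ℳ x]
  refine Finset.sum_eq_zero fun n _ => ?_
  by_contra hne
  obtain ⟨d, hd, hdx, -⟩ := exists_pair_ne 𝒜 hD (⊥ : Submodule k M) (SetLike.coe_mem (decompose ℳ x n)) (by simpa using hne)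
  have := pair_right hD hd x
  rw [neg_neg, h] at this
  exact hdx this.symm

/-- Reflexivity on a finite dimensional piece. -/
theorem exists_of_functional (n : ℤ) [Module.Finite k (pieceK 𝒜 ℳ (-n))] (ξ : D →ₗ[k] k) :
    ∃ x ∈ ℳ (-n), ∀ d ∈ 𝒟 n, β d x = ξ d := by
  let A := pieceK 𝒜 ℳ (-n)
  let B := pieceK 𝒜 𝒟 n
  let Φ : B →ₗ[k] Module.Dual k A := A.subtype.dualMap ∘ₗ β ∘ₗ B.subtype
  have hΦ : Function.Bijective Φ := by
    constructor
    · rw [injective_iff_map_eq_zero]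
      exact fun d hd => Subtype.ext (hD.eq_zero n _ d.2 fun x hx => LinearMap.congr_fun hd ⟨x, hx⟩)
    · intro f
      obtain ⟨g, hg⟩ := LinearMap.exists_extend f
      obtain ⟨d, hd, hdg⟩ := hD.exists_eq n g
      exact ⟨⟨d, hd⟩, LinearMap.ext fun a => (hdg a a.2).trans (LinearMap.congr_fun hg a)⟩
  let e := LinearEquiv.ofBijective Φ hΦ
  obtain ⟨x, hx⟩ := (Module.evalEquiv k A).surjective (ξ ∘ₗ B.subtype ∘ₗ e.symm.toLinearMap)
  refine ⟨x, x.2, fun d hd => ?_⟩
  have h1 := LinearMap.congr_fun hx (e ⟨d, hd⟩)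
  rw [LinearMap.comp_apply, LinearMap.comp_apply, LinearEquiv.coe_toLinearMap, e.symm_apply_apply] at h1
  exact h1

/-- The dual is reflexive when the pieces are finite dimensional. -/
theorem isGDual_flip (hfin : ∀ n, Module.Finite k (pieceK 𝒜 ℳ n)) : GrSeg.IsGDual R 𝒟 ℳ β.flip where
  map_smul r x d := (hD.map_smul r d x).symm
  vanish n x hx m hm d hd := hD.vanish m d hd n (fun h => hm (by omega)) x hx
  eq_zero n x hx h := by
    refine eq_zero_of_pair_right 𝒜 hD fun d => ?_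
    rw [pair_left hD d hx]
    exact h _ (SetLike.coe_mem _)
  exists_eq n g := by
    haveI := hfin (- -n)
    obtain ⟨x, hx, hxg⟩ := exists_of_functional 𝒜 hD (-n) g
    rw [neg_neg] at hx
    exact ⟨x, hx, hxg⟩

end Pairing

end Groth.Agent.GrLib8
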