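import Groth.Agent.GrLib8.GDualLattice

/-!
# Existence of graded duals
-/

set_option autoImplicit false
set_option linter.unusedSectionVars false

universe u

open DirectSum

namespace Groth.Agent.GrLib8

variable {k : Type u} [Field k] {R : Type u} [CommRing R] [Algebra k R] (𝒜 : ℤ → Submodule k R) [GradedAlgebra 𝒜]
variable {M : Type u} [AddCommGroup M] [Module R M] [Module k M] [IsScalarTower k R M] (ℳ : ℤ → AddSubgroup M)
  [Decomposition ℳ] [SetLike.GradedSMul 𝒜 ℳ]

/-- The dual of a module, with the ring acting on the argument. -/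
def RDual (k : Type u) [Field k] (M : Type u) [AddCommGroup M] [Module k M] : Type u := M →ₗ[k] k

namespace RDual

noncomputable instance : AddCommGroup (RDual k M) := inferInstanceAs (AddCommGroup (M →ₗ[k] k))
noncomputable instance : Module k (RDual k M) := inferInstanceAs (Module k (M →ₗ[k] k))

/-- View as a functional. -/
def toFun' (f : RDual k M) : M →ₗ[k] k := f

/-- View a functional as an element. -/
def mk (f : M →ₗ[k] k) : RDual k M := f

theorem toFun'_smul_k (c : k) (f : RDual k M) (x : M) : toFun' (c • f) x = c • toFun' f x := rfl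

theorem ext' {f g : RDual k M} (h : ∀ x, toFun' f x = toFun' g x) : f = g := LinearMap.ext h

noncomputable instance (priority := low) : Module R (RDual k M) where
  smul r f := mk (toFun' f ∘ₗ (r • (LinearMap.id : M →ₗ[R] M)).restrictScalars k)
  one_smul f := ext' fun x => congrArg (toFun' f) (one_smul R x)
  mul_smul r s f := ext' fun x => congrArg (toFun' f) (show (r * s) • x = s • r • x by rw [smul_smul, mul_comm])
  smul_zero r := ext' fun _ => rfl
  smul_add r f g := ext' fun _ => rfl
  add_smul r s f := ext' fun x => (congrArg (toFun' f) (add_smul r s x)).trans (map_add (toFun' f) _ _)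
  zero_smul f := ext' fun x => (congrArg (toFun' f) (zero_smul R x)).trans (map_zero (toFun' f))

theorem toFun'_smul (r : R) (f : RDual k M) (x : M) : toFun' (r • f) x = toFun' f (r • x) := rfl

instance : IsScalarTower k R (RDual k M) :=
  IsScalarTower.of_algebraMap_smul fun c f => ext' fun x =>
    ((congrArg (toFun' f) (algebraMap_smul R c x)).trans (map_smul (toFun' f) c x)).trans (toFun'_smul_k c f x).symm

/-- The pieces of the dual. -/
def piece (n : ℤ) : AddSubgroup (RDual k M) where
  carrier := {f | ∀ m : ℤ, m ≠ -n → ∀ x ∈ ℳ m, toFun' f x = 0}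
  add_mem' := fun hf hg m hm x hx => (congrArg₂ (· + ·) (hf m hm x hx) (hg m hm x hx)).trans (add_zero 0)
  zero_mem' := fun _ _ _ _ => rfl
  neg_mem' := fun hf m hm x hx => (congrArg Neg.neg (hf m hm x hx)).trans neg_zero

end RDual

open RDual in
/-- Every graded module has a graded dual. -/
theorem exists_gdual : ∃ (D : Type u) (_ : AddCommGroup D) (_ : Module R D) (_ : Module k D) (_ : IsScalarTower k R D)
    (𝒟 : ℤ → AddSubgroup D) (_ : Decomposition 𝒟) (_ : SetLike.GradedSMul 𝒜 𝒟) (β : D →ₗ[k] M →ₗ[k] k),
    GrSeg.IsGDual R ℳ 𝒟 β := by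
  classical
  have hsm : ∀ ⦃i j : ℤ⦄ ⦃r : R⦄ ⦃f : RDual k M⦄, r ∈ 𝒜 i → f ∈ piece ℳ j → r • f ∈ piece ℳ (i + j) := by
    intro i j r f hr hf m hm x hx
    rw [toFun'_smul]
    refine hf (i + m) (by omega) _ ?_
    have := SetLike.GradedSMul.smul_mem (B := ℳ) hr hx
    rwa [vadd_eq_add] at this
  let D : Submodule R (RDual k M) :=
    { carrier := ((⨆ n, piece ℳ n : AddSubgroup (RDual k M)) : Set (RDual k M))
      add_mem' := fun ha hb => AddSubgroup.add_mem _ ha hb
      zero_mem' := AddSubgroup.zero_mem _
      smul_mem' := fun r f hf => by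
        rw [← sum_support_decompose 𝒜 r, Finset.sum_smul]
        refine AddSubgroup.sum_mem _ fun i _ => ?_
        refine AddSubgroup.iSup_induction (piece ℳ) (C := fun y => (decompose 𝒜 r i : R) • y ∈ ⨆ n, piece ℳ n) hf
          (fun j y hy => AddSubgroup.mem_iSup_of_mem (i + j) (hsm (SetLike.coe_mem _) hy))
          (by rw [smul_zero]; exact AddSubgroup.zero_mem _)
          (fun a b ha hb => by rw [smul_add]; exact AddSubgroup.add_mem _ ha hb) }
  let 𝒟 : ℤ → AddSubgroup D := fun n => (piece ℳ n).comap D.subtype.toAddMonoidHom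
  have hspan : ∀ x : D, x ∈ ⨆ n, 𝒟 n := by
    rintro ⟨f, hf⟩
    refine AddSubgroup.iSup_induction' (piece ℳ) (C := fun y hy => (⟨y, hy⟩ : D) ∈ ⨆ n, 𝒟 n) ?_ ?_ ?_ hf
    · exact fun n y hy => AddSubgroup.mem_iSup_of_mem n hy
    · exact AddSubgroup.zero_mem _
    · exact fun a b _ _ ha hb => AddSubgroup.add_mem _ ha hb
  have hind : GIndep 𝒟 := by
    intro s c hc hsum g hg
    refine Subtype.ext (ext' fun x => ?_)
    let ev : M → D →+ k := fun y => AddMonoidHom.mk' (fun d => toFun' (d : RDual k M) y) fun _ _ => rfl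
    show toFun' (c g : RDual k M) x = 0
    rw [← sum_support_decompose ℳ x, map_sum]
    refine Finset.sum_eq_zero fun m _ => ?_
    rcases eq_or_ne m (-g) with rfl | hne
    · have h := map_sum (ev (decompose ℳ x (-g) : M)) c s
      rw [hsum, map_zero, Finset.sum_eq_single g (fun i hi hne => ?_) (fun h => absurd hg h)] at h
      · exact h.symm
      · exact hc i hi (-g) (by omega) _ (SetLike.coe_mem _)
    · exact hc g hg m hne _ (SetLike.coe_mem _)
  letI := decompositionOf 𝒟 hspan hind
  haveI : SetLike.GradedSMul 𝒜 𝒟 := ⟨fun {_ _ _ _} hr hd => by rw [vadd_eq_add]; exact hsm hr hd⟩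
  let β : D →ₗ[k] M →ₗ[k] k :=
    { toFun := fun d => toFun' (d : RDual k M)
      map_add' := fun _ _ => rfl
      map_smul' := fun c d => LinearMap.ext fun x => toFun'_smul_k c (d : RDual k M) x }
  refine ⟨D, inferInstance, inferInstance, inferInstance, inferInstance, 𝒟, inferInstance, inferInstance, β,
    { map_smul := fun _ _ _ => rfl
      vanish := fun n d hd m hm x hx => hd m hm x hx
      eq_zero := fun n d hd h => Subtype.ext (ext' fun x => ?_)
      exists_eq := fun n g => ?_ }⟩
  · show toFun' (d : RDual k M) x = 0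
    rw [← sum_support_decompose ℳ x, map_sum]
    refine Finset.sum_eq_zero fun m _ => ?_
    rcases eq_or_ne m (-n) with rfl | hne
    · exact h _ (SetLike.coe_mem _)
    · exact hd m hne _ (SetLike.coe_mem _)
  · let f : RDual k M := RDual.mk
      { toFun := fun x => g (decompose ℳ x (-n) : M)
        map_add' := fun x y => by rw [decompose_add, DirectSum.add_apply, AddMemClass.coe_add, map_add]
        map_smul' := fun c x => by rw [decompose_smul_k 𝒜, map_smul]; rfl }
    have hf : f ∈ piece ℳ n := fun m hm x hx => by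
      show g (decompose ℳ x (-n) : M) = 0
      rw [decompose_of_mem_ne ℳ hx hm, map_zero]
    exact ⟨⟨f, AddSubgroup.mem_iSup_of_mem n hf⟩, hf,
      fun x hx => congrArg g (decompose_of_mem_same ℳ hx)⟩

end Groth.Agent.GrLib8
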