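import Groth.Agent.GrLib8.GDualLattice

/-!
# Homogeneous maps into the graded dual of the ring
-/

set_option autoImplicit false
set_option linter.unusedSectionVars false

universe u

open DirectSum

namespace Groth.Agent.GrLib8

variable {k : Type u} [Field k] {R : Type u} [CommRing R] [Algebra k R] (𝒜 : ℤ → Submodule k R) [GradedAlgebra 𝒜]
/-- The grading of the ring by additive subgroups. -/
noncomputable def addPieces (n : ℤ) : AddSubgroup R := AddSubgroup.ofClass (𝒜 n)

noncomputable instance : Decomposition (addPieces 𝒜) :=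
  decompositionOf (addPieces 𝒜) (mem_iSup_of_decomposition 𝒜) (gIndep_of_decomposition 𝒜)

instance : SetLike.GradedSMul 𝒜 (addPieces 𝒜) where
  smul_mem := fun _i _j _a _b ha hb => SetLike.mul_mem_graded (A := 𝒜) ha hb

variable {D : Type u} [AddCommGroup D] [Module R D] [Module k D] [IsScalarTower k R D]
  {𝒟 : ℤ → AddSubgroup D} [Decomposition 𝒟] [SetLike.GradedSMul 𝒜 𝒟] {β : D →ₗ[k] R →ₗ[k] k}
variable {M : Type u} [AddCommGroup M] [Module R M] [Module k M] [IsScalarTower k R M] {ℳ : ℤ → AddSubgroup M}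
  [Decomposition ℳ] [SetLike.GradedSMul 𝒜 ℳ]

theorem toAdd (hD : GrSeg.IsGDual R 𝒜 𝒟 β) : GrSeg.IsGDual R (addPieces 𝒜) 𝒟 β where
  map_smul := hD.map_smul
  vanish := fun n d hd m hm x hx => hD.vanish n d hd m hm x hx
  eq_zero := fun n d hd h => hD.eq_zero n d hd h
  exists_eq := fun n g => hD.exists_eq n g

theorem ext_pair (hD : GrSeg.IsGDual R 𝒜 𝒟 β) {d e : D} (h : ∀ r, β d r = β e r) : d = e :=
  sub_eq_zero.1 (eq_zero_of_pair (toAdd 𝒜 hD) fun r => by rw [map_sub, LinearMap.sub_apply, h, sub_self])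

/-- A functional on one piece gives a homogeneous map into the dual of the ring. -/
theorem exists_toD (hD : GrSeg.IsGDual R 𝒜 𝒟 β) (ξ : M →ₗ[k] k) (s : ℤ) :
    ∃ f : M →ₗ[R] D, (∀ (g : ℤ) (x : M), x ∈ ℳ g → f x ∈ 𝒟 (g + s)) ∧
      ∀ (x : M) (r : R), β (f x) r = ξ (decompose ℳ (r • x) (-s) : M) := by
  classical
  let η : M →ₗ[k] k :=
    { toFun := fun x => ξ (decompose ℳ x (-s) : M)
      map_add' := fun x y => by rw [decompose_add, DirectSum.add_apply, AddMemClass.coe_add, map_add]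
      map_smul' := fun c x => by rw [decompose_smul_k 𝒜, map_smul]; rfl }
  have hhom : ∀ g, ∀ x ∈ ℳ g, ∃ d ∈ 𝒟 (g + s), ∀ r, β d r = η (r • x) := by
    intro g x hx
    let φ : R →ₗ[k] k := η ∘ₗ (LinearMap.toSpanSingleton R M x).restrictScalars k
    obtain ⟨d, hd, hdφ⟩ := hD.exists_eq (g + s) φ
    refine ⟨d, hd, fun r => ?_⟩
    show β d r = φ r
    rw [← sum_support_decompose 𝒜 r, map_sum, map_sum]
    refine Finset.sum_congr rfl fun i _ => ?_
    rcases eq_or_ne i (-(g + s)) with rfl | hne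
    · exact hdφ _ (SetLike.coe_mem _)
    · rw [hD.vanish _ d hd i hne _ (SetLike.coe_mem _)]
      show 0 = ξ (decompose ℳ ((decompose 𝒜 r i : R) • x) (-s) : M)
      rw [decompose_of_mem_ne ℳ (SetLike.GradedSMul.smul_mem (B := ℳ) (SetLike.coe_mem (decompose 𝒜 r i)) hx)
        (by rw [vadd_eq_add]; omega), map_zero]
  have hall : ∀ x : M, ∃ d : D, ∀ r, β d r = η (r • x) := by
    intro x
    refine DirectSum.Decomposition.inductionOn ℳ ⟨0, fun r => by simp⟩ (fun {g} z => ?_) (fun a b ha hb => ?_) x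
    · obtain ⟨d, -, hd⟩ := hhom g z z.2
      exact ⟨d, hd⟩
    · obtain ⟨da, hda⟩ := ha
      obtain ⟨db, hdb⟩ := hb
      exact ⟨da + db, fun r => by rw [map_add, LinearMap.add_apply, hda, hdb, smul_add, map_add]⟩
  choose f hf using hall
  refine ⟨⟨⟨f, fun a b => ext_pair 𝒜 hD fun r => ?_⟩, fun c a => ext_pair 𝒜 hD fun r => ?_⟩, fun g x hx => ?_, hf⟩
  · rw [map_add, LinearMap.add_apply, hf, hf, hf, smul_add, map_add]
  · rw [hf, RingHom.id_apply, hD.map_smul, hf, smul_eq_mul, mul_comm c r, mul_smul]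
  · obtain ⟨d, hd, hdr⟩ := hhom g x hx
    show f x ∈ 𝒟 (g + s)
    rwa [show f x = d from ext_pair 𝒜 hD fun r => (hf x r).trans (hdr r).symm]

/-- The dual of the ring is *injective. -/
theorem isStarInj_dual (hD : GrSeg.IsGDual R 𝒜 𝒟 β) : GrLC.IsStarInj 𝒜 𝒟 := by
  classical
  intro A B j hj hinj g hg
  letI : Module k A.carrier := Module.compHom _ (algebraMap k R)
  haveI : IsScalarTower k R A.carrier := IsScalarTower.of_algebraMap_smul fun _ _ => rfl
  letI : Module k B.carrier := Module.compHom _ (algebraMap k R)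
  haveI : IsScalarTower k R B.carrier := IsScalarTower.of_algebraMap_smul fun _ _ => rfl
  let φ : A.carrier →ₗ[k] k := (β.flip 1) ∘ₗ g.restrictScalars k
  obtain ⟨q, hq⟩ := (j.restrictScalars k).exists_leftInverse_of_injective (LinearMap.ker_eq_bot.2 hinj)
  obtain ⟨h, hh, hhβ⟩ := exists_toD 𝒜 (ℳ := B.gr) hD (φ ∘ₗ q) 0
  refine ⟨h, fun i x hx => add_zero i ▸ hh i x hx, LinearMap.ext fun a => ext_pair 𝒜 hD fun r => ?_⟩
  rw [LinearMap.comp_apply, hhβ, ← map_smul, neg_zero,
    show (decompose B.gr (j (r • a)) 0 : B.carrier) = j (decompose A.gr (r • a) 0 : A.carrier) from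
      (map_decompose A.gr B.gr j.toAddMonoidHom hj (r • a) 0).symm]
  show β (g (q (j (decompose A.gr (r • a) 0 : A.carrier)))) 1 = β (g a) r
  rw [show q (j (decompose A.gr (r • a) 0 : A.carrier)) = (decompose A.gr (r • a) 0 : A.carrier) from
    LinearMap.congr_fun hq _]
  rw [show g (decompose A.gr (r • a) 0 : A.carrier) = (decompose 𝒟 (g (r • a)) 0 : D) from
    map_decompose A.gr 𝒟 g.toAddMonoidHom hg (r • a) 0]
  have h1 := pair_left (toAdd 𝒜 hD) (g (r • a)) (m := 0) (x := (1 : R)) (SetLike.one_mem_graded 𝒜)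
  rw [neg_zero] at h1
  rw [← h1, map_smul, hD.map_smul, smul_eq_mul, mul_one]

end Groth.Agent.GrLib8
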