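import Groth.Agent.GrLib8.GDual

/-!
# Graded duality exchanges finite and Artinian modules
-/

set_option autoImplicit false
set_option linter.unusedSectionVars false

universe u

open DirectSum

namespace Groth.Agent.GrLib8

variable {k : Type u} [Field k] {R : Type u} [CommRing R] [Algebra k R] (𝒜 : ℤ → Submodule k R) [GradedAlgebra 𝒜]
variable {M : Type u} [AddCommGroup M] [Module R M] [Module k M] [IsScalarTower k R M] {ℳ : ℤ → AddSubgroup M}
  [Decomposition ℳ] [SetLike.GradedSMul 𝒜 ℳ]
variable {D : Type u} [AddCommGroup D] [Module R D] [Module k D] [IsScalarTower k R D]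
  {𝒟 : ℤ → AddSubgroup D} [Decomposition 𝒟] [SetLike.GradedSMul 𝒜 𝒟] {β : D →ₗ[k] M →ₗ[k] k}
variable (hD : GrSeg.IsGDual R ℳ 𝒟 β)

include hD 𝒜

theorem eventually_zero_of_finite (hpos : ∀ n : ℤ, n < 0 → 𝒜 n = ⊥) [Module.Finite R M] :
    ∃ top : ℤ, ∀ n, top < n → ∀ d ∈ 𝒟 n, d = 0 := by
  classical
  have hpos' : ∀ n < 0, ∀ r ∈ 𝒜 n, r = 0 := fun m hm r hr => (Submodule.mem_bot k).1 ((hpos m hm).le hr)
  obtain ⟨b, hb⟩ := exists_aboveSub_eq_top 𝒜 ℳ hpos'
  refine ⟨-b, fun n hn d hd => hD.eq_zero n d hd fun x hx => ?_⟩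
  have h := (hb.ge (Submodule.mem_top : x ∈ _)) (-n) (by omega)
  rw [decompose_of_mem_same ℳ hx] at h
  rw [h, map_zero]

/-- The dual of a finite module is Artinian. -/
theorem isArtinian_of_finite (hpos : ∀ n : ℤ, n < 0 → 𝒜 n = ⊥) (h0 : 𝒜 0 = Submodule.span k {(1 : R)})
    [Algebra.FiniteType k R] [Module.Finite R M] : IsArtinian R D := by
  classical
  haveI : IsNoetherianRing R := Algebra.FiniteType.isNoetherianRing k R
  haveI : IsNoetherian R M := isNoetherian_of_isNoetherianRing_of_finite R M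
  obtain ⟨top, htop⟩ := eventually_zero_of_finite 𝒜 hD hpos
  let below : ℤ → Set D := fun n => {z | ∀ i < n, (decompose 𝒟 z i : D) = 0}
  have hcomp : ∀ (i : ℤ) (r : R) (z : D) (j : ℤ),
      (decompose 𝒟 ((decompose 𝒜 r i : R) • z) j : D) = (decompose 𝒜 r i : R) • (decompose 𝒟 z (j - i) : D) :=
    fun i r z j => decompose_smul_of_mem_left 𝒜 𝒟 (SetLike.coe_mem (decompose 𝒜 r i)) z j
  let Φ : Submodule R D → Submodule R M := fun N =>
    { carrier := {x | ∀ (n : ℤ) (z : D), z ∈ N → z ∈ below n → β (decompose 𝒟 z n : D) x = 0}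
      add_mem' := fun ha hb n z hz hzb => by rw [map_add, ha n z hz hzb, hb n z hz hzb, add_zero]
      zero_mem' := fun n z _ _ => map_zero _
      smul_mem' := fun r x hx n z hz hzb => by
        rw [← hD.map_smul, ← sum_support_decompose 𝒜 r, Finset.sum_smul, map_sum, LinearMap.sum_apply]
        refine Finset.sum_eq_zero fun i _ => ?_
        have h1 := hx (n + i) _ (N.smul_mem (decompose 𝒜 r i : R) hz) fun j hj => by
          rw [hcomp, hzb (j - i) (by omega), smul_zero]
        rwa [hcomp, add_sub_cancel_right] at h1 }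
  have hanti : StrictAnti Φ := by
    intro N' N hlt
    refine lt_of_le_not_ge (fun x hx n z hz hzb => hx n z (hlt.le hz) hzb) fun hge => hlt.not_ge ?_
    suffices key : ∀ (j : ℕ) (n : ℤ) (z : D), top + 1 - n ≤ j → z ∈ N → z ∈ below n → z ∈ N' by
      intro z hz
      obtain ⟨b, hb⟩ : ∃ b, z ∈ below b :=
        ⟨-(∑ i ∈ (decompose 𝒟 z).support, |i|), fun i hi => by
          by_contra hne
          have hmem : i ∈ (decompose 𝒟 z).support := DFinsupp.mem_support_iff.2 fun h => hne (by rw [h]; rfl)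
          have := Finset.single_le_sum (f := fun i : ℤ => |i|) (fun _ _ => abs_nonneg _) hmem
          have := neg_abs_le i
          omega⟩
      exact key (top + 1 - b).toNat b z (Int.self_le_toNat _) hz hb
    intro j
    induction j with
    | zero =>
      intro n z hn _ hzb
      have : z = 0 := by
        rw [← sum_support_decompose 𝒟 z]
        refine Finset.sum_eq_zero fun i _ => ?_
        rcases lt_or_ge i n with h | h
        · exact hzb i h
        · exact htop i (by omega) _ (SetLike.coe_mem _)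
      rw [this]; exact zero_mem _
    | succ j ih =>
      intro n z hn hz hzb
      let W : Submodule k D :=
        { carrier := {d | ∃ z' ∈ N', z' ∈ below n ∧ (decompose 𝒟 z' n : D) = d}
          add_mem' := by
            rintro _ _ ⟨a, ha, hab, rfl⟩ ⟨b, hb, hbb, rfl⟩
            exact ⟨a + b, add_mem ha hb, fun i hi => by
              rw [decompose_add, DirectSum.add_apply, AddMemClass.coe_add, hab i hi, hbb i hi, add_zero], by
              rw [decompose_add, DirectSum.add_apply, AddMemClass.coe_add]⟩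
          zero_mem' := ⟨0, zero_mem _, fun i _ => by simp, by simp⟩
          smul_mem' := by
            rintro c _ ⟨a, ha, hab, rfl⟩
            exact ⟨c • a, N'.smul_of_tower_mem c ha, fun i hi => by
              rw [decompose_smul_k 𝒜, hab i hi, smul_zero], decompose_smul_k 𝒜 𝒟 c a n⟩ }
      by_cases hW : (decompose 𝒟 z n : D) ∈ W
      · obtain ⟨z', hz', hzb', he⟩ := hW
        have h1 : z - z' ∈ N' := ih (n + 1) (z - z') (by omega) (sub_mem hz (hlt.le hz')) fun i hi => by
          rw [decompose_sub, DirectSum.sub_apply, AddSubgroupClass.coe_sub]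
          rcases lt_or_eq_of_le (Int.lt_add_one_iff.1 hi) with h | rfl
          · rw [hzb i h, hzb' i h, sub_zero]
          · rw [he, sub_self]
        simpa using add_mem h1 hz'
      · exfalso
        obtain ⟨g, hgz, hg⟩ := W.exists_le_ker_of_notMem hW
        haveI := finite_pieceK 𝒜 ℳ hpos h0 (-n)
        obtain ⟨x, hx, hxg⟩ := exists_of_functional 𝒜 hD n g
        have hx' : x ∈ Φ N' := fun m z' hz' hzb' => by
          rcases eq_or_ne m n with rfl | hne
          · rw [hxg _ (SetLike.coe_mem _)]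
            exact LinearMap.mem_ker.1 (hg ⟨z', hz', hzb', rfl⟩)
          · exact hD.vanish m _ (SetLike.coe_mem _) (-n) (fun h => hne (by omega)) x hx
        exact hgz ((hxg _ (SetLike.coe_mem _)).symm.trans (hge hx' n z hz hzb))
  exact hanti.wellFoundedLT

/-- The dual of an Artinian module is finite. -/
theorem finite_of_isArtinian (hpos : ∀ n : ℤ, n < 0 → 𝒜 n = ⊥) (h0 : 𝒜 0 = Submodule.span k {(1 : R)})
    [IsArtinian R M] : Module.Finite R D := by
  classical
  let S : Set (Submodule R D) := {H | ∃ T : Finset D, (∀ d ∈ T, ∃ n, d ∈ 𝒟 n) ∧ H = Submodule.span R (T : Set D)}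
  let Φ : Submodule R D → Submodule R M := fun H =>
    { carrier := {x | ∀ d ∈ H, β d x = 0}
      add_mem' := fun ha hb d hd => by rw [map_add, ha d hd, hb d hd, add_zero]
      zero_mem' := fun d _ => map_zero _
      smul_mem' := fun r x hx d hd => by rw [← hD.map_smul]; exact hx _ (H.smul_mem r hd) }
  obtain ⟨_, ⟨H, hH, rfl⟩, hmin⟩ := (wellFounded_lt (α := Submodule R M)).has_min (Φ '' S)
    ⟨Φ ⊥, ⊥, ⟨∅, by simp, by simp⟩, rfl⟩
  obtain ⟨T, hT, rfl⟩ := hH
  refine ⟨⟨T, eq_top_iff.2 fun z _ => ?_⟩⟩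
  rw [← sum_support_decompose 𝒟 z]
  refine Submodule.sum_mem _ fun n _ => ?_
  by_contra hne
  set d : D := (decompose 𝒟 z n : D) with hd
  have hdn : d ∈ 𝒟 n := SetLike.coe_mem _
  haveI := finite_pieceK_of_isArtinian 𝒜 ℳ hpos h0 (-n)
  obtain ⟨g, hgd, hg⟩ := ((Submodule.span R (T : Set D)).restrictScalars k).exists_le_ker_of_notMem hne
  obtain ⟨x, hx, hxg⟩ := exists_of_functional 𝒜 hD n g
  have hxH : x ∈ Φ (Submodule.span R (T : Set D)) := fun e he => by
    rw [pair_left hD e hx, neg_neg, hxg _ (SetLike.coe_mem _)]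
    exact LinearMap.mem_ker.1 (hg (decompose_mem_span_hom (T : Set D) hT he n))
  refine hmin (Φ (Submodule.span R (↑(insert d T) : Set D))) ⟨_, ⟨insert d T, ?_, rfl⟩, rfl⟩ (lt_of_le_not_ge ?_ ?_)
  · intro e he
    rcases Finset.mem_insert.1 he with rfl | he
    · exact ⟨n, hdn⟩
    · exact hT e he
  · exact fun y hy e he => hy e (Submodule.span_mono (by simp) he)
  · exact fun hle => hgd ((hxg d hdn).symm.trans (hle hxH d (Submodule.subset_span (by simp))))
where
  decompose_mem_span_hom (B : Set D) (hB : ∀ y ∈ B, ∃ g, y ∈ 𝒟 g) {z : D} (hz : z ∈ Submodule.span R B) (n : ℤ) :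
      (decompose 𝒟 z n : D) ∈ Submodule.span R B := by
    classical
    revert n
    induction hz using Submodule.span_induction with
    | mem y hy =>
      intro n
      obtain ⟨g, hg⟩ := hB y hy
      rcases eq_or_ne g n with rfl | hne
      · rw [decompose_of_mem_same 𝒟 hg]; exact Submodule.subset_span hy
      · rw [decompose_of_mem_ne 𝒟 hg hne]; exact zero_mem _
    | zero => intro n; simp
    | add a b _ _ ha hb =>
      intro n
      rw [decompose_add, DirectSum.add_apply, AddSubgroup.coe_add]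
      exact add_mem (ha n) (hb n)
    | smul r a _ ha =>
      intro n
      rw [← sum_support_decompose 𝒜 r, Finset.sum_smul, decompose_sum]
      rw [show (((∑ i ∈ (decompose 𝒜 r).support, decompose 𝒟 ((decompose 𝒜 r i : R) • a)) n : 𝒟 n) : D) =
          ∑ i ∈ (decompose 𝒜 r).support, (decompose 𝒟 ((decompose 𝒜 r i : R) • a) n : D) from
        map_sum ((AddSubgroup.subtype (𝒟 n)).comp (DFinsupp.evalAddMonoidHom (β := fun i => 𝒟 i) n)) _ _]
      refine Submodule.sum_mem _ fun i _ => ?_
      rw [decompose_smul_of_mem_left 𝒜 𝒟 (SetLike.coe_mem _)]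
      exact Submodule.smul_mem _ _ (ha _)

end Groth.Agent.GrLib8
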