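import Groth.Agent.GrLib8.Koszul

/-!
# Graded local cohomology only depends on the torsion functor
-/

set_option autoImplicit false
set_option linter.unusedSectionVars false

universe u

open DirectSum

namespace Groth.Agent.GrLib8

variable {ι : Type} [AddCommGroup ι] [DecidableEq ι]
variable {R : Type u} [CommRing R] {σ : Type u} [SetLike σ R] [AddSubgroupClass σ R] {𝒜 : ι → σ} [GradedRing 𝒜]
variable {M : Type u} [AddCommGroup M] [Module R M] {τ : Type u} [SetLike τ M] [AddSubgroupClass τ M] {ℳ : ι → τ}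
  [Decomposition ℳ] [SetLike.GradedSMul 𝒜 ℳ]

/-- Two ideals with the same powers up to inclusion have the same torsion. -/
theorem gam_eq_of_pow_le {a b : Ideal R} (hba : b ≤ a) {k : ℕ} (hk : a ^ k ≤ b) (X : Type u) [AddCommGroup X]
    [Module R X] : GrLC.gam a X = GrLC.gam b X := by
  refine le_antisymm ?_ ?_
  · rintro m ⟨n, hn⟩
    exact ⟨n, fun r hr => hn r (Ideal.pow_right_mono hba n hr)⟩
  · rintro m ⟨n, hn⟩
    exact ⟨k * n, fun r hr => hn r (Ideal.pow_right_mono hk n (pow_mul a k n ▸ hr))⟩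

theorem Hcomp_eq_bot_of_gam_eq (E : GrLC.StarInjRes 𝒜 ℳ) {a b : HomogeneousIdeal 𝒜}
    (h : ∀ n, GrLC.gam a.toIdeal (E.X n).carrier = GrLC.gam b.toIdeal (E.X n).carrier) {i : ℕ} {g : ι}
    (hb : E.Hcomp b i g = ⊥) : E.Hcomp a i g = ⊥ := by
  rw [Submodule.eq_bot_iff]
  rintro x ⟨z, hz, rfl⟩
  have hzb : (z : (E.X i).carrier) ∈ E.cocyc b i := ⟨h i ▸ z.2.1, z.2.2⟩
  have h0 : E.toH b i ⟨z, hzb⟩ = 0 := (Submodule.eq_bot_iff _).1 hb _ ⟨⟨z, hzb⟩, hz, rfl⟩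
  refine (Submodule.Quotient.mk_eq_zero _).2 ?_
  have h1 := (Submodule.Quotient.mk_eq_zero _).1 h0
  rcases i with _ | i
  · exact h1
  · obtain ⟨w, hw, hwz⟩ := h1
    exact ⟨w, (h i).ge hw, hwz⟩

theorem hVan_of_gam_eq {a b : HomogeneousIdeal 𝒜} (h : ∀ (X : GrLC.GMod.{u} 𝒜),
    GrLC.gam a.toIdeal X.carrier = GrLC.gam b.toIdeal X.carrier) {X : GrLC.GMod.{u} 𝒜} {n : ℕ} {g : ι}
    (hb : HVan b X n g) : HVan a X n g := fun E =>
  Hcomp_eq_bot_of_gam_eq E (fun j => h (E.X j)) (hb E)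

end Groth.Agent.GrLib8
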