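import Groth.Agent.GrLib8.StarDepth
import Groth.Agent.GrLib8.Core
import Groth.Agent.S13232
import Groth.Agent.S13234
import Groth.Agent.LC.DualCM
import Groth.Agent.LC.DepthLoc
import Groth.Agent.LC.ExtDim
import Groth.Agent.Alg6.LocLoc

/-!
# The Cohen-Macaulay property of a graded module, read at the maximal homogeneous ideal
-/

set_option autoImplicit false
set_option linter.unusedSectionVars false
set_option linter.style.haveILetI false
set_option maxHeartbeats 800000

universe u

open DirectSum

namespace Groth.Agent.GrLib8.GrCM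

variable {R : Type u} [CommRing R]

section Chains

variable [IsNoetherianRing R] {M : Type u} [AddCommGroup M] [Module R M] [Module.Finite R M]

theorem length_le_supportDim_localized (l : LTSeries (PrimeSpectrum R)) (hl : ∀ i, l i ∈ Module.support R M)
    (p : PrimeSpectrum R) (hp : l.last ≤ p) :
    (l.length : WithBot ℕ∞) ≤
      Module.supportDim (Localization.AtPrime p.asIdeal) (LocalizedModule p.asIdeal.primeCompl M) := by
  have hqp : l.head ≤ p := l.head_le_last.trans hp
  have h := LC.height_map_mk_le_supportDim_localized M l.head p hqp (hl 0)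
  rw [← LC.height_Ici_eq l.head p hqp] at h
  refine le_trans ?_ h
  let s : LTSeries (Set.Ici l.head) := LTSeries.mk l.length (fun j => ⟨l j, LTSeries.head_le l j⟩)
    fun j j' h => l.strictMono h
  exact WithBot.coe_le_coe.2 (Order.length_le_height (p := s) (hp : s.last.1 ≤ p))

theorem supportDim_localized_add_one_le (p q : PrimeSpectrum R) (hpq : p < q)
    [Nontrivial (LocalizedModule p.asIdeal.primeCompl M)] :
    Module.supportDim (Localization.AtPrime p.asIdeal) (LocalizedModule p.asIdeal.primeCompl M) + 1 ≤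
      Module.supportDim (Localization.AtPrime q.asIdeal) (LocalizedModule q.asIdeal.primeCompl M) := by
  let A := Localization.AtPrime p.asIdeal
  let Mp := LocalizedModule p.asIdeal.primeCompl M
  haveI : Module.Finite A Mp :=
    Module.Finite.of_isLocalizedModule p.asIdeal.primeCompl (LocalizedModule.mkLinearMap _ M)
  let c : Module.support A Mp → PrimeSpectrum R := fun y => PrimeSpectrum.comap (algebraMap R A) y.1
  have hc : StrictMono c := fun y y' h => lt_of_le_of_ne (Ideal.comap_mono h.le) fun he =>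
    h.ne (Subtype.ext (PrimeSpectrum.localization_comap_injective A p.asIdeal.primeCompl he))
  have hsupp : ∀ y, c y ∈ Module.support R M := by
    intro y
    refine (Set.ext_iff.1 Module.support_eq_zeroLocus _).2 fun a ha => ?_
    show algebraMap R A a ∈ y.1.asIdeal
    refine ((Set.ext_iff.1 Module.support_eq_zeroLocus _).1 y.2) (Module.mem_annihilator.2 fun z => ?_)
    induction z using LocalizedModule.induction_on with
    | h z s => rw [algebraMap_smul, LocalizedModule.smul'_mk, Module.mem_annihilator.1 ha z, LocalizedModule.zero_mk]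
  have hle : ∀ y, c y ≤ p := by
    intro y a ha
    by_contra hap
    exact y.1.isPrime.ne_top (Ideal.eq_top_of_isUnit_mem _ ha
      (IsLocalization.map_units A (⟨a, hap⟩ : p.asIdeal.primeCompl)))
  have hne : Nonempty (Module.support A Mp) := Module.nonempty_support_of_nontrivial.to_subtype
  have hq : q ∈ Module.support R M := Module.mem_support_mono hpq.le (Module.mem_support_iff.2 inferInstance)
  show Order.krullDim _ + 1 ≤ _
  rw [Order.krullDim_eq_iSup_length, ← WithBot.coe_one, ← WithBot.coe_add, ENat.iSup_add, WithBot.coe_iSup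
    (OrderTop.bddAbove _)]
  refine iSup_le fun l => ?_
  let t := (l.map c hc).snoc q ((hle _).trans_lt hpq)
  have h := length_le_supportDim_localized (M := M) t (fun i => by
    rcases RelSeries.mem_snoc.1 (⟨i, rfl⟩ : t i ∈ t) with h | h
    · obtain ⟨j, hj⟩ := h
      rw [← hj]
      exact hsupp (l j)
    · rw [h]; exact hq) q (le_of_eq (RelSeries.last_snoc _ _ _))
  refine le_trans (le_of_eq ?_) h
  rw [show t.length = l.length + 1 from rfl]
  push_cast
  rfl

theorem isCM_of_le (P m : Ideal R) [P.IsPrime] [m.IsPrime] (hPm : P ≤ m)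
    [Nontrivial (LocalizedModule P.primeCompl M)]
    (hcm : LocCoh.IsCohenMacaulayModule (Localization.AtPrime m) (LocalizedModule m.primeCompl M)) :
    LocCoh.IsCohenMacaulayModule (Localization.AtPrime P) (LocalizedModule P.primeCompl M) := by
  let A := Localization.AtPrime m
  let Mm := LocalizedModule m.primeCompl M
  haveI : Module.Finite A Mm :=
    Module.Finite.of_isLocalizedModule m.primeCompl (LocalizedModule.mkLinearMap _ M)
  have hdisj : Disjoint (m.primeCompl : Set R) (P : Set R) :=
    Set.disjoint_left.2 fun a ha hb => ha (hPm hb)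
  obtain ⟨Q, hQ, hQP⟩ : ∃ Q : Ideal A, Q.IsPrime ∧ Q.comap (algebraMap R A) = P :=
    ⟨_, IsLocalization.isPrime_of_isPrime_disjoint m.primeCompl A P inferInstance hdisj,
      IsLocalization.comap_map_of_isPrime_disjoint m.primeCompl A inferInstance hdisj⟩
  subst hQP
  have hd' := Alg6.supportDim_locLoc m.primeCompl M Q
  have hp' := Alg6.depth_locLoc m.primeCompl M Q
  refine hd'.symm.trans (Eq.trans ?_ (congrArg _ hp'))
  refine LC.isCM_localized Mm hcm (p := ⟨Q, hQ⟩) ?_
  rw [Module.mem_support_iff]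
  by_contra hns
  rw [not_nontrivial_iff_subsingleton] at hns
  have := hd'.symm.trans (Module.supportDim_eq_bot_of_subsingleton _ _)
  exact (Module.supportDim_ne_bot_iff_nontrivial _ _).2 inferInstance this

end Chains

variable (𝒜 : ℤ → AddSubgroup R) [GradedRing 𝒜] {M : Type u} [AddCommGroup M] [Module R M]
  (ℳ : ℤ → AddSubgroup M) [Decomposition ℳ] [SetLike.GradedSMul 𝒜 ℳ]

include ℳ in
theorem nontrivial_core (p : Ideal R) [p.IsPrime] [(Ideal.homogeneousCore 𝒜 p).toIdeal.IsPrime]
    (h : Nontrivial (LocalizedModule p.primeCompl M)) :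
    Nontrivial (LocalizedModule (Ideal.homogeneousCore 𝒜 p).toIdeal.primeCompl M) := by
  classical
  by_contra hns
  rw [not_nontrivial_iff_subsingleton, LocalizedModule.subsingleton_iff] at hns
  refine not_subsingleton_iff_nontrivial.2 h (LocalizedModule.subsingleton_iff.2 fun m => ?_)
  have hkill : ∀ g, ∀ x ∈ ℳ g, ∃ r ∉ p, r • x = 0 := by
    intro g x hx
    obtain ⟨r, hr, hrx⟩ := hns x
    obtain ⟨i, hi⟩ := exists_component_notMem 𝒜 (show r ∉ (Ideal.homogeneousCore 𝒜 p).toIdeal from hr)
    exact ⟨_, fun hip => hi (Ideal.mem_homogeneousCore_of_homogeneous_of_mem ⟨i, SetLike.coe_mem _⟩ hip),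
      component_smul_eq_zero 𝒜 ℳ hx hrx i⟩
  choose r hr hrx using hkill
  refine ⟨∏ g ∈ (decompose ℳ m).support, r g _ (SetLike.coe_mem (decompose ℳ m g)), ?_, ?_⟩
  · exact prod_mem (S := p.primeCompl) fun g _ => hr g _ _
  · conv_lhs => arg 2; rw [← sum_support_decompose ℳ m]
    rw [Finset.smul_sum]
    refine Finset.sum_eq_zero fun g hg => ?_
    rw [← Finset.prod_erase_mul _ _ hg, mul_smul, hrx, smul_zero]

variable (hpos : ∀ n : ℤ, n < 0 → 𝒜 n = ⊥) {m : HomogeneousIdeal 𝒜} (hm : GrLC.IsStarLocal 𝒜 m)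
variable [IsNoetherianRing R]

include hm ℳ in
theorem mem_support_starMax [Nontrivial M] [m.toIdeal.IsPrime] :
    (⟨m.toIdeal, inferInstance⟩ : PrimeSpectrum R) ∈ Module.support R M := by
  classical
  obtain ⟨x, hx⟩ := exists_ne (0 : M)
  obtain ⟨g, hg⟩ : ∃ g, (decompose ℳ x g : M) ≠ 0 := by
    by_contra h
    push Not at h
    exact hx (by rw [← sum_support_decompose ℳ x]; exact Finset.sum_eq_zero fun g _ => h g)
  let J : HomogeneousIdeal 𝒜 := ⟨LinearMap.ker (LinearMap.toSpanSingleton R M (decompose ℳ x g : M)),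
    fun i r hr => LinearMap.mem_ker.2 (component_smul_eq_zero 𝒜 ℳ (SetLike.coe_mem _) (LinearMap.mem_ker.1 hr) i)⟩
  have hJ : J ≠ ⊤ := fun h => hg (by
    have h1 : (1 : R) ∈ J.toIdeal := by rw [h]; trivial
    exact (one_smul R _).symm.trans (LinearMap.mem_ker.1 h1))
  exact Module.mem_support_iff'.2 ⟨_, fun r hr hrx => hr ((le_of_isStarLocal hm hJ) (LinearMap.mem_ker.2 hrx))⟩

include hpos hm in
theorem core_le_and_height (n : Ideal R) [n.IsMaximal] [(Ideal.homogeneousCore 𝒜 n).toIdeal.IsPrime] :
    (Ideal.homogeneousCore 𝒜 n).toIdeal ≤ m.toIdeal ∧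
      (n.map (Ideal.Quotient.mk (Ideal.homogeneousCore 𝒜 n).toIdeal)).height ≤ (1 : ℕ) := by
  set P : HomogeneousIdeal 𝒜 := Ideal.homogeneousCore 𝒜 n with hP
  have hle : P.toIdeal ≤ n := Ideal.toIdeal_homogeneousCore_le 𝒜 n
  refine ⟨le_of_isStarLocal hm (J := P) fun h => (inferInstance : P.toIdeal.IsPrime).ne_top (by rw [h]; exact HomogeneousIdeal.toIdeal_top), ?_⟩
  let mk := Ideal.Quotient.mk P.toIdeal
  haveI : (n.map mk).IsPrime :=
    Ideal.map_isPrime_of_surjective Ideal.Quotient.mk_surjective (by rw [Ideal.mk_ker]; exact hle)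
  have h := (isRegularLocalRing_quot (𝒜 := 𝒜) P.toIdeal n P.isHomogeneous
    (fun i r hr hrn => Ideal.mem_homogeneousCore_of_homogeneous_of_mem ⟨i, hr⟩ hrn) (n.map mk) (Ideal.comap_map_mk hle)).2
  rw [IsLocalization.AtPrime.ringKrullDim_eq_height (n.map mk) (Localization.AtPrime (n.map mk)),
    Module.finrank_self] at h
  exact WithBot.coe_le_coe.1 h

include hpos hm ℳ in
theorem supportDim_starMax [Module.Finite R M] [m.toIdeal.IsPrime] :
    Module.supportDim (Localization.AtPrime m.toIdeal) (LocalizedModule m.toIdeal.primeCompl M) =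
      Module.supportDim R M := by
  refine le_antisymm ?_ (iSup_le fun l => ?_)
  · by_cases hM : Nontrivial M
    · have h2 := LC.height_supp_add_coheight_le M (mem_support_starMax (M := M) 𝒜 ℳ hm)
      refine le_trans ?_ h2
      exact le_add_of_nonneg_right (WithBot.coe_le_coe.2 (zero_le : (0 : ℕ∞) ≤ _))
    · haveI := not_nontrivial_iff_subsingleton.1 hM
      haveI : Subsingleton (LocalizedModule m.toIdeal.primeCompl M) :=
        LocalizedModule.subsingleton_iff.2 fun x => ⟨1, one_mem m.toIdeal.primeCompl, Subsingleton.elim _ _⟩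
      exact (Module.supportDim_eq_bot_of_subsingleton (Localization.AtPrime m.toIdeal)
        (LocalizedModule m.toIdeal.primeCompl M)).le.trans bot_le
  obtain ⟨n, hn, hln⟩ := Ideal.exists_le_maximal _ l.last.1.isPrime.ne_top
  let n' : PrimeSpectrum R := ⟨n, hn.isPrime⟩
  have h1 := length_le_supportDim_localized (M := M) (l.map Subtype.val fun _ _ h => h) (fun i => (l i).2) n'
    (by rw [LTSeries.last_map]; exact hln)
  haveI hnn : Nontrivial (LocalizedModule n.primeCompl M) :=
    Module.mem_support_iff.1 (Module.mem_support_mono (q := n') hln l.last.2)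
  haveI := hn
  haveI hP : (Ideal.homogeneousCore 𝒜 n).toIdeal.IsPrime := hn.isPrime.homogeneousCore
  obtain ⟨hPm, hht⟩ := core_le_and_height 𝒜 hpos hm n
  obtain ⟨d, hd⟩ := ENat.ne_top_iff_exists.1 (ne_top_of_le_ne_top (ENat.natCast_ne_top 1) hht)
  haveI hmax := isMaximal_of_isStarLocal hpos hm
  refine h1.trans ?_
  rcases hPm.eq_or_lt with heq | hlt
  · have hnm : m.toIdeal = n := hmax.eq_of_le hn.ne_top (heq.ge.trans (Ideal.toIdeal_homogeneousCore_le 𝒜 n))
    subst hnm
    exact le_rfl
  · rw [show Module.supportDim (Localization.AtPrime n'.asIdeal) (LocalizedModule n'.asIdeal.primeCompl M) = _ from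
      S13232.result R 𝒜 M ℳ n d hd.symm hnn]
    haveI := nontrivial_core 𝒜 ℳ n hnn
    refine le_trans (add_le_add le_rfl ?_) (supportDim_localized_add_one_le (M := M)
      ⟨(Ideal.homogeneousCore 𝒜 n).toIdeal, hP⟩ ⟨m.toIdeal, inferInstance⟩ hlt)
    have hd1 : d ≤ 1 := by
      rw [← hd] at hht
      exact_mod_cast hht
    exact_mod_cast hd1

include hpos hm ℳ in
theorem isCM_iff [Module.Finite R M] (n : ℕ) (hn : Module.supportDim R M = n) :
    (∀ (q : Ideal R) [q.IsPrime], Subsingleton (LocalizedModule q.primeCompl M) ∨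
        LocCoh.IsCohenMacaulayModule (Localization.AtPrime q) (LocalizedModule q.primeCompl M)) ↔
      ∀ i < n, Subsingleton (LocCoh.H m.toIdeal i M) := by
  haveI hmax := isMaximal_of_isStarLocal hpos hm
  haveI : Nontrivial M := (Module.supportDim_ne_bot_iff_nontrivial R M).1 (by rw [hn]; exact WithBot.coe_ne_bot)
  haveI hmn : Nontrivial (LocalizedModule m.toIdeal.primeCompl M) :=
    Module.mem_support_iff.1 (mem_support_starMax 𝒜 ℳ hm)
  have hdim := (supportDim_starMax 𝒜 ℳ hpos hm).trans hn
  have hdep : LocCoh.idealDepth m.toIdeal M =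
      LocCoh.depth (Localization.AtPrime m.toIdeal) (LocalizedModule m.toIdeal.primeCompl M) := by
    rw [LC.idealDepth_eq_iInf_depth]
    refine le_antisymm (iInf₂_le (⟨m.toIdeal, hmax.isPrime⟩ : PrimeSpectrum R) le_rfl) (le_iInf₂ fun p hp => ?_)
    obtain ⟨p, hpp⟩ := p
    obtain rfl := hmax.eq_of_le hpp.ne_top hp
    exact le_rfl
  refine Iff.trans ?_ (LC.le_idealDepth_iff_H m.toIdeal M n)
  constructor
  · intro h
    have hcm := (h m.toIdeal).resolve_left (not_subsingleton_iff_nontrivial.2 hmn)
    unfold LocCoh.IsCohenMacaulayModule at hcm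
    rw [hdim] at hcm
    rw [hdep]
    exact (WithBot.coe_injective hcm).le
  · intro h q hq
    rcases subsingleton_or_nontrivial (LocalizedModule q.primeCompl M) with hs | hs
    · exact Or.inl hs
    refine Or.inr ?_
    let A := Localization.AtPrime m.toIdeal
    let Mm := LocalizedModule m.toIdeal.primeCompl M
    haveI : Module.Finite A Mm :=
      Module.Finite.of_isLocalizedModule m.toIdeal.primeCompl (LocalizedModule.mkLinearMap _ M)
    have hcm : LocCoh.IsCohenMacaulayModule A Mm := by
      refine le_antisymm ?_ (LC.depth_le_supportDim Mm)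
      rw [hdim]
      exact WithBot.coe_le_coe.2 (h.trans hdep.le)
    haveI hP : (Ideal.homogeneousCore 𝒜 q).toIdeal.IsPrime := hq.homogeneousCore
    haveI hPn := nontrivial_core 𝒜 ℳ q hs
    have hPm : (Ideal.homogeneousCore 𝒜 q).toIdeal ≤ m.toIdeal :=
      le_of_isStarLocal hm (J := Ideal.homogeneousCore 𝒜 q) fun h => hP.ne_top (by rw [h]; exact HomogeneousIdeal.toIdeal_top)
    obtain ⟨d, hd⟩ := ENat.ne_top_iff_exists.1 (Ideal.height_ne_top
      (I := q.map (Ideal.Quotient.mk (Ideal.homogeneousCore 𝒜 q).toIdeal)) (by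
      haveI : (q.map (Ideal.Quotient.mk (Ideal.homogeneousCore 𝒜 q).toIdeal)).IsPrime :=
        Ideal.map_isPrime_of_surjective Ideal.Quotient.mk_surjective
          (by rw [Ideal.mk_ker]; exact Ideal.toIdeal_homogeneousCore_le 𝒜 q)
      exact Ideal.IsPrime.ne_top inferInstance))
    have hdq := S13232.result R 𝒜 M ℳ q d hd.symm hs
    have hpq := S13234.result R 𝒜 M ℳ q d hd.symm
    unfold LocCoh.IsCohenMacaulayModule
    rw [hdq, hpq, WithBot.coe_add]
    congr 1
    exact isCM_of_le (Ideal.homogeneousCore 𝒜 q).toIdeal m.toIdeal hPm hcm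

end Groth.Agent.GrLib8.GrCM
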