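import Groth.Agent.GrLib8.GrCM
import Groth.Agent.GrLib8.Avoid
import Mathlib.RingTheory.Ideal.AssociatedPrime.Localization

/-!
# Associated primes of graded Cohen-Macaulay modules
-/

set_option autoImplicit false
set_option linter.unusedSectionVars false
set_option linter.style.haveILetI false

universe u

open DirectSum

namespace Groth.Agent.GrLib8.GrCM

variable {R : Type u} [CommRing R] [IsNoetherianRing R] (𝒜 : ℤ → AddSubgroup R) [GradedRing 𝒜] {M : Type u}
  [AddCommGroup M] [Module R M] (ℳ : ℤ → AddSubgroup M) [Decomposition ℳ] [SetLike.GradedSMul 𝒜 ℳ]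
  [Module.Finite R M]

include ℳ in
theorem ass_eq_core {p : Ideal R} (hp : p ∈ associatedPrimes R M) :
    (Ideal.homogeneousCore 𝒜 p).toIdeal = p := by
  haveI := (exists_ass_witness hp).1
  haveI hP : (Ideal.homogeneousCore 𝒜 p).toIdeal.IsPrime := Ideal.IsPrime.homogeneousCore inferInstance
  let A := Localization.AtPrime p
  let Mp := LocalizedModule p.primeCompl M
  haveI : Module.Finite A Mp :=
    Module.Finite.of_isLocalizedModule p.primeCompl (LocalizedModule.mkLinearMap _ M)
  have hass : (⟨IsLocalRing.maximalIdeal A, inferInstance⟩ : PrimeSpectrum A).asIdeal ∈ associatedPrimes A Mp :=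
    Module.associatedPrimes.mem_associatedPrimes_atPrime_of_mem_associatedPrimes hp
  have h0 : LocCoh.depth A Mp = 0 := by
    refine le_antisymm ((LC.depth_le_coheight_of_ass Mp hass).trans (le_of_eq ?_)) zero_le
    rw [Order.coheight_eq_zero]
    intro q hq
    exact (IsLocalRing.le_maximalIdeal q.isPrime.ne_top)
  let mk := Ideal.Quotient.mk (Ideal.homogeneousCore 𝒜 p).toIdeal
  have hle := Ideal.toIdeal_homogeneousCore_le 𝒜 p
  haveI hpp : (p.map mk).IsPrime :=
    Ideal.map_isPrime_of_surjective Ideal.Quotient.mk_surjective (by rw [Ideal.mk_ker]; exact hle)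
  obtain ⟨d, hd⟩ := ENat.ne_top_iff_exists.1 (Ideal.height_ne_top (I := p.map mk) hpp.ne_top)
  have h := S13234.result R 𝒜 M ℳ p d hd.symm
  rw [show LocCoh.depth (Localization.AtPrime p) (LocalizedModule p.primeCompl M) = 0 from h0] at h
  have hd0 : (p.map mk).height = 0 := by
    rw [← hd]
    exact (add_eq_zero.1 h.symm).2
  rw [Ideal.height_eq_zero_iff_eq_bot] at hd0
  refine le_antisymm hle fun a ha => Ideal.Quotient.eq_zero_iff_mem.1 ?_
  exact (Submodule.mem_bot _).1 (hd0.le (Ideal.mem_map_of_mem mk ha))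

variable (hpos : ∀ n : ℤ, n < 0 → 𝒜 n = ⊥) {m : HomogeneousIdeal 𝒜} (hm : GrLC.IsStarLocal 𝒜 m)

include hpos hm ℳ in
/-- In a Cohen-Macaulay module every cyclic submodule has full dimension. -/
theorem le_ringKrullDim_quot (n : ℕ) (hn : Module.supportDim R M = n)
    (hcm : ∀ (q : Ideal R) [q.IsPrime], Subsingleton (LocalizedModule q.primeCompl M) ∨
      LocCoh.IsCohenMacaulayModule (Localization.AtPrime q) (LocalizedModule q.primeCompl M))
    {x : M} (hx : x ≠ 0) : (n : WithBot ℕ∞) ≤ ringKrullDim (R ⧸ LinearMap.ker (LinearMap.toSpanSingleton R M x)) := by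
  let J : Ideal R := LinearMap.ker (LinearMap.toSpanSingleton R M x)
  haveI : Nontrivial (Submodule.span R {x}) := Submodule.nontrivial_iff_ne_bot.2 (by simpa using hx)
  obtain ⟨p, hp⟩ := associatedPrimes.nonempty R (Submodule.span R {x})
  obtain ⟨hpp, z, hz⟩ := exists_ass_witness hp
  haveI := hpp
  have hJp : J ≤ p := fun a ha => (hz a).2 (Subtype.ext (by
    obtain ⟨c, hc⟩ := Submodule.mem_span_singleton.1 z.2
    show a • (z : M) = 0
    rw [← hc, smul_comm]
    exact (congrArg (c • ·) (LinearMap.mem_ker.1 ha)).trans (smul_zero c)))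
  have hpM : p ∈ associatedPrimes R M :=
    associatedPrimes.subset_of_injective (Submodule.span R {x}).subtype_injective hp
  haveI hmax := isMaximal_of_isStarLocal hpos hm
  haveI : (Ideal.homogeneousCore 𝒜 p).toIdeal.IsPrime := Ideal.IsPrime.homogeneousCore hpp
  have hpm : p ≤ m.toIdeal := by
    rw [← ass_eq_core 𝒜 ℳ hpM]
    exact le_of_isStarLocal hm (J := Ideal.homogeneousCore 𝒜 p) fun h =>
      (inferInstance : (Ideal.homogeneousCore 𝒜 p).toIdeal.IsPrime).ne_top (by rw [h]; exact HomogeneousIdeal.toIdeal_top)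
  let A := Localization.AtPrime m.toIdeal
  let Mm := LocalizedModule m.toIdeal.primeCompl M
  haveI : Module.Finite A Mm :=
    Module.Finite.of_isLocalizedModule m.toIdeal.primeCompl (LocalizedModule.mkLinearMap _ M)
  have hdisj : Disjoint (m.toIdeal.primeCompl : Set R) (p : Set R) :=
    Set.disjoint_left.2 fun a ha hb => ha (hpm hb)
  let Q : Ideal A := p.map (algebraMap R A)
  haveI hQ : Q.IsPrime := IsLocalization.isPrime_of_isPrime_disjoint m.toIdeal.primeCompl A p hpp hdisj
  have hQp : Q.comap (algebraMap R A) = p :=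
    IsLocalization.comap_map_of_isPrime_disjoint m.toIdeal.primeCompl A hpp hdisj
  have hQass : Q ∈ associatedPrimes A Mm :=
    Module.associatedPrimes.mem_associatedPrimes_of_comap_mem_associatedPrimes_of_isLocalizedModule
      m.toIdeal.primeCompl (LocalizedModule.mkLinearMap m.toIdeal.primeCompl M) Q (hQp.symm ▸ hpM)
  have hdep : (n : ℕ∞) ≤ LocCoh.depth A Mm := by
    haveI : Nontrivial M := ⟨⟨x, 0, hx⟩⟩
    have hmn : Nontrivial Mm := Module.mem_support_iff.1 (mem_support_starMax 𝒜 ℳ hm)
    have hcm' := (hcm m.toIdeal).resolve_left (not_subsingleton_iff_nontrivial.2 hmn)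
    unfold LocCoh.IsCohenMacaulayModule at hcm'
    rw [(supportDim_starMax 𝒜 ℳ hpos hm).trans hn] at hcm'
    exact (WithBot.coe_injective hcm').le
  refine le_trans (WithBot.coe_le_coe.2 (hdep.trans (LC.depth_le_coheight_of_ass Mm (p := ⟨Q, hQ⟩) hQass))) ?_
  rw [Order.coheight_eq_krullDim_Ici, ringKrullDim_quotient]
  let c : Set.Ici (⟨Q, hQ⟩ : PrimeSpectrum A) → PrimeSpectrum.zeroLocus (J : Set R) := fun q =>
    ⟨PrimeSpectrum.comap (algebraMap R A) q.1, fun a ha => Ideal.comap_mono q.2 (hQp.ge (hJp ha))⟩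
  exact Order.krullDim_le_of_strictMono c fun q q' h => lt_of_le_of_ne (Ideal.comap_mono h.le) fun he =>
    h.ne (Subtype.ext (PrimeSpectrum.localization_comap_injective A m.toIdeal.primeCompl (congrArg Subtype.val he)))

end Groth.Agent.GrLib8.GrCM
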