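import Groth.Agent.GrLib8.Segre

/-!
# The Segre ring as a Segre module over itself
-/

set_option autoImplicit false
set_option linter.unusedSectionVars false

universe u

open DirectSum
open scoped TensorProduct

namespace Groth.Agent.GrLib8.Seg

variable {k : Type u} [Field k] {R S T : Type u} [CommRing R] [CommRing S] [CommRing T] [Algebra k R] [Algebra k S]
  [Algebra k T] (𝒜 : ℤ → Submodule k R) [GradedAlgebra 𝒜] (ℬ : ℤ → Submodule k S) [GradedAlgebra ℬ]
  (𝒯 : ℤ → Submodule k T) [GradedAlgebra 𝒯] (ψ : T →ₐ[k] R ⊗[k] S)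

theorem act_eq_mul (z w : R ⊗[k] S) : GrSeg.act k R S R S z w = z * w := by
  induction z using TensorProduct.induction_on with
  | zero => simp
  | add a b ha hb => rw [map_add, LinearMap.add_apply, ha, hb, add_mul]
  | tmul r s =>
    induction w using TensorProduct.induction_on with
    | zero => simp
    | add a b ha hb => rw [map_add, ha, hb, mul_add]
    | tmul m n => rw [GrSeg.act_tmul, Algebra.TensorProduct.tmul_mul_tmul, smul_eq_mul, smul_eq_mul]

theorem isSegreMod_self (hT : GrSeg.IsSegreRing 𝒜 ℬ 𝒯 ψ) :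
    GrSeg.IsSegreMod ψ (addPieces 𝒜) (addPieces ℬ) (addPieces 𝒯) ψ.toLinearMap where
  injective := hT.1
  image_piece n := congrArg SetLike.coe (hT.2 n)
  map_smul t p := by
    rw [act_eq_mul, AlgHom.toLinearMap_apply, AlgHom.toLinearMap_apply, smul_eq_mul, map_mul]

theorem isNoetherianRing_segre [Algebra.FiniteType k R] [Algebra.FiniteType k S]
    (hT : GrSeg.IsSegreRing 𝒜 ℬ 𝒯 ψ) : IsNoetherianRing T :=
  isNoetherian_segre 𝒜 ℬ (addPieces 𝒜) (addPieces ℬ) 𝒯 (addPieces 𝒯) hT.2 (isSegreMod_self 𝒜 ℬ 𝒯 ψ hT)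

end Groth.Agent.GrLib8.Seg
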