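import Groth.Agent.GrLib8.SegKunneth
import Groth.Agent.GrLib8.SegreRing

/-!
# From presented Segre products to the bundled ones
-/

set_option autoImplicit false
set_option linter.unusedSectionVars false
set_option linter.style.haveILetI false

universe u

open DirectSum
open scoped TensorProduct

namespace Groth.Agent.GrLib8.Seg

variable {k : Type u} [Field k]

section Ring

variable {R₀ : Type u} [CommRing R₀] [Algebra k R₀] (𝒞 : ℤ → Submodule k R₀) [GradedAlgebra 𝒞]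

theorem nonneg_of_eq_bot (hpos : ∀ n : ℤ, n < 0 → 𝒞 n = ⊥) : ∀ n < 0, ∀ r ∈ 𝒞 n, r = 0 := fun n hn r hr => by
  rwa [hpos n hn, Submodule.mem_bot] at hr

theorem eq_irrel (m : HomogeneousIdeal 𝒞) (hm : m.toIdeal = Ideal.span (⋃ n ∈ Set.Ioi (0 : ℤ), (𝒞 n : Set R₀))) :
    m = GrSyz.irrel 𝒞 := by
  refine HomogeneousIdeal.ext (hm.trans ?_)
  show _ = Ideal.span _
  congr 1
  ext r
  simp [and_comm]

variable {M : Type u} [AddCommGroup M] [Module R₀ M] [Module k M] [IsScalarTower k R₀ M] (ℳ : ℤ → AddSubgroup M)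
  [Decomposition ℳ] [SetLike.GradedSMul 𝒞 ℳ]

theorem finrank_pieceK [Nontrivial R₀] (h0 : 𝒞 0 = Submodule.span k {(1 : R₀)}) (d : ℤ) :
    Module.finrank k (pieceK 𝒞 ℳ d) = Module.finrank (GrLC.deg0 𝒞) (GrLC.comp 𝒞 ℳ d) :=
  finrank_transfer h0 (W := GrLC.comp 𝒞 ℳ d)
    { toFun := fun x => ⟨x.1, x.2⟩, invFun := fun x => ⟨x.1, x.2⟩, left_inv := fun _ => rfl, right_inv := fun _ => rfl,
      map_add' := fun _ _ => rfl }
    fun c v => Subtype.ext (algebraMap_smul R₀ c (v : M)).symm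

theorem finite_pieceK [IsNoetherianRing R₀] [Nontrivial R₀] [Module.Finite R₀ M]
    (hpos : ∀ n < 0, ∀ r ∈ 𝒞 n, r = 0) (h0 : 𝒞 0 = Submodule.span k {(1 : R₀)}) (d : ℤ) :
    Module.Finite k (pieceK 𝒞 ℳ d) :=
  finite_transfer h0 (W := GrLC.comp 𝒞 ℳ d)
    { toFun := fun x => ⟨x.1, x.2⟩, invFun := fun x => ⟨x.1, x.2⟩, left_inv := fun _ => rfl, right_inv := fun _ => rfl,
      map_add' := fun _ _ => rfl }
    (fun c v => Subtype.ext (algebraMap_smul R₀ c (v : M)).symm) (finite_comp 𝒞 hpos ℳ d)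

/-- The change of vector space structure. -/
noncomputable def toCarrier : M ≃ₗ[k] (GrLC.GMod.of 𝒞 M ℳ).carrier where
  toFun x := x
  invFun x := x
  left_inv _ := rfl
  right_inv _ := rfl
  map_add' _ _ := rfl
  map_smul' c x := (algebraMap_smul R₀ c x).symm

theorem finrank_of_piece (d : ℤ) :
    Module.finrank k (pieceK 𝒞 (GrLC.GMod.of 𝒞 M ℳ).gr d) = Module.finrank k (pieceK 𝒞 ℳ d) :=
  LinearEquiv.finrank_eq (R := k)
    { toFun := fun x : pieceK 𝒞 (GrLC.GMod.of 𝒞 M ℳ).gr d => (⟨x.1, x.2⟩ : pieceK 𝒞 ℳ d)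
      invFun := fun x => ⟨x.1, x.2⟩
      left_inv := fun _ => rfl, right_inv := fun _ => rfl, map_add' := fun _ _ => rfl
      map_smul' := fun c x => Subtype.ext (algebraMap_smul (M := M) R₀ c x.1) }

end Ring

section SegreRing

variable {R S T : Type u} [CommRing R] [CommRing S] [CommRing T] [Algebra k R] [Algebra k S]
  [Algebra k T] {𝒜 : ℤ → Submodule k R} [GradedAlgebra 𝒜] {ℬ : ℤ → Submodule k S} [GradedAlgebra ℬ]
  {𝒯 : ℤ → Submodule k T} [GradedAlgebra 𝒯] {ψ : T →ₐ[k] R ⊗[k] S}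

theorem segre_nonneg (hT : GrSeg.IsSegreRing 𝒜 ℬ 𝒯 ψ) (hpR : ∀ n < 0, ∀ r ∈ 𝒜 n, r = 0) :
    ∀ n < 0, ∀ t ∈ 𝒯 n, t = 0 := by
  intro n hn t ht
  have h : ψ t ∈ GrSeg.segrePiece k 𝒜 ℬ n := (hT.2 n).le ⟨t, ht, rfl⟩
  have h2 : GrSeg.segrePiece k 𝒜 ℬ n = ⊥ := by
    refine (Submodule.span_eq_bot).2 ?_
    rintro _ ⟨a, ha, b, -, rfl⟩
    rw [hpR n hn a ha, TensorProduct.zero_tmul]
  rw [h2, Submodule.mem_bot] at h
  exact hT.1 (h.trans (map_zero ψ).symm)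

theorem segre_deg_zero (hT : GrSeg.IsSegreRing 𝒜 ℬ 𝒯 ψ) (h0R : 𝒜 0 = Submodule.span k {(1 : R)})
    (h0S : ℬ 0 = Submodule.span k {(1 : S)}) : 𝒯 0 = Submodule.span k {(1 : T)} := by
  refine le_antisymm (fun t ht => ?_)
    (Submodule.span_le.2 (Set.singleton_subset_iff.2 (SetLike.one_mem_graded 𝒯)))
  have h : ψ t ∈ GrSeg.segrePiece k 𝒜 ℬ 0 := (hT.2 0).le ⟨t, ht, rfl⟩
  have h2 : GrSeg.segrePiece k 𝒜 ℬ 0 ≤ Submodule.span k {(1 : R ⊗[k] S)} := by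
    refine Submodule.span_le.2 ?_
    rintro _ ⟨a, ha, b, hb, rfl⟩
    rw [h0R] at ha
    rw [h0S] at hb
    obtain ⟨c, rfl⟩ := Submodule.mem_span_singleton.1 ha
    obtain ⟨e, rfl⟩ := Submodule.mem_span_singleton.1 hb
    refine Submodule.mem_span_singleton.2 ⟨c * e, ?_⟩
    rw [TensorProduct.smul_tmul_smul, Algebra.TensorProduct.one_def]
  obtain ⟨c, hc⟩ := Submodule.mem_span_singleton.1 (h2 h)
  exact Submodule.mem_span_singleton.2 ⟨c, hT.1 (by rw [map_smul, map_one, hc])⟩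

theorem segre_nontrivial (hT : GrSeg.IsSegreRing 𝒜 ℬ 𝒯 ψ) [Nontrivial R] [Nontrivial S] : Nontrivial T := by
  refine ⟨⟨1, 0, fun h => ?_⟩⟩
  have h1 : ((1 : R) ⊗ₜ[k] (1 : S)) = 0 := by
    have := congrArg ψ h
    rwa [map_one, map_zero, Algebra.TensorProduct.one_def] at this
  have h2 : TensorProduct.map (Algebra.linearMap k R) (Algebra.linearMap k S) ((1 : k) ⊗ₜ[k] (1 : k)) = 0 := by
    rw [TensorProduct.map_tmul, Algebra.linearMap_apply, Algebra.linearMap_apply, map_one, map_one, h1]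
  have h3 := (injective_iff_map_eq_zero _).1 (TensorProduct.map_injective_of_flat_flat _ _
    (FaithfulSMul.algebraMap_injective k R) (FaithfulSMul.algebraMap_injective k S)) _ h2
  have h4 := congrArg (TensorProduct.lid k k) h3
  simp at h4

section Modules

variable {M N P : Type u} [AddCommGroup M] [Module R M] [Module k M] [IsScalarTower k R M]
  [AddCommGroup N] [Module S N] [Module k N] [IsScalarTower k S N]
  [AddCommGroup P] [Module T P] [Module k P] [IsScalarTower k T P]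
  (ℳ : ℤ → AddSubgroup M) [Decomposition ℳ] [SetLike.GradedSMul 𝒜 ℳ]
  (𝒩 : ℤ → AddSubgroup N) [Decomposition 𝒩] [SetLike.GradedSMul ℬ 𝒩]
  (𝒬 : ℤ → AddSubgroup P) [Decomposition 𝒬] [SetLike.GradedSMul 𝒯 𝒬]

local notation "XM" => GrLC.GMod.of 𝒜 M ℳ
local notation "YN" => GrLC.GMod.of ℬ N 𝒩

/-- Changing the vector space structures on a tensor product. -/
noncomputable def toTensor : M ⊗[k] N ≃ₗ[k] (XM).carrier ⊗[k] (YN).carrier :=
  TensorProduct.congr (toCarrier 𝒜 ℳ) (toCarrier ℬ 𝒩)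

theorem toTensor_act (v : R ⊗[k] S) (z : M ⊗[k] N) :
    toTensor ℳ 𝒩 (GrSeg.act k R S M N v z) = GrSeg.act k R S (XM).carrier (YN).carrier v (toTensor ℳ 𝒩 z) := by
  induction v using TensorProduct.induction_on with
  | zero => simp
  | add a b ha hb => simp only [map_add, LinearMap.add_apply, ha, hb]
  | tmul a b =>
    induction z using TensorProduct.induction_on with
    | zero => simp
    | add x y hx hy => simp only [map_add, hx, hy]
    | tmul x y =>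
      rw [GrSeg.act_tmul]
      unfold toTensor
      rw [TensorProduct.congr_tmul, TensorProduct.congr_tmul, GrSeg.act_tmul]
      rfl

theorem toTensor_segrePiece (n : ℤ) :
    (GrSeg.segrePiece k ℳ 𝒩 n).map (toTensor ℳ 𝒩).toLinearMap =
      GrSeg.segrePiece k (XM).gr (YN).gr n := by
  rw [GrSeg.segrePiece, Submodule.map_span]
  refine congrArg (Submodule.span k) (Set.ext fun w => ⟨?_, ?_⟩)
  · rintro ⟨_, ⟨x, hx, y, hy, rfl⟩, rfl⟩
    exact ⟨toCarrier 𝒜 ℳ x, hx, toCarrier ℬ 𝒩 y, hy, rfl⟩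
  · rintro ⟨x, hx, y, hy, rfl⟩
    exact ⟨_, ⟨(toCarrier 𝒜 ℳ).symm x, hx, (toCarrier ℬ 𝒩).symm y, hy, rfl⟩, rfl⟩

theorem exists_to_sq (hT : ∀ n : ℤ, (𝒯 n).map ψ.toLinearMap = GrSeg.segrePiece k 𝒜 ℬ n)
    (φ : P →ₗ[k] M ⊗[k] N) (hP : GrSeg.IsSegreMod ψ ℳ 𝒩 𝒬 φ) :
    ∃ e : (GrLC.GMod.of 𝒯 P 𝒬).carrier →ₗ[T] (sq (XM) (YN) hT).carrier,
      GrLC.IsGrHom (GrLC.GMod.of 𝒯 P 𝒬).gr (sq (XM) (YN) hT).gr e ∧ Function.Bijective e ∧
        ∀ p, sqVal (XM) (YN) hT (e p) = toTensor ℳ 𝒩 (φ p) := by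
  classical
  have hpiece : ∀ n, ∀ p ∈ 𝒬 n, toTensor ℳ 𝒩 (φ p) ∈ GrSeg.segrePiece k (XM).gr (YN).gr n := fun n p hp =>
    (toTensor_segrePiece ℳ 𝒩 n).le ⟨φ p, (hP.image_piece n).le ⟨p, hp, rfl⟩, rfl⟩
  have hmem : ∀ p : P, toTensor ℳ 𝒩 (φ p) ∈ diagPart (XM) (YN) := by
    intro p
    induction p using Decomposition.inductionOn 𝒬 with
    | zero => rw [map_zero, map_zero]; exact zero_mem _
    | homogeneous p => exact Submodule.mem_iSup_of_mem _ (hpiece _ _ p.2)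
    | add a b ha hb => rw [map_add, map_add]; exact add_mem ha hb
  choose e he using fun p => exists_sqVal (XM) (YN) hT (hmem p)
  refine ⟨{ toFun := e, map_add' := fun a b => ?_, map_smul' := fun t p => ?_ }, fun n p hp => ?_, ⟨fun a b hab => ?_,
    fun z => ?_⟩, he⟩
  · apply sqVal_injective (XM) (YN) hT
    rw [he]
    show toTensor ℳ 𝒩 (φ (a + b : P)) = sqVal (XM) (YN) hT (e a) + sqVal (XM) (YN) hT (e b)
    rw [he, he]
    exact (congrArg (toTensor ℳ 𝒩) (φ.map_add a b)).trans (LinearEquiv.map_add _ _ _)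
  · apply sqVal_injective (XM) (YN) hT
    refine Eq.trans ?_ (sqVal_smul (XM) (YN) hT t (e p)).symm
    rw [he, he, ← toTensor_act]
    exact congrArg (toTensor ℳ 𝒩) (hP.map_smul t p)
  · show sqVal (XM) (YN) hT (e p) ∈ GrSeg.segrePiece k (XM).gr (YN).gr n
    rw [he]
    exact hpiece n p hp
  · exact hP.injective ((toTensor ℳ 𝒩).injective (by rw [← he a, ← he b]; exact congrArg _ hab))
  · suffices h : ∀ w ∈ diagPart (XM) (YN), ∃ p : P, toTensor ℳ 𝒩 (φ p) = w by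
      obtain ⟨p, hp⟩ := h _ (sqVal_mem (XM) (YN) hT z)
      exact ⟨p, sqVal_injective (XM) (YN) hT ((he p).trans hp)⟩
    intro w hw
    refine Submodule.iSup_induction _ (motive := fun w => ∃ p : P, toTensor ℳ 𝒩 (φ p) = w) hw
      (fun n w hw => ?_) ⟨0, by rw [map_zero, map_zero]⟩ (fun a b ⟨p, hp⟩ ⟨p', hp'⟩ => ⟨p + p', by rw [map_add, map_add, hp, hp']⟩)
    obtain ⟨v, hv, rfl⟩ := (toTensor_segrePiece ℳ 𝒩 n).ge hw
    obtain ⟨p, -, rfl⟩ := (hP.image_piece n).ge hv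
    exact ⟨p, rfl⟩

/-- The Künneth formula for a presented Segre product. -/
theorem finrank_segre [Nontrivial R] [Nontrivial S] [Algebra.FiniteType k R] [Algebra.FiniteType k S]
    (hpR : ∀ n < 0, ∀ r ∈ 𝒜 n, r = 0) (h0R : 𝒜 0 = Submodule.span k {(1 : R)})
    (hpS : ∀ n < 0, ∀ r ∈ ℬ n, r = 0) (h0S : ℬ 0 = Submodule.span k {(1 : S)})
    (hT : GrSeg.IsSegreRing 𝒜 ℬ 𝒯 ψ) [Module.Finite R M] [Module.Finite S N]
    (EM : GrLC.StarInjRes 𝒜 ℳ) (EN : GrLC.StarInjRes ℬ 𝒩) (φ : P →ₗ[k] M ⊗[k] N)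
    (hP : GrSeg.IsSegreMod ψ ℳ 𝒩 𝒬 φ) (EP : GrLC.StarInjRes 𝒯 𝒬) {d : ℤ}
    (hM : EM.Hcomp (GrSyz.irrel 𝒜) 0 d = ⊥) (hN : EN.Hcomp (GrSyz.irrel ℬ) 0 d = ⊥) (q : ℕ) :
    Module.finrank (GrLC.deg0 𝒯) (EP.Hcomp (GrSyz.irrel 𝒯) q d) =
      Module.finrank k (pieceK 𝒜 ℳ d) * Module.finrank (GrLC.deg0 ℬ) (EN.Hcomp (GrSyz.irrel ℬ) q d) +
      Module.finrank (GrLC.deg0 𝒜) (EM.Hcomp (GrSyz.irrel 𝒜) q d) * Module.finrank k (pieceK ℬ 𝒩 d) +
      (Finset.range (q + 2)).sum fun i => Module.finrank (GrLC.deg0 𝒜) (EM.Hcomp (GrSyz.irrel 𝒜) i d) *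
        Module.finrank (GrLC.deg0 ℬ) (EN.Hcomp (GrSyz.irrel ℬ) (q + 1 - i) d) := by
  haveI : IsNoetherianRing R := Algebra.FiniteType.isNoetherianRing k R
  haveI : IsNoetherianRing S := Algebra.FiniteType.isNoetherianRing k S
  haveI : IsNoetherianRing T := isNoetherianRing_segre 𝒜 ℬ 𝒯 ψ hT
  haveI : Nontrivial T := segre_nontrivial hT
  haveI : Module.Finite R (XM).carrier := ‹Module.Finite R M›
  haveI : Module.Finite S (YN).carrier := ‹Module.Finite S N›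
  have hfX : Module.Finite k (pieceK 𝒜 (XM).gr d) := finite_pieceK 𝒜 (XM).gr hpR h0R d
  have hfY : Module.Finite k (pieceK ℬ (YN).gr d) := finite_pieceK ℬ (YN).gr hpS h0S d
  obtain ⟨e, he, heb, -⟩ := exists_to_sq ℳ 𝒩 𝒬 hT.2 φ hP
  have h := finrank_Hcomp_segre hT.2 hpR hpS (segre_nonneg hT hpR) (X := XM) (Y := YN) EM EN h0R h0S
    (segre_deg_zero hT h0R h0S) hM hN hfX hfY (P := GrLC.GMod.of 𝒯 P 𝒬) e he heb EP q
  rw [finrank_of_piece, finrank_of_piece] at h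
  exact h

end Modules

end SegreRing

end Groth.Agent.GrLib8.Seg
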