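import Groth.Agent.GrLib8.GrCM
import Groth.Agent.GrLib8.GDualInj
import Groth.Agent.GrLib8.StarField
import Groth.Agent.GrLib8.LesTools
import Groth.Agent.GrLib8.AcycRes
import Groth.Agent.GrLib8.LocalCoh
import Groth.Agent.GrLib8.SegBridge
import Groth.Agent.LC.CdDim

/-!
# The Cohen-Macaulay criterion for graded algebras over a field
-/

set_option autoImplicit false
set_option linter.unusedSectionVars false
set_option linter.style.haveILetI false

universe u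

open DirectSum

namespace Groth.Agent.GrLib8

variable {k : Type u} [Field k] {R : Type u} [CommRing R] [Algebra k R] (𝒜 : ℤ → Submodule k R) [GradedAlgebra 𝒜]

noncomputable instance gradedRingAdd : GradedRing (addPieces 𝒜) :=
  { (inferInstance : Decomposition (addPieces 𝒜)) with
    one_mem := SetLike.one_mem_graded 𝒜
    mul_mem := fun _ _ _ _ ha hb => SetLike.mul_mem_graded (A := 𝒜) ha hb }

/-- The irrelevant ideal, for the grading by additive subgroups. -/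
theorem irrel_add_toIdeal : (GrSyz.irrel (addPieces 𝒜)).toIdeal = (GrSyz.irrel 𝒜).toIdeal := rfl

theorem addPieces_eq_bot (hpos : ∀ n : ℤ, n < 0 → 𝒜 n = ⊥) : ∀ n : ℤ, n < 0 → addPieces 𝒜 n = ⊥ := fun n hn =>
  (AddSubgroup.eq_bot_iff_forall _).2 fun r hr => Seg.nonneg_of_eq_bot 𝒜 hpos n hn r hr

theorem isField_deg0_add [Nontrivial R] (h0 : 𝒜 0 = Submodule.span k {(1 : R)}) :
    IsField (GrLC.deg0 (addPieces 𝒜)) := by
  let ι' : k →+* GrLC.deg0 (addPieces 𝒜) :=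
    (algebraMap k R).codRestrict (GrLC.deg0 (addPieces 𝒜)) fun c => SetLike.algebraMap_mem_graded 𝒜 c
  refine MulEquiv.isField (Field.toIsField k) (RingEquiv.ofBijective ι' ⟨ι'.injective, fun z => ?_⟩).symm.toMulEquiv
  obtain ⟨c, hc⟩ := eq_algebraMap_of_mem_zero 𝒜 h0 z.2
  exact ⟨c, Subtype.ext hc.symm⟩

theorem isStarLocal_irrel_add [Nontrivial R] (hpos : ∀ n : ℤ, n < 0 → 𝒜 n = ⊥)
    (h0 : 𝒜 0 = Submodule.span k {(1 : R)}) :
    GrLC.IsStarLocal (addPieces 𝒜) (GrSyz.irrel (addPieces 𝒜)) :=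
  isStarLocal_irrel (addPieces_eq_bot 𝒜 hpos) (isField_deg0_add 𝒜 h0)

variable [IsNoetherianRing R] {M : Type u} [AddCommGroup M] [Module R M]
  (ℳ : ℤ → AddSubgroup M) [Decomposition ℳ] [SetLike.GradedSMul 𝒜 ℳ] [Module.Finite R M]

theorem subsingleton_H_iff (E : GrLC.StarInjRes 𝒜 ℳ) (i : ℕ) :
    Subsingleton (LocCoh.H (GrSyz.irrel 𝒜).toIdeal i M) ↔ ∀ g, E.Hcomp (GrSyz.irrel 𝒜) i g = ⊥ := by
  obtain ⟨e⟩ := nonempty_H_equiv ℳ E (GrSyz.irrel 𝒜) i
  constructor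
  · intro h g
    haveI := e.toEquiv.subsingleton
    exact Hcomp_eq_bot_of_subsingleton E _ i g
  · intro h
    let X := GrLC.GMod.of 𝒜 M ℳ
    haveI : Subsingleton (E.H (GrSyz.irrel 𝒜) i) :=
      subsingleton_H_of_hVan (X := X) E i fun g => hVan_of_res (X := X) E (h g)
    exact e.symm.toEquiv.subsingleton

/-- Cohen-Macaulayness is the vanishing of the lower local cohomology. -/
theorem isCM_iff_Hcomp [Nontrivial R] (hpos : ∀ n : ℤ, n < 0 → 𝒜 n = ⊥) (h0 : 𝒜 0 = Submodule.span k {(1 : R)})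
    (E : GrLC.StarInjRes 𝒜 ℳ) (n : ℕ) (hn : Module.supportDim R M = n) :
    (∀ (q : Ideal R) [q.IsPrime], Subsingleton (LocalizedModule q.primeCompl M) ∨
        LocCoh.IsCohenMacaulayModule (Localization.AtPrime q) (LocalizedModule q.primeCompl M)) ↔
      ∀ i < n, ∀ g, E.Hcomp (GrSyz.irrel 𝒜) i g = ⊥ := by
  haveI : SetLike.GradedSMul (addPieces 𝒜) ℳ :=
    ⟨fun _ _ _ _ ha hx => SetLike.GradedSMul.smul_mem (A := 𝒜) (B := ℳ) ha hx⟩
  refine (GrCM.isCM_iff (addPieces 𝒜) ℳ (addPieces_eq_bot 𝒜 hpos) (isStarLocal_irrel_add 𝒜 hpos h0) n hn).trans ?_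
  exact ⟨fun h i hi => (subsingleton_H_iff 𝒜 ℳ E i).1 (h i hi), fun h i hi => (subsingleton_H_iff 𝒜 ℳ E i).2 (h i hi)⟩

theorem Hcomp_eq_bot_of_supportDim_lt (E : GrLC.StarInjRes 𝒜 ℳ) {i : ℕ}
    (hi : Module.supportDim R M < (i : WithBot ℕ∞)) (g : ℤ) : E.Hcomp (GrSyz.irrel 𝒜) i g = ⊥ :=
  (subsingleton_H_iff 𝒜 ℳ E i).1 (LC.subsingleton_H_of_supportDim_lt _ M i hi) g

/-- A Cohen-Macaulay module has local cohomology in one degree only. -/
theorem Hcomp_eq_bot_of_isCM [Nontrivial R] (hpos : ∀ n : ℤ, n < 0 → 𝒜 n = ⊥)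
    (h0 : 𝒜 0 = Submodule.span k {(1 : R)}) (E : GrLC.StarInjRes 𝒜 ℳ) {n : ℕ} (hn : Module.supportDim R M = n)
    (hcm : ∀ (q : Ideal R) [q.IsPrime], Subsingleton (LocalizedModule q.primeCompl M) ∨
        LocCoh.IsCohenMacaulayModule (Localization.AtPrime q) (LocalizedModule q.primeCompl M))
    {i : ℕ} (hi : i ≠ n) (g : ℤ) : E.Hcomp (GrSyz.irrel 𝒜) i g = ⊥ := by
  rcases lt_or_gt_of_ne hi with h | h
  · exact (isCM_iff_Hcomp 𝒜 ℳ hpos h0 E n hn).1 hcm i h g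
  · exact Hcomp_eq_bot_of_supportDim_lt 𝒜 ℳ E (by rw [hn]; exact_mod_cast h) g

end Groth.Agent.GrLib8
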