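import Groth.Agent.GrLib8.Res
import Groth.Agent.GrLib8.ExtVanish

/-!
# A grading on `Ext^i(R/P, M)`
-/

set_option autoImplicit false

universe u

open DirectSum CategoryTheory

namespace Groth.Agent.GrLib8

variable {ι : Type} [AddCommGroup ι] [DecidableEq ι]
variable {R : Type u} [CommRing R] {𝒜 : ι → AddSubgroup R} [GradedRing 𝒜]

/-- The elements killed by an ideal. -/
def killSub (I : Ideal R) (Y : Type u) [AddCommGroup Y] [Module R Y] : Submodule R Y :=
  Submodule.torsionBySet R Y (I : Set R)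

theorem mem_killSub {I : Ideal R} {Y : Type u} [AddCommGroup Y] [Module R Y] {y : Y} :
    y ∈ killSub I Y ↔ ∀ a ∈ I, a • y = 0 := by
  show y ∈ Submodule.torsionBySet R Y (I : Set R) ↔ _
  rw [Submodule.mem_torsionBySet_iff]
  exact ⟨fun h a ha => h ⟨a, ha⟩, fun h a => h a.1 a.2⟩

/-- Homomorphisms out of a cyclic module. -/
noncomputable def homKill (I : Ideal R) (Y : Type u) [AddCommGroup Y] [Module R Y] :
    ((R ⧸ I) →ₗ[R] Y) ≃ₗ[R] killSub I Y where
  toFun φ := ⟨φ (Submodule.Quotient.mk 1), mem_killSub.2 fun a ha => by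
    rw [← map_smul, ← Submodule.Quotient.mk_smul, smul_eq_mul, mul_one, (Submodule.Quotient.mk_eq_zero I).2 ha, map_zero]⟩
  map_add' _ _ := rfl
  map_smul' _ _ := rfl
  invFun y := Submodule.liftQ I (LinearMap.toSpanSingleton R Y y.1) fun a ha => mem_killSub.1 y.2 a ha
  left_inv φ := Submodule.linearMap_qext _ (LinearMap.ext_ring (by
    show (1 : R) • φ (Submodule.Quotient.mk 1) = φ (Submodule.Quotient.mk 1)
    rw [one_smul]))
  right_inv y := Subtype.ext (by
    show (1 : R) • (y : Y) = y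
    rw [one_smul])

theorem isHomogeneous_killSub (P : HomogeneousIdeal 𝒜) (X : GrLC.GMod.{u} 𝒜) :
    (killSub P.toIdeal X.carrier).IsHomogeneous X.gr := by
  classical
  intro g x hx
  refine mem_killSub.2 fun a ha => ?_
  rw [← sum_support_decompose 𝒜 a, Finset.sum_smul]
  refine Finset.sum_eq_zero fun i _ => ?_
  have hi : (decompose 𝒜 a i : R) ∈ P.toIdeal := P.isHomogeneous i ha
  have h := decompose_smul_of_mem_left 𝒜 X.gr (SetLike.coe_mem (decompose 𝒜 a i)) x (i + g)
  rw [add_sub_cancel_left, mem_killSub.1 hx _ hi, decompose_zero, DirectSum.zero_apply,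
    ZeroMemClass.coe_zero] at h
  exact h.symm

variable [IsNoetherianRing R]

/-- `Ext^0(R/I, Y)` is the part killed by `I`. -/
noncomputable def extKill (I : Ideal R) (Y : Type u) [AddCommGroup Y] [Module R Y] :
    Abelian.Ext.{u} (ModuleCat.of R (R ⧸ I)) (ModuleCat.of R Y) 0 ≃ₗ[R] killSub I Y :=
  (Abelian.Ext.linearEquiv₀.trans ModuleCat.homLinearEquiv).trans (homKill I Y)

theorem exists_graded_ext (P : HomogeneousIdeal 𝒜) : ∀ (i : ℕ) (X : GrLC.GMod.{u} 𝒜),
    ∃ N : GrLC.GMod.{u} 𝒜, (∀ a ∈ P.toIdeal, ∀ x : N.carrier, a • x = 0) ∧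
      Nonempty (N.carrier ≃ₗ[R] Abelian.Ext.{u} (ModuleCat.of R (R ⧸ P.toIdeal)) (ModuleCat.of R X.carrier) i) := by
  intro i
  induction i with
  | zero =>
    intro X
    refine ⟨subGMod 𝒜 X.gr _ (isHomogeneous_killSub P X), fun a ha (x : killSub P.toIdeal X.carrier) => ?_, ?_⟩
    · exact Subtype.ext (mem_killSub.1 x.2 a ha)
    · exact ⟨(extKill P.toIdeal X.carrier).symm⟩
  | succ i ih =>
    intro X
    let H := hullObj X
    let C := cosyz X
    let T : ShortComplex (ModuleCat.{u} R) := ShortComplex.mk (X₁ := ModuleCat.of R X.carrier)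
      (X₂ := ModuleCat.of R H.carrier) (X₃ := ModuleCat.of R C.carrier)
      (ModuleCat.ofHom (hullMap X)) (ModuleCat.ofHom (cosyzMap X))
      (ModuleCat.hom_ext (LinearMap.ext fun x => (ker_cosyzMap X).ge ⟨x, rfl⟩))
    have hT : T.ShortExact :=
      { exact := (ShortComplex.ShortExact.moduleCat_exact_iff_function_exact _).2
          (LinearMap.exact_iff.2 (ker_cosyzMap X))
        mono_f := (ModuleCat.mono_iff_injective _).2 (hull_spec X).injective
        epi_g := (ModuleCat.epi_iff_surjective _).2 (cosyzMap_surjective X) }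
    let Q : ModuleCat.{u} R := ModuleCat.of R (R ⧸ P.toIdeal)
    have hvan : ∀ j, Subsingleton (Abelian.Ext.{u} Q T.X₂ (j + 1)) := fun j =>
      subsingleton_ext H.gr (hull_spec X).starInj j (quotGMod 𝒜 𝒜 P.toIdeal P.isHomogeneous)
        (inferInstanceAs (Module.Finite R (R ⧸ P.toIdeal)))
    let δ : Abelian.Ext Q T.X₃ i →ₗ[R] Abelian.Ext Q T.X₁ (i + 1) :=
      Abelian.Ext.postcompOfLinear hT.extClass R Q rfl
    have hδ : Function.Surjective δ := fun x =>
      Abelian.Ext.covariant_sequence_exact₁ Q hT x (@Subsingleton.elim _ (hvan i) _ _) rfl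
    rcases i with _ | i
    · let g : H.carrier →ₗ[R] C.carrier := cosyzMap X
      let gK : killSub P.toIdeal H.carrier →ₗ[R] killSub P.toIdeal C.carrier :=
        g.restrict fun y hy => mem_killSub.2 fun a ha => by rw [← map_smul, mem_killSub.1 hy a ha, map_zero]
      let SH := subGMod 𝒜 H.gr _ (isHomogeneous_killSub P H)
      let SC := subGMod 𝒜 C.gr _ (isHomogeneous_killSub P C)
      have hgK : GrLC.IsGrHom SH.gr SC.gr gK := fun d y hy => isGrHom_mkQ H.gr _ d _ hy
      let K : Submodule R SC.carrier := LinearMap.range (gK : SH.carrier →ₗ[R] SC.carrier)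
      have hK : K.IsHomogeneous SC.gr := isHomogeneous_range SC.gr SH.gr hgK
      let e : killSub P.toIdeal C.carrier ≃ₗ[R] Abelian.Ext.{u} Q T.X₃ 0 := (extKill P.toIdeal C.carrier).symm
      let q : killSub P.toIdeal C.carrier →ₗ[R] Abelian.Ext.{u} Q T.X₁ 1 := δ ∘ₗ e.toLinearMap
      have hq : Function.Surjective q := hδ.comp e.surjective
      have hker : LinearMap.range gK = LinearMap.ker q := by
        have hnat : ∀ w : Abelian.Ext.{u} Q T.X₂ 0,
            extKill P.toIdeal C.carrier (w.comp (Abelian.Ext.mk₀ T.g) (add_zero 0)) = gK (extKill P.toIdeal H.carrier w) := by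
          intro w
          obtain ⟨w, rfl⟩ := (Abelian.Ext.linearEquiv₀ (R := R)).symm.surjective (w : Abelian.Ext Q T.X₂ 0)
          show extKill P.toIdeal C.carrier ((Abelian.Ext.mk₀ w).comp (Abelian.Ext.mk₀ T.g) (add_zero 0)) = gK (extKill P.toIdeal H.carrier (Abelian.Ext.mk₀ w))
          rw [Abelian.Ext.mk₀_comp_mk₀]
          refine Subtype.ext ?_
          show (Abelian.Ext.linearEquiv₀ (R := R) (Abelian.Ext.mk₀ (w ≫ T.g))).hom (Submodule.Quotient.mk 1) =
            g ((Abelian.Ext.linearEquiv₀ (R := R) (Abelian.Ext.mk₀ w)).hom (Submodule.Quotient.mk 1))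
          rw [show Abelian.Ext.linearEquiv₀ (R := R) (Abelian.Ext.mk₀ (w ≫ T.g)) = w ≫ T.g from
            Abelian.Ext.linearEquiv₀.apply_symm_apply _,
            show Abelian.Ext.linearEquiv₀ (R := R) (Abelian.Ext.mk₀ w) = w from
            Abelian.Ext.linearEquiv₀.apply_symm_apply _]
          rfl
        refine le_antisymm ?_ fun z hz => ?_
        · rintro _ ⟨y, rfl⟩
          show δ (e (gK y)) = 0
          obtain ⟨w, rfl⟩ := (extKill P.toIdeal H.carrier).surjective y
          rw [← hnat w, LinearEquiv.symm_apply_apply]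
          show (w.comp (Abelian.Ext.mk₀ T.g) (add_zero 0)).comp hT.extClass rfl = 0
          rw [Abelian.Ext.comp_assoc_of_second_deg_zero, hT.comp_extClass, Abelian.Ext.comp_zero]
        · obtain ⟨w, hw⟩ := Abelian.Ext.covariant_sequence_exact₃ Q hT (e z) rfl hz
          refine ⟨extKill P.toIdeal H.carrier w, ?_⟩
          rw [← hnat w, hw]
          exact (extKill P.toIdeal C.carrier).apply_symm_apply z
      refine ⟨quotGMod 𝒜 SC.gr K hK, fun a ha (x : SC.carrier ⧸ K) => ?_, ?_⟩
      · obtain ⟨y, rfl⟩ := Submodule.mkQ_surjective K x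
        exact ((map_smul K.mkQ a y).symm.trans (congrArg K.mkQ (Subtype.ext (mem_killSub.1 (y : killSub P.toIdeal C.carrier).2 a ha) : a • y = 0))).trans (map_zero _)
      · exact ⟨(Submodule.quotEquivOfEq (LinearMap.range gK) (LinearMap.ker q) hker).trans
          (q.quotKerEquivOfSurjective hq)⟩
    · obtain ⟨N, hN, ⟨e⟩⟩ := ih C
      refine ⟨N, hN, ⟨e.trans (LinearEquiv.ofBijective δ ⟨?_, hδ⟩)⟩⟩
      rw [injective_iff_map_eq_zero]
      intro x hx
      obtain ⟨w, hw⟩ := Abelian.Ext.covariant_sequence_exact₃ Q hT x rfl hx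
      rw [← hw, @Subsingleton.elim _ (hvan i) w 0, Abelian.Ext.zero_comp]

end Groth.Agent.GrLib8
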