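import Groth.Agent.GrLib8.Koszul

/-!
# Finite products of graded modules
-/

set_option autoImplicit false
set_option linter.unusedSectionVars false

universe u

open DirectSum

namespace Groth.Agent.GrLib8

variable {R : Type u} [CommRing R] {σ : Type u} [SetLike σ R] [AddSubgroupClass σ R] {𝒜 : ℤ → σ} [GradedRing 𝒜]
  {J : Type} [Fintype J] (X : J → GrLC.GMod.{u} 𝒜)

/-- The pieces of a product. -/
def piPieces (g : ℤ) : AddSubgroup (∀ j, (X j).carrier) :=
  AddSubgroup.pi Set.univ fun j => (X j).gr g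

theorem mem_piPieces {g : ℤ} {x : ∀ j, (X j).carrier} : x ∈ piPieces X g ↔ ∀ j, x j ∈ (X j).gr g := by
  simp [piPieces, AddSubgroup.mem_pi]

theorem piPieces_span (x : ∀ j, (X j).carrier) : x ∈ ⨆ g, piPieces X g := by
  classical
  rw [← Finset.univ_sum_single x]
  refine AddSubgroup.sum_mem _ fun j _ => ?_
  rw [← sum_support_decompose (X j).gr (x j)]
  change AddMonoidHom.single (fun i => (X i).carrier) j _ ∈ _
  rw [map_sum]
  refine AddSubgroup.sum_mem _ fun g _ => AddSubgroup.mem_iSup_of_mem g ((mem_piPieces X).2 fun i => ?_)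
  show Pi.single (M := fun i => (X i).carrier) j _ i ∈ _
  rcases eq_or_ne i j with rfl | h
  · rw [Pi.single_eq_same]; exact SetLike.coe_mem _
  · rw [Pi.single_eq_of_ne h]; exact zero_mem _

/-- A finite product of graded modules. -/
noncomputable def piGMod : GrLC.GMod.{u} 𝒜 :=
  gmodOf 𝒜 (∀ j, (X j).carrier) (piPieces X) (piPieces_span X)
    (fun s c hc hsum g hg => funext fun j => gIndep_of_decomposition (X j).gr s (fun i => c i j)
      (fun i hi => (mem_piPieces X).1 (hc i hi) j) ((Finset.sum_apply j s c).symm.trans (congrFun hsum j)) g hg)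
    fun ha hx => (mem_piPieces X).2 fun j => SetLike.GradedSMul.smul_mem (B := (X j).gr) ha ((mem_piPieces X).1 hx j)

theorem mem_piGMod_gr {g : ℤ} (x : (piGMod X).carrier) : x ∈ (piGMod X).gr g ↔ ∀ j, x j ∈ (X j).gr g :=
  mem_piPieces X

/-- Projection. -/
def piProj (j : J) : (piGMod X).carrier →ₗ[R] (X j).carrier where
  toFun x := x j
  map_add' _ _ := rfl
  map_smul' _ _ := rfl

/-- Inclusion. -/
noncomputable def piIncl (j : J) : (X j).carrier →ₗ[R] (piGMod X).carrier :=
  letI := Classical.decEq J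
  { toFun := fun y => Pi.single (M := fun i => (X i).carrier) j y
    map_add' := fun a b => Pi.single_add (f := fun i => (X i).carrier) j a b
    map_smul' := fun r a => Pi.single_smul (f := fun i => (X i).carrier) j r a }

theorem piIncl_same (j : J) (y : (X j).carrier) : piIncl X j y j = y := by
  classical
  show Pi.single (M := fun i => (X i).carrier) j y j = y
  exact Pi.single_eq_same (M := fun i => (X i).carrier) j y

theorem piIncl_ne {i j : J} (h : i ≠ j) (y : (X j).carrier) : piIncl X j y i = 0 := by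
  classical
  show Pi.single (M := fun i => (X i).carrier) j y i = 0
  exact Pi.single_eq_of_ne (M := fun i => (X i).carrier) h y

theorem piProj_grHom (j : J) : GrLC.IsGrHom (piGMod X).gr (X j).gr (piProj X j) :=
  fun _ x hx => (mem_piGMod_gr X x).1 hx j

theorem piIncl_grHom (j : J) : GrLC.IsGrHom (X j).gr (piGMod X).gr (piIncl X j) := by
  classical
  intro g x hx
  refine (mem_piGMod_gr X _).2 fun i => ?_
  rcases eq_or_ne i j with rfl | h
  · rwa [piIncl_same]
  · rw [piIncl_ne X h]; exact zero_mem _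

theorem sum_piIncl_piProj : (∑ j, piIncl X j ∘ₗ piProj X j) = (LinearMap.id : (piGMod X).carrier →ₗ[R] _) := by
  classical
  refine LinearMap.ext fun x => ?_
  rw [LinearMap.sum_apply]
  funext i
  show (∑ j, piIncl X j (piProj X j x)) i = x i
  exact (Finset.sum_apply i Finset.univ _).trans ((Finset.sum_eq_single i
    (fun j _ hne => piIncl_ne X hne.symm _) (by simp)).trans (piIncl_same X i _))

section

variable {M : Type u} [AddCommGroup M] [Module R M] {τ : Type u} [SetLike τ M] [AddSubgroupClass τ M] {ℳ : ℤ → τ}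
  [Decomposition ℳ] [SetLike.GradedSMul 𝒜 ℳ]
variable {N : Type u} [AddCommGroup N] [Module R N] {τ' : Type u} [SetLike τ' N] [AddSubgroupClass τ' N] {𝒩 : ℤ → τ'}
  [Decomposition 𝒩] [SetLike.GradedSMul 𝒜 𝒩]

theorem hmap_add (E : GrLC.StarInjRes 𝒜 ℳ) (F : GrLC.StarInjRes 𝒜 𝒩) (a : HomogeneousIdeal 𝒜) {f f' : M →ₗ[R] N}
    {d : ℤ} (hf : GrLC.IsGrHomDeg ℳ 𝒩 f d) (hf' : GrLC.IsGrHomDeg ℳ 𝒩 f' d)
    (h : GrLC.IsGrHomDeg ℳ 𝒩 (f + f') d) (i : ℕ) :
    hmap E F a (f + f') h i = hmap E F a f hf i + hmap E F a f' hf' i := by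
  obtain ⟨L, hL⟩ := exists_lift E F f hf
  obtain ⟨L', hL'⟩ := exists_lift E F f' hf'
  have hLL : IsLift E F (f + f') d fun n => L n + L' n :=
    { deg := fun n => isGrHomDeg_add (hL.deg n) (hL'.deg n)
      eps := by rw [LinearMap.add_comp, hL.eps, hL'.eps, LinearMap.comp_add]
      comm := fun n => by rw [LinearMap.comp_add, LinearMap.add_comp, hL.comm n, hL'.comm n] }
  rw [hmap_eq a hf hL, hmap_eq a hf' hL', hmap_eq a h hLL]
  exact Submodule.linearMap_qext _ (LinearMap.ext fun z => rfl)

end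

variable [IsNoetherianRing R]

/-- A finite product of modules with vanishing cohomology in one degree has vanishing cohomology there. -/
theorem hVan_pi {a : HomogeneousIdeal 𝒜} {i : ℕ} {g : ℤ} (h : ∀ j, HVan a (X j) i g) : HVan a (piGMod X) i g := by
  classical
  intro E
  rw [Hcomp_eq_bot_iff]
  intro c hc
  have hd : ∀ s : Finset J, GrLC.IsGrHomDeg (piGMod X).gr (piGMod X).gr (∑ j ∈ s, piIncl X j ∘ₗ piProj X j) 0 := by
    intro s
    induction s using Finset.induction_on with
    | empty => rw [Finset.sum_empty]; exact fun _ _ _ => zero_mem _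
    | insert j s hj ih =>
      rw [Finset.sum_insert hj]
      exact isGrHomDeg_add (isGrHomDeg_comp (isGrHomDeg_zero_iff.2 (piProj_grHom X j))
        (isGrHomDeg_zero_iff.2 (piIncl_grHom X j)) (add_zero 0)) ih
  have key : ∀ s : Finset J, hmap E E a _ (hd s) i c = 0 := by
    intro s
    induction s using Finset.induction_on with
    | empty =>
      rw [hmap_congr a (Finset.sum_empty (f := fun j => piIncl X j ∘ₗ piProj X j)) (hd ∅) (fun _ _ _ => zero_mem _) i,
        hmap_zero, LinearMap.zero_apply]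
    | insert j s hj ih =>
      have h1 : GrLC.IsGrHomDeg (piGMod X).gr (X j).gr (piProj X j) 0 := isGrHomDeg_zero_iff.2 (piProj_grHom X j)
      have h2 : GrLC.IsGrHomDeg (X j).gr (piGMod X).gr (piIncl X j) 0 := isGrHomDeg_zero_iff.2 (piIncl_grHom X j)
      have h12 : GrLC.IsGrHomDeg (piGMod X).gr (piGMod X).gr (piIncl X j ∘ₗ piProj X j) 0 :=
        isGrHomDeg_comp h1 h2 (add_zero 0)
      rw [hmap_congr a (Finset.sum_insert hj) (hd _) (isGrHomDeg_add h12 (hd s)) i,
        hmap_add E E a h12 (hd s), LinearMap.add_apply, ih, add_zero,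
        ← hmap_comp a (E := E) (F := starRes (X j).gr) (G := E) h1 h2 h12 (add_zero 0) i, LinearMap.comp_apply]
      have hy := isGrHomDeg_hmap (E := E) (F := starRes (X j).gr) a h1 i g c hc
      rw [add_zero] at hy
      rw [(Hcomp_eq_bot_iff _ a i g).1 (h j _) _ hy, map_zero]
  have hid := key Finset.univ
  rw [hmap_congr a (sum_piIncl_piProj X) (hd _) (isGrHomDeg_zero_iff.2 fun _ _ hm => hm) i, hmap_id a i] at hid
  exact hid

end Groth.Agent.GrLib8
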