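import Groth.Agent.GrLib8.Avoid
import Groth.Agent.GrLib8.ExtVanish

/-!
# Graded Nakayama and minimal homogeneous generators
-/

set_option autoImplicit false
set_option linter.unusedSectionVars false

universe u

open DirectSum

namespace Groth.Agent.GrLib8

variable {R : Type u} [CommRing R] {σ : Type u} [SetLike σ R] [AddSubgroupClass σ R] (𝒜 : ℤ → σ) [GradedRing 𝒜]
variable (hpos : ∀ n < 0, ∀ r ∈ 𝒜 n, r = 0)

include hpos

theorem decompose_zero_of_mem_irrel {r : R} (hr : r ∈ (GrSyz.irrel 𝒜).toIdeal) : (decompose 𝒜 r 0 : R) = 0 := by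
  classical
  have hall : ∀ y : R, y ∈ aboveSub 𝒜 𝒜 hpos 0 := fun y g hg => hpos g hg _ (SetLike.coe_mem _)
  have hv : r • (1 : R) ∈ aboveSub 𝒜 𝒜 hpos (0 + 1) :=
    irrel_smul_le 𝒜 𝒜 hpos 0 (Submodule.smul_mem_smul hr (hall 1))
  rw [smul_eq_mul, mul_one] at hv
  exact hv 0 (by norm_num)

theorem mem_irrel_iff {r : R} : r ∈ (GrSyz.irrel 𝒜).toIdeal ↔ (decompose 𝒜 r 0 : R) = 0 := by
  classical
  refine ⟨decompose_zero_of_mem_irrel 𝒜 hpos, fun h => ?_⟩
  rw [← sum_support_decompose 𝒜 r]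
  refine Ideal.sum_mem _ fun i _ => ?_
  rcases lt_trichotomy i 0 with hi | rfl | hi
  · rw [hpos i hi _ (SetLike.coe_mem _)]; exact zero_mem _
  · rw [h]; exact zero_mem _
  · exact mem_irrel_of_pos 𝒜 hi (SetLike.coe_mem _)

theorem eq_zero_of_mem_irrel_of_deg {r : R} {i : ℤ} (hi : i ≤ 0) (hr : r ∈ 𝒜 i) (hr' : r ∈ (GrSyz.irrel 𝒜).toIdeal) :
    r = 0 := by
  rcases lt_or_eq_of_le hi with hi | rfl
  · exact hpos i hi r hr
  · rw [← decompose_of_mem_same 𝒜 hr]; exact decompose_zero_of_mem_irrel 𝒜 hpos hr'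

variable {M : Type u} [AddCommGroup M] [Module R M] {τ : Type u} [SetLike τ M] [AddSubgroupClass τ M] (ℳ : ℤ → τ)
  [Decomposition ℳ] [SetLike.GradedSMul 𝒜 ℳ]

/-- Graded Nakayama. -/
theorem eq_top_of_sup_irrel [Module.Finite R M] (N : Submodule R M) (hN : N.IsHomogeneous ℳ)
    (h : N ⊔ (GrSyz.irrel 𝒜).toIdeal • (⊤ : Submodule R M) = ⊤) : N = ⊤ := by
  classical
  obtain ⟨b, hb⟩ := exists_aboveSub_eq_top 𝒜 ℳ hpos
  suffices key : ∀ (k : ℕ) (g : ℤ), g < b + k → ∀ x : M, (decompose ℳ x g : M) ∈ N by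
    refine eq_top_iff.2 fun x _ => ?_
    rw [← sum_support_decompose ℳ x]
    exact Submodule.sum_mem _ fun g _ => key (g - b + 1).toNat g (by omega) x
  intro k
  induction k with
  | zero =>
    intro g hg x
    rw [(hb.ge (Submodule.mem_top : x ∈ _)) g (by omega)]; exact zero_mem _
  | succ k ih =>
    intro g hg x
    obtain ⟨y, hy, z, hz, rfl⟩ := Submodule.mem_sup.1 (h.ge (Submodule.mem_top : x ∈ _))
    rw [decompose_add, DirectSum.add_apply, AddMemClass.coe_add]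
    refine add_mem (hN g hy) ?_
    clear hy
    refine Submodule.smul_induction_on (p := fun z => (decompose ℳ z g : M) ∈ N) hz (fun r hr m _ => ?_)
      (fun z z' hz hz' => ?_)
    · rw [← sum_support_decompose 𝒜 r, Finset.sum_smul, decompose_sum]
      rw [show (((∑ i ∈ (decompose 𝒜 r).support, decompose ℳ ((decompose 𝒜 r i : R) • m)) g : ℳ g) : M) =
          ∑ i ∈ (decompose 𝒜 r).support, (decompose ℳ ((decompose 𝒜 r i : R) • m) g : M) from
        map_sum ((AddSubgroupClass.subtype (ℳ g)).comp (DFinsupp.evalAddMonoidHom (β := fun i => ℳ i) g)) _ _]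
      refine Submodule.sum_mem _ fun i _ => ?_
      rcases lt_trichotomy i 0 with hi | rfl | hi
      · rw [hpos i hi _ (SetLike.coe_mem _), zero_smul, decompose_zero, DirectSum.zero_apply, ZeroMemClass.coe_zero]
        exact zero_mem _
      · rw [decompose_zero_of_mem_irrel 𝒜 hpos hr, zero_smul, decompose_zero, DirectSum.zero_apply, ZeroMemClass.coe_zero]
        exact zero_mem _
      · rw [decompose_smul_of_mem_left 𝒜 ℳ (SetLike.coe_mem _)]
        exact N.smul_mem _ (ih (g - i) (by omega) m)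
    · rw [decompose_add, DirectSum.add_apply, AddMemClass.coe_add]
      exact add_mem hz hz'

/-- A homogeneous relation with a unit coefficient makes a generator redundant. -/
theorem mem_span_others (hk : ∀ r ∈ 𝒜 (0 : ℤ), r ≠ 0 → IsUnit r) {K : ℕ} {t : Fin K → M} {e : Fin K → ℤ}
    (ht : ∀ j, t j ∈ ℳ (e j)) (c : Fin K → R) (hc : ∑ j, c j • t j = 0) {b : Fin K}
    (hb : c b ∉ (GrSyz.irrel 𝒜).toIdeal) : t b ∈ Submodule.span R (t '' {b' | b' ≠ b}) := by
  classical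
  have h := mem_of_sum_smul 𝒜 ℳ ht (zero_mem (ℳ (e b))) c hc
  let c' : Fin K → R := fun j => (decompose 𝒜 (c j) (e b - e j) : R)
  have hu : IsUnit (c' b) := by
    show IsUnit (decompose 𝒜 (c b) (e b - e b) : R)
    rw [sub_self]
    exact hk _ (SetLike.coe_mem _) fun h0 => hb ((mem_irrel_iff 𝒜 hpos).2 h0)
  rw [← Finset.add_sum_erase _ _ (Finset.mem_univ b)] at h
  obtain ⟨u, hu⟩ := hu
  have hu' : (decompose 𝒜 (c b) (e b - e b) : R) = u := hu.symm
  rw [hu'] at h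
  have he : t b = (↑u⁻¹ : R) • -(∑ j ∈ Finset.univ.erase b, c' j • t j) := by
    rw [eq_neg_of_add_eq_zero_right h.symm, neg_neg, smul_smul, Units.inv_mul, one_smul]
  rw [he]
  exact Submodule.smul_mem _ _ (Submodule.neg_mem _ (Submodule.sum_mem _ fun j hj =>
    Submodule.smul_mem _ _ (Submodule.subset_span ⟨j, Finset.ne_of_mem_erase hj, rfl⟩)))

/-- Minimal homogeneous generators. -/
theorem exists_minimal_gens (hk : ∀ r ∈ 𝒜 (0 : ℤ), r ≠ 0 → IsUnit r) [Module.Finite R M] :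
    ∃ (K : ℕ) (t : Fin K → M) (e : Fin K → ℤ), (∀ j, t j ∈ ℳ (e j)) ∧ Submodule.span R (Set.range t) = ⊤ ∧
      ∀ c : Fin K → R, ∑ j, c j • t j = 0 → ∀ j, c j ∈ (GrSyz.irrel 𝒜).toIdeal := by
  classical
  have hex : ∃ K, ∃ (t : Fin K → M) (e : Fin K → ℤ), (∀ j, t j ∈ ℳ (e j)) ∧ Submodule.span R (Set.range t) = ⊤ :=
    exists_homogeneous_generators ℳ
  obtain ⟨t, e, ht, htop⟩ := Nat.find_spec hex
  refine ⟨Nat.find hex, t, e, ht, htop, fun c hc b => ?_⟩
  by_contra hb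
  have hmem := mem_span_others 𝒜 hpos ℳ hk ht c hc hb
  obtain ⟨K', hK'⟩ : ∃ K', Nat.find hex = K' + 1 := ⟨Nat.find hex - 1, by have := b.isLt; omega⟩
  refine Nat.find_min hex (show K' < Nat.find hex by omega) ?_
  let s : Fin K' → Fin (Nat.find hex) := fun j => Fin.cast hK'.symm ((Fin.cast hK' b).succAbove j)
  refine ⟨t ∘ s, e ∘ s, fun j => ht _, eq_top_iff.2 (htop.ge.trans (Submodule.span_le.2 ?_))⟩
  have hs : t '' {b' | b' ≠ b} ⊆ Set.range (t ∘ s) := by
    rintro _ ⟨b', hb', rfl⟩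
    obtain ⟨j, hj⟩ := Fin.exists_succAbove_eq (x := Fin.cast hK' b') (y := Fin.cast hK' b)
      (fun he => hb' (Fin.cast_injective _ he))
    exact ⟨j, congrArg t (Fin.ext (by simp only [s, hj]; rfl))⟩
  rintro _ ⟨j, rfl⟩
  rcases eq_or_ne j b with rfl | hj
  · exact Submodule.span_mono hs hmem
  · exact Submodule.subset_span (hs ⟨j, hj, rfl⟩)

end Groth.Agent.GrLib8
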