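import Groth.Agent.S15428
import Groth.Agent.GrLib8.MinCover
import Groth.Agent.GrLib8.DegMap
import Groth.Agent.GrLib8.HilbertFn

/-!
# Degree inequalities for the resolution of finitely many points in the plane
-/

set_option autoImplicit false

universe u

open DirectSum

namespace Groth.Agent.GrLib8.HBDegrees

theorem linear_eq_zero {N A B C : ℤ} (d₀ : ℕ) (h : ∀ d : ℕ, d₀ ≤ d → 0 ≤ A * (d : ℤ) ^ 2 + B * d + C ∧ A * (d : ℤ) ^ 2 + B * d + C ≤ N) :
    A = 0 ∧ B = 0 := by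
  let d : ℕ := d₀ + B.natAbs + C.natAbs + N.natAbs + 2
  have hd := h d (by omega)
  have hB : -(B.natAbs : ℤ) ≤ B ∧ B ≤ (B.natAbs : ℤ) := by omega
  have hC : -(C.natAbs : ℤ) ≤ C ∧ C ≤ (C.natAbs : ℤ) := by omega
  have hN : N ≤ (N.natAbs : ℤ) := by omega
  have hd' : (d : ℤ) = d₀ + B.natAbs + C.natAbs + N.natAbs + 2 := by simp only [d]; push_cast; ring
  have hA : A = 0 := by
    rcases lt_trichotomy A 0 with h' | h' | h'
    · exfalso
      have h1 : A * (d : ℤ) ^ 2 ≤ -1 * (d : ℤ) ^ 2 := by gcongr; omega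
      nlinarith [hd.1]
    · exact h'
    · exfalso
      have h1 : (d : ℤ) ^ 2 ≤ A * (d : ℤ) ^ 2 := le_mul_of_one_le_left (sq_nonneg _) h'
      nlinarith [hd.2]
  subst hA
  refine ⟨rfl, ?_⟩
  rcases lt_trichotomy B 0 with h' | h' | h'
  · exfalso
    have h1 : B * (d : ℤ) ≤ -1 * (d : ℤ) := by gcongr; omega
    nlinarith [hd.1]
  · exact h'
  · exfalso
    have h1 : (d : ℤ) ≤ B * (d : ℤ) := le_mul_of_one_le_left (Int.natCast_nonneg _) h'
    nlinarith [hd.2]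

theorem two_choose (x : ℕ) : 2 * ((Nat.choose (2 + x) 2 : ℕ) : ℤ) = ((x : ℤ) + 2) * ((x : ℤ) + 1) := by
  have h : 2 * Nat.choose (2 + x) 2 = (x + 2) * (x + 1) := by
    rw [Nat.choose_two_right, show 2 + x - 1 = x + 1 by omega, show 2 + x = x + 2 by omega]
    refine Nat.mul_div_cancel' ?_
    have := Nat.even_mul_succ_self (x + 1)
    rw [mul_comm]
    exact this.two_dvd
  exact_mod_cast h

variable {k : Type u} [Field k] {M : Type u} [AddCommGroup M] [Module k M] [Module (MvPolynomial (Fin 3) k) M]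
  [IsScalarTower k (MvPolynomial (Fin 3) k) M]
  {ℳ : ℤ → Submodule k M} [DirectSum.Decomposition ℳ] [SetLike.GradedSMul (GrSyz.stdGr k (Fin 3)) ℳ]
  {F : GrSyz.FreeRes (GrSyz.stdGr k (Fin 3)) ℳ}

/-- Entries of a minimal resolution in nonpositive degree vanish. -/
theorem entry_eq_zero (hF : F.IsMinimal (GrSyz.irrel (GrSyz.stdGr k (Fin 3))).toIdeal) (i : ℕ)
    (a : Fin (F.rk i)) (b : Fin (F.rk (i + 1))) (h : F.deg (i + 1) b ≤ F.deg i a) : F.d i a b = 0 := by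
  rcases h.lt_or_eq with h' | h'
  · exact GrLib8.stdGr_nonneg k (Fin 3) _ (by omega) _ (F.d_mem i a b)
  · have hm := F.d_mem i a b
    rw [h', sub_self] at hm
    have h0 := (GrLib8.mem_irrel_iff (𝒜 := GrSyz.stdGr k (Fin 3))
      (fun m hm' r hr => GrLib8.stdGr_nonneg k (Fin 3) m hm' r hr)).1 (hF i a b)
    rwa [decompose_of_mem_same _ hm] at h0

theorem sum_eq [Module.Finite (MvPolynomial (Fin 3) k) M] (hlen : F.HasLengthLE 2) {N : ℤ}
    (hN : ∀ g : ℤ, (Module.finrank k ↥(ℳ g) : ℤ) ≤ N) :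
    (F.rk 0 : ℤ) - F.rk 1 + F.rk 2 = 0 + (0 : ℤ) ∧
      (∑ b, F.deg 0 b) - (∑ b, F.deg 1 b) + (∑ b, F.deg 2 b) = 0 := by
  classical
  let D : ℕ := Finset.univ.sum (fun b => (F.deg 0 b).natAbs) + Finset.univ.sum (fun b => (F.deg 1 b).natAbs) +
    Finset.univ.sum (fun b => (F.deg 2 b).natAbs)
  let q : ℕ → ℤ → ℤ := fun i d => ∑ b : Fin (F.rk i), (d - F.deg i b + 2) * (d - F.deg i b + 1)
  have hq : ∀ i, ∀ d : ℤ, (∀ b, F.deg i b ≤ d) →
      2 * ∑ b : Fin (F.rk i), (if F.deg i b ≤ d then ((Nat.choose (2 + (d - F.deg i b).toNat) 2 : ℕ) : ℤ) else 0) = q i d := by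
    intro i d hd
    rw [Finset.mul_sum]
    refine Finset.sum_congr rfl fun b _ => ?_
    rw [if_pos (hd b), two_choose, Int.toNat_of_nonneg (sub_nonneg.2 (hd b))]
  have hexp : ∀ i (d : ℤ), q i d = (F.rk i : ℤ) * d ^ 2 + (3 * (F.rk i : ℤ) - 2 * ∑ b, F.deg i b) * d +
      ∑ b : Fin (F.rk i), (F.deg i b - 2) * (F.deg i b - 1) := by
    intro i d
    show ∑ b : Fin (F.rk i), (d - F.deg i b + 2) * (d - F.deg i b + 1) = _
    rw [Finset.mul_sum, sub_mul, Finset.sum_mul]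
    rw [show (F.rk i : ℤ) * d ^ 2 = ∑ b : Fin (F.rk i), d ^ 2 by simp,
      show 3 * (F.rk i : ℤ) * d = ∑ b : Fin (F.rk i), 3 * d by simp; ring,
      ← Finset.sum_sub_distrib, ← Finset.sum_add_distrib, ← Finset.sum_add_distrib]
    exact Finset.sum_congr rfl fun b _ => by ring
  have key : ∀ d : ℕ, D ≤ d →
      0 ≤ ((F.rk 0 : ℤ) - F.rk 1 + F.rk 2) * (d : ℤ) ^ 2 +
          ((3 * (F.rk 0 : ℤ) - 2 * ∑ b, F.deg 0 b) - (3 * (F.rk 1 : ℤ) - 2 * ∑ b, F.deg 1 b) +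
            (3 * (F.rk 2 : ℤ) - 2 * ∑ b, F.deg 2 b)) * d +
          ((∑ b : Fin (F.rk 0), (F.deg 0 b - 2) * (F.deg 0 b - 1)) - (∑ b : Fin (F.rk 1), (F.deg 1 b - 2) * (F.deg 1 b - 1)) +
            ∑ b : Fin (F.rk 2), (F.deg 2 b - 2) * (F.deg 2 b - 1)) ∧
        ((F.rk 0 : ℤ) - F.rk 1 + F.rk 2) * (d : ℤ) ^ 2 +
          ((3 * (F.rk 0 : ℤ) - 2 * ∑ b, F.deg 0 b) - (3 * (F.rk 1 : ℤ) - 2 * ∑ b, F.deg 1 b) +
            (3 * (F.rk 2 : ℤ) - 2 * ∑ b, F.deg 2 b)) * d +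
          ((∑ b : Fin (F.rk 0), (F.deg 0 b - 2) * (F.deg 0 b - 1)) - (∑ b : Fin (F.rk 1), (F.deg 1 b - 2) * (F.deg 1 b - 1)) +
            ∑ b : Fin (F.rk 2), (F.deg 2 b - 2) * (F.deg 2 b - 1)) ≤ 2 * N := by
    intro d hd
    have hle : ∀ (n : ℕ) (e : Fin n → ℤ) (b : Fin n), e b ≤ ((∑ c, (e c).natAbs : ℕ) : ℤ) := fun n e b => by
      have := Finset.single_le_sum (f := fun c => (e c).natAbs) (fun c _ => Nat.zero_le _) (Finset.mem_univ b)
      omega
    have h0 : ∀ b, F.deg 0 b ≤ (d : ℤ) := fun b => (hle _ _ b).trans (by omega)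
    have h1 : ∀ b, F.deg 1 b ≤ (d : ℤ) := fun b => (hle _ _ b).trans (by omega)
    have h2 : ∀ b, F.deg 2 b ≤ (d : ℤ) := fun b => (hle _ _ b).trans (by omega)
    have hfr := Groth.Agent.S15428.result k 2 M ℳ F 2 hlen (d : ℤ)
    simp only [Finset.sum_range_succ, Finset.sum_range_zero, zero_add, pow_zero, pow_one, one_mul] at hfr
    have h3 : 2 * (Module.finrank k ↥(ℳ (d : ℤ)) : ℤ) = q 0 d - q 1 d + q 2 d := by
      rw [hfr, ← hq 0 _ h0, ← hq 1 _ h1, ← hq 2 _ h2]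
      ring
    rw [hexp, hexp, hexp] at h3
    have h4 := hN (d : ℤ)
    have h5 : (0 : ℤ) ≤ (Module.finrank k ↥(ℳ (d : ℤ)) : ℤ) := Int.natCast_nonneg _
    constructor <;> nlinarith
  obtain ⟨hA, hB⟩ := linear_eq_zero D key
  exact ⟨by omega, by omega⟩

/-- The degree inequalities. -/
theorem deg_lt (hF : F.IsMinimal (GrSyz.irrel (GrSyz.stdGr k (Fin 3))).toIdeal) (hlen : F.HasLengthLE 2)
    (h0 : F.rk 0 = 1) (t : ℕ) (h1 : F.rk 1 = t + 1) (h2 : F.rk 2 = t)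
    (ha : ∀ i j : Fin (t + 1), i ≤ j → F.deg 1 (Fin.cast h1.symm j) ≤ F.deg 1 (Fin.cast h1.symm i))
    (hb : ∀ i j : Fin t, i ≤ j → F.deg 2 (Fin.cast h2.symm j) ≤ F.deg 2 (Fin.cast h2.symm i)) (i : Fin t) :
    1 ≤ F.deg 2 (Fin.cast h2.symm i) - F.deg 1 (Fin.cast h1.symm i.castSucc) := by
  classical
  by_contra hlt
  push_neg at hlt
  let S := MvPolynomial (Fin 3) k
  let m := t - i.1
  let row : Fin m → Fin (F.rk 1) := fun s => ⟨i.1 + 1 + s.1, by omega⟩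
  let col : Fin m → Fin (F.rk 2) := fun s => ⟨i.1 + s.1, by omega⟩
  have hrow : Function.Injective row := fun s s' h => Fin.ext (by simpa [row] using h)
  have hcol : Function.Injective col := fun s s' h => Fin.ext (by simpa [col] using h)
  have hzero : ∀ (a : Fin (F.rk 1)) (s : Fin m), a.1 ≤ i.1 → F.d 1 a (col s) = 0 := fun a s hai => by
    refine entry_eq_zero hF 1 a (col s) ?_
    have e1 := ha ⟨a.1, by omega⟩ i.castSucc hai
    have e2 := hb i ⟨(col s).1, by show i.1 + s.1 < t; omega⟩ (by show i.1 ≤ i.1 + s.1; omega)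
    have : F.deg 2 (col s) ≤ F.deg 2 (Fin.cast h2.symm i) := e2
    have : F.deg 1 (Fin.cast h1.symm i.castSucc) ≤ F.deg 1 a := e1
    show F.deg (1 + 1) (col s) ≤ F.deg 1 a
    show F.deg 2 (col s) ≤ F.deg 1 a
    omega
  have hexists : ∀ a : Fin (F.rk 1), i.1 < a.1 → ∃ s, row s = a := fun a hai =>
    ⟨⟨a.1 - i.1 - 1, by omega⟩, Fin.ext (by simp [row]; omega)⟩
  let B : Matrix (Fin m) (Fin m) S := fun s s' => F.d 1 (row s) (col s')
  let b₀ : Fin (F.rk 0) := ⟨0, by omega⟩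
  have hu : ∀ b : Fin (F.rk 0), b = b₀ := fun b => Fin.ext (by have := b.2; show b.1 = 0; omega)
  let v : Fin m → S := fun s => F.d 0 b₀ (row s)
  have hcomp : ∀ c : Fin (F.rk 2), ∑ a, F.d 0 b₀ a * F.d 1 a c = 0 := fun c => by
    have h := LinearMap.mem_ker.1 ((F.exact_succ 0).ge (LinearMap.mem_range_self (Matrix.mulVecLin (F.d 1)) (Pi.single c 1)))
    have h' := congrFun h b₀
    simpa [Matrix.mulVecLin_apply, Matrix.mulVec, dotProduct, Pi.single_apply] using h'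
  have hv : Matrix.vecMul v B = 0 := funext fun s' => by
    refine Eq.trans ?_ (hcomp (col s'))
    show ∑ s, v s * B s s' = _
    refine Finset.sum_of_injOn row hrow.injOn (fun _ _ => Finset.mem_univ _) (fun a _ hne => ?_) fun s _ => rfl
    rcases Nat.lt_or_ge i.1 a.1 with h | h
    · exact absurd (by obtain ⟨s, hs⟩ := hexists a h; exact ⟨s, Finset.mem_coe.2 (Finset.mem_univ _), hs⟩) hne
    · rw [hzero a s' h, mul_zero]
  have hm : 0 < m := Nat.sub_pos_of_lt i.2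
  have hvne : v ≠ 0 := fun h => by
    have h' : F.d 0 b₀ (row ⟨0, hm⟩) = 0 := congrFun h ⟨0, hm⟩
    have hker : Pi.single (row ⟨0, hm⟩) 1 ∈ LinearMap.ker (Matrix.mulVecLin (F.d 0)) := by
      refine LinearMap.mem_ker.2 (funext fun b => ?_)
      rw [hu b]
      simpa [Matrix.mulVecLin_apply, Matrix.mulVec, dotProduct, Pi.single_apply] using h'
    rw [F.exact_succ 0] at hker
    obtain ⟨w, hw⟩ := hker
    have h1' := congrFun hw (row ⟨0, hm⟩)
    rw [Pi.single_eq_same, Matrix.mulVecLin_apply] at h1'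
    have hmem : (1 : S) ∈ (GrSyz.irrel (GrSyz.stdGr k (Fin 3))).toIdeal := by
      rw [← h1']
      show ∑ c, F.d 1 (row ⟨0, hm⟩) c * w c ∈ _
      exact Ideal.sum_mem _ fun c _ => Ideal.mul_mem_right _ _ (hF 1 _ c)
    have h00 := (GrLib8.mem_irrel_iff (𝒜 := GrSyz.stdGr k (Fin 3))
      (fun m hm' r hr => GrLib8.stdGr_nonneg k (Fin 3) m hm' r hr)).1 hmem
    rw [decompose_of_mem_same _ (SetLike.one_mem_graded (GrSyz.stdGr k (Fin 3)))] at h00
    exact one_ne_zero h00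
  obtain ⟨w, hwne, hw⟩ := Matrix.exists_mulVec_eq_zero_iff.2 (Matrix.exists_vecMul_eq_zero_iff.1 ⟨v, hvne, hv⟩)
  let w' : Fin (F.rk (1 + 1)) → S := Function.extend col w 0
  have hw' : w' ∈ LinearMap.ker (Matrix.mulVecLin (F.d 1)) := by
    refine LinearMap.mem_ker.2 (funext fun a => ?_)
    rw [Matrix.mulVecLin_apply]
    show ∑ c, F.d 1 a c * w' c = 0
    rw [← Finset.sum_of_injOn col hcol.injOn (f := fun s => F.d 1 a (col s) * w s) (s := Finset.univ)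
      (fun _ _ => Finset.mem_univ _) (fun c _ hne => ?_) (fun s _ => by simp only [w', hcol.extend_apply])]
    · rcases Nat.lt_or_ge i.1 a.1 with h | h
      · obtain ⟨s, rfl⟩ := hexists a h
        exact congrFun hw s
      · exact Finset.sum_eq_zero fun s _ => by rw [hzero a s h, zero_mul]
    · show F.d 1 a c * Function.extend col w 0 c = 0
      rw [Function.extend_apply' w (0 : Fin (F.rk (1 + 1)) → S) c fun ⟨s, hs⟩ => hne ⟨s, Finset.mem_coe.2 (Finset.mem_univ s), hs⟩,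
        Pi.zero_apply, mul_zero]
  rw [F.exact_succ 1] at hw'
  obtain ⟨z, hz⟩ := hw'
  haveI : IsEmpty (Fin (F.rk (1 + 1 + 1))) := by rw [hlen 3 (by norm_num)]; infer_instance
  have hz0 : w' = 0 := by rw [← hz, Subsingleton.elim z 0, map_zero]
  exact hwne (funext fun s => by
    have := congrFun hz0 (col s)
    simpa only [w', hcol.extend_apply, Pi.zero_apply] using this)

end Groth.Agent.GrLib8.HBDegrees
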