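import Groth.Prelude.Def_DualLC
import Groth.Agent.LC.Finiteness
import Groth.Agent.LC.CohTorsion

/-!
# Local cohomology with supports in a specialization stable subset
-/

set_option autoImplicit false

universe u

open CategoryTheory Limits Opposite

namespace Groth.Agent.GrLib8.HTLib

variable {R : Type u} [CommRing R] {T : Set (PrimeSpectrum R)}

/-- The indexing ideals. -/
abbrev Idx (T : Set (PrimeSpectrum R)) := (Dual2.IdealsIn T)ᵒᵖ

/-- The ideal of an index. -/
abbrev idl (K : Idx T) : Ideal R := (Dual2.idealsInDiagram T).obj K.unop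

theorem idl_le {K K' : Idx T} (a : K ⟶ K') : idl K' ≤ idl K := leOfHom ((Dual2.idealsInDiagram T).map a.unop)

/-- The index of an ideal. -/
def mkIdx (J : Ideal R) (hJ : PrimeSpectrum.zeroLocus (J : Set R) ⊆ T) : Idx T :=
  op (⟨J, hJ⟩ : ObjectProperty.FullSubcategory _)

theorem idl_zeroLocus (K : Idx T) : PrimeSpectrum.zeroLocus (idl K : Set R) ⊆ T := K.unop.property

/-- The arrow of an inclusion. -/
def mkArr {K K' : Idx T} (h : idl K' ≤ idl K) : K ⟶ K' := (ObjectProperty.homMk (homOfLE h)).op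

theorem zeroLocus_mul_subset {J K : Ideal R} (hJ : PrimeSpectrum.zeroLocus (J : Set R) ⊆ T)
    (hK : PrimeSpectrum.zeroLocus (K : Set R) ⊆ T) : PrimeSpectrum.zeroLocus ((J * K : Ideal R) : Set R) ⊆ T := by
  rw [PrimeSpectrum.zeroLocus_mul]
  exact Set.union_subset hJ hK

theorem zeroLocus_pow_subset {J : Ideal R} (hJ : PrimeSpectrum.zeroLocus (J : Set R) ⊆ T) :
    ∀ n : ℕ, PrimeSpectrum.zeroLocus ((J ^ n : Ideal R) : Set R) ⊆ T := by
  intro n
  induction n with
  | zero => simp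
  | succ n ih => rw [pow_succ]; exact zeroLocus_mul_subset ih hJ

instance : IsFiltered (Idx T) where
  nonempty := ⟨mkIdx ⊤ (by simp)⟩
  cocone_objs K K' := ⟨mkIdx (idl K * idl K') (zeroLocus_mul_subset (idl_zeroLocus K) (idl_zeroLocus K')),
    mkArr Ideal.mul_le_left, mkArr Ideal.mul_le_right, trivial⟩
  cocone_maps K K' f g := ⟨K', 𝟙 _, by
    rw [Category.comp_id, Category.comp_id]
    exact Quiver.Hom.unop_inj (InducedCategory.hom_ext (Subsingleton.elim _ _))⟩

/-- `R/K`. -/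
noncomputable abbrev qO (K : Idx T) : ModuleCat.{u} R := ModuleCat.of R (R ⧸ idl K)

/-- The projection. -/
noncomputable def qA {K K' : Idx T} (a : K ⟶ K') : qO K' ⟶ qO K :=
  ModuleCat.ofHom (Submodule.mapQ _ _ LinearMap.id (idl_le a))

variable (i : ℕ)

/-- Restriction of classes to a smaller ideal. -/
noncomputable def rs {K K' : Idx T} (a : K ⟶ K') (M : ModuleCat.{u} R) :
    Abelian.Ext (qO K) M i →ₗ[R] Abelian.Ext (qO K') M i :=
  (Abelian.Ext.mk₀ (qA a)).precompOfLinear R M (zero_add i)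

theorem rs_comp {K K' : Idx T} (a : K ⟶ K') {i j : ℕ} {M N : ModuleCat.{u} R} {d : ℕ} (hd : i + d = j)
    (x : Abelian.Ext (qO K) M i) (β : Abelian.Ext M N d) :
    rs j a N (x.comp β hd) = (rs i a M x).comp β hd :=
  (Abelian.Ext.comp_assoc _ _ _ (zero_add i) hd (by omega)).symm

theorem rs_rs {K K' K'' : Idx T} (a : K ⟶ K') (b : K' ⟶ K'') {M : ModuleCat.{u} R} (x : Abelian.Ext (qO K) M i) :
    rs i b M (rs i a M x) = rs i (a ≫ b) M x := by
  show (Abelian.Ext.mk₀ (qA b)).comp ((Abelian.Ext.mk₀ (qA a)).comp x (zero_add i)) (zero_add i) = _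
  rw [← Abelian.Ext.comp_assoc _ _ _ (zero_add 0) (zero_add i) (by simp), Abelian.Ext.mk₀_comp_mk₀,
    show qA b ≫ qA a = qA (a ≫ b) by ext; rfl]
  rfl

/-- The bridge at an index. -/
noncomputable def lv (K : Idx T) (M : ModuleCat.{u} R) :
    (((localCohomology.diagram (Dual2.idealsInDiagram T) i).obj K).obj M) ≃ₗ[R] Abelian.Ext (qO K) M i :=
  LC.ExtBridge.bridge (projectiveResolution (qO K)) M i

variable (T) in
/-- The colimit. -/
noncomputable abbrev HTo (M : ModuleCat.{u} R) : ModuleCat.{u} R :=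
  (localCohomology.ofDiagram.{u, u} (Dual2.idealsInDiagram T) i).obj M

/-- The structure map. -/
noncomputable def tH (M : ModuleCat.{u} R) (K : Idx T) : Abelian.Ext (qO K) M i →ₗ[R] HTo T i M :=
  ((colimit.ι (localCohomology.diagram (Dual2.idealsInDiagram T) i) K).app M).hom ∘ₗ (lv i K M).symm.toLinearMap

theorem tH_lv (M : ModuleCat.{u} R) (K : Idx T) (w : ((localCohomology.diagram (Dual2.idealsInDiagram T) i).obj K).obj M) :
    tH i M K (lv i K M w) = ((colimit.ι (localCohomology.diagram (Dual2.idealsInDiagram T) i) K).app M).hom w :=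
  congrArg _ ((lv i K M).symm_apply_apply w)

theorem lv_map {K K' : Idx T} (a : K ⟶ K') (M : ModuleCat.{u} R)
    (w : ((localCohomology.diagram (Dual2.idealsInDiagram T) i).obj K).obj M) :
    lv i K' M ((((localCohomology.diagram (Dual2.idealsInDiagram T) i).map a).app M).hom w) = rs i a M (lv i K M w) :=
  LC.ExtBridge.bridge_natural_left (projectiveResolution (qO K)) M i (projectiveResolution (qO K')) (qA a) w

theorem tH_rs {K K' : Idx T} (a : K ⟶ K') {M : ModuleCat.{u} R} (x : Abelian.Ext (qO K) M i) :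
    tH i M K' (rs i a M x) = tH i M K x := by
  obtain ⟨w, rfl⟩ := (lv i K M).surjective x
  rw [← lv_map, tH_lv, tH_lv]
  exact ConcreteCategory.congr_hom (congrArg (fun t => t.app M)
    (colimit.w (localCohomology.diagram (Dual2.idealsInDiagram T) i) a)) w

theorem exists_tH {M : ModuleCat.{u} R} (z : HTo T i M) : ∃ K x, tH i M K x = z := by
  obtain ⟨K, w, hw⟩ := Concrete.isColimit_exists_rep _
    (isColimitOfPreserves ((evaluation _ _).obj M) (colimit.isColimit (localCohomology.diagram (Dual2.idealsInDiagram T) i))) z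
  exact ⟨K, lv i K M w, (tH_lv i M K w).trans hw⟩

theorem tH_eq_zero_iff {M : ModuleCat.{u} R} {K : Idx T} (x : Abelian.Ext (qO K) M i) :
    tH i M K x = 0 ↔ ∃ (K' : Idx T) (a : K ⟶ K'), rs i a M x = 0 := by
  refine ⟨fun hx => ?_, fun ⟨K', a, h⟩ => by rw [← tH_rs i a, h, map_zero]⟩
  obtain ⟨K', f, g, hk⟩ := Concrete.isColimit_exists_of_rep_eq _
    (isColimitOfPreserves ((evaluation _ _).obj M) (colimit.isColimit (localCohomology.diagram (Dual2.idealsInDiagram T) i)))
    (i := K) (j := K) ((lv i K M).symm x) (0 : ((localCohomology.diagram (Dual2.idealsInDiagram T) i).obj K).obj M)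
    ((show tH i M K x = _ from hx).trans (map_zero _).symm)
  refine ⟨K', f, ?_⟩
  rw [← LinearEquiv.apply_symm_apply (lv i K M) x, ← lv_map, LinearEquiv.map_eq_zero_iff]
  exact hk.trans (map_zero _)

theorem tH_natural {M N : ModuleCat.{u} R} (g : M ⟶ N) {K : Idx T} (x : Abelian.Ext (qO K) M i) :
    ((localCohomology.ofDiagram.{u, u} (Dual2.idealsInDiagram T) i).map g).hom (tH i M K x) =
      tH i N K (x.comp (Abelian.Ext.mk₀ g) (add_zero i)) := by
  obtain ⟨w, rfl⟩ := (lv i K M).surjective x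
  have h := LC.ExtBridge.bridge_natural_right (projectiveResolution (qO K)) M i g w
  rw [show (lv i K M w).comp (Abelian.Ext.mk₀ g) (add_zero i) = lv i K N
    ((((localCohomology.diagram (Dual2.idealsInDiagram T) i).obj K).map g).hom w) from h.symm, tH_lv, tH_lv]
  exact (ConcreteCategory.congr_hom
    ((colimit.ι (localCohomology.diagram (Dual2.idealsInDiagram T) i) K).naturality g) w).symm

/-- Multiplication by an element of the ideal kills `Ext`. -/
theorem smul_ext_eq_zero {K : Idx T} {M : ModuleCat.{u} R} (x : Abelian.Ext (qO K) M i) {a : R} (ha : a ∈ idl K) :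
    a • x = 0 := by
  have h : a • 𝟙 (qO K) = 0 := by
    refine ModuleCat.hom_ext (LinearMap.ext fun z => ?_)
    obtain ⟨r, rfl⟩ := Submodule.Quotient.mk_surjective _ z
    show a • (Submodule.Quotient.mk r : R ⧸ idl K) = 0
    rw [← Submodule.Quotient.mk_smul, Submodule.Quotient.mk_eq_zero]
    exact Ideal.mul_mem_right r _ ha
  rw [← Abelian.Ext.mk₀_id_comp x, ← Abelian.Ext.smul_comp, ← Abelian.Ext.mk₀_smul, h, Abelian.Ext.mk₀_zero,
    Abelian.Ext.zero_comp]

theorem isKilled (M : ModuleCat.{u} R) (z : HTo T i M) :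
    ∃ J : Ideal R, PrimeSpectrum.zeroLocus (J : Set R) ⊆ T ∧ ∀ a ∈ J, a • z = 0 := by
  obtain ⟨K, x, rfl⟩ := exists_tH i z
  exact ⟨idl K, idl_zeroLocus K, fun a ha => by rw [← map_smul, smul_ext_eq_zero i x ha, map_zero]⟩

variable [IsNoetherianRing R]

theorem exists_kill_of_finite {H : Type u} [AddCommGroup H] [Module R H] [Module.Finite R H]
    (hH : ∀ z : H, ∃ J : Ideal R, PrimeSpectrum.zeroLocus (J : Set R) ⊆ T ∧ ∀ a ∈ J, a • z = 0) :
    ∃ J : Ideal R, PrimeSpectrum.zeroLocus (J : Set R) ⊆ T ∧ ∀ a ∈ J, ∀ z : H, a • z = 0 := by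
  classical
  obtain ⟨k, f, hf⟩ := Module.Finite.exists_fin (R := R) (M := H)
  choose J hJ hk using fun j => hH (f j)
  refine ⟨∏ j, J j, Finset.prod_induction _ (fun J : Ideal R => PrimeSpectrum.zeroLocus (J : Set R) ⊆ T)
    (fun _ _ => zeroLocus_mul_subset) (by simp) fun j _ => hJ j, fun a ha z => ?_⟩
  have hz : z ∈ (⊤ : Submodule R H) := trivial
  rw [← hf] at hz
  induction hz using Submodule.span_induction with
  | mem z hz =>
    obtain ⟨j, rfl⟩ := hz
    exact hk j a (Ideal.le_of_dvd (Finset.dvd_prod_of_mem J (Finset.mem_univ j)) ha)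
  | zero => rw [smul_zero]
  | add x y _ _ hx hy => rw [smul_add, hx, hy, add_zero]
  | smul r y _ hy => rw [smul_comm, hy, smul_zero]

omit [IsNoetherianRing R] in
/-- Degree zero is a submodule of the module. -/
theorem exists_injective_zero (M : ModuleCat.{u} R) :
    ∃ Φ : HTo T 0 M →ₗ[R] M, Function.Injective Φ ∧
      ∀ z, ∃ J : Ideal R, PrimeSpectrum.zeroLocus (J : Set R) ⊆ T ∧ ∀ a ∈ J, a • Φ z = 0 := by
  choose N X hX using fun z : HTo T 0 M => exists_tH 0 z
  let ev : ∀ K : Idx T, Abelian.Ext (qO K) M 0 → M := fun K x =>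
    (Abelian.Ext.addEquiv₀ x).hom (Ideal.Quotient.mk (idl K) 1)
  have hev : ∀ {K K' : Idx T} (a : K ⟶ K') (x : Abelian.Ext (qO K) M 0), ev K' (rs 0 a M x) = ev K x := by
    intro K K' a x
    obtain ⟨g, rfl⟩ := Abelian.Ext.addEquiv₀.symm.surjective x
    show (Abelian.Ext.addEquiv₀ ((Abelian.Ext.mk₀ (qA a)).comp (Abelian.Ext.mk₀ g) (zero_add 0))).hom _ = _
    rw [Abelian.Ext.mk₀_comp_mk₀]
    simp only [ev, AddEquiv.apply_symm_apply]
    rw [show Abelian.Ext.addEquiv₀ (Abelian.Ext.mk₀ (qA a ≫ g)) = qA a ≫ g from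
      Abelian.Ext.addEquiv₀.apply_symm_apply _]
    rfl
  have hinj : ∀ {K : Idx T} (x : Abelian.Ext (qO K) M 0), ev K x = 0 → x = 0 := by
    intro K x hx
    refine Abelian.Ext.addEquiv₀.injective (ModuleCat.hom_ext (LinearMap.ext fun z => ?_))
    obtain ⟨r, rfl⟩ := Submodule.Quotient.mk_surjective _ z
    have hr : (Submodule.Quotient.mk r : R ⧸ idl K) = r • (Ideal.Quotient.mk (idl K) 1) := by
      rw [← Ideal.Quotient.mk_eq_mk, ← Submodule.Quotient.mk_smul, smul_eq_mul, mul_one]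
    rw [hr, map_smul, show (Abelian.Ext.addEquiv₀ x).hom (Ideal.Quotient.mk (idl K) 1) = 0 from hx, smul_zero]
    simp
  have key : ∀ z K x, tH 0 M K x = z → ev K x = ev (N z) (X z) := by
    intro z K x hx
    have h1 : tH 0 M (IsFiltered.max K (N z)) (rs 0 (IsFiltered.leftToMax K (N z)) M x -
        rs 0 (IsFiltered.rightToMax K (N z)) M (X z)) = 0 := by
      rw [map_sub, tH_rs, tH_rs, hx, hX, sub_self]
    obtain ⟨K', a, hz⟩ := (tH_eq_zero_iff 0 _).1 h1
    rw [map_sub, sub_eq_zero, rs_rs, rs_rs] at hz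
    rw [← hev (IsFiltered.leftToMax K (N z) ≫ a) x, hz, hev]
  have hadd : ∀ (K : Idx T) (x y : Abelian.Ext (qO K) M 0), ev K (x + y) = ev K x + ev K y := fun K x y => by
    simp [ev, map_add]
  have hsmul : ∀ (K : Idx T) (c : R) (x : Abelian.Ext (qO K) M 0), ev K (c • x) = c • ev K x := fun K c x => by
    obtain ⟨g, rfl⟩ := Abelian.Ext.addEquiv₀.symm.surjective x
    simp only [ev, AddEquiv.apply_symm_apply]
    rw [show Abelian.Ext.addEquiv₀.symm g = Abelian.Ext.mk₀ g from rfl, ← Abelian.Ext.mk₀_smul,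
      show Abelian.Ext.addEquiv₀ (Abelian.Ext.mk₀ (c • g)) = c • g from Abelian.Ext.addEquiv₀.apply_symm_apply _]
    rfl
  let Φ : HTo T 0 M →ₗ[R] M :=
    { toFun := fun z => ev (N z) (X z)
      map_add' := fun z z' => by
        rw [← key (z + z') _ (rs 0 (IsFiltered.leftToMax (N z) (N z')) M (X z) +
          rs 0 (IsFiltered.rightToMax (N z) (N z')) M (X z')) (by rw [map_add, tH_rs, tH_rs, hX, hX]), hadd, hev, hev]
      map_smul' := fun c z => by
        rw [RingHom.id_apply, ← key (c • z) (N z) (c • X z) (by rw [map_smul, hX]), hsmul] }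
  refine ⟨Φ, (injective_iff_map_eq_zero Φ).2 fun z hz => ?_,
    fun z => ⟨idl (N z), idl_zeroLocus (N z), fun a ha => ?_⟩⟩
  · rw [← hX z, hinj (X z) hz, map_zero]
  · show a • ev (N z) (X z) = 0
    rw [← hsmul, smul_ext_eq_zero 0 (X z) ha]
    simp [ev]

/-- A finite module killed by an ideal of the family has no higher cohomology: every class dies. -/
theorem exists_rs_eq_zero_of_killed (P : ModuleCat.{u} R) (J : Ideal R) (hJ : PrimeSpectrum.zeroLocus (J : Set R) ⊆ T)
    (hP : ∀ a ∈ J, ∀ z : P, a • z = 0) {K : Idx T} (x : Abelian.Ext (qO K) P (i + 1)) :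
    ∃ (K' : Idx T) (a : K ⟶ K'), rs (i + 1) a P x = 0 := by
  let K₁ : Idx T := mkIdx (idl K * J) (zeroLocus_mul_subset (idl_zeroLocus K) hJ)
  let a₁ : K ⟶ K₁ := mkArr Ideal.mul_le_left
  haveI : Subsingleton ((localCohomology (idl K₁) (i + 1)).obj P) :=
    LC.subsingleton_of_torsion (idl K₁) i P fun z => ⟨1, fun b hb => hP b (Ideal.mul_le_right (by rwa [pow_one] at hb)) z⟩
  let u : LC.qObj (idl K₁) 1 ⟶ qO K := ModuleCat.ofHom (Submodule.mapQ _ _ LinearMap.id (by
    intro b hb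
    rw [pow_one] at hb
    exact (Ideal.mul_le_left : idl K * J ≤ idl K) hb))
  let y := (Abelian.Ext.mk₀ u).comp x (zero_add (i + 1))
  obtain ⟨m, hm, hy⟩ := (LC.toH_eq_zero_iff (idl K₁) (i + 1) y).1 (Subsingleton.elim _ _)
  let K' : Idx T := mkIdx (idl K₁ ^ m) (zeroLocus_pow_subset (idl_zeroLocus K₁) m)
  refine ⟨K', mkArr (K := K) (K' := K') ((Ideal.pow_le_self (by omega)).trans Ideal.mul_le_left), ?_⟩
  rw [LC.res_apply] at hy
  have hy' : (Abelian.Ext.mk₀ (LC.qMap (idl K₁) hm)).comp ((Abelian.Ext.mk₀ u).comp x (zero_add (i + 1))) (zero_add (i + 1)) = 0 := hy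
  rw [← Abelian.Ext.comp_assoc _ _ _ (zero_add 0) (zero_add (i + 1)) (by simp), Abelian.Ext.mk₀_comp_mk₀] at hy'
  refine Eq.trans ?_ hy'
  show (Abelian.Ext.mk₀ (qA _)).comp x (zero_add (i + 1)) = _
  congr 2
  ext
  rfl

/-- The image of the connecting map is finite. -/
theorem finite_of_seq {S : ShortComplex (ModuleCat.{u} R)} (hS : S.ShortExact)
    (hk : ∀ z : HTo T (i + 1) S.X₁, ((localCohomology.ofDiagram.{u, u} (Dual2.idealsInDiagram T) (i + 1)).map S.f).hom z = 0)
    (hfin : Module.Finite R (HTo T i S.X₃)) : Module.Finite R (HTo T (i + 1) S.X₁) := by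
  classical
  obtain ⟨k, f, hf⟩ := Module.Finite.exists_fin (R := R) (M := HTo T i S.X₃)
  choose K0 w hw using fun j => exists_tH i (f j)
  let b : Fin k → HTo T (i + 1) S.X₁ := fun j => tH (i + 1) S.X₁ (K0 j) ((w j).comp hS.extClass rfl)
  let ψ : ∀ K : Idx T, Abelian.Ext (qO K) S.X₃ i →ₗ[R] Abelian.Ext (qO K) S.X₁ (i + 1) := fun K =>
    hS.extClass.postcompOfLinear R (qO K) rfl
  have hψ : ∀ {K K' : Idx T} (a : K ⟶ K') (y : Abelian.Ext (qO K) S.X₃ i),
      tH (i + 1) S.X₁ K' (ψ K' (rs i a S.X₃ y)) = tH (i + 1) S.X₁ K (ψ K y) := by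
    intro K K' a y
    rw [← tH_rs (i + 1) a (ψ K y)]
    exact congrArg _ (rs_comp a rfl y hS.extClass).symm
  have key : ∀ (K : Idx T) (y : Abelian.Ext (qO K) S.X₃ i),
      tH (i + 1) S.X₁ K (ψ K y) ∈ Submodule.span R (Set.range b) := by
    intro K y
    have hz : tH i S.X₃ K y ∈ Submodule.span R (Set.range f) := by rw [hf]; trivial
    obtain ⟨c, hc⟩ := (Submodule.mem_span_range_iff_exists_fun R).1 hz
    obtain ⟨K', hK'⟩ := IsFiltered.sup_objs_exists (insert K (Finset.univ.image K0))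
    obtain ⟨a'⟩ := hK' (Finset.mem_insert_self _ _)
    let a : ∀ j, K0 j ⟶ K' := fun j =>
      (hK' (Finset.mem_insert_of_mem (Finset.mem_image_of_mem _ (Finset.mem_univ j)))).some
    have h0 : tH i S.X₃ K' (rs i a' _ y - ∑ j, c j • rs i (a j) _ (w j)) = 0 := by
      simp only [map_sub, map_sum, map_smul, tH_rs, hw, hc, sub_self]
    obtain ⟨K'', a'', hzero⟩ := (tH_eq_zero_iff i _).1 h0
    have h1 : tH (i + 1) S.X₁ K' (ψ K' (rs i a' _ y - ∑ j, c j • rs i (a j) _ (w j))) = 0 := by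
      rw [← hψ a'', hzero]
      simp
    simp only [map_sub, map_sum, map_smul, hψ, sub_eq_zero] at h1
    rw [h1]
    exact Submodule.sum_mem _ fun j _ => Submodule.smul_mem _ _ (Submodule.subset_span ⟨j, rfl⟩)
  refine ⟨Submodule.fg_iff_exists_fin_generating_family.2 ⟨k, b, top_le_iff.1 fun z _ => ?_⟩⟩
  obtain ⟨K, y, rfl⟩ := exists_tH (i + 1) z
  have hxy := hk (tH (i + 1) S.X₁ K y)
  rw [tH_natural, tH_eq_zero_iff] at hxy
  obtain ⟨K', a, ha⟩ := hxy
  rw [rs_comp] at ha
  obtain ⟨v, hv⟩ := Abelian.Ext.covariant_sequence_exact₁ (qO K') hS (rs (i + 1) a S.X₁ y) ha rfl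
  rw [← tH_rs (i + 1) a, ← hv]
  exact key K' v

/-- Killing passes to the third term. -/
theorem kill_seq {S : ShortComplex (ModuleCat.{u} R)} (hS : S.ShortExact) {a b : R}
    (ha : ∀ z : HTo T (i + 1) S.X₁, a • z = 0) (hb : ∀ z : HTo T i S.X₂, b • z = 0)
    (z : HTo T i S.X₃) : (b * a) • z = 0 := by
  obtain ⟨K, w, rfl⟩ := exists_tH i z
  have h1 := ha (tH (i + 1) S.X₁ K (w.comp hS.extClass rfl))
  rw [← map_smul, ← Abelian.Ext.smul_comp, tH_eq_zero_iff] at h1
  obtain ⟨K', c, hc⟩ := h1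
  rw [rs_comp, map_smul] at hc
  obtain ⟨v, hv⟩ := Abelian.Ext.covariant_sequence_exact₃ (qO K') hS (a • rs i c _ w) rfl hc
  rw [← tH_rs i c w, mul_smul, ← map_smul (tH i S.X₃ K') a, ← hv, ← tH_natural, ← map_smul, hb, map_zero]

theorem map_smulShortComplex_f (M : ModuleCat.{u} R) (x : R) (z : HTo T (i + 1) M) :
    ((localCohomology.ofDiagram.{u, u} (Dual2.idealsInDiagram T) (i + 1)).map (M.smulShortComplex x).f).hom z = x • z := by
  obtain ⟨K, y, rfl⟩ := exists_tH (i + 1) z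
  refine (tH_natural (i + 1) (M.smulShortComplex x).f y).trans ?_
  rw [← map_smul]
  refine congrArg _ ?_
  rw [Abelian.Ext.smul_eq_comp_mk₀]
  congr 1

/-- Finiteness from annihilation. -/
theorem finite_of_kill (n : ℕ) :
    ∀ (M : Type u) [AddCommGroup M] [Module R M] [Module.Finite R M] (J : Ideal R),
      PrimeSpectrum.zeroLocus (J : Set R) ⊆ T →
      (∀ l ≤ n, ∀ a ∈ J, ∀ z : HTo T l (ModuleCat.of R M), a • z = 0) →
      ∀ l ≤ n, Module.Finite R (HTo T l (ModuleCat.of R M)) := by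
  have base : ∀ (M : Type u) [AddCommGroup M] [Module R M] [Module.Finite R M],
      Module.Finite R (HTo T 0 (ModuleCat.of R M)) := fun M _ _ _ => by
    obtain ⟨Φ, hΦ, -⟩ := exists_injective_zero (T := T) (ModuleCat.of R M)
    exact Module.Finite.of_injective Φ hΦ
  induction n with
  | zero =>
    intro M _ _ _ J _ _ l hl
    obtain rfl : l = 0 := by omega
    exact base M
  | succ n ih =>
    intro M _ _ _ J hJ hk l hl
    rcases l with _ | j
    · exact base M
    -- the torsion part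
    let G : Submodule R M :=
      { carrier := {m | ∃ K : Ideal R, PrimeSpectrum.zeroLocus (K : Set R) ⊆ T ∧ ∀ a ∈ K, a • m = 0}
        zero_mem' := ⟨⊤, by simp, fun a _ => smul_zero a⟩
        add_mem' := fun ⟨K, hK, h⟩ ⟨K', hK', h'⟩ => ⟨K * K', zeroLocus_mul_subset hK hK', fun a ha => by
          rw [smul_add, h a (Ideal.mul_le_left ha), h' a (Ideal.mul_le_right ha), add_zero]⟩
        smul_mem' := fun c _ ⟨K, hK, h⟩ => ⟨K, hK, fun a ha => by rw [smul_comm, h a ha, smul_zero]⟩ }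
    haveI : Module.Finite R G := Module.Finite.iff_fg.2 (IsNoetherian.noetherian G)
    obtain ⟨K0, hK0, hkill⟩ := exists_kill_of_finite (T := T) (H := G) fun z => by
      obtain ⟨K, hK, h⟩ := z.2
      exact ⟨K, hK, fun a ha => Subtype.ext (h a ha)⟩
    let S : ShortComplex (ModuleCat.{u} R) := ShortComplex.mk (ModuleCat.ofHom G.subtype) (ModuleCat.ofHom G.mkQ)
      (ModuleCat.hom_ext (LinearMap.exact_subtype_mkQ G).linearMap_comp_eq_zero)
    have hS : S.ShortExact :=
      { exact := (ShortComplex.ShortExact.moduleCat_exact_iff_function_exact _).2 (LinearMap.exact_subtype_mkQ G)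
        mono_f := (ModuleCat.mono_iff_injective _).2 Subtype.val_injective
        epi_g := (ModuleCat.epi_iff_surjective _).2 G.mkQ_surjective }
    let φ : ∀ l, HTo T l (ModuleCat.of R M) →ₗ[R] HTo T l (ModuleCat.of R (M ⧸ G)) := fun l =>
      ((localCohomology.ofDiagram.{u, u} (Dual2.idealsInDiagram T) l).map S.g).hom
    have hinj : ∀ l, Function.Injective (φ (l + 1)) := fun l => (injective_iff_map_eq_zero _).2 fun z hz => by
      obtain ⟨K, y, rfl⟩ := exists_tH (l + 1) z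
      rw [show φ (l + 1) (tH (l + 1) (ModuleCat.of R M) K y) = _ from tH_natural (l + 1) S.g y, tH_eq_zero_iff] at hz
      obtain ⟨K', a, ha⟩ := hz
      rw [rs_comp] at ha
      obtain ⟨v, hv⟩ := Abelian.Ext.covariant_sequence_exact₂ (qO K') hS _ ha
      obtain ⟨K'', b, hb⟩ := exists_rs_eq_zero_of_killed l S.X₁ K0 hK0 hkill v
      rw [← tH_rs (l + 1) a, ← tH_rs (l + 1) b, ← hv, rs_comp, hb, Abelian.Ext.zero_comp, map_zero]
    have hsur : ∀ l, Function.Surjective (φ (l + 1)) := fun l z => by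
      obtain ⟨K, y, rfl⟩ := exists_tH (l + 1) z
      obtain ⟨K', a, ha⟩ := exists_rs_eq_zero_of_killed (l + 1) S.X₁ K0 hK0 hkill (y.comp hS.extClass rfl)
      rw [rs_comp] at ha
      obtain ⟨v, hv⟩ := Abelian.Ext.covariant_sequence_exact₃ (qO K') hS _ rfl ha
      refine ⟨tH (l + 1) (ModuleCat.of R M) K' v, ?_⟩
      rw [show φ (l + 1) (tH (l + 1) (ModuleCat.of R M) K' v) = _ from tH_natural (l + 1) S.g v,
        show v.comp (Abelian.Ext.mk₀ S.g) (add_zero (l + 1)) = rs (l + 1) a _ y from hv, tH_rs]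
    -- torsion freeness
    have htf : ∀ y : M ⧸ G, (∃ K : Ideal R, PrimeSpectrum.zeroLocus (K : Set R) ⊆ T ∧ ∀ a ∈ K, a • y = 0) → y = 0 := by
      rintro y ⟨K, hK, hy⟩
      obtain ⟨m, rfl⟩ := Submodule.Quotient.mk_surjective G y
      refine (Submodule.Quotient.mk_eq_zero G).2 ⟨K0 * K, zeroLocus_mul_subset hK0 hK, fun a ha => ?_⟩
      refine Submodule.mul_induction_on ha (fun b hb c hc => ?_) fun u v hu hv => by rw [add_smul, hu, hv, add_zero]
      have h1 := hy c hc
      rw [← Submodule.Quotient.mk_smul, Submodule.Quotient.mk_eq_zero] at h1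
      rw [mul_smul]
      exact congrArg Subtype.val (hkill b hb ⟨_, h1⟩)
    obtain ⟨Φ, hΦ, hΦk⟩ := exists_injective_zero (T := T) (ModuleCat.of R (M ⧸ G))
    have hzero : ∀ z : HTo T 0 (ModuleCat.of R (M ⧸ G)), z = 0 := fun z =>
      hΦ ((htf _ (hΦk z)).trans (map_zero _).symm)
    have hk' : ∀ l ≤ n + 1, ∀ a ∈ J, ∀ z : HTo T l (ModuleCat.of R (M ⧸ G)), a • z = 0 := by
      intro l hl a ha z
      rcases l with _ | l
      · exact hzero _
      · obtain ⟨w, rfl⟩ := hsur l z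
        rw [← map_smul, hk (l + 1) hl a ha w, map_zero]
    obtain ⟨x, hx, hreg⟩ : ∃ x ∈ J, IsSMulRegular (M ⧸ G) x := by
      rw [Groth.Agent.Alg6.exists_isSMulRegular_mem_iff]
      intro p hp hle
      obtain ⟨hpp, z, hz⟩ := Groth.Agent.Alg6.mem_ass_iff.1 hp
      have hz0 : z = 0 := htf z ⟨J, hJ, fun a ha => (hz a).1 (hle ha)⟩
      exact hpp.ne_top ((Ideal.eq_top_iff_one p).2 ((hz 1).2 (by rw [hz0, smul_zero])))
    have hfinQ : Module.Finite R (HTo T j (ModuleCat.of R (QuotSMulTop x (M ⧸ G)))) := by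
      refine ih (QuotSMulTop x (M ⧸ G)) (J * J) (zeroLocus_mul_subset hJ hJ) ?_ j (by omega)
      intro l hl a ha z
      refine Submodule.mul_induction_on ha (fun b hb c hc => ?_) fun u v hu hv => by
        rw [add_smul, hu, hv, add_zero]
      exact kill_seq l (S := (ModuleCat.of R (M ⧸ G)).smulShortComplex x) hreg.smulShortComplex_shortExact (hk' (l + 1) (by omega) c hc) (hk' l (by omega) b hb) z
    haveI : Module.Finite R (HTo T (j + 1) (ModuleCat.of R (M ⧸ G))) :=
      finite_of_seq j (S := (ModuleCat.of R (M ⧸ G)).smulShortComplex x) hreg.smulShortComplex_shortExact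
        (fun z => (map_smulShortComplex_f j _ x z).trans (hk' (j + 1) hl x hx z)) hfinQ
    exact Module.Finite.of_injective (φ (j + 1)) (hinj j)

end Groth.Agent.GrLib8.HTLib
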