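import Groth.Agent.SuppFamLib.Derived
import Groth.Agent.SiteBase.DerivedKernel
import Groth.Agent.GrLib8.RestrExact
import Groth.Agent.SiteBase.SuppInj
import Groth.Agent.FlasqueSupp.Core

/-!
# The low degree sequence of local cohomology sheaves
-/

set_option autoImplicit false
set_option linter.style.haveILetI false

universe u

open CategoryTheory CategoryTheory.Limits Opposite TopologicalSpace TopCat Topology

noncomputable section

namespace Groth.Agent.GrLib8.HZshDeg

variable {X : TopCat.{u}} (U : Opens X)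

/-- The unit of `j⁻¹ ⊣ j_*`. -/
abbrev η : 𝟭 (CohTop.Ab X) ⟶ CohTop.pull (CohCx.incl U) ⋙ CohTop.push (CohCx.incl U) :=
  (TopCat.Sheaf.pullbackPushforwardAdjunction AddCommGrpCat.{u} (CohCx.incl U)).unit

/-- The inclusion `Γ_Z ⟶ 𝟭`. -/
def ι : LocCohZ.sectSuppF U ⟶ 𝟭 (CohTop.Ab X) where
  app F := kernel.ι ((η U).app F)
  naturality _ _ _ := kernel.lift_ι _ _ _

theorem surjective_app_of_isFlasque (F : CohTop.Ab X) [TopCat.Sheaf.IsFlasque F] (V : Opens X) :
    Function.Surjective (((η U).app F).hom.app (op V)).hom := by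
  intro s
  let H := ((CohTop.pull (CohCx.incl U) ⋙ CohTop.push (CohCx.incl U)).obj F)
  obtain ⟨t, ht⟩ := TopCat.Presheaf.app_surjective_of_stalkFunctor_map_bijective (F := F) (G := H)
    ((η U).app F) (U ⊓ V) (fun x hx => by
      haveI : IsIso ((TopCat.Presheaf.stalkFunctor AddCommGrpCat.{u} (CohCx.incl U ⟨x, hx.1⟩)).map ((η U).app F).hom) :=
        ClosedEmb.isIso_stalk_unit (U.isOpenEmbedding.isInducing : IsInducing (CohCx.incl U)) F ⟨x, hx.1⟩
      exact ConcreteCategory.bijective_of_isIso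
        ((TopCat.Presheaf.stalkFunctor AddCommGrpCat.{u} (CohCx.incl U ⟨x, hx.1⟩)).map ((η U).app F).hom))
    (H.obj.map (homOfLE (inf_le_right : U ⊓ V ≤ V)).op s)
  obtain ⟨t', rfl⟩ := (AddCommGrpCat.epi_iff_surjective (F.obj.map (homOfLE (inf_le_right : U ⊓ V ≤ V)).op)).1
    (TopCat.Presheaf.IsFlasque.epi _) t
  refine ⟨t', sub_eq_zero.1 ?_⟩
  refine (SuppFamLib.res_eq_zero_iff ((CohTop.pull (CohCx.incl U)).obj F)
    (show (Opens.map (CohCx.incl U)).obj (U ⊓ V) ≤ (Opens.map (CohCx.incl U)).obj V from fun y hy => hy.2)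
    (fun y hy => ⟨y.2, hy⟩) _).1 ?_
  refine (map_sub (H.obj.map (homOfLE (inf_le_right : U ⊓ V ≤ V)).op).hom _ _).trans (sub_eq_zero.2 ?_)
  refine Eq.trans ?_ ht
  exact (ConcreteCategory.congr_hom (((η U).app F).hom.naturality (homOfLE (inf_le_right : U ⊓ V ≤ V)).op) t').symm

theorem epi_app_of_injective (F : CohTop.Ab X) [Injective F] : Epi ((η U).app F) := by
  haveI := SiteBase.isFlasque_of_injective F
  haveI : ∀ W : (Opens X)ᵒᵖ, Epi (((η U).app F).hom.app W) := fun W =>
    (AddCommGrpCat.epi_iff_surjective _).2 (surjective_app_of_isFlasque U F W.unop)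
  haveI : Epi ((η U).app F).hom := NatTrans.epi_of_epi_app _
  exact (sheafToPresheaf (Opens.grothendieckTopology X) AddCommGrpCat.{u}).epi_of_epi_map (f := (η U).app F)
    (inferInstanceAs (Epi ((η U).app F).hom))

/-- `j⁻¹` is restriction. -/
def pullIso : CohTop.pull (CohCx.incl U) ≅ CohTop.restrFunctor U :=
  Topology.IsOpenEmbedding.sheafPullbackIso AddCommGrpCat.{u} (hf := U.isOpenEmbedding) (f := CohCx.incl U)

theorem nonempty_low_degree :
    Nonempty (LocCohZ.HZsh U 1 ≅ cokernel (η U)) ∧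
      ∀ i : ℕ, 1 ≤ i →
        Nonempty (LocCohZ.HZsh U (i + 1) ≅ CohTop.pull (CohCx.incl U) ⋙ CohTop.Rpush (CohCx.incl U) i) := by
  haveI hadd : (CohTop.push (CohCx.incl U)).Additive := { }
  haveI : (TopCat.Sheaf.pushforward AddCommGrpCat.{u} (CohCx.incl U)).Additive := hadd
  haveI := RestrExact.lim U
  haveI := RestrExact.colim U
  haveI := RestrExact.inj U
  haveI : PreservesFiniteLimits (CohTop.pull (CohCx.incl U)) := SiteBase.preservesFiniteLimits_pull _
  haveI : PreservesFiniteColimits (CohTop.pull (CohCx.incl U)) := by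
    have := (TopCat.Sheaf.pullbackPushforwardAdjunction AddCommGrpCat.{u} (CohCx.incl U)).leftAdjoint_preservesColimits.{0, 0}
    exact ⟨fun _ => this.preservesColimitsOfShape⟩
  haveI : PreservesFiniteLimits (CohTop.push (CohCx.incl U)) := by
    have := (TopCat.Sheaf.pullbackPushforwardAdjunction AddCommGrpCat.{u} (CohCx.incl U)).rightAdjoint_preservesLimits.{0, 0}
    exact ⟨fun _ => this.preservesLimitsOfShape⟩
  haveI : (CohTop.pull (CohCx.incl U)).Additive :=
    (TopCat.Sheaf.pullbackPushforwardAdjunction AddCommGrpCat.{u} (CohCx.incl U)).left_adjoint_additive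
  haveI : (CohTop.pull (CohCx.incl U)).PreservesInjectiveObjects := ⟨fun {I} hI =>
    Injective.of_iso ((pullIso U).app I).symm ((CohTop.restrFunctor U).injective_obj_of_injective hI)⟩
  haveI : PreservesFiniteLimits (CohTop.pull (CohCx.incl U) ⋙ CohTop.push (CohCx.incl U)) :=
    comp_preservesFiniteLimits _ _
  haveI := FlasqueSupp.preservesFiniteLimits_sectSuppF U
  have hw : ∀ F, (ι U).app F ≫ (η U).app F = 0 := fun F => kernel.condition _
  refine ⟨SiteBase.nonempty_rightDerived_one_iso (ι U) (η U) hw (fun F => kernelIsKernel _)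
    (fun F hF => @epi_app_of_injective _ U F hF), fun i hi => ?_⟩
  obtain ⟨k, rfl⟩ : ∃ k, i = k + 1 := ⟨i - 1, by omega⟩
  obtain ⟨e⟩ := SiteBase.nonempty_rightDerived_succ_iso (ι U) (η U) hw (fun F => kernelIsKernel _)
    (fun F hF => @epi_app_of_injective _ U F hF) k
  exact ⟨e ≪≫ SiteBase.rightDerivedPrecompIso (CohTop.pull (CohCx.incl U)) (CohTop.push (CohCx.incl U)) (k + 1)⟩

end Groth.Agent.GrLib8.HZshDeg
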