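import Groth.Agent.GrLib8.Avoid
import Groth.Agent.GrLib8.PosGr
import Groth.Agent.VarDim.Basic
import Mathlib.RingTheory.GradedAlgebra.Radical

/-!
# Homogeneous Noether normalization
-/

set_option autoImplicit false
set_option linter.unusedSectionVars false

universe u

open DirectSum

namespace Groth.Agent.GrLib8.HomNN

variable {k : Type u} [Field k] {R : Type u} [CommRing R] [Algebra k R] (𝒜 : ℤ → Submodule k R) [GradedAlgebra 𝒜]
  (hpos : ∀ n : ℤ, n < 0 → 𝒜 n = ⊥) (h0 : 𝒜 0 = Submodule.span k {(1 : R)})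

include hpos in
theorem eq_zero_of_neg : ∀ n < 0, ∀ r ∈ 𝒜 n, r = 0 := fun n hn r hr => by
  rw [hpos n hn] at hr
  exact (Submodule.mem_bot k).1 hr

include hpos h0 in
theorem le_irrel {J : Ideal R} (hJ : J.IsHomogeneous 𝒜) (hne : J ≠ ⊤) : J ≤ (GrSyz.irrel 𝒜).toIdeal := by
  classical
  intro x hx
  rw [← sum_support_decompose 𝒜 x]
  refine Ideal.sum_mem _ fun i _ => ?_
  rcases lt_trichotomy i 0 with hi | rfl | hi
  · rw [eq_zero_of_neg 𝒜 hpos i hi _ (SetLike.coe_mem _)]; exact zero_mem _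
  · obtain ⟨c, hc⟩ := Submodule.mem_span_singleton.1 (h0.le (SetLike.coe_mem (decompose 𝒜 x 0)))
    rcases eq_or_ne c 0 with rfl | hc0
    · rw [← hc, zero_smul]; exact zero_mem _
    · refine absurd ((Ideal.eq_top_iff_one _).2 ?_) hne
      have h : (decompose 𝒜 x 0 : R) ∈ J := hJ 0 hx
      rw [← hc] at h
      have := J.mul_mem_left (algebraMap k R c⁻¹) h
      rwa [← Algebra.smul_def, inv_smul_smul₀ hc0] at this
  · exact mem_irrel_of_pos 𝒜 hi (SetLike.coe_mem _)

theorem minimal_homogeneous {I P : Ideal R} (hI : I.IsHomogeneous 𝒜) (hP : P ∈ I.minimalPrimes) :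
    P.IsHomogeneous 𝒜 := by
  haveI := hP.1.1
  have hc : (P.homogeneousCore 𝒜).toIdeal.IsPrime := Ideal.IsPrime.homogeneousCore hP.1.1
  have hle : I ≤ (P.homogeneousCore 𝒜).toIdeal := by
    rw [← hI.toIdeal_homogeneousCore_eq_self]
    exact Ideal.homogeneousCore_mono 𝒜 hP.1.2
  have hsub := Ideal.toIdeal_homogeneousCore_le 𝒜 P
  rw [le_antisymm (hP.2 ⟨hc, hle⟩ hsub) hsub]
  exact (P.homogeneousCore 𝒜).isHomogeneous

include hpos h0 in
theorem exists_params [IsNoetherianRing R] (e : ℕ) : ∀ I : Ideal R, I.IsHomogeneous 𝒜 → ringKrullDim (R ⧸ I) ≤ e →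
    ∃ (f : Fin e → R) (d : Fin e → ℕ), (∀ j, 0 < d j ∧ f j ∈ 𝒜 (d j)) ∧
      (GrSyz.irrel 𝒜).toIdeal ≤ (I ⊔ Ideal.span (Set.range f)).radical := by
  classical
  induction e with
  | zero =>
    intro I hI hdim
    refine ⟨Fin.elim0, Fin.elim0, fun j => j.elim0, ?_⟩
    rw [Ideal.radical_eq_sInf]
    refine le_sInf fun P hP => ?_
    haveI := hP.2
    have hIP : I ≤ P := le_sup_left.trans hP.1
    obtain ⟨Q, hQ, hQP⟩ := Ideal.exists_minimalPrimes_le hIP
    refine le_trans ?_ hQP
    haveI := hQ.1.1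
    haveI : Ring.KrullDimLE 0 (R ⧸ I) := (Ring.krullDimLE_iff (n := 0) (R := R ⧸ I)).2 hdim
    have hmax : (Q.map (Ideal.Quotient.mk I)).IsMaximal := by
      haveI : (Q.map (Ideal.Quotient.mk I)).IsPrime :=
        Ideal.map_isPrime_of_surjective Ideal.Quotient.mk_surjective (by rw [Ideal.mk_ker]; exact hQ.1.2)
      exact Ideal.IsPrime.isMaximal' ‹(Q.map (Ideal.Quotient.mk I)).IsPrime›
    have hQmax : Q.IsMaximal := by
      have h := Ideal.comap_isMaximal_of_surjective (Ideal.Quotient.mk I) Ideal.Quotient.mk_surjective (K := Q.map (Ideal.Quotient.mk I))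
      rwa [Ideal.comap_map_of_surjective _ Ideal.Quotient.mk_surjective, ← RingHom.ker_eq_comap_bot, Ideal.mk_ker,
        sup_eq_left.2 hQ.1.2] at h
    have hle := le_irrel 𝒜 hpos h0 (minimal_homogeneous 𝒜 hI hQ) hQmax.ne_top
    by_cases htop : (GrSyz.irrel 𝒜).toIdeal = ⊤
    · -- the irrelevant ideal is proper as soon as a proper homogeneous ideal exists
      exfalso
      have h1 : (1 : R) ∈ (GrSyz.irrel 𝒜).toIdeal := htop ▸ Submodule.mem_top
      obtain ⟨N, f, d, hd, hf, hspan⟩ := exists_irrel_gens 𝒜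
      obtain ⟨c, hc, h1c⟩ := exists_comb 𝒜 hf (SetLike.one_mem_graded 𝒜) (hspan ▸ h1)
      refine hQmax.ne_top ((Ideal.eq_top_iff_one _).2 ?_)
      rw [h1c]
      refine Ideal.sum_mem _ fun j _ => ?_
      rw [eq_zero_of_neg 𝒜 hpos (0 - d j) (by have := hd j; omega) _ (hc j), zero_smul]
      exact zero_mem _
    · exact (hQmax.eq_of_le htop hle).ge
  | succ e ih =>
    intro I hI hdim
    have hfin := Ideal.finite_minimalPrimes_of_isNoetherianRing R I
    obtain ⟨E, hE, x, hx, hxP⟩ := exists_pos_notMem 𝒜 (eq_zero_of_neg 𝒜 hpos)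
      (hfin.toFinset.filter fun P => ¬ (GrSyz.irrel 𝒜).toIdeal ≤ P) (fun P hP => by
        rw [Finset.mem_filter, Set.Finite.mem_toFinset] at hP
        exact ⟨hP.1.1.1, minimal_homogeneous 𝒜 hI hP.1, hP.2⟩)
    lift E to ℕ using hE.le with E'
    have hJ : (I ⊔ Ideal.span {x}).IsHomogeneous 𝒜 :=
      hI.sup (Ideal.homogeneous_span 𝒜 _ fun y hy => ⟨(E' : ℤ), Set.mem_singleton_iff.1 hy ▸ hx⟩)
    have hdim' : ringKrullDim (R ⧸ (I ⊔ Ideal.span {x})) ≤ e := by
      rw [ringKrullDim_quotient]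
      refine iSup_le fun l => ?_
      rw [Nat.cast_le]
      by_contra hl
      push_neg at hl
      rw [ringKrullDim_quotient] at hdim
      have hz : PrimeSpectrum.zeroLocus (I ⊔ Ideal.span {x} : Ideal R) ⊆ PrimeSpectrum.zeroLocus (I : Set R) :=
        PrimeSpectrum.zeroLocus_anti_mono (SetLike.coe_subset_coe.2 le_sup_left)
      haveI := l.head.1.isPrime
      have hhead : I ⊔ Ideal.span {x} ≤ l.head.1.asIdeal := l.head.2
      obtain ⟨Q, hQ, hQP⟩ := Ideal.exists_minimalPrimes_le (le_sup_left.trans hhead)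
      haveI := hQ.1.1
      have hne : Q ≠ l.head.1.asIdeal := by
        intro heq
        by_cases hirr : (GrSyz.irrel 𝒜).toIdeal ≤ Q
        · have hQirr : Q = (GrSyz.irrel 𝒜).toIdeal :=
            le_antisymm (le_irrel 𝒜 hpos h0 (minimal_homogeneous 𝒜 hI hQ) hQ.1.1.ne_top) hirr
          have hmax : ∀ J : Ideal R, Q ≤ J → J ≠ ⊤ → J = Q := by
            intro J hQJ hJne
            refine le_antisymm (fun y hy => ?_) hQJ
            classical
            have hsplit : y - (decompose 𝒜 y 0 : R) ∈ Q := by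
              rw [hQirr]
              have hsum : y - (decompose 𝒜 y 0 : R) = ∑ i ∈ (decompose 𝒜 y).support.erase 0, (decompose 𝒜 y i : R) := by
                by_cases h : (0 : ℤ) ∈ (decompose 𝒜 y).support
                · rw [Finset.sum_erase_eq_sub h, sum_support_decompose]
                · rw [Finset.erase_eq_of_notMem h, sum_support_decompose, DFinsupp.notMem_support_iff.1 h, ZeroMemClass.coe_zero, sub_zero]
              rw [hsum]
              refine Ideal.sum_mem _ fun i hi => ?_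
              rcases lt_trichotomy i 0 with hi' | hi' | hi'
              · rw [eq_zero_of_neg 𝒜 hpos i hi' _ (SetLike.coe_mem _)]; exact zero_mem _
              · exact absurd hi' (Finset.mem_erase.1 hi).1
              · exact mem_irrel_of_pos 𝒜 hi' (SetLike.coe_mem _)
            obtain ⟨c, hc⟩ := Submodule.mem_span_singleton.1 (h0.le (SetLike.coe_mem (decompose 𝒜 y 0)))
            rcases eq_or_ne c 0 with rfl | hc0
            · rwa [← hc, zero_smul, sub_zero] at hsplit
            · refine absurd ((Ideal.eq_top_iff_one _).2 ?_) hJne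
              have h := sub_mem hy (hQJ hsplit)
              rw [sub_sub_cancel, ← hc] at h
              have := J.mul_mem_left (algebraMap k R c⁻¹) h
              rwa [← Algebra.smul_def, inv_smul_smul₀ hc0] at this
          have h01 := l.step ⟨0, by omega⟩
          have hlt : l.head.1.asIdeal < (l ⟨1, by omega⟩).1.asIdeal := h01
          exact hlt.ne' ((hmax _ (heq.le.trans hlt.le) (l ⟨1, by omega⟩).1.isPrime.ne_top).trans heq)
        · refine hxP Q (Finset.mem_filter.2 ⟨hfin.mem_toFinset.2 hQ, hirr⟩) ?_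
          rw [heq]
          exact hhead (Ideal.mem_sup_right (Ideal.mem_span_singleton_self x))
      let q : PrimeSpectrum.zeroLocus (I : Set R) := ⟨⟨Q, hQ.1.1⟩, hQ.1.2⟩
      let l' : LTSeries (PrimeSpectrum.zeroLocus (I : Set R)) :=
        (l.map (Set.inclusion hz) fun a b h => h).cons q (lt_of_le_of_ne hQP fun h => hne h)
      have := (Order.LTSeries.length_le_krullDim l').trans hdim
      rw [Nat.cast_le, RelSeries.cons_length] at this
      simp only [LTSeries.map_length] at this
      omega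
    obtain ⟨f, d, hfd, hrad⟩ := ih _ hJ hdim'
    refine ⟨Fin.cons x f, Fin.cons E' d, fun j => ?_, hrad.trans (Ideal.radical_mono (le_of_eq ?_))⟩
    · refine Fin.cases ?_ (fun j => ?_) j
      · exact ⟨by exact_mod_cast hE, by simpa using hx⟩
      · simpa using hfd j
    · rw [Fin.range_cons, Ideal.span_insert, sup_assoc]

include hpos h0 in
/-- Homogeneous Noether normalization, in a common degree. -/
theorem exists_normalization [Algebra.FiniteType k R] (r : ℕ) (hr : ringKrullDim R = r) :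
    ∃ D₀ : ℕ, 0 < D₀ ∧ ∀ D : ℕ, 0 < D → D₀ ∣ D → ∃ f : Fin r → R, (∀ j, f j ∈ 𝒜 (D : ℤ)) ∧
      Function.Injective (MvPolynomial.aeval f : MvPolynomial (Fin r) k →ₐ[k] R) ∧
      (MvPolynomial.aeval f : MvPolynomial (Fin r) k →ₐ[k] R).toRingHom.Finite := by
  classical
  haveI : IsNoetherianRing R := Algebra.FiniteType.isNoetherianRing k R
  obtain ⟨f₀, d, hfd, hrad⟩ := exists_params 𝒜 hpos h0 r ⊥ (Ideal.IsHomogeneous.bot 𝒜)
    ((ringKrullDim_eq_of_ringEquiv (RingEquiv.quotientBot R)).trans hr).le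
  refine ⟨∏ j, d j, Finset.prod_pos fun j _ => (hfd j).1, fun D hD hdvd => ?_⟩
  have hdj : ∀ j, d j ∣ D := fun j => (Finset.dvd_prod_of_mem d (Finset.mem_univ j)).trans hdvd
  refine ⟨fun j => f₀ j ^ (D / d j), fun j => ?_, ?_⟩
  · show f₀ j ^ (D / d j) ∈ 𝒜 (D : ℤ)
    have h := SetLike.pow_mem_graded (A := 𝒜) (D / d j) (hfd j).2
    rwa [nsmul_eq_mul, ← Nat.cast_mul, Nat.div_mul_cancel (hdj j)] at h
  set f : Fin r → R := fun j => f₀ j ^ (D / d j) with hf
  have hrad' : (GrSyz.irrel 𝒜).toIdeal ≤ (Ideal.span (Set.range f)).radical := by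
    refine hrad.trans (Ideal.radical_le_radical_iff.2 ?_)
    rw [bot_sup_eq, Ideal.span_le]
    rintro _ ⟨j, rfl⟩
    exact ⟨D / d j, Ideal.subset_span ⟨j, rfl⟩⟩
  obtain ⟨N, hN⟩ := Ideal.exists_pow_le_of_le_radical_of_fg hrad' (IsNoetherian.noetherian _)
  obtain ⟨B, hB⟩ := exists_deg_bound 𝒜 (eq_zero_of_neg 𝒜 hpos)
  let φ : MvPolynomial (Fin r) k →ₐ[k] R := MvPolynomial.aeval f
  have hfinite : φ.toRingHom.Finite := by
    letI : Algebra (MvPolynomial (Fin r) k) R := φ.toRingHom.toAlgebra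
    show Module.Finite (MvPolynomial (Fin r) k) R
    have hfg := fun n : ℤ => fg_comp_ring 𝒜 (eq_zero_of_neg 𝒜 hpos) n
    choose s hs using hfg
    let S : Finset R := (Finset.range (N * B + 1)).biUnion fun n : ℕ => s (n : ℤ)
    refine ⟨⟨S, eq_top_iff.2 fun y hy => ?_⟩⟩
    clear hy
    have hscal : ∀ (c : GrLC.deg0 𝒜) (z : R), z ∈ Submodule.span (MvPolynomial (Fin r) k) (S : Set R) →
        (c : R) * z ∈ Submodule.span (MvPolynomial (Fin r) k) (S : Set R) := by
      intro c z hz
      have hc : (c : R) ∈ 𝒜 0 := c.2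
      rw [h0, Submodule.mem_span_singleton] at hc
      obtain ⟨a, ha⟩ := hc
      have := Submodule.smul_mem _ (MvPolynomial.C a : MvPolynomial (Fin r) k) hz
      rwa [Algebra.smul_def, RingHom.algebraMap_toAlgebra, AlgHom.toRingHom_eq_coe, RingHom.coe_coe,
        MvPolynomial.algHom_C, Algebra.algebraMap_eq_smul_one, ha] at this
    have key : ∀ (m : ℕ) (z : R), z ∈ 𝒜 (m : ℤ) → z ∈ Submodule.span (MvPolynomial (Fin r) k) (S : Set R) := by
      intro m
      induction m using Nat.strong_induction_on with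
      | _ m ih =>
        intro z hz
        by_cases hm : m ≤ N * B
        · have hz' : z ∈ GrLC.comp 𝒜 𝒜 (m : ℤ) := hz
          rw [← hs] at hz'
          induction hz' using Submodule.span_induction with
          | mem w hw => exact Submodule.subset_span (Finset.mem_biUnion.2 ⟨m, Finset.mem_range.2 (by omega), hw⟩)
          | zero => exact zero_mem _
          | add a b _ _ ha hb => exact add_mem (ha (by rename_i h _; exact (hs _).le h)) (hb (by rename_i _ h; exact (hs _).le h))
          | smul c a h ha => exact hscal c a (ha ((hs _).le h))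
        · have hzspan : z ∈ Ideal.span (Set.range f) := hN (hB N m (by omega) z hz)
          have hfm : ∀ j, f j ∈ 𝒜 (D : ℤ) := fun j => by
            have h := SetLike.pow_mem_graded (A := 𝒜) (D / d j) (hfd j).2
            rwa [nsmul_eq_mul, ← Nat.cast_mul, Nat.div_mul_cancel (hdj j)] at h
          obtain ⟨c, hc, hzc⟩ := exists_comb 𝒜 hfm hz hzspan
          rw [hzc]
          refine Submodule.sum_mem _ fun j _ => ?_
          by_cases hmD : D ≤ m
          · have hcj := ih (m - D) (by omega) (c j) (by rw [Nat.cast_sub hmD]; exact hc j)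
            have := Submodule.smul_mem _ (MvPolynomial.X j : MvPolynomial (Fin r) k) hcj
            rwa [Algebra.smul_def, RingHom.algebraMap_toAlgebra, AlgHom.toRingHom_eq_coe, RingHom.coe_coe,
              MvPolynomial.aeval_X, mul_comm] at this
          · rw [eq_zero_of_neg 𝒜 hpos _ (by omega) _ (hc j), zero_smul]
            exact zero_mem _
    rw [← sum_support_decompose 𝒜 y]
    refine Submodule.sum_mem _ fun i _ => ?_
    rcases lt_or_ge i 0 with hi | hi
    · rw [eq_zero_of_neg 𝒜 hpos i hi _ (SetLike.coe_mem _)]; exact zero_mem _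
    · lift i to ℕ using hi
      exact key i _ (SetLike.coe_mem _)
  refine ⟨(RingHom.injective_iff_ker_eq_bot _).2 ?_, hfinite⟩
  by_contra hker
  obtain ⟨p, hp, hp0⟩ := Submodule.exists_mem_ne_zero_of_ne_bot hker
  let A := MvPolynomial (Fin r) k ⧸ RingHom.ker φ.toRingHom
  let φ' : A →+* R := RingHom.kerLift φ.toRingHom
  letI : Algebra A R := φ'.toAlgebra
  haveI : FaithfulSMul A R := (faithfulSMul_iff_algebraMap_injective _ _).2 (RingHom.kerLift_injective _)
  haveI : Algebra.IsIntegral A R := ⟨fun y => by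
    obtain ⟨q, hq, hq0⟩ := hfinite.to_isIntegral y
    refine ⟨q.map (Ideal.Quotient.mk (RingHom.ker φ.toRingHom)), hq.map _, ?_⟩
    rw [Polynomial.eval₂_map]
    exact hq0⟩
  have hA : ringKrullDim A = r := (VarDim.ringKrullDim_eq_of_isIntegral (R := A) (S := R)).symm.trans hr
  have h1 : ringKrullDim A ≤ ringKrullDim (MvPolynomial (Fin r) k ⧸ Ideal.span {p}) :=
    ringKrullDim_le_of_surjective (Ideal.Quotient.factor ((Ideal.span_singleton_le_iff_mem _).2 hp))
      (Ideal.Quotient.factor_surjective _)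
  have h2 := ringKrullDim_quotient_succ_le_of_nonZeroDivisor (mem_nonZeroDivisors_of_ne_zero hp0)
  rw [MvPolynomial.ringKrullDim_of_isNoetherianRing, ringKrullDim_eq_zero_of_field, zero_add, Nat.card_fin] at h2
  have h3 : (r : WithBot ℕ∞) + 1 ≤ r := le_trans (add_le_add_left (hA ▸ h1) 1) h2
  have h4 : ((r + 1 : ℕ) : WithBot ℕ∞) ≤ (r : ℕ) := by exact_mod_cast h3
  rw [Nat.cast_le] at h4
  omega

end Groth.Agent.GrLib8.HomNN
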