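import Groth.Agent.GrLib8.HomNN
import Groth.Agent.GrLib8.Core

/-!
# Homogeneous Noether normalization modulo a homogeneous ideal
-/

set_option autoImplicit false
set_option linter.unusedSectionVars false
set_option linter.style.haveILetI false

universe u

open DirectSum

namespace Groth.Agent.GrLib8.HomNN

variable {k : Type u} [Field k] {R : Type u} [CommRing R] [Algebra k R] (𝒜 : ℤ → Submodule k R) [GradedAlgebra 𝒜]
  (hpos : ∀ n : ℤ, n < 0 → 𝒜 n = ⊥) (h0 : 𝒜 0 = Submodule.span k {(1 : R)})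

include hpos h0 in
theorem exists_normalization_mod [Algebra.FiniteType k R] (I : Ideal R) (hI : I.IsHomogeneous 𝒜) (r : ℕ)
    (hr : ringKrullDim (R ⧸ I) = r) :
    ∃ D₀ : ℕ, 0 < D₀ ∧ ∀ D : ℕ, 0 < D → D₀ ∣ D → ∃ f : Fin r → R, (∀ j, f j ∈ 𝒜 (D : ℤ)) ∧
      Function.Injective ((Ideal.Quotient.mkₐ k I).comp (MvPolynomial.aeval f : MvPolynomial (Fin r) k →ₐ[k] R)) ∧
      ((Ideal.Quotient.mkₐ k I).comp (MvPolynomial.aeval f : MvPolynomial (Fin r) k →ₐ[k] R)).toRingHom.Finite := by
  classical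
  haveI : IsNoetherianRing R := Algebra.FiniteType.isNoetherianRing k R
  obtain ⟨f₀, d, hfd, hrad⟩ := exists_params 𝒜 hpos h0 r I hI hr.le
  refine ⟨∏ j, d j, Finset.prod_pos fun j _ => (hfd j).1, fun D hD hdvd => ?_⟩
  have hdj : ∀ j, d j ∣ D := fun j => (Finset.dvd_prod_of_mem d (Finset.mem_univ j)).trans hdvd
  set f : Fin r → R := fun j => f₀ j ^ (D / d j) with hf
  have hfm : ∀ j, f j ∈ 𝒜 (D : ℤ) := fun j => by
    have h := SetLike.pow_mem_graded (A := 𝒜) (D / d j) (hfd j).2
    rwa [nsmul_eq_mul, ← Nat.cast_mul, Nat.div_mul_cancel (hdj j)] at h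
  refine ⟨f, hfm, ?_⟩
  have hrad' : (GrSyz.irrel 𝒜).toIdeal ≤ (I ⊔ Ideal.span (Set.range f)).radical := by
    refine hrad.trans (Ideal.radical_le_radical_iff.2 (sup_le (le_sup_left.trans Ideal.le_radical) ?_))
    rw [Ideal.span_le]
    rintro _ ⟨j, rfl⟩
    exact ⟨D / d j, Ideal.mem_sup_right (Ideal.subset_span ⟨j, rfl⟩)⟩
  obtain ⟨N, hN⟩ := Ideal.exists_pow_le_of_le_radical_of_fg hrad' (IsNoetherian.noetherian _)
  obtain ⟨B, hB⟩ := exists_deg_bound 𝒜 (eq_zero_of_neg 𝒜 hpos)
  let φ : MvPolynomial (Fin r) k →ₐ[k] R ⧸ I := (Ideal.Quotient.mkₐ k I).comp (MvPolynomial.aeval f)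
  have hfinite : φ.toRingHom.Finite := by
    letI : Algebra (MvPolynomial (Fin r) k) (R ⧸ I) := φ.toRingHom.toAlgebra
    show Module.Finite (MvPolynomial (Fin r) k) (R ⧸ I)
    have hsmul : ∀ (a : MvPolynomial (Fin r) k) (z : R),
        a • Ideal.Quotient.mk I z = Ideal.Quotient.mk I (MvPolynomial.aeval f a * z) := fun a z => by
      rw [Algebra.smul_def, map_mul]; rfl
    have hfg := fun n : ℤ => fg_comp_ring 𝒜 (eq_zero_of_neg 𝒜 hpos) n
    choose s hs using hfg
    let S : Finset R := (Finset.range (N * B + 1)).biUnion fun n : ℕ => s (n : ℤ)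
    refine ⟨⟨S.image (Ideal.Quotient.mk I), eq_top_iff.2 fun y hy => ?_⟩⟩
    clear hy
    have hscal : ∀ (c : GrLC.deg0 𝒜) (z : R),
        Ideal.Quotient.mk I z ∈ Submodule.span (MvPolynomial (Fin r) k) (↑(S.image (Ideal.Quotient.mk I)) : Set (R ⧸ I)) →
        Ideal.Quotient.mk I ((c : R) * z) ∈
          Submodule.span (MvPolynomial (Fin r) k) (↑(S.image (Ideal.Quotient.mk I)) : Set (R ⧸ I)) := by
      intro c z hz
      have hc : (c : R) ∈ 𝒜 0 := c.2
      rw [h0, Submodule.mem_span_singleton] at hc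
      obtain ⟨a, ha⟩ := hc
      have := Submodule.smul_mem _ (MvPolynomial.C a : MvPolynomial (Fin r) k) hz
      rwa [hsmul, MvPolynomial.algHom_C, Algebra.algebraMap_eq_smul_one, ha] at this
    have key : ∀ (m : ℕ) (z : R), z ∈ 𝒜 (m : ℤ) → Ideal.Quotient.mk I z ∈
        Submodule.span (MvPolynomial (Fin r) k) (↑(S.image (Ideal.Quotient.mk I)) : Set (R ⧸ I)) := by
      intro m
      induction m using Nat.strong_induction_on with
      | _ m ih =>
        intro z hz
        by_cases hm : m ≤ N * B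
        · have hz' : z ∈ GrLC.comp 𝒜 𝒜 (m : ℤ) := hz
          rw [← hs] at hz'
          induction hz' using Submodule.span_induction with
          | mem w hw =>
            exact Submodule.subset_span (Finset.mem_coe.2 (Finset.mem_image_of_mem _
              (Finset.mem_biUnion.2 ⟨m, Finset.mem_range.2 (by omega), hw⟩)))
          | zero => rw [map_zero]; exact zero_mem _
          | add a b _ _ ha hb =>
            rw [map_add]
            exact add_mem (ha (by rename_i h _; exact (hs _).le h)) (hb (by rename_i _ h; exact (hs _).le h))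
          | smul c a h ha => exact hscal c a (ha ((hs _).le h))
        · obtain ⟨a, ha, b, hb, hab⟩ := Submodule.mem_sup.1 (hN (hB N m (by omega) z hz))
          have hzd : (decompose 𝒜 a m : R) + (decompose 𝒜 b m : R) = z := by
            rw [← AddMemClass.coe_add, ← DirectSum.add_apply, ← decompose_add, hab, decompose_of_mem_same 𝒜 hz]
          have ha' : (decompose 𝒜 a m : R) ∈ I := hI m ha
          have hb' : (decompose 𝒜 b m : R) ∈ Ideal.span (Set.range f) :=
            (Ideal.homogeneous_span 𝒜 _ (by rintro _ ⟨j, rfl⟩; exact ⟨_, hfm j⟩)) m hb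
          rw [← hzd, map_add, Ideal.Quotient.eq_zero_iff_mem.2 ha', zero_add]
          obtain ⟨c, hc, hzc⟩ := exists_comb 𝒜 hfm (SetLike.coe_mem (decompose 𝒜 b m)) hb'
          rw [hzc, map_sum]
          refine Submodule.sum_mem _ fun j _ => ?_
          by_cases hmD : D ≤ m
          · have hcj := ih (m - D) (by omega) (c j) (by rw [Nat.cast_sub hmD]; exact hc j)
            have := Submodule.smul_mem _ (MvPolynomial.X j : MvPolynomial (Fin r) k) hcj
            rwa [hsmul, MvPolynomial.aeval_X, mul_comm] at this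
          · rw [eq_zero_of_neg 𝒜 hpos _ (by omega) _ (hc j), zero_smul, map_zero]
            exact zero_mem _
    obtain ⟨y, rfl⟩ := Ideal.Quotient.mk_surjective y
    rw [← sum_support_decompose 𝒜 y, map_sum]
    refine Submodule.sum_mem _ fun i _ => ?_
    rcases lt_or_ge i 0 with hi | hi
    · rw [eq_zero_of_neg 𝒜 hpos i hi _ (SetLike.coe_mem _), map_zero]; exact zero_mem _
    · lift i to ℕ using hi
      exact key i _ (SetLike.coe_mem _)
  refine ⟨(RingHom.injective_iff_ker_eq_bot _).2 ?_, hfinite⟩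
  by_contra hker
  obtain ⟨p, hp, hp0⟩ := Submodule.exists_mem_ne_zero_of_ne_bot hker
  let A := MvPolynomial (Fin r) k ⧸ RingHom.ker φ.toRingHom
  let φ' : A →+* R ⧸ I := RingHom.kerLift φ.toRingHom
  letI : Algebra A (R ⧸ I) := φ'.toAlgebra
  haveI : FaithfulSMul A (R ⧸ I) := (faithfulSMul_iff_algebraMap_injective _ _).2 (RingHom.kerLift_injective _)
  haveI : Algebra.IsIntegral A (R ⧸ I) := ⟨fun y => by
    obtain ⟨q, hq, hq0⟩ := hfinite.to_isIntegral y
    refine ⟨q.map (Ideal.Quotient.mk (RingHom.ker φ.toRingHom)), hq.map _, ?_⟩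
    rw [Polynomial.eval₂_map]
    exact hq0⟩
  have hA : ringKrullDim A = r := (VarDim.ringKrullDim_eq_of_isIntegral (R := A) (S := R ⧸ I)).symm.trans hr
  have h1 : ringKrullDim A ≤ ringKrullDim (MvPolynomial (Fin r) k ⧸ Ideal.span {p}) :=
    ringKrullDim_le_of_surjective (Ideal.Quotient.factor ((Ideal.span_singleton_le_iff_mem _).2 hp))
      (Ideal.Quotient.factor_surjective _)
  have h2 := ringKrullDim_quotient_succ_le_of_nonZeroDivisor (mem_nonZeroDivisors_of_ne_zero hp0)
  rw [MvPolynomial.ringKrullDim_of_isNoetherianRing, ringKrullDim_eq_zero_of_field, zero_add, Nat.card_fin] at h2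
  have h3 : (r : WithBot ℕ∞) + 1 ≤ r := le_trans (add_le_add_left (hA ▸ h1) 1) h2
  have h4 : ((r + 1 : ℕ) : WithBot ℕ∞) ≤ (r : ℕ) := by exact_mod_cast h3
  rw [Nat.cast_le] at h4
  omega

end Groth.Agent.GrLib8.HomNN
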