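import Groth.Prelude.Def_ega3
import Groth.Prelude.Def_Koszul
import Groth.Prelude.Def_DRing2
import Groth.Agent.Koszul15.Basic
import Groth.Agent.KZ.Koszul
import Groth.Agent.GrLib8.KoszulColim
import Mathlib.RingTheory.Length

/-!
# Euler characteristics of Koszul complexes
-/

set_option autoImplicit false
set_option linter.style.haveILetI false

universe u

open CategoryTheory Limits CochainComplex

namespace Groth.Agent.GrLib8.KChi

variable {A : Type u} [CommRing A]

local notation "K(" fs ", " M ")" => CohIII.koszulCx M fs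

section Compare

/-- The cone of conjugate endomorphisms. -/
noncomputable def coneIso {P Q : CechLC.Cx A} (a : P ⟶ P) (b : Q ⟶ Q) (e : P ≅ Q) (h : a ≫ e.hom = e.hom ≫ b) :
    mappingCone a ≅ mappingCone b where
  hom := mappingCone.map a b e.hom e.hom h
  inv := mappingCone.map b a e.inv e.inv (by
    rw [← cancel_epi e.hom, Iso.hom_inv_id_assoc, ← Category.assoc, ← h, Category.assoc, e.hom_inv_id,
      Category.comp_id])
  hom_inv_id := by
    rw [← mappingCone.map_comp]
    simp [mappingCone.map_id]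
  inv_hom_id := by
    rw [← mappingCone.map_comp]
    simp [mappingCone.map_id]

/-- The prelude's two models of the Koszul complex with coefficients agree. -/
theorem nonempty_tensor_iso (M : ModuleCat.{u} A) : ∀ l : List A,
    Nonempty (DRing.tensorCx (Koszul.koszul A l) M ≅ K(l, M))
  | [] => by
    let e : ModuleCat.of A (TensorProduct A A M) ≅ M := (TensorProduct.lid A M).toModuleIso
    exact ⟨(HomologicalComplex.singleMapHomologicalComplex (MonoidalCategory.tensorRight M) (ComplexShape.up ℤ) 0).app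
      (ModuleCat.of A A) ≪≫ (HomologicalComplex.single (ModuleCat.{u} A) (ComplexShape.up ℤ) 0).mapIso e⟩
  | f :: l => by
    obtain ⟨e⟩ := nonempty_tensor_iso M l
    let F := MonoidalCategory.tensorRight M
    have hF : (F.mapHomologicalComplex (ComplexShape.up ℤ)).map (f • 𝟙 (Koszul.koszul A l)) =
        f • 𝟙 ((F.mapHomologicalComplex (ComplexShape.up ℤ)).obj (Koszul.koszul A l)) :=
      HomologicalComplex.hom_ext _ _ fun n => by
        show F.map (f • 𝟙 ((Koszul.koszul A l).X n)) = f • 𝟙 (F.obj ((Koszul.koszul A l).X n))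
        rw [Functor.map_smul, F.map_id]
    refine ⟨(mappingCone.mapHomologicalComplexIso (f • 𝟙 (Koszul.koszul A l)) F : _) ≪≫
      coneIso _ (f • 𝟙 K(l, M)) e ?_⟩
    rw [hF]
    simp [DRing.tensorCx, F, Linear.smul_comp, Linear.comp_smul]

end Compare

section Hom

variable (M : ModuleCat.{u} A) (l : List A)

/-- Koszul cohomology. -/
noncomputable abbrev H (i : ℤ) : ModuleCat.{u} A := K(l, M).homology i

/-- The length as an integer. -/
noncomputable def len (A' : Type u) [CommRing A'] (N : Type u) [AddCommGroup N] [Module A' N] : ℤ :=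
  ((Module.length A' N).toNat : ℤ)

/-- The sign. -/
abbrev sgn (i : ℤ) : ℤ := ((i.negOnePow : ℤˣ) : ℤ)

/-- The Euler characteristic. -/
noncomputable def chi : ℤ := ∑ᶠ i : ℤ, sgn i * len A (H M l i)

theorem len_congr {N N' : Type u} [AddCommGroup N] [Module A N] [AddCommGroup N'] [Module A N']
    (e : N ≃ₗ[A] N') : len A N = len A N' := by rw [len, len, e.length_eq]

theorem len_of_subsingleton (N : Type u) [AddCommGroup N] [Module A N] [Subsingleton N] : len A N = 0 := by
  rw [len, Module.length_eq_zero_iff.2 ‹_›]; rfl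

theorem sum_tensor_eq_chi : (∑ᶠ i : ℤ, ((i.negOnePow : ℤˣ) : ℤ) *
    ((Module.length A ((DRing.tensorCx (Koszul.koszul A l) M).homology i)).toNat : ℤ)) = chi M l := by
  obtain ⟨e⟩ := nonempty_tensor_iso M l
  refine finsum_congr fun i => congrArg (sgn i * ·) ?_
  exact len_congr (HomologicalComplex.homologyMapIso e i).toLinearEquiv

theorem chi_congr {M' : ModuleCat.{u} A} {l' : List A} (e : K(l, M) ≅ K(l', M')) : chi M l = chi M' l' :=
  finsum_congr fun i => congrArg (sgn i * ·) (len_congr (HomologicalComplex.homologyMapIso e i).toLinearEquiv)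

theorem isZero_H {i : ℤ} (hi : 0 < i ∨ i < -(l.length : ℤ)) : IsZero (H M l i) :=
  ShortComplex.isZero_homology_of_isZero_X₂ _ (Koszul15.isZero_X M l i hi)

theorem finite_support {β : Type*} [AddCommMonoid β] (g : ℤ → β) (a b : ℤ) (h : ∀ i, (i < a ∨ b < i) → g i = 0) :
    (Function.support g).Finite :=
  (Set.finite_Icc a b).subset fun i hi => by
    rw [Set.mem_Icc]
    by_contra hc
    exact hi (h i (by omega))

theorem len_H_eq_zero {i : ℤ} (hi : 0 < i ∨ i < -(l.length : ℤ)) : len A (H M l i) = 0 := by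
  haveI := ModuleCat.subsingleton_of_isZero (isZero_H M l hi)
  exact len_of_subsingleton _

theorem finite_X [Module.Finite A M] : ∀ (l : List A) (n : ℤ), Module.Finite A (K(l, M).X n)
  | [], n => by
    rcases eq_or_ne n 0 with rfl | hn
    · exact Module.Finite.equiv (HomologicalComplex.singleObjXSelf (ComplexShape.up ℤ) 0 M).toLinearEquiv.symm
    · haveI := ModuleCat.subsingleton_of_isZero
        (HomologicalComplex.isZero_single_obj_X (ComplexShape.up ℤ) 0 M n hn)
      haveI : Finite (K(([] : List A), M).X n) := @Finite.of_subsingleton _ ‹_›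
      exact Module.Finite.of_finite
  | f :: l, n => by
    haveI := finite_X l (n + 1)
    haveI := finite_X l n
    let φ := f • 𝟙 K(l, M)
    refine Module.Finite.of_surjective (((mappingCone.inl φ).v (n + 1) n (by omega)).hom.coprod
      ((mappingCone.inr φ).f n).hom) fun z => ?_
    have e := ConcreteCategory.congr_hom (mappingCone.id_X φ n (n + 1) rfl) z
    exact ⟨(((mappingCone.fst φ).1.v n (n + 1) rfl).hom z, ((mappingCone.snd φ).v n n (add_zero n)).hom z), e⟩

theorem finite_H [IsNoetherianRing A] [Module.Finite A M] (i : ℤ) : Module.Finite A (H M l i) := by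
  haveI := finite_X M l i
  haveI : Module.Finite A (K(l, M).cycles i) :=
    Module.Finite.of_injective (K(l, M).iCycles i).hom ((ModuleCat.mono_iff_injective _).1 inferInstance)
  exact Module.Finite.of_surjective (K(l, M).homologyπ i).hom ((ModuleCat.epi_iff_surjective _).1 inferInstance)

/-- The ideal killing Koszul cohomology. -/
noncomputable abbrev killer : Ideal A := Module.annihilator A M ⊔ Ideal.ofList l

theorem smul_H_eq_zero {a : A} (ha : a ∈ killer M l) (i : ℤ) (z : H M l i) : a • z = 0 := by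
  have key : ∀ b : A, (b • 𝟙 K(l, M) = 0 ∨ Nonempty (Homotopy (b • 𝟙 K(l, M)) 0)) → b • z = 0 := fun b hb => by
    have h1 : HomologicalComplex.homologyMap (b • 𝟙 K(l, M)) i = 0 := by
      rcases hb with hb | ⟨⟨hb⟩⟩
      · rw [hb, HomologicalComplex.homologyMap_zero]
      · rw [hb.homologyMap_eq, HomologicalComplex.homologyMap_zero]
    obtain ⟨w, rfl⟩ := (ModuleCat.epi_iff_surjective (K(l, M).homologyπ i)).1 inferInstance z
    have h2 := ConcreteCategory.congr_hom (HomologicalComplex.homologyπ_naturality (b • 𝟙 K(l, M)) i) w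
    rw [h1] at h2
    rw [← map_smul, show b • w = (HomologicalComplex.cyclesMap (b • 𝟙 K(l, M)) i).hom w from
      (ModuleCat.mono_iff_injective (K(l, M).iCycles i)).1 inferInstance ?_]
    · exact h2.symm
    · refine (map_smul (K(l, M).iCycles i).hom b w).trans ?_
      exact (ConcreteCategory.congr_hom (HomologicalComplex.cyclesMap_i (b • 𝟙 K(l, M)) i) w).symm
  obtain ⟨b, hb, c, hc, rfl⟩ := Submodule.mem_sup.1 ha
  rw [add_smul, key b (Or.inl ?_), key c (Or.inr (Koszul15.homotopy_of_mem M l c hc)), add_zero]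
  rw [← Koszul15.kmap_smul, show b • 𝟙 M = 0 from ModuleCat.hom_ext (LinearMap.ext (Module.mem_annihilator.1 hb))]
  rw [show (0 : M ⟶ M) = (0 : A) • 𝟙 M from (zero_smul _ _).symm, Koszul15.kmap_smul, zero_smul]

end Hom

section Local

variable [IsNoetherianRing A] [IsLocalRing A] (M : ModuleCat.{u} A) [Module.Finite A M] (l : List A)

/-- The quotient by the sequence is of finite length. -/
def FL : Prop := ∀ p : PrimeSpectrum A, killer M l ≤ p.asIdeal → p = IsLocalRing.closedPoint A

omit [IsNoetherianRing A] in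
theorem FL_iff_support : FL M l ↔
    Module.support A (M ⧸ (Ideal.ofList l • (⊤ : Submodule A M))) ⊆ {IsLocalRing.closedPoint A} := by
  rw [Module.support_quotient, Module.support_eq_zeroLocus]
  refine forall_congr' fun p => ?_
  simp [killer, PrimeSpectrum.mem_zeroLocus, sup_le_iff, Ideal.ofList, Ideal.span_le]

theorem FL_iff : FL M l ↔ IsFiniteLength A (M ⧸ (Ideal.ofList l • (⊤ : Submodule A M))) :=
  (FL_iff_support M l).trans ⟨KZ.isFiniteLength_of_support_subset _, KZ.support_subset_of_isFiniteLength⟩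

variable {M l}

theorem isFiniteLength_H (h : FL M l) (i : ℤ) : IsFiniteLength A (H M l i) := by
  haveI := finite_H M l i
  refine KZ.isFiniteLength_of_support_subset _ fun p hp => h p fun a ha => ?_
  rw [Module.support_eq_zeroLocus, PrimeSpectrum.mem_zeroLocus] at hp
  exact hp (Module.mem_annihilator.2 (smul_H_eq_zero M l ha i))

end Local

section Cone

variable {M : ModuleCat.{u} A} {l : List A} (f : A)


/-- The projection of the cone on cohomology, with the inclusion given explicitly. -/
theorem exists_cone_proj (K : CechLC.Cx A) (i : ℤ) :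
    ∃ b : (mappingCone (f • 𝟙 K)).homology i →ₗ[A] K.homology (i + 1),
    (∀ x, (HomologicalComplex.homologyMap (mappingCone.inr (f • 𝟙 K)) i).hom x = 0 ↔ ∃ y, f • y = x) ∧
      Function.Exact (HomologicalComplex.homologyMap (mappingCone.inr (f • 𝟙 K)) i).hom b ∧
      (∀ x, (∃ y, b y = x) ↔ f • x = 0) := by
  let φ : K ⟶ K := f • 𝟙 K
  let C := mappingCone φ
  have hi : Function.Injective (C.iCycles i).hom := (ModuleCat.mono_iff_injective _).1 inferInstance
  have hiK : ∀ n, Function.Injective (K.iCycles n).hom := fun n => (ModuleCat.mono_iff_injective _).1 inferInstance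
  have hπ : Function.Surjective (C.homologyπ i).hom := (ModuleCat.epi_iff_surjective _).1 inferInstance
  have hπK : ∀ n, Function.Surjective (K.homologyπ n).hom := fun n => (ModuleCat.epi_iff_surjective _).1 inferInstance
  have cyc : ∀ (L : CechLC.Cx A) (n : ℤ) (x : L.X n), (L.d n (n + 1)).hom x = 0 →
      ∃ z : L.cycles n, (L.iCycles n).hom z = x := fun L n x hx => by
    let j : ModuleCat.of A A ⟶ L.X n := ModuleCat.ofHom (LinearMap.toSpanSingleton A _ x)
    have hj : j ≫ L.d n (n + 1) = 0 := ModuleCat.hom_ext (LinearMap.ext_ring (by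
      show (L.d n (n + 1)).hom ((1 : A) • x) = 0
      rw [one_smul, hx]))
    exact ⟨(L.liftCycles j (n + 1) (by simp) hj).hom 1,
      (ConcreteCategory.congr_hom (L.liftCycles_i j (n + 1) (by simp) hj) 1).trans (one_smul A x)⟩
  have hfst : ∀ p q (h : p + 1 = q) (q' : ℤ) (h' : q + 1 = q') (w : C.X p),
      ((mappingCone.fst φ).1.v q q' h').hom ((C.d p q).hom w) =
        -((K.d q q').hom (((mappingCone.fst φ).1.v p q h).hom w)) := fun p q h q' h' w =>
    ConcreteCategory.congr_hom (mappingCone.d_fst_v φ p q q' h h') w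
  have hsnd : ∀ p q (h : p + 1 = q) (w : C.X p),
      ((mappingCone.snd φ).v q q (add_zero q)).hom ((C.d p q).hom w) =
        f • ((mappingCone.fst φ).1.v p q h).hom w +
          (K.d p q).hom (((mappingCone.snd φ).v p p (add_zero p)).hom w) := fun p q h w =>
    ConcreteCategory.congr_hom (mappingCone.d_snd_v φ p q h) w
  have hprev : (ComplexShape.up ℤ).prev i + 1 = i := by simp
  have hnext : i + 1 = (ComplexShape.up ℤ).next i := by simp
  have hprev' : (ComplexShape.up ℤ).prev i + 1 = (ComplexShape.up ℤ).prev (i + 1) := by simp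
  have hnext' : (ComplexShape.up ℤ).next i + 1 = (ComplexShape.up ℤ).next (i + 1) := by simp
  let F : C.sc i ⟶ K.sc (i + 1) :=
    { τ₁ := -(mappingCone.fst φ).1.v _ _ hprev'
      τ₂ := (mappingCone.fst φ).1.v i (i + 1) rfl
      τ₃ := -(mappingCone.fst φ).1.v _ _ hnext'
      comm₁₂ := ModuleCat.hom_ext (LinearMap.ext fun w => by
        show (K.d _ (i + 1)).hom (-(((mappingCone.fst φ).1.v _ _ hprev').hom w)) =
          ((mappingCone.fst φ).1.v i (i + 1) rfl).hom ((C.d _ i).hom w)
        rw [map_neg, hfst _ _ hprev (i + 1) rfl]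
        have : ∀ q (h : (ComplexShape.up ℤ).prev i + 1 = q),
            (K.d q (i + 1)).hom (((mappingCone.fst φ).1.v _ q h).hom w) =
              (K.d i (i + 1)).hom (((mappingCone.fst φ).1.v _ i hprev).hom w) := by
          rintro q h
          obtain rfl : q = i := h.symm.trans hprev
          rfl
        rw [this _ hprev'])
      comm₂₃ := ModuleCat.hom_ext (LinearMap.ext fun w => by
        show (K.d (i + 1) _).hom (((mappingCone.fst φ).1.v i (i + 1) rfl).hom w) =
          -(((mappingCone.fst φ).1.v _ _ hnext').hom ((C.d i _).hom w))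
        have : ∀ q (h : i + 1 = q) q' (h' : q + 1 = q'),
            ((mappingCone.fst φ).1.v q q' h').hom ((C.d i q).hom w) =
              -((K.d (i + 1) q').hom (((mappingCone.fst φ).1.v i (i + 1) rfl).hom w)) := by
          rintro q rfl q' h'
          exact hfst i _ rfl q' h' w
        rw [this _ hnext _ hnext', neg_neg]) }
  let b : C.homology i →ₗ[A] K.homology (i + 1) := (ShortComplex.homologyMap F).hom
  have hb : ∀ z : C.cycles i, ∃ z' : K.cycles (i + 1),
      (K.iCycles (i + 1)).hom z' = ((mappingCone.fst φ).1.v i (i + 1) rfl).hom ((C.iCycles i).hom z) ∧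
        b ((C.homologyπ i).hom z) = (K.homologyπ (i + 1)).hom z' := fun z =>
    ⟨(ShortComplex.cyclesMap F).hom z, ConcreteCategory.congr_hom (ShortComplex.cyclesMap_i F) z,
      ConcreteCategory.congr_hom (ShortComplex.homologyπ_naturality F) z⟩
  let a : K.homology i →ₗ[A] C.homology i := (HomologicalComplex.homologyMap (mappingCone.inr φ) i).hom
  have ha : ∀ z : K.cycles i, ∃ z' : C.cycles i,
      (C.iCycles i).hom z' = ((mappingCone.inr φ).f i).hom ((K.iCycles i).hom z) ∧
        a ((K.homologyπ i).hom z) = (C.homologyπ i).hom z' := fun z =>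
    ⟨(HomologicalComplex.cyclesMap (mappingCone.inr φ) i).hom z,
      ConcreteCategory.congr_hom (HomologicalComplex.cyclesMap_i (mappingCone.inr φ) i) z,
      ConcreteCategory.congr_hom (HomologicalComplex.homologyπ_naturality (mappingCone.inr φ) i) z⟩
  have rf : ∀ p q (h : p + 1 = q) (v : K.X p),
      ((mappingCone.fst φ).1.v p q h).hom (((mappingCone.inr φ).f p).hom v) = 0 := fun p q h v =>
    ConcreteCategory.congr_hom (mappingCone.inr_f_fst_v φ p q h) v
  have rs : ∀ p (v : K.X p),
      ((mappingCone.snd φ).v p p (add_zero p)).hom (((mappingCone.inr φ).f p).hom v) = v := fun p v =>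
    ConcreteCategory.congr_hom (mappingCone.inr_f_snd_v φ p) v
  have hdi : ∀ (L : CechLC.Cx A) (n m : ℤ) (z : L.cycles n), (L.d n m).hom ((L.iCycles n).hom z) = 0 :=
    fun L n m z => ConcreteCategory.congr_hom (L.iCycles_d n m) z
  refine ⟨b, fun x => ?_, fun y => ?_, fun x => ?_⟩
  · obtain ⟨z, rfl⟩ := hπK i x
    obtain ⟨z', hz', e⟩ := ha z
    rw [e, KoszulColim.homologyπ_eq_zero_iff]
    constructor
    · rintro ⟨w, hw⟩
      rw [hz'] at hw
      have h1 := congrArg ((mappingCone.fst φ).1.v i (i + 1) rfl).hom hw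
      rw [rf, hfst _ _ hprev (i + 1) rfl, neg_eq_zero] at h1
      have h2 := congrArg ((mappingCone.snd φ).v i i (add_zero i)).hom hw
      rw [rs, hsnd _ _ hprev] at h2
      obtain ⟨u, hu⟩ := cyc K i _ h1
      refine ⟨(K.homologyπ i).hom u, ?_⟩
      rw [← map_smul, ← sub_eq_zero, ← map_sub, KoszulColim.homologyπ_eq_zero_iff]
      refine ⟨-(((mappingCone.snd φ).v _ _ (add_zero _)).hom w), ?_⟩
      rw [map_neg, map_sub, map_smul, hu, ← h2]
      abel
    · rintro ⟨y, hy⟩
      obtain ⟨u, rfl⟩ := hπK i y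
      rw [← map_smul, ← sub_eq_zero, ← map_sub, KoszulColim.homologyπ_eq_zero_iff] at hy
      obtain ⟨v, hv⟩ := hy
      obtain ⟨w, hw1, hw2⟩ : ∃ w : C.X ((ComplexShape.up ℤ).prev i),
          ((mappingCone.fst φ).1.v _ i hprev).hom w = (K.iCycles i).hom u ∧
            ((mappingCone.snd φ).v _ _ (add_zero _)).hom w = -v := by
        refine ⟨((mappingCone.inl φ).v i _ (by simp; omega)).hom ((K.iCycles i).hom u) -
          ((mappingCone.inr φ).f _).hom v, ?_, ?_⟩
        · rw [map_sub, rf, sub_zero]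
          exact ConcreteCategory.congr_hom (mappingCone.inl_v_fst_v φ i _ hprev) _
        · rw [map_sub, rs]
          erw [ConcreteCategory.congr_hom (mappingCone.inl_v_snd_v φ i ((ComplexShape.up ℤ).prev i) (by simp; omega)) ((K.iCycles i).hom u)]
          exact zero_sub v
      refine ⟨w, CechLC.cone_ext φ ?_ ?_⟩
      · rw [hz', rf, hfst _ _ hprev (i + 1) rfl, hw1, hdi, neg_zero]
      · rw [hz', rs, hsnd _ _ hprev, hw1, hw2, map_neg, hv, map_sub, map_smul]
        abel
  · obtain ⟨z, rfl⟩ := hπ y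
    obtain ⟨z', hz', e⟩ := hb z
    constructor
    · intro hy
      rw [e, KoszulColim.homologyπ_eq_zero_iff] at hy
      obtain ⟨u, hu⟩ := hy
      rw [hz'] at hu
      have hu' : ∀ q (h : q = (ComplexShape.up ℤ).prev (i + 1)), ∃ u' : K.X q,
          (K.d q (i + 1)).hom u' = ((mappingCone.fst φ).1.v i (i + 1) rfl).hom ((C.iCycles i).hom z) := by
        rintro q rfl; exact ⟨u, hu⟩
      obtain ⟨u', hu'⟩ := hu' i (by simp)
      have hd := congrArg ((mappingCone.snd φ).v (i + 1) (i + 1) (add_zero _)).hom (hdi C i (i + 1) z)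
      rw [map_zero, hsnd _ _ rfl, ← hu', ← map_smul, ← map_add] at hd
      obtain ⟨t, ht⟩ := cyc K i _ hd
      refine ⟨(K.homologyπ i).hom t, ?_⟩
      obtain ⟨t', ht', e'⟩ := ha t
      rw [e', ← sub_eq_zero, ← map_sub, KoszulColim.homologyπ_eq_zero_iff]
      refine ⟨((mappingCone.inl φ).v i _ (by simp; omega)).hom u', CechLC.cone_ext φ ?_ ?_⟩
      · rw [hfst _ _ hprev (i + 1) rfl]
        erw [ConcreteCategory.congr_hom (mappingCone.inl_v_fst_v φ i _ hprev) u']
        rw [map_sub, map_sub, ht', rf, zero_sub]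
        exact congrArg Neg.neg hu'
      · rw [hsnd _ _ hprev]
        erw [ConcreteCategory.congr_hom (mappingCone.inl_v_fst_v φ i _ hprev) u',
          ConcreteCategory.congr_hom (mappingCone.inl_v_snd_v φ i ((ComplexShape.up ℤ).prev i) (by simp; omega)) u']
        show f • u' + (K.d _ i).hom 0 = _
        rw [map_zero, add_zero, map_sub, map_sub, ht', rs, ht, add_sub_cancel_right]
    · rintro ⟨x, hx⟩
      obtain ⟨t, rfl⟩ := hπK i x
      obtain ⟨t', ht', e'⟩ := ha t
      rw [← hx, e']
      obtain ⟨t'', ht'', e''⟩ := hb t'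
      rw [e'', show t'' = 0 from hiK _ (by rw [map_zero, ht'', ht', rf]), map_zero]
  · obtain ⟨z, rfl⟩ := hπK (i + 1) x
    constructor
    · rintro ⟨y, hy⟩
      obtain ⟨w, rfl⟩ := hπ y
      obtain ⟨w', hw', e⟩ := hb w
      rw [← hy, e, ← map_smul, KoszulColim.homologyπ_eq_zero_iff]
      have hd := congrArg ((mappingCone.snd φ).v (i + 1) (i + 1) (add_zero _)).hom (hdi C i (i + 1) w)
      rw [map_zero, hsnd _ _ rfl] at hd
      have : ∀ q (h : q = (ComplexShape.up ℤ).prev (i + 1)) (v : K.X q), ∃ v' : K.X ((ComplexShape.up ℤ).prev (i + 1)),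
          (K.d _ (i + 1)).hom v' = (K.d q (i + 1)).hom v := by rintro q rfl v; exact ⟨v, rfl⟩
      obtain ⟨v', hv'⟩ := this i (by simp) (-(((mappingCone.snd φ).v i i (add_zero i)).hom ((C.iCycles i).hom w)))
      refine ⟨v', hv'.trans ?_⟩
      rw [map_neg, map_smul, hw']
      exact (eq_neg_of_add_eq_zero_left hd).symm
    · intro hx
      rw [← map_smul, KoszulColim.homologyπ_eq_zero_iff] at hx
      obtain ⟨v, hv⟩ := hx
      have hv' : ∀ q (h : q = (ComplexShape.up ℤ).prev (i + 1)), ∃ v' : K.X q,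
          (K.d q (i + 1)).hom v' = (K.iCycles (i + 1)).hom (f • z) := by rintro q rfl; exact ⟨v, hv⟩
      obtain ⟨v', hv'⟩ := hv' i (by simp)
      obtain ⟨w, hw1, hw2⟩ := CechLC.cone_mk φ i ((K.iCycles (i + 1)).hom z) (-v')
      have hw : (C.d i (i + 1)).hom w = 0 := by
        refine CechLC.cone_ext φ ?_ ?_
        · rw [map_zero, hfst _ _ rfl (i + 1 + 1) rfl, hw1, hdi, neg_zero]
        · rw [map_zero, hsnd _ _ rfl, hw1, hw2, map_neg, hv', map_smul, add_neg_cancel]
      obtain ⟨t, ht⟩ := cyc C i w hw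
      obtain ⟨t', ht', e⟩ := hb t
      exact ⟨_, e.trans (congrArg _ (hiK _ (by rw [ht', ht, hw1])))⟩

/-- The projection of the cone on cohomology. -/
theorem exists_cone_maps' (K : CechLC.Cx A) (i : ℤ) :
    ∃ (a : K.homology i →ₗ[A] (mappingCone (f • 𝟙 K)).homology i)
      (b : (mappingCone (f • 𝟙 K)).homology i →ₗ[A] K.homology (i + 1)),
    (∀ x, a x = 0 ↔ ∃ y, f • y = x) ∧ Function.Exact a b ∧ (∀ x, (∃ y, b y = x) ↔ f • x = 0) :=
  ⟨_, exists_cone_proj f K i⟩

theorem exists_cone_maps (i : ℤ) : ∃ (a : H M l i →ₗ[A] H M (f :: l) i) (b : H M (f :: l) i →ₗ[A] H M l (i + 1)),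
    (∀ x, a x = 0 ↔ ∃ y, f • y = x) ∧ Function.Exact a b ∧ (∀ x, (∃ y, b y = x) ↔ f • x = 0) :=
  exists_cone_maps' f K(l, M) i

end Cone

end Groth.Agent.GrLib8.KChi
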