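import Groth.Agent.GrLib8.KChiDim

/-!
# Growth of Koszul homology of powers
-/

set_option autoImplicit false
set_option linter.style.haveILetI false

universe u

open CategoryTheory Limits CochainComplex
open scoped Pointwise

namespace Groth.Agent.GrLib8.KChi

variable {A : Type u} [CommRing A]

local notation "K(" fs ", " M ")" => CohIII.koszulCx M fs

theorem length_mid_le {N N' N'' : Type u} [AddCommGroup N] [Module A N] [AddCommGroup N'] [Module A N']
    [AddCommGroup N''] [Module A N''] (f : N →ₗ[A] N') (g : N' →ₗ[A] N'') (h : Function.Exact f g) :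
    Module.length A N' ≤ Module.length A N + Module.length A N'' := by
  have he : Function.Exact (LinearMap.range f).subtype g.rangeRestrict := fun b =>
    ⟨fun hb => ⟨⟨b, (h b).1 (congrArg Subtype.val hb)⟩, rfl⟩, fun ⟨a, ha⟩ => Subtype.ext ((h b).2 (ha ▸ a.2))⟩
  rw [Module.length_eq_add_of_exact _ _ Subtype.val_injective g.surjective_rangeRestrict he]
  exact add_le_add (Module.length_le_of_surjective _ f.surjective_rangeRestrict)
    (Module.length_le_of_injective (LinearMap.range g).subtype Subtype.val_injective)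

theorem length_H_cons_le (M : ModuleCat.{u} A) (f : A) (l : List A) (i : ℤ) :
    Module.length A (H M (f :: l) i) ≤ Module.length A (H M l i) + Module.length A (H M l (i + 1)) := by
  obtain ⟨a, b, -, hab, -⟩ := exists_cone_maps f (M := M) (l := l) i
  exact length_mid_le a b hab

theorem length_H_le_of_exact {M₁ M₂ M₃ : ModuleCat.{u} A} (g : M₁ ⟶ M₂) (g' : M₂ ⟶ M₃)
    (hg : Function.Injective g.hom) (hg' : Function.Surjective g'.hom) (hex : Function.Exact g.hom g'.hom)
    (l : List A) (i : ℤ) :
    Module.length A (H M₂ l i) ≤ Module.length A (H M₁ l i) + Module.length A (H M₃ l i) := by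
  have hz : g ≫ g' = 0 := ModuleCat.hom_ext (LinearMap.ext hex.apply_apply_eq_zero)
  have hS : (ShortComplex.mk _ _ hz).ShortExact :=
    { exact := (ShortComplex.ShortExact.moduleCat_exact_iff_function_exact _).2 hex
      mono_f := (ModuleCat.mono_iff_injective _).2 hg
      epi_g := (ModuleCat.epi_iff_surjective _).2 hg' }
  obtain ⟨hz', hK⟩ := Koszul15.kmap_shortExact _ _ hz hS l
  exact length_mid_le _ _ ((ShortComplex.ShortExact.moduleCat_exact_iff_function_exact _).1 (hK.homology_exact₂ i))

theorem length_H_of_subsingleton (M : ModuleCat.{u} A) [Subsingleton M] (l : List A) (i : ℤ) :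
    Module.length A (H M l i) = 0 := by
  rw [Module.length_eq_zero_iff]
  refine ⟨fun a b => ?_⟩
  have h : ∀ z : H M l i, z = 0 := fun z => by
    rw [← one_smul A z]
    exact smul_H_eq_zero M l (Submodule.mem_sup_left (Module.mem_annihilator.2 fun _ => Subsingleton.elim _ _)) i z
  rw [h a, h b]

theorem length_H_cons_regular {M M' : ModuleCat.{u} A} {f : A} {l : List A} (π : M ⟶ M')
    (hπ : Function.Surjective π.hom) (hf : ∀ z : M, f • z = 0 → z = 0)
    (hex : ∀ z : M, π.hom z = 0 ↔ ∃ y, f • y = z) (i : ℤ) :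
    Module.length A (H M (f :: l) i) = Module.length A (H M' l i) := by
  have hz : (f • 𝟙 M) ≫ π = 0 := ModuleCat.hom_ext (LinearMap.ext fun x => (hex _).2 ⟨x, rfl⟩)
  have hS : (ShortComplex.mk _ _ hz).ShortExact :=
    { exact := (ShortComplex.ShortExact.moduleCat_exact_iff_function_exact _).2 hex
      mono_f := (ModuleCat.mono_iff_injective _).2 ((injective_iff_map_eq_zero _).2 hf)
      epi_g := (ModuleCat.epi_iff_surjective _).2 hπ }
  obtain ⟨hz', hK⟩ := Koszul15.kmap_shortExact _ _ hz hS l
  have hq' := mappingCone.quasiIso_descShortComplex hK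
  have e : mappingCone (Koszul15.kmap (f • 𝟙 M) l) = K(f :: l, M) := by rw [Koszul15.kmap_smul]; rfl
  refine LinearEquiv.length_eq (Iso.toLinearEquiv ?_)
  exact (HomologicalComplex.homologyMapIso (eqToIso e.symm) i) ≪≫
    asIso (HomologicalComplex.homologyMap (mappingCone.descShortComplex
      (ShortComplex.mk (Koszul15.kmap (f • 𝟙 M) l) (Koszul15.kmap π l) hz')) i)

theorem mkQ_smul_eq_zero_iff {N : Type u} [AddCommGroup N] [Module A N] (y : A) (z : N) :
    Submodule.mkQ (y • (⊤ : Submodule A N)) z = 0 ↔ ∃ w, y • w = z := by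
  rw [Submodule.mkQ_apply, Submodule.Quotient.mk_eq_zero, Submodule.mem_smul_pointwise_iff_exists]
  simp

theorem length_H_quot_pow {N : Type u} [AddCommGroup N] [Module A N] {x : A} (hreg : IsSMulRegular N x)
    (l : List A) (i : ℤ) : ∀ m : ℕ, Module.length A (H (ModuleCat.of A (QuotSMulTop (x ^ m) N)) l i) ≤
      (m : ℕ∞) * Module.length A (H (ModuleCat.of A (QuotSMulTop x N)) l i)
  | 0 => by
    haveI : Subsingleton (QuotSMulTop (x ^ 0) N) := ⟨fun a b => by
      obtain ⟨a, rfl⟩ := Submodule.mkQ_surjective _ a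
      obtain ⟨b, rfl⟩ := Submodule.mkQ_surjective _ b
      exact sub_eq_zero.1 ((map_sub _ a b).symm.trans ((mkQ_smul_eq_zero_iff _ _).2 ⟨a - b, by rw [pow_zero, one_smul]⟩))⟩
    rw [length_H_of_subsingleton]
    simp
  | m + 1 => by
    have h1 : (x • (⊤ : Submodule A N)) ≤ (x ^ (m + 1) • (⊤ : Submodule A N)).comap (x ^ m • LinearMap.id) := by
      intro z hz
      obtain ⟨w, -, rfl⟩ := (Submodule.mem_smul_pointwise_iff_exists _ _ _).1 hz
      refine (Submodule.mem_smul_pointwise_iff_exists _ _ _).2 ⟨w, trivial, ?_⟩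
      show x ^ (m + 1) • w = x ^ m • x • w
      rw [smul_smul, pow_succ]
    have h2 : (x ^ (m + 1) • (⊤ : Submodule A N)) ≤ x ^ m • (⊤ : Submodule A N) := by
      intro z hz
      obtain ⟨w, -, rfl⟩ := (Submodule.mem_smul_pointwise_iff_exists _ _ _).1 hz
      exact (Submodule.mem_smul_pointwise_iff_exists _ _ _).2 ⟨x • w, trivial, by rw [smul_smul, ← pow_succ]⟩
    refine (length_H_le_of_exact (M₁ := ModuleCat.of A (QuotSMulTop x N))
      (M₂ := ModuleCat.of A (QuotSMulTop (x ^ (m + 1)) N)) (M₃ := ModuleCat.of A (QuotSMulTop (x ^ m) N))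
      (ModuleCat.ofHom (Submodule.mapQ _ _ (x ^ m • LinearMap.id) h1)) (ModuleCat.ofHom (Submodule.factor h2))
      ?_ (Submodule.factor_surjective h2) ?_ l i).trans ?_
    · refine (injective_iff_map_eq_zero _).2 fun z hz => ?_
      obtain ⟨z, rfl⟩ := Submodule.mkQ_surjective _ z
      obtain ⟨w, hw⟩ := (mkQ_smul_eq_zero_iff (x ^ (m + 1)) (x ^ m • z)).1 hz
      rw [pow_succ, mul_smul] at hw
      exact (mkQ_smul_eq_zero_iff x z).2 ⟨w, hreg.pow m hw⟩
    · intro z
      obtain ⟨z, rfl⟩ := Submodule.mkQ_surjective _ z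
      constructor
      · intro hz
        obtain ⟨w, hw⟩ := (mkQ_smul_eq_zero_iff (x ^ m) z).1 hz
        exact ⟨Submodule.mkQ _ w, congrArg (Submodule.mkQ _) hw⟩
      · rintro ⟨w, hw⟩
        obtain ⟨w, rfl⟩ := Submodule.mkQ_surjective _ w
        rw [← hw]
        exact (mkQ_smul_eq_zero_iff (x ^ m) _).2 ⟨w, rfl⟩
    · rw [Nat.cast_succ, add_mul, one_mul, add_comm]
      exact add_le_add (length_H_quot_pow hreg l i m) le_rfl

variable [IsNoetherianRing A] [IsLocalRing A]

/-- The growth of the Koszul homology of powers. -/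
theorem exists_bound : ∀ (l : List A) (M : Type u) [AddCommGroup M] [Module A M] [Module.Finite A M],
    FL (ModuleCat.of A M) l → ∀ j e : ℕ,
      (l.length ≤ j + e ∨ ((∀ x ∈ l, x ∈ IsLocalRing.maximalIdeal A) ∧ Module.supportDim A M ≤ (e : WithBot ℕ∞))) →
      ∃ c : ℕ, ∀ n : ℕ, 0 < n →
        Module.length A (H (ModuleCat.of A M) (l.map (· ^ n)) (-(j : ℤ))) ≤ ((c * n ^ e : ℕ) : ℕ∞)
  | [], M, _, _, _, hM, j, e, _ => by
    refine ⟨(Module.length A (H (ModuleCat.of A M) ([] : List A) (-(j : ℤ)))).toNat, fun n hn => ?_⟩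
    have hne := Module.length_ne_top_iff.2 (isFiniteLength_H hM (-(j : ℤ)))
    refine le_trans (le_of_eq (ENat.natCast_toNat hne).symm) ?_
    exact_mod_cast Nat.le_mul_of_pos_right _ (pow_pos hn e)
  | x :: l, M, _, _, hfin, hM, j, e, hje => by
    have ih := exists_bound l
    revert j e hM
    refine IsNoetherianRing.induction_on_isQuotientEquivQuotientPrime (A := A) (M := M) hfin
      (motive := fun N _ _ _ => FL (ModuleCat.of A N) (x :: l) → ∀ j e : ℕ,
        ((x :: l).length ≤ j + e ∨
          ((∀ y ∈ x :: l, y ∈ IsLocalRing.maximalIdeal A) ∧ Module.supportDim A N ≤ (e : WithBot ℕ∞))) →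
        ∃ c : ℕ, ∀ n : ℕ, 0 < n →
          Module.length A (H (ModuleCat.of A N) ((x :: l).map (· ^ n)) (-(j : ℤ))) ≤ ((c * n ^ e : ℕ) : ℕ∞)) ?_ ?_ ?_
    · intro N _ _ _ _ _ j e _
      exact ⟨0, fun n _ => by rw [length_H_of_subsingleton]; exact zero_le⟩
    · intro N _ _ _ p q hN j e hje
      by_cases hxp : x ∈ p.asIdeal
      · have hk : ∀ z : N, x • z = 0 := fun z => q.injective (by
          rw [map_smul, map_zero]
          obtain ⟨r, hr⟩ := Ideal.Quotient.mk_surjective (q z)
          rw [← hr]
          show Ideal.Quotient.mk _ (x * r) = 0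
          exact Ideal.Quotient.eq_zero_iff_mem.2 (Ideal.mul_mem_right _ _ hxp))
        have hN' : FL (ModuleCat.of A N) l := fun q hq => hN q (sup_le (le_sup_left.trans hq) (by
          rw [Ideal.ofList_cons]
          exact sup_le ((Ideal.span_singleton_le_iff_mem _).2 (hq (Submodule.mem_sup_left
            (Module.mem_annihilator.2 hk)))) (le_sup_right.trans hq)))
        have hcase : ∀ j' : ℕ, j ≤ j' + 1 → (l.length ≤ j' + e ∨
            ((∀ y ∈ l, y ∈ IsLocalRing.maximalIdeal A) ∧ Module.supportDim A N ≤ (e : WithBot ℕ∞))) := fun j' hj' => by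
          rcases hje with h | ⟨h1, h2⟩
          · left; rw [List.length_cons] at h; omega
          · exact Or.inr ⟨fun y hy => h1 y (List.mem_cons_of_mem _ hy), h2⟩
        obtain ⟨c1, h1⟩ := ih N hN' j e (hcase j (by omega))
        cases j with
        | zero =>
          refine ⟨c1, fun n hn => (length_H_cons_le _ (x ^ n) _ _).trans ?_⟩
          haveI := ModuleCat.subsingleton_of_isZero (isZero_H (ModuleCat.of A N) (l.map (· ^ n))
            (i := -((0 : ℕ) : ℤ) + 1) (Or.inl (by norm_num)))
          have h0 : Module.length A (H (ModuleCat.of A N) (l.map (· ^ n)) (-((0 : ℕ) : ℤ) + 1)) = 0 :=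
            Module.length_eq_zero_iff.2 ‹_›
          rw [h0, add_zero]
          exact h1 n hn
        | succ j =>
          obtain ⟨c2, h2⟩ := ih N hN' j e (hcase j le_rfl)
          refine ⟨c1 + c2, fun n hn => (length_H_cons_le _ (x ^ n) _ _).trans ?_⟩
          rw [show -((j + 1 : ℕ) : ℤ) + 1 = -(j : ℤ) by omega, add_mul, Nat.cast_add]
          exact add_le_add (h1 n hn) (h2 n hn)
      · have hreg : IsSMulRegular N x := isSMulRegular_iff_right_eq_zero_of_smul.2 fun z hz => q.injective (by
          rw [map_zero]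
          obtain ⟨r, hr⟩ := Ideal.Quotient.mk_surjective (q z)
          have h : x • q z = 0 := by rw [← map_smul, hz, map_zero]
          rw [← hr] at h ⊢
          rw [Ideal.Quotient.eq_zero_iff_mem]
          exact (p.2.mem_or_mem (Ideal.Quotient.eq_zero_iff_mem.1 h)).resolve_left hxp)
        have hN' : FL (ModuleCat.of A (QuotSMulTop x N)) l := fun q hq => hN q (sup_le
          (fun a ha => hq (Submodule.mem_sup_left (Module.mem_annihilator.2 fun z => by
            obtain ⟨z, rfl⟩ := Submodule.mkQ_surjective _ z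
            rw [← map_smul, Module.mem_annihilator.1 ha z, map_zero]))) (by
          rw [Ideal.ofList_cons]
          refine sup_le ((Ideal.span_singleton_le_iff_mem _).2 (hq (Submodule.mem_sup_left
            (Module.mem_annihilator.2 fun z => ?_)))) (le_sup_right.trans hq)
          obtain ⟨z, rfl⟩ := Submodule.mkQ_surjective _ z
          rw [← map_smul]
          exact (mkQ_smul_eq_zero_iff x _).2 ⟨z, rfl⟩))
        have main : ∀ n : ℕ, Module.length A (H (ModuleCat.of A N) ((x :: l).map (· ^ n)) (-(j : ℤ))) ≤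
            (n : ℕ∞) * Module.length A (H (ModuleCat.of A (QuotSMulTop x N)) (l.map (· ^ n)) (-(j : ℤ))) := fun n => by
          rw [List.map_cons, length_H_cons_regular (M := ModuleCat.of A N)
            (M' := ModuleCat.of A (QuotSMulTop (x ^ n) N)) (ModuleCat.ofHom (Submodule.mkQ _))
            (Submodule.mkQ_surjective _) (isSMulRegular_iff_right_eq_zero_of_smul.1 (hreg.pow n))
            (mkQ_smul_eq_zero_iff (x ^ n))]
          exact length_H_quot_pow hreg _ _ n
        cases e with
        | zero =>
          refine ⟨0, fun n _ => (main n).trans (le_of_eq ?_)⟩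
          have h0 : Module.length A (H (ModuleCat.of A (QuotSMulTop x N)) (l.map (· ^ n)) (-(j : ℤ))) = 0 := by
            rcases hje with h | ⟨h1, h2⟩
            · rw [List.length_cons] at h
              exact Module.length_eq_zero_iff.2 (ModuleCat.subsingleton_of_isZero
                (isZero_H _ _ (Or.inr (by rw [List.length_map]; omega))))
            · haveI : Subsingleton (QuotSMulTop x N) := by
                by_contra hne
                rw [not_subsingleton_iff_nontrivial] at hne
                haveI : Nonempty (Module.support A (QuotSMulTop x N)) :=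
                  Set.Nonempty.to_subtype (Module.nonempty_support_iff.2 hne)
                have hd : Module.supportDim A (QuotSMulTop x N) + 1 = Module.supportDim A N :=
                  Module.supportDim_quotSMulTop_succ_eq_supportDim hreg (h1 x List.mem_cons_self)
                rw [← hd] at h2
                exact absurd ((add_le_add Order.krullDim_nonneg le_rfl).trans h2) (by norm_num)
              exact length_H_of_subsingleton _ _ _
          rw [h0, mul_zero]
          simp
        | succ e =>
          have hcase : l.length ≤ j + e ∨ ((∀ y ∈ l, y ∈ IsLocalRing.maximalIdeal A) ∧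
              Module.supportDim A (QuotSMulTop x N) ≤ (e : WithBot ℕ∞)) := by
            rcases hje with h | ⟨h1, h2⟩
            · left; rw [List.length_cons] at h; omega
            · exact Or.inr ⟨fun y hy => h1 y (List.mem_cons_of_mem _ hy),
                (withBot_le_succ (Module.supportDim_quotSMulTop_succ_eq_supportDim hreg (h1 x List.mem_cons_self)) e).1.1 h2⟩
          obtain ⟨c, hc⟩ := ih (QuotSMulTop x N) hN' j e hcase
          refine ⟨c, fun n hn => (main n).trans ?_⟩
          rw [show c * n ^ (e + 1) = n * (c * n ^ e) by ring, Nat.cast_mul]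
          exact mul_le_mul' le_rfl (hc n hn)
    · intro N₁ _ _ _ N₂ _ _ _ N₃ _ _ _ f g hf hg hfg h1 h3 hN j e hje
      have hN1 : FL (ModuleCat.of A N₁) (x :: l) := fun q hq => hN q (sup_le (fun a ha => hq (Submodule.mem_sup_left
        (Module.mem_annihilator.2 fun z => hf (by rw [map_smul, Module.mem_annihilator.1 ha, map_zero]))))
        (le_sup_right.trans hq))
      have hN3 : FL (ModuleCat.of A N₃) (x :: l) := fun q hq => hN q (sup_le (fun a ha => hq (Submodule.mem_sup_left
        (Module.mem_annihilator.2 fun z => by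
          obtain ⟨z, rfl⟩ := hg z
          rw [← map_smul, Module.mem_annihilator.1 ha z, map_zero])))
        (le_sup_right.trans hq))
      obtain ⟨c1, e1⟩ := h1 hN1 j e (hje.imp_right fun h => ⟨h.1, (Module.supportDim_le_of_injective f hf).trans h.2⟩)
      obtain ⟨c3, e3⟩ := h3 hN3 j e (hje.imp_right fun h => ⟨h.1, (Module.supportDim_le_of_surjective g hg).trans h.2⟩)
      refine ⟨c1 + c3, fun n hn => (length_H_le_of_exact (M₁ := ModuleCat.of A N₁) (M₂ := ModuleCat.of A N₂)
        (M₃ := ModuleCat.of A N₃) (ModuleCat.ofHom f) (ModuleCat.ofHom g) hf hg hfg _ _).trans ?_⟩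
      rw [add_mul, Nat.cast_add]
      exact add_le_add (e1 n hn) (e3 n hn)

theorem length_tensor_le (M : ModuleCat.{u} A) (l : List A) (i : ℤ) :
    Module.length A ((DRing.tensorCx (Koszul.koszul A l) M).homology i) = Module.length A (H M l i) := by
  obtain ⟨e⟩ := nonempty_tensor_iso M l
  exact (HomologicalComplex.homologyMapIso e i).toLinearEquiv.length_eq

end Groth.Agent.GrLib8.KChi
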