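import Mathlib.LinearAlgebra.TensorProduct.Tower
import Mathlib.LinearAlgebra.Basis.VectorSpace
import Mathlib.LinearAlgebra.Quotient.Basic
import Mathlib.LinearAlgebra.TensorProduct.RightExactness
import Mathlib.RingTheory.Flat.Basic
import Mathlib.LinearAlgebra.Dimension.Constructions
import Mathlib.Data.Finset.NatAntidiagonal

/-!
# Cochain complexes of vector spaces and the Künneth formula
-/

set_option autoImplicit false
set_option linter.unusedSectionVars false

universe u

open scoped TensorProduct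

namespace Groth.Agent.GrLib8.KVec

variable (k : Type u) [Field k]

/-- A cochain complex of vector spaces, in nonnegative degrees. -/
structure Cx : Type (u + 1) where
  /-- the terms -/
  V : ℕ → Type u
  [acg : ∀ n, AddCommGroup (V n)]
  [mod : ∀ n, Module k (V n)]
  /-- the differentials -/
  d : ∀ n, V n →ₗ[k] V (n + 1)
  d_d : ∀ n (x : V n), d (n + 1) (d n x) = 0

variable {k}

instance (C : Cx.{u} k) (n : ℕ) : AddCommGroup (C.V n) := C.acg n
instance (C : Cx.{u} k) (n : ℕ) : Module k (C.V n) := C.mod n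

namespace Cx

variable (C : Cx.{u} k)

/-- Cocycles. -/
def Z (n : ℕ) : Submodule k (C.V n) := LinearMap.ker (C.d n)

/-- Coboundaries. -/
def B : (n : ℕ) → Submodule k (C.V n)
  | 0 => ⊥
  | n + 1 => LinearMap.range (C.d n)

theorem B_le_Z (n : ℕ) : C.B n ≤ C.Z n := by
  cases n with
  | zero => exact bot_le
  | succ n =>
    rintro _ ⟨x, rfl⟩
    exact C.d_d n x

/-- Cohomology. -/
abbrev H (n : ℕ) : Type u := ↥(C.Z n) ⧸ (C.B n).comap (C.Z n).subtype

/-- The class map. -/
abbrev toH (n : ℕ) : ↥(C.Z n) →ₗ[k] C.H n := ((C.B n).comap (C.Z n).subtype).mkQ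

theorem toH_eq_zero {n : ℕ} (z : C.Z n) : C.toH n z = 0 ↔ (z : C.V n) ∈ C.B n :=
  Submodule.Quotient.mk_eq_zero _

end Cx

/-- A splitting of a complex: maps to and from the cohomology, and a homotopy. -/
structure Split (C : Cx.{u} k) : Type u where
  /-- choice of representatives -/
  i : ∀ n, C.H n →ₗ[k] C.V n
  /-- the projection to the cohomology -/
  p : ∀ n, C.V n →ₗ[k] C.H n
  /-- the homotopy -/
  h : ∀ n, C.V (n + 1) →ₗ[k] C.V n
  d_i : ∀ n x, C.d n (i n x) = 0
  p_d : ∀ n x, p (n + 1) (C.d n x) = 0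
  p_i : ∀ n x, p n (i n x) = x
  zero : ∀ x, h 0 (C.d 0 x) + i 0 (p 0 x) = x
  succ : ∀ n x, C.d n (h n x) + h (n + 1) (C.d (n + 1) x) + i (n + 1) (p (n + 1) x) = x

theorem nonempty_split (C : Cx.{u} k) : Nonempty (Split C) := by
  classical
  have hs : ∀ n, ∃ s : C.H n →ₗ[k] C.Z n, C.toH n ∘ₗ s = LinearMap.id := fun n =>
    LinearMap.exists_rightInverse_of_surjective _ (LinearMap.range_eq_top.2 (Submodule.mkQ_surjective _))
  choose s hs using hs
  have hP : ∀ n, ∃ P : C.V n →ₗ[k] C.Z n, P ∘ₗ (C.Z n).subtype = LinearMap.id := fun n =>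
    LinearMap.exists_leftInverse_of_injective _ (C.Z n).ker_subtype
  choose P hP using hP
  have hσ : ∀ n, ∃ σ : C.V (n + 1) →ₗ[k] C.V n, ∀ x, C.d n (σ (C.d n x)) = C.d n x := fun n => by
    obtain ⟨t, ht⟩ := LinearMap.exists_rightInverse_of_surjective _ (LinearMap.range_rangeRestrict (C.d n))
    obtain ⟨σ, hσ⟩ := LinearMap.exists_extend t
    refine ⟨σ, fun x => ?_⟩
    have h1 := LinearMap.congr_fun hσ ((C.d n).rangeRestrict x)
    have h2 := congrArg Subtype.val (LinearMap.congr_fun ht ((C.d n).rangeRestrict x))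
    simp only [LinearMap.comp_apply, Submodule.subtype_apply, LinearMap.id_apply] at h1 h2
    change σ (C.d n x) = _ at h1
    rw [h1]
    exact h2
  choose σ hσ using hσ
  have hPz : ∀ n (z : C.Z n), P n (z : C.V n) = z := fun n z => LinearMap.congr_fun (hP n) z
  have hd : ∀ n (z : C.Z n), C.d n (z : C.V n) = 0 := fun n z => z.2
  have hsz : ∀ n (x : C.H n), C.toH n (s n x) = x := fun n x => LinearMap.congr_fun (hs n) x
  let i : ∀ n, C.H n →ₗ[k] C.V n := fun n => (C.Z n).subtype ∘ₗ s n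
  let p : ∀ n, C.V n →ₗ[k] C.H n := fun n => C.toH n ∘ₗ P n
  let h : ∀ n, C.V (n + 1) →ₗ[k] C.V n := fun n =>
    (LinearMap.id - (C.Z n).subtype ∘ₗ P n) ∘ₗ σ n ∘ₗ ((C.Z (n + 1)).subtype ∘ₗ P (n + 1) - i (n + 1) ∘ₗ p (n + 1))
  have hpd : ∀ n x, p (n + 1) (C.d n x) = 0 := fun n x => by
    have := hPz (n + 1) ⟨C.d n x, C.d_d n x⟩
    simp only [p, LinearMap.comp_apply, this, Cx.toH_eq_zero]
    exact ⟨x, rfl⟩
  have hkey : ∀ n (y : C.V (n + 1)),
      C.d n (h n y) = (P (n + 1) y : C.V (n + 1)) - i (n + 1) (p (n + 1) y) := by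
    intro n y
    have hmem : (P (n + 1) y : C.V (n + 1)) - i (n + 1) (p (n + 1) y) ∈ C.B (n + 1) := by
      have h0 : C.toH (n + 1) (P (n + 1) y - s (n + 1) (p (n + 1) y)) = 0 := by
        rw [map_sub, hsz]; exact sub_self _
      exact (C.toH_eq_zero _).1 h0
    obtain ⟨x, hx⟩ := hmem
    simp only [h, LinearMap.comp_apply, LinearMap.sub_apply, LinearMap.id_apply, Submodule.subtype_apply, map_sub, hd,
      sub_zero]
    rw [← map_sub, ← map_sub, ← hx, hσ]
  have hhd : ∀ n x, h n (C.d n x) = x - (P n x : C.V n) := by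
    intro n x
    have h1 := hPz (n + 1) ⟨C.d n x, C.d_d n x⟩
    simp only [h, LinearMap.comp_apply, LinearMap.sub_apply, LinearMap.id_apply, Submodule.subtype_apply]
    rw [hpd, map_zero, sub_zero, h1]
    have hz : σ n (C.d n x) - x ∈ C.Z n := by
      show C.d n (σ n (C.d n x) - x) = 0
      rw [map_sub, hσ, sub_self]
    have h2 := congrArg Subtype.val (hPz n ⟨_, hz⟩)
    rw [map_sub, AddSubgroupClass.coe_sub] at h2
    change σ n (C.d n x) - (P n (σ n (C.d n x)) : C.V n) = x - (P n x : C.V n)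
    rw [sub_eq_sub_iff_sub_eq_sub]
    exact h2.symm
  refine ⟨⟨i, p, h, fun n x => hd n _, hpd, fun n x => ?_, fun x => ?_, fun n x => ?_⟩⟩
  · show C.toH n (P n (s n x : C.V n)) = x
    rw [hPz, hsz]
  · rw [hhd]
    have h0 : C.toH 0 (s 0 (C.toH 0 (P 0 x)) - P 0 x) = 0 := by rw [map_sub, hsz, sub_self]
    have h1 : ((s 0 (C.toH 0 (P 0 x)) - P 0 x : C.Z 0) : C.V 0) = 0 := (C.toH_eq_zero _).1 h0
    rw [AddSubgroupClass.coe_sub, sub_eq_zero] at h1
    show x - (P 0 x : C.V 0) + (s 0 (C.toH 0 (P 0 x)) : C.V 0) = x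
    rw [h1, sub_add_cancel]
  · rw [hkey, hhd]
    abel

section Tot

variable (C D : Cx.{u} k)

/-- The index set in total degree `n`. -/
abbrev Idx (n : ℕ) : Type := {x : ℕ × ℕ // x.1 + x.2 = n}

instance (n : ℕ) : Fintype (Idx n) :=
  Fintype.subtype (Finset.antidiagonal n) fun _ => Finset.mem_antidiagonal

/-- The terms of the total complex. -/
abbrev TotV (n : ℕ) : Type u := ∀ x : Idx n, C.V x.1.1 ⊗[k] D.V x.1.2

/-- The evaluation at an index. -/
abbrev ev {n : ℕ} (x : Idx n) : TotV C D n →ₗ[k] C.V x.1.1 ⊗[k] D.V x.1.2 := LinearMap.proj x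

/-- The first component of the total differential. -/
noncomputable def dLeft (n : ℕ) : ∀ p q : ℕ, p + q = n + 1 → (TotV C D n →ₗ[k] C.V p ⊗[k] D.V q)
  | 0, _, _ => 0
  | p + 1, q, h => (C.d p).rTensor (D.V q) ∘ₗ ev C D ⟨(p, q), by simp only; omega⟩

/-- The second component of the total differential. -/
noncomputable def dRight (n : ℕ) : ∀ p q : ℕ, p + q = n + 1 → (TotV C D n →ₗ[k] C.V p ⊗[k] D.V q)
  | _, 0, _ => 0
  | p, q + 1, h => ((-1 : k) ^ p) • ((D.d q).lTensor (C.V p) ∘ₗ ev C D ⟨(p, q), by simp only; omega⟩)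

theorem dLeft_succ (n p q : ℕ) (h : p + 1 + q = n + 1) (f : TotV C D n) :
    dLeft C D n (p + 1) q h f = (C.d p).rTensor (D.V q) (f ⟨(p, q), by simp only; omega⟩) := rfl

theorem dLeft_zero (n q : ℕ) (h : 0 + q = n + 1) (f : TotV C D n) : dLeft C D n 0 q h f = 0 := rfl

theorem dRight_succ (n p q : ℕ) (h : p + (q + 1) = n + 1) (f : TotV C D n) :
    dRight C D n p (q + 1) h f = ((-1 : k) ^ p) • (D.d q).lTensor (C.V p) (f ⟨(p, q), by simp only; omega⟩) := by
  cases p <;> rfl

theorem dRight_zero (n p : ℕ) (h : p + 0 = n + 1) (f : TotV C D n) : dRight C D n p 0 h f = 0 := by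
  cases p <;> rfl

/-- The total differential. -/
noncomputable def totD (n : ℕ) : TotV C D n →ₗ[k] TotV C D (n + 1) :=
  LinearMap.pi fun x => dLeft C D n x.1.1 x.1.2 x.2 + dRight C D n x.1.1 x.1.2 x.2

theorem totD_apply (n p q : ℕ) (h : p + q = n + 1) (f : TotV C D n) :
    totD C D n f ⟨(p, q), h⟩ = dLeft C D n p q h f + dRight C D n p q h f := rfl

theorem totD_totD (n : ℕ) (f : TotV C D n) : totD C D (n + 1) (totD C D n f) = 0 := by
  funext ⟨⟨p, q⟩, h⟩
  simp only at h
  rcases p with _ | p <;> rcases q with _ | q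
  · omega
  · rw [totD_apply, dLeft_zero, zero_add, dRight_succ, totD_apply, dLeft_zero, zero_add]
    rcases q with _ | q
    · simp only [dRight_zero, map_zero, smul_zero]; rfl
    · rw [dRight_succ, map_smul, ← LinearMap.comp_apply, ← LinearMap.lTensor_comp,
        show D.d (q + 1) ∘ₗ D.d q = 0 from LinearMap.ext (D.d_d q), LinearMap.lTensor_zero]
      simp
  · rw [totD_apply, dRight_zero, add_zero, dLeft_succ, totD_apply, dRight_zero, add_zero]
    rcases p with _ | p
    · simp only [dLeft_zero, map_zero]; rfl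
    · rw [dLeft_succ, ← LinearMap.comp_apply, ← LinearMap.rTensor_comp,
        show C.d (p + 1) ∘ₗ C.d p = 0 from LinearMap.ext (C.d_d p), LinearMap.rTensor_zero]
      simp
  · rw [totD_apply, dLeft_succ, dRight_succ, totD_apply, totD_apply, map_add, map_add, smul_add]
    have hl : (C.d p).rTensor (D.V (q + 1)) (dLeft C D n p (q + 1) (by omega) f) = 0 := by
      rcases p with _ | p
      · rw [dLeft_zero, map_zero]
      · rw [dLeft_succ, ← LinearMap.comp_apply, ← LinearMap.rTensor_comp,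
          show C.d (p + 1) ∘ₗ C.d p = 0 from LinearMap.ext (C.d_d p), LinearMap.rTensor_zero]
        simp
    have hr : (D.d q).lTensor (C.V (p + 1)) (dRight C D n (p + 1) q (by omega) f) = 0 := by
      rcases q with _ | q
      · rw [dRight_zero, map_zero]
      · rw [dRight_succ, map_smul, ← LinearMap.comp_apply, ← LinearMap.lTensor_comp,
          show D.d (q + 1) ∘ₗ D.d q = 0 from LinearMap.ext (D.d_d q), LinearMap.lTensor_zero]
        simp
    rw [hl, hr, smul_zero, add_zero, zero_add, dRight_succ, dLeft_succ, map_smul, ← LinearMap.comp_apply, ← LinearMap.comp_apply,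
      LinearMap.rTensor_comp_lTensor, LinearMap.lTensor_comp_rTensor, pow_succ, mul_neg_one, neg_smul]
    show _ = (0 : C.V (p + 1) ⊗[k] D.V (q + 1))
    exact add_neg_cancel _

/-- The total complex. -/
noncomputable def tot : Cx.{u} k where
  V := TotV C D
  d := totD C D
  d_d := totD_totD C D

variable {C D} (S : Split C) (T : Split D)

/-- The homotopy on the total complex. -/
noncomputable def totH (n : ℕ) : TotV C D (n + 1) →ₗ[k] TotV C D n :=
  LinearMap.pi fun x =>
    TensorProduct.map (S.h x.1.1) LinearMap.id ∘ₗ ev C D ⟨(x.1.1 + 1, x.1.2), by have := x.2; simp only; omega⟩ +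
      ((-1 : k) ^ x.1.1) • (TensorProduct.map (S.i x.1.1 ∘ₗ S.p x.1.1) (T.h x.1.2) ∘ₗ
        ev C D ⟨(x.1.1, x.1.2 + 1), by have := x.2; simp only; omega⟩)

theorem totH_apply (n p q : ℕ) (h : p + q = n) (f : TotV C D (n + 1)) :
    totH S T n f ⟨(p, q), h⟩ = TensorProduct.map (S.h p) LinearMap.id (f ⟨(p + 1, q), by simp only; omega⟩) +
      ((-1 : k) ^ p) • TensorProduct.map (S.i p ∘ₗ S.p p) (T.h q) (f ⟨(p, q + 1), by simp only; omega⟩) := rfl

omit C D S T in
theorem map_map' {A B C' A' B' C'' : Type u} [AddCommGroup A] [Module k A] [AddCommGroup B] [Module k B]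
    [AddCommGroup C'] [Module k C'] [AddCommGroup A'] [Module k A'] [AddCommGroup B'] [Module k B']
    [AddCommGroup C''] [Module k C''] (f₂ : B →ₗ[k] C') (g₂ : B' →ₗ[k] C'') (f₁ : A →ₗ[k] B) (g₁ : A' →ₗ[k] B')
    (z : A ⊗[k] A') : TensorProduct.map f₂ g₂ (TensorProduct.map f₁ g₁ z) = TensorProduct.map (f₂ ∘ₗ f₁) (g₂ ∘ₗ g₁) z := by
  rw [← LinearMap.comp_apply, ← TensorProduct.map_comp]

/-- The projection-section composite in one bidegree. -/
noncomputable abbrev ipip (p q : ℕ) : C.V p ⊗[k] D.V q →ₗ[k] C.V p ⊗[k] D.V q :=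
  TensorProduct.map (S.i p ∘ₗ S.p p) (T.i q ∘ₗ T.p q)

theorem homotopy_zero (f : TotV C D 0) :
    totH S T 0 (totD C D 0 f) ⟨(0, 0), rfl⟩ + ipip S T 0 0 (f ⟨(0, 0), rfl⟩) = f ⟨(0, 0), rfl⟩ := by
  rw [totH_apply, totD_apply, totD_apply, dLeft_succ, dRight_zero, dLeft_zero, dRight_succ]
  simp only [pow_zero, one_smul, add_zero, zero_add, LinearMap.rTensor_def, LinearMap.lTensor_def, map_map',
    LinearMap.comp_id, LinearMap.id_comp]
  generalize f ⟨(0, 0), rfl⟩ = z
  induction z using TensorProduct.induction_on with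
  | zero => simp
  | add a b ha hb =>
    simp only [map_add]
    conv_rhs => rw [← ha, ← hb]
    abel
  | tmul a b =>
    simp only [TensorProduct.map_tmul, LinearMap.comp_apply, LinearMap.id_apply, ipip]
    rw [add_assoc, ← TensorProduct.tmul_add, T.zero, ← TensorProduct.add_tmul, S.zero]

theorem homotopy_succ (n p q : ℕ) (h : p + q = n + 1) (f : TotV C D (n + 1)) :
    totD C D n (totH S T n f) ⟨(p, q), h⟩ + totH S T (n + 1) (totD C D (n + 1) f) ⟨(p, q), h⟩
      + ipip S T p q (f ⟨(p, q), h⟩) = f ⟨(p, q), h⟩ := by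
  have key : ∀ (z : C.V p ⊗[k] D.V q) (dhC : C.V p →ₗ[k] C.V p) (dhD : D.V q →ₗ[k] D.V q),
      (∀ a, dhC a + S.i p (S.p p a) = a) → (∀ b, dhD b + T.i q (T.p q b) = b) →
      TensorProduct.map dhC LinearMap.id z + TensorProduct.map (S.i p ∘ₗ S.p p) dhD z + ipip S T p q z = z := by
    intro z dhC dhD hC hD
    induction z using TensorProduct.induction_on with
    | zero => simp
    | add a b ha hb =>
      simp only [map_add]
      conv_rhs => rw [← ha, ← hb]
      abel
    | tmul a b =>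
      simp only [TensorProduct.map_tmul, LinearMap.comp_apply, LinearMap.id_apply, ipip]
      rw [add_assoc, ← TensorProduct.tmul_add, hD, ← TensorProduct.add_tmul, hC]
  have hmap0l : ∀ {A B A' B' : Type u} [AddCommGroup A] [Module k A] [AddCommGroup B] [Module k B] [AddCommGroup A']
      [Module k A'] [AddCommGroup B'] [Module k B'] (g : A' →ₗ[k] B') (z : A ⊗[k] A'),
      TensorProduct.map (0 : A →ₗ[k] B) g z = 0 := fun g z => by rw [TensorProduct.map_zero_left]; rfl
  rcases p with _ | p <;> rcases q with _ | q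
  · omega
  · have hd1 : S.p 0 ∘ₗ (0 : C.V 0 →ₗ[k] C.V 0) = 0 := LinearMap.comp_zero _
    rw [totD_apply, dLeft_zero, zero_add, dRight_succ, totH_apply, totH_apply, totD_apply, totD_apply, dLeft_succ,
      dRight_succ, dLeft_zero, dRight_succ]
    simp only [pow_zero, one_smul, zero_add, map_add, map_smul, LinearMap.rTensor_def, LinearMap.lTensor_def, map_map',
      LinearMap.comp_id, LinearMap.id_comp, pow_one, neg_smul, one_smul, map_neg, ← LinearMap.comp_assoc]
    have hsum := key (f ⟨(0, q + 1), h⟩) (S.h 0 ∘ₗ C.d 0) (D.d q ∘ₗ T.h q + T.h (q + 1) ∘ₗ D.d (q + 1))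
      (fun a => S.zero a) (fun b => T.succ q b)
    rw [TensorProduct.map_add_right, LinearMap.add_apply] at hsum
    conv_rhs => rw [← hsum]
    abel
  · rw [totD_apply, dRight_zero, add_zero, dLeft_succ, totH_apply, totH_apply, totD_apply, totD_apply, dLeft_succ,
      dRight_zero, dLeft_succ, dRight_succ]
    simp only [add_zero, map_add, map_smul, LinearMap.rTensor_def, LinearMap.lTensor_def, map_map', LinearMap.comp_id,
      LinearMap.id_comp, smul_add, smul_smul, ← LinearMap.comp_assoc]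
    have hdi : C.d p ∘ₗ S.i p = 0 := LinearMap.ext (S.d_i p)
    have hpd : (S.i (p + 1) ∘ₗ S.p (p + 1)) ∘ₗ C.d p = 0 := LinearMap.ext fun a => by simp [S.p_d]
    rw [hdi, hpd, ← pow_add, Even.neg_one_pow ⟨p + 1, rfl⟩]
    simp only [LinearMap.zero_comp, TensorProduct.map_zero_left, LinearMap.zero_apply, smul_zero, add_zero, zero_add, one_smul]
    have hsum := key (f ⟨(p + 1, 0), h⟩) (C.d p ∘ₗ S.h p + S.h (p + 1) ∘ₗ C.d (p + 1)) (T.h 0 ∘ₗ D.d 0)
      (fun a => S.succ p a) (fun b => T.zero b)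
    rw [TensorProduct.map_add_left, LinearMap.add_apply] at hsum
    conv_rhs => rw [← hsum]
    abel
  · rw [totD_apply, dLeft_succ, dRight_succ, totH_apply, totH_apply, totH_apply, totD_apply, totD_apply, dLeft_succ,
      dLeft_succ, dRight_succ, dRight_succ]
    simp only [map_add, map_smul, LinearMap.rTensor_def, LinearMap.lTensor_def, map_map', LinearMap.comp_id,
      LinearMap.id_comp, smul_add, smul_smul, ← LinearMap.comp_assoc]
    have hdi : C.d p ∘ₗ S.i p = 0 := LinearMap.ext (S.d_i p)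
    have hpd : (S.i (p + 1) ∘ₗ S.p (p + 1)) ∘ₗ C.d p = 0 := LinearMap.ext fun a => by simp [S.p_d]
    rw [hdi, hpd, ← pow_add, Even.neg_one_pow ⟨p + 1, rfl⟩, pow_succ (-1 : k) (p + 1),
      mul_neg_one, neg_smul]
    simp only [LinearMap.zero_comp, TensorProduct.map_zero_left, LinearMap.zero_apply, smul_zero, add_zero, zero_add, one_smul]
    have hsum := key (f ⟨(p + 1, q + 1), h⟩) (C.d p ∘ₗ S.h p + S.h (p + 1) ∘ₗ C.d (p + 1))
      (D.d q ∘ₗ T.h q + T.h (q + 1) ∘ₗ D.d (q + 1)) (fun a => S.succ p a) (fun b => T.succ q b)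
    rw [TensorProduct.map_add_left, TensorProduct.map_add_right, LinearMap.add_apply, LinearMap.add_apply] at hsum
    conv_rhs => rw [← hsum]
    abel

variable (C D)

/-- The projection of the total complex to the product of the cohomologies. -/
noncomputable def totP (n : ℕ) : TotV C D n →ₗ[k] (∀ x : Idx n, C.H x.1.1 ⊗[k] D.H x.1.2) :=
  LinearMap.pi fun x => TensorProduct.map (S.p x.1.1) (T.p x.1.2) ∘ₗ ev C D x

/-- The section of `totP`. -/
noncomputable def totI (n : ℕ) : (∀ x : Idx n, C.H x.1.1 ⊗[k] D.H x.1.2) →ₗ[k] TotV C D n :=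
  LinearMap.pi fun x => TensorProduct.map (S.i x.1.1) (T.i x.1.2) ∘ₗ LinearMap.proj x

theorem totD_totI (n : ℕ) (X : ∀ x : Idx n, C.H x.1.1 ⊗[k] D.H x.1.2) :
    totD C D n (totI C D S T n X) = 0 := by
  funext ⟨⟨p, q⟩, h⟩
  simp only at h
  rw [totD_apply]
  have hl : dLeft C D n p q h (totI C D S T n X) = 0 := by
    rcases p with _ | p
    · rfl
    · rw [dLeft_succ, LinearMap.rTensor_def]
      show TensorProduct.map (C.d p) LinearMap.id (TensorProduct.map (S.i p) (T.i q) _) = 0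
      rw [map_map', show C.d p ∘ₗ S.i p = 0 from LinearMap.ext (S.d_i p), TensorProduct.map_zero_left]; rfl
  have hr : dRight C D n p q h (totI C D S T n X) = 0 := by
    rcases q with _ | q
    · rw [dRight_zero]
    · rw [dRight_succ, LinearMap.lTensor_def]
      show _ • TensorProduct.map LinearMap.id (D.d q) (TensorProduct.map (S.i p) (T.i q) _) = 0
      rw [map_map', show D.d q ∘ₗ T.i q = 0 from LinearMap.ext (T.d_i q), TensorProduct.map_zero_right]
      simp
  rw [hl, hr, add_zero]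
  rfl

theorem totP_totI (n : ℕ) (X : ∀ x : Idx n, C.H x.1.1 ⊗[k] D.H x.1.2) :
    totP C D S T n (totI C D S T n X) = X := by
  funext x
  show TensorProduct.map (S.p x.1.1) (T.p x.1.2) (TensorProduct.map (S.i x.1.1) (T.i x.1.2) (X x)) = X x
  rw [map_map', show S.p x.1.1 ∘ₗ S.i x.1.1 = LinearMap.id from LinearMap.ext (S.p_i _),
    show T.p x.1.2 ∘ₗ T.i x.1.2 = LinearMap.id from LinearMap.ext (T.p_i _), TensorProduct.map_id]
  rfl

theorem totP_totD (m : ℕ) (g : TotV C D m) : totP C D S T (m + 1) (totD C D m g) = 0 := by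
  funext ⟨⟨p, q⟩, h⟩
  show TensorProduct.map (S.p p) (T.p q) (totD C D m g ⟨(p, q), h⟩) = 0
  rw [totD_apply, map_add]
  have hl : TensorProduct.map (S.p p) (T.p q) (dLeft C D m p q h g) = 0 := by
    rcases p with _ | p
    · rw [dLeft_zero, map_zero]
    · rw [dLeft_succ, LinearMap.rTensor_def, map_map', show S.p (p + 1) ∘ₗ C.d p = 0 from LinearMap.ext (S.p_d p),
        TensorProduct.map_zero_left]; rfl
  have hr : TensorProduct.map (S.p p) (T.p q) (dRight C D m p q h g) = 0 := by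
    rcases q with _ | q
    · rw [dRight_zero, map_zero]
    · rw [dRight_succ, map_smul, LinearMap.lTensor_def, map_map',
        show T.p (q + 1) ∘ₗ D.d q = 0 from LinearMap.ext (T.p_d q), TensorProduct.map_zero_right]; simp
  rw [hl, hr, add_zero]

theorem ipip_of_totP_eq_zero (n p q : ℕ) (h : p + q = n) (f : TotV C D n) (hf : totP C D S T n f = 0) :
    ipip S T p q (f ⟨(p, q), h⟩) = 0 := by
  have h' : TensorProduct.map (S.p p) (T.p q) (f ⟨(p, q), h⟩) = 0 := congrFun hf ⟨(p, q), h⟩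
  show TensorProduct.map (S.i p ∘ₗ S.p p) (T.i q ∘ₗ T.p q) _ = _
  rw [← map_map', h', map_zero]

theorem eq_zero_of_totP (f : TotV C D 0) (hd : totD C D 0 f = 0) (hf : totP C D S T 0 f = 0) : f = 0 := by
  funext ⟨⟨p, q⟩, h⟩
  simp only at h
  obtain ⟨rfl, rfl⟩ : p = 0 ∧ q = 0 := by omega
  have := homotopy_zero S T f
  rw [hd, map_zero, ipip_of_totP_eq_zero C D S T 0 0 0 rfl f hf] at this
  simp only [Pi.zero_apply, add_zero] at this
  exact this.symm

theorem eq_totD_of_totP (m : ℕ) (f : TotV C D (m + 1)) (hd : totD C D (m + 1) f = 0)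
    (hf : totP C D S T (m + 1) f = 0) : totD C D m (totH S T m f) = f := by
  funext ⟨⟨p, q⟩, h⟩
  have := homotopy_succ S T m p q h f
  rw [hd, map_zero, ipip_of_totP_eq_zero C D S T (m + 1) p q h f hf] at this
  simp only [Pi.zero_apply, add_zero] at this
  exact this

/-- The map of cocycles to the product of the cohomologies. -/
noncomputable def theta (n : ℕ) (S : Split C) (T : Split D) : (tot C D).Z n →ₗ[k] (∀ x : Idx n, C.H x.1.1 ⊗[k] D.H x.1.2) :=
  totP C D S T n ∘ₗ ((tot C D).Z n).subtype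
theorem theta_surj (n : ℕ) (S : Split C) (T : Split D) : Function.Surjective (theta C D n S T) := fun X =>
    ⟨⟨totI C D S T n X, totD_totI C D S T n X⟩, totP_totI C D S T n X⟩
theorem theta_ker (n : ℕ) (S : Split C) (T : Split D) : LinearMap.ker (theta C D n S T) = ((tot C D).B n).comap ((tot C D).Z n).subtype := by
  refine le_antisymm (fun z hz => ?_) (fun z hz => ?_)
  · cases n with
    | zero => exact eq_zero_of_totP C D S T z.1 z.2 hz
    | succ m => exact ⟨totH S T m z.1, eq_totD_of_totP C D S T m z.1 z.2 hz⟩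
  · cases n with
    | zero =>
      obtain rfl : z = 0 := Subtype.ext hz
      exact map_zero _
    | succ m =>
      obtain ⟨g, hg⟩ := hz
      show totP C D S T (m + 1) z.1 = 0
      rw [show z.1 = totD C D m g from hg.symm]
      exact totP_totD C D S T m g
theorem nonempty_quot {Z X : Type u} [AddCommGroup Z] [Module k Z] [AddCommGroup X] [Module k X] (f : Z →ₗ[k] X)
    (K : Submodule k Z) (h : LinearMap.ker f = K) (hf : Function.Surjective f) : Nonempty ((Z ⧸ K) ≃ₗ[k] X) := by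
  subst h
  exact ⟨LinearMap.quotKerEquivOfSurjective f hf⟩

/-- The Künneth formula over a field. -/
theorem nonempty_kunneth (n : ℕ) :
    Nonempty ((tot C D).H n ≃ₗ[k] (∀ x : Idx n, C.H x.1.1 ⊗[k] D.H x.1.2)) := by
  obtain ⟨S⟩ := nonempty_split C
  obtain ⟨T⟩ := nonempty_split D
  have h1 := theta_ker C D n S T
  have h2 := theta_surj C D n S T
  exact nonempty_quot (k := k) (Z := (tot C D).Z n) (X := ∀ x : Idx n, C.H x.1.1 ⊗[k] D.H x.1.2) (f := theta C D n S T) (h := h1) (hf := h2)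

/-- An element of the total cocycles in degree zero. -/
theorem mem_Z_zero (z : TotV C D 0) (hz : totD C D 0 z = 0) :
    z ⟨(0, 0), rfl⟩ ∈ LinearMap.range (TensorProduct.map (C.Z 0).subtype (D.Z 0).subtype) := by
  obtain ⟨S⟩ := nonempty_split C
  obtain ⟨T⟩ := nonempty_split D
  have h := homotopy_zero S T z
  rw [hz, map_zero] at h
  have h' : z ⟨(0, 0), rfl⟩ = ipip S T 0 0 (z ⟨(0, 0), rfl⟩) := by simpa using h.symm
  rw [h']
  refine ⟨TensorProduct.map ((S.i 0).codRestrict (C.Z 0) (fun x => S.d_i 0 x) ∘ₗ S.p 0)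
    ((T.i 0).codRestrict (D.Z 0) (fun x => T.d_i 0 x) ∘ₗ T.p 0) (z ⟨(0, 0), rfl⟩), ?_⟩
  rw [map_map']
  rfl

end Tot

end Groth.Agent.GrLib8.KVec
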