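import Groth.Agent.GrLib8.KVecCx
import Mathlib.LinearAlgebra.FiniteDimensional.Basic
import Mathlib.LinearAlgebra.Dimension.RankNullity
import Mathlib.LinearAlgebra.Dimension.DivisionRing
import Mathlib.Algebra.BigOperators.NatAntidiagonal

/-!
# Relative cohomology of complexes of vector spaces and the dimension count
-/

set_option autoImplicit false
set_option linter.unusedSectionVars false

universe u

open scoped TensorProduct

namespace Groth.Agent.GrLib8.KVec

variable {k : Type u} [Field k]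

/-- A map of complexes. -/
structure Hom (C E : Cx.{u} k) : Type u where
  /-- the components -/
  f : ∀ n, C.V n →ₗ[k] E.V n
  comm : ∀ n x, E.d n (f n x) = f (n + 1) (C.d n x)

variable {C E : Cx.{u} k}

/-- The kernel complex. -/
noncomputable def kerCx (φ : Hom C E) : Cx.{u} k where
  V n := LinearMap.ker (φ.f n)
  d n := (C.d n).restrict fun x hx => by
    rw [LinearMap.mem_ker] at hx ⊢
    rw [← φ.comm, hx, map_zero]
  d_d n x := Subtype.ext (C.d_d n x.1)

theorem kerCx_d_val (φ : Hom C E) (n : ℕ) (x : (kerCx φ).V n) : ((kerCx φ).d n x).1 = C.d n x.1 := rfl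

/-- Elements whose differential lies in the kernel. -/
def relP (φ : Hom C E) (n : ℕ) : Submodule k (C.V n) :=
  (LinearMap.ker (φ.f (n + 1))).comap (C.d n)

theorem mem_relP (φ : Hom C E) {n : ℕ} {x : C.V n} : x ∈ relP φ n ↔ φ.f (n + 1) (C.d n x) = 0 := Iff.rfl

/-- Towards the cohomology of the quotient. -/
noncomputable def relA (φ : Hom C E) (n : ℕ) : relP φ n →ₗ[k] E.H n :=
  E.toH n ∘ₗ LinearMap.codRestrict (E.Z n) (φ.f n ∘ₗ (relP φ n).subtype) fun x => (φ.comm n x.1).trans x.2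

/-- Towards the cohomology of the kernel. -/
noncomputable def relB (φ : Hom C E) (n : ℕ) : relP φ n →ₗ[k] (kerCx φ).H (n + 1) :=
  (kerCx φ).toH (n + 1) ∘ₗ LinearMap.codRestrict ((kerCx φ).Z (n + 1))
    (LinearMap.codRestrict (LinearMap.ker (φ.f (n + 1))) (C.d n ∘ₗ (relP φ n).subtype) fun x => x.2)
    fun x => Subtype.ext (C.d_d n x.1)

theorem relA_surjective (φ : Hom C E) (hφ : ∀ n, Function.Surjective (φ.f n)) (n : ℕ) :
    Function.Surjective (relA φ n) := by
  intro y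
  obtain ⟨z, rfl⟩ := Submodule.mkQ_surjective _ y
  obtain ⟨x, hx⟩ := hφ n z.1
  have hxP : x ∈ relP φ n := by
    rw [mem_relP, ← φ.comm, hx]
    exact z.2
  exact ⟨⟨x, hxP⟩, congrArg (E.toH n) (Subtype.ext hx)⟩

theorem relA_eq_zero (φ : Hom C E) (hφ : ∀ n, Function.Surjective (φ.f n)) (n : ℕ) (x : relP φ n) :
    relA φ n x = 0 ↔ ∃ b ∈ C.B n, φ.f n (x.1 - b) = 0 := by
  show E.toH n _ = 0 ↔ _
  rw [Cx.toH_eq_zero]
  cases n with
  | zero =>
    show φ.f 0 x.1 = 0 ↔ _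
    refine ⟨fun h => ⟨0, zero_mem _, by rw [sub_zero, h]⟩, ?_⟩
    rintro ⟨b, hb, h⟩
    rw [show b = 0 from hb, sub_zero] at h
    exact h
  | succ m =>
    show (∃ y, E.d m y = φ.f (m + 1) x.1) ↔ _
    constructor
    · rintro ⟨y, hy⟩
      obtain ⟨w, rfl⟩ := hφ m y
      exact ⟨C.d m w, ⟨w, rfl⟩, by rw [map_sub, ← φ.comm, hy, sub_self]⟩
    · rintro ⟨_, ⟨w, rfl⟩, h⟩
      rw [map_sub, sub_eq_zero, ← φ.comm] at h
      exact ⟨φ.f m w, h.symm⟩

theorem relB_surjective (φ : Hom C E) (n : ℕ) (hex : C.Z (n + 1) ≤ C.B (n + 1)) : Function.Surjective (relB φ n) := by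
  intro y
  obtain ⟨z, rfl⟩ := Submodule.mkQ_surjective _ y
  obtain ⟨x, hx⟩ := hex (show C.d (n + 1) z.1.1 = 0 from congrArg Subtype.val z.2)
  have hxP : x ∈ relP φ n := by
    rw [mem_relP, hx]
    exact z.1.2
  exact ⟨⟨x, hxP⟩, congrArg ((kerCx φ).toH (n + 1)) (Subtype.ext (Subtype.ext hx))⟩

theorem relB_eq_zero (φ : Hom C E) (n : ℕ) (x : relP φ n) :
    relB φ n x = 0 ↔ ∃ z ∈ C.Z n, φ.f n (x.1 - z) = 0 := by
  show (kerCx φ).toH (n + 1) _ = 0 ↔ _
  rw [Cx.toH_eq_zero]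
  constructor
  · rintro ⟨w, hw⟩
    have hw' : C.d n w.1 = C.d n x.1 := congrArg Subtype.val hw
    refine ⟨x.1 - w.1, ?_, ?_⟩
    · show C.d n (x.1 - w.1) = 0
      rw [map_sub, hw', sub_self]
    · rw [sub_sub_cancel]
      exact w.2
  · rintro ⟨z, hz, h⟩
    refine ⟨⟨x.1 - z, h⟩, Subtype.ext ?_⟩
    show C.d n (x.1 - z) = C.d n x.1
    rw [map_sub, show C.d n z = 0 from hz, sub_zero]

/-- Where the complex is exact, the quotient computes the kernel's cohomology one degree up. -/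
theorem nonempty_rel_succ (φ : Hom C E) (hφ : ∀ n, Function.Surjective (φ.f n)) (n : ℕ)
    (hex₁ : C.Z (n + 1) ≤ C.B (n + 1)) (hex₂ : C.Z (n + 2) ≤ C.B (n + 2)) :
    Nonempty (E.H (n + 1) ≃ₗ[k] (kerCx φ).H (n + 2)) := by
  have hker : LinearMap.ker (relA φ (n + 1)) = LinearMap.ker (relB φ (n + 1)) := by
    ext x
    rw [LinearMap.mem_ker, LinearMap.mem_ker, relA_eq_zero φ hφ, relB_eq_zero φ]
    exact ⟨fun ⟨b, hb, h⟩ => ⟨b, C.B_le_Z _ hb, h⟩, fun ⟨z, hz, h⟩ => ⟨z, hex₁ hz, h⟩⟩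
  exact ⟨((LinearMap.quotKerEquivOfSurjective _ (relA_surjective φ hφ (n + 1))).symm.trans
    (Submodule.quotEquivOfEq _ _ hker)).trans (LinearMap.quotKerEquivOfSurjective _ (relB_surjective φ (n + 1) hex₂))⟩

/-- The degree-zero end of the long exact sequence. -/
theorem rel_zero (φ : Hom C E) (hφ : ∀ n, Function.Surjective (φ.f n)) (hex : C.Z 1 ≤ C.B 1)
    (hinj : ∀ z ∈ C.Z 0, φ.f 0 z = 0 → z = 0) [Module.Finite k (C.Z 0)] [Module.Finite k ((kerCx φ).H 1)] :
    Module.Finite k (E.H 0) ∧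
      Module.finrank k (E.H 0) = Module.finrank k (C.Z 0) + Module.finrank k ((kerCx φ).H 1) := by
  let ε : C.Z 0 →ₗ[k] E.H 0 :=
    relA φ 0 ∘ₗ Submodule.inclusion (fun z hz => (mem_relP φ).2 (by rw [show C.d 0 z = 0 from hz, map_zero]))
  have hεinj : Function.Injective ε := by
    rw [injective_iff_map_eq_zero]
    intro z hz
    obtain ⟨b, hb, h⟩ := (relA_eq_zero φ hφ 0 _).1 hz
    rw [show b = 0 from hb, sub_zero] at h
    exact Subtype.ext (hinj z.1 z.2 h)
  have hle : LinearMap.ker (relA φ 0) ≤ LinearMap.ker (relB φ 0) := fun x hx => by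
    rw [LinearMap.mem_ker, relB_eq_zero]
    obtain ⟨b, hb, h⟩ := (relA_eq_zero φ hφ 0 x).1 hx
    exact ⟨b, C.B_le_Z 0 hb, h⟩
  obtain ⟨π, hπ⟩ : ∃ π : E.H 0 →ₗ[k] (kerCx φ).H 1, π ∘ₗ relA φ 0 = relB φ 0 := by
    obtain ⟨s, hs⟩ := LinearMap.exists_rightInverse_of_surjective (relA φ 0)
      (LinearMap.range_eq_top.2 (relA_surjective φ hφ 0))
    refine ⟨relB φ 0 ∘ₗ s, LinearMap.ext fun x => ?_⟩
    have hx : x - s (relA φ 0 x) ∈ LinearMap.ker (relA φ 0) := by
      rw [LinearMap.mem_ker, map_sub, ← LinearMap.comp_apply (relA φ 0) s, hs, LinearMap.id_apply, sub_self]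
    have h2 := hle hx
    rw [LinearMap.mem_ker, map_sub, sub_eq_zero] at h2
    exact h2.symm
  have hπsurj : Function.Surjective π := fun y => by
    obtain ⟨x, rfl⟩ := relB_surjective φ 0 hex y
    exact ⟨relA φ 0 x, LinearMap.congr_fun hπ x⟩
  have hker : LinearMap.ker π = LinearMap.range ε := by
    refine le_antisymm (fun y hy => ?_) ?_
    · obtain ⟨x, rfl⟩ := relA_surjective φ hφ 0 y
      have hx : relB φ 0 x = 0 := by rw [← hπ]; exact hy
      obtain ⟨z, hz, h⟩ := (relB_eq_zero φ 0 x).1 hx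
      refine ⟨⟨z, hz⟩, ?_⟩
      show relA φ 0 _ = relA φ 0 x
      symm
      rw [← sub_eq_zero, ← map_sub, relA_eq_zero φ hφ]
      exact ⟨0, zero_mem _, by rw [sub_zero]; exact h⟩
    · rintro _ ⟨z, rfl⟩
      show π (relA φ 0 _) = 0
      rw [← LinearMap.comp_apply, hπ, relB_eq_zero]
      exact ⟨z.1, z.2, by show φ.f 0 (z.1 - z.1) = 0; rw [sub_self, map_zero]⟩
  let e : (E.H 0 ⧸ LinearMap.ker π) ≃ₗ[k] (kerCx φ).H 1 := π.quotKerEquivOfSurjective hπsurj
  haveI : Module.Finite k (E.H 0 ⧸ LinearMap.ker π) := Module.Finite.equiv e.symm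
  haveI : Module.Finite k (LinearMap.ker π) := by rw [hker]; exact Module.Finite.range ε
  haveI : Module.Finite k (E.H 0) := Module.Finite.of_submodule_quotient (LinearMap.ker π)
  refine ⟨inferInstance, ?_⟩
  rw [← (LinearMap.ker π).finrank_quotient_add_finrank, e.finrank_eq, hker, LinearMap.finrank_range_of_inj hεinj]
  exact Nat.add_comm _ _

/-- No cohomology of the kernel in degree zero. -/
theorem kerCx_H0 (φ : Hom C E) (hinj : ∀ z ∈ C.Z 0, φ.f 0 z = 0 → z = 0) : Subsingleton ((kerCx φ).H 0) := by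
  refine subsingleton_of_forall_eq 0 fun y => ?_
  obtain ⟨z, rfl⟩ := Submodule.mkQ_surjective _ y
  obtain rfl : z = 0 :=
    Subtype.ext (Subtype.ext (hinj z.1.1 (show C.d 0 z.1.1 = 0 from congrArg Subtype.val z.2) z.1.2))
  exact map_zero _

section Tot

variable {D D' : Cx.{u} k}

/-- The map of total complexes. -/
noncomputable def totMap (φ : Hom C E) (ψ : Hom D D') : Hom (tot C D) (tot E D') where
  f n := LinearMap.pi fun x => TensorProduct.map (φ.f x.1.1) (ψ.f x.1.2) ∘ₗ ev C D x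
  comm n g := by
    funext ⟨⟨p, q⟩, h⟩
    show dLeft E D' n p q h _ + dRight E D' n p q h _ =
      TensorProduct.map (φ.f p) (ψ.f q) (dLeft C D n p q h g + dRight C D n p q h g)
    rw [map_add]
    congr 1
    · rcases p with _ | p
      · rw [dLeft_zero, dLeft_zero, map_zero]
      · rw [dLeft_succ, dLeft_succ]
        show LinearMap.rTensor _ (E.d p) (TensorProduct.map (φ.f p) (ψ.f q) _) = _
        rw [LinearMap.rTensor_def, LinearMap.rTensor_def, map_map', map_map',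
          show E.d p ∘ₗ φ.f p = φ.f (p + 1) ∘ₗ C.d p from LinearMap.ext (φ.comm p), LinearMap.id_comp, LinearMap.comp_id]
        rfl
    · rcases q with _ | q
      · rw [dRight_zero, dRight_zero, map_zero]
      · rw [dRight_succ, dRight_succ, map_smul]
        show _ • LinearMap.lTensor _ (D'.d q) (TensorProduct.map (φ.f p) (ψ.f q) _) = _
        rw [LinearMap.lTensor_def, LinearMap.lTensor_def, map_map', map_map',
          show D'.d q ∘ₗ ψ.f q = ψ.f (q + 1) ∘ₗ D.d q from LinearMap.ext (ψ.comm q), LinearMap.id_comp, LinearMap.comp_id]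
        rfl

theorem totMap_surjective (φ : Hom C E) (ψ : Hom D D') (hφ : ∀ n, Function.Surjective (φ.f n))
    (hψ : ∀ n, Function.Surjective (ψ.f n)) (n : ℕ) : Function.Surjective ((totMap φ ψ).f n) := by
  intro g
  choose s hs using fun x : Idx n => TensorProduct.map_surjective (hφ x.1.1) (hψ x.1.2) (g x)
  exact ⟨s, funext hs⟩

theorem totMap_inj (φ : Hom C E) (ψ : Hom D D') (hinj₁ : ∀ z ∈ C.Z 0, φ.f 0 z = 0 → z = 0)
    (hinj₂ : ∀ z ∈ D.Z 0, ψ.f 0 z = 0 → z = 0) :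
    ∀ z ∈ (tot C D).Z 0, (totMap φ ψ).f 0 z = 0 → z = 0 := by
  intro z hz hφz
  funext ⟨⟨p, q⟩, h⟩
  simp only at h
  obtain ⟨rfl, rfl⟩ : p = 0 ∧ q = 0 := by omega
  obtain ⟨w, hw⟩ := mem_Z_zero C D z hz
  have h0 : TensorProduct.map (φ.f 0) (ψ.f 0) (z ⟨(0, 0), h⟩) = 0 := congrFun hφz ⟨(0, 0), h⟩
  rw [← hw, map_map'] at h0
  have hw0 : w = 0 := by
    refine (injective_iff_map_eq_zero _).1 (TensorProduct.map_injective_of_flat_flat _ _ ?_ ?_) w h0
    · exact (injective_iff_map_eq_zero _).2 fun a ha => Subtype.ext (hinj₁ a.1 a.2 ha)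
    · exact (injective_iff_map_eq_zero _).2 fun a ha => Subtype.ext (hinj₂ a.1 a.2 ha)
  rw [← hw, hw0, map_zero]
  rfl

theorem nonempty_H0_equiv (C : Cx.{u} k) : Nonempty (C.H 0 ≃ₗ[k] C.Z 0) :=
  ⟨Submodule.quotEquivOfEqBot _ (Submodule.eq_bot_iff _ |>.2 fun z hz => Subtype.ext hz)⟩

theorem subsingleton_H_of_exact (C : Cx.{u} k) {n : ℕ} (h : C.Z n ≤ C.B n) : Subsingleton (C.H n) := by
  refine subsingleton_of_forall_eq 0 fun y => ?_
  obtain ⟨z, rfl⟩ := Submodule.mkQ_surjective _ y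
  exact (C.toH_eq_zero z).2 (h z.2)

theorem exact_of_subsingleton_H (C : Cx.{u} k) {n : ℕ} [Subsingleton (C.H n)] : C.Z n ≤ C.B n := fun z hz =>
  (C.toH_eq_zero ⟨z, hz⟩).1 (Subsingleton.elim _ _)

theorem sum_idx (f : ℕ → ℕ → ℕ) (n : ℕ) :
    (∑ x : Idx n, f x.1.1 x.1.2) = ∑ i ∈ Finset.range (n + 1), f i (n - i) := by
  rw [← Finset.Nat.sum_antidiagonal_eq_sum_range_succ f n]
  exact (Finset.sum_subtype (Finset.antidiagonal n) (fun _ => Finset.mem_antidiagonal) fun x => f x.1 x.2).symm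

theorem arith (a b e e' : ℕ → ℕ) (z w : ℕ) (ha : a 0 = 0) (hb : b 0 = 0) (he0 : e 0 = z + a 1) (he0' : e' 0 = w + b 1)
    (he : ∀ i, e (i + 1) = a (i + 2)) (he' : ∀ i, e' (i + 1) = b (i + 2)) (n : ℕ) :
    (∑ i ∈ Finset.range (n + 2), e i * e' (n + 1 - i)) =
      z * b (n + 2) + a (n + 2) * w + ∑ i ∈ Finset.range (n + 2 + 2), a i * b (n + 2 + 1 - i) := by
  rw [Finset.sum_range_succ' (fun i => e i * e' (n + 1 - i)) (n + 1),
    Finset.sum_range_succ (fun i => e (i + 1) * e' (n + 1 - (i + 1))) n]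
  rw [show n + 2 + 2 = n + 3 + 1 from rfl, Finset.sum_range_succ' (fun i => a i * b (n + 2 + 1 - i)) (n + 3),
    Finset.sum_range_succ' (fun i => a (i + 1) * b (n + 2 + 1 - (i + 1))) (n + 2),
    Finset.sum_range_succ (fun i => a (i + 1 + 1) * b (n + 2 + 1 - (i + 1 + 1))) (n + 1),
    Finset.sum_range_succ (fun i => a (i + 1 + 1) * b (n + 2 + 1 - (i + 1 + 1))) n]
  have hsum : (∑ i ∈ Finset.range n, e (i + 1) * e' (n + 1 - (i + 1))) =
      ∑ i ∈ Finset.range n, a (i + 1 + 1) * b (n + 2 + 1 - (i + 1 + 1)) := Finset.sum_congr rfl fun i hi => by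
    rw [Finset.mem_range] at hi
    obtain ⟨j, hj⟩ : ∃ j, n + 1 - (i + 1) = j + 1 := ⟨n - i - 1, by omega⟩
    rw [he, hj, he', show n + 2 + 1 - (i + 1 + 1) = j + 2 by omega]
  rw [hsum]
  simp only [Nat.sub_zero, show n + 1 - (n + 1) = 0 by omega, he, he', he0, he0', ha, zero_mul,
    show n + 2 + 1 - (n + 1 + 1 + 1) = 0 by omega, show n + 2 + 1 - (n + 1 + 1) = 1 by omega,
    show n + 2 + 1 - (0 + 1) = n + 2 by omega, hb, mul_zero]
  ring

/-- The dimension formula for the kernel of a tensor product of two quotient maps of resolutions. -/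
theorem finrank_ker_totMap (φ : Hom C E) (ψ : Hom D D') (hφ : ∀ n, Function.Surjective (φ.f n))
    (hψ : ∀ n, Function.Surjective (ψ.f n)) (hexC : ∀ n, C.Z (n + 1) ≤ C.B (n + 1))
    (hexD : ∀ n, D.Z (n + 1) ≤ D.B (n + 1)) (hinj₁ : ∀ z ∈ C.Z 0, φ.f 0 z = 0 → z = 0)
    (hinj₂ : ∀ z ∈ D.Z 0, ψ.f 0 z = 0 → z = 0) [Module.Finite k (C.Z 0)] [Module.Finite k (D.Z 0)]
    [∀ n, Module.Finite k ((kerCx φ).H n)] [∀ n, Module.Finite k ((kerCx ψ).H n)] (q : ℕ) :
    Module.finrank k ((kerCx (totMap φ ψ)).H q) =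
      Module.finrank k (C.Z 0) * Module.finrank k ((kerCx ψ).H q) +
      Module.finrank k ((kerCx φ).H q) * Module.finrank k (D.Z 0) +
      ∑ i ∈ Finset.range (q + 2), Module.finrank k ((kerCx φ).H i) * Module.finrank k ((kerCx ψ).H (q + 1 - i)) := by
  haveI := kerCx_H0 φ hinj₁
  haveI := kerCx_H0 ψ hinj₂
  have ha0 : Module.finrank k ((kerCx φ).H 0) = 0 := Module.finrank_zero_of_subsingleton
  have hb0 : Module.finrank k ((kerCx ψ).H 0) = 0 := Module.finrank_zero_of_subsingleton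
  obtain ⟨hfinE, hE0⟩ := rel_zero φ hφ (hexC 0) hinj₁
  obtain ⟨hfinD', hD'0⟩ := rel_zero ψ hψ (hexD 0) hinj₂
  have hEn : ∀ n, Module.Finite k (E.H n) := fun n => by
    cases n with
    | zero => exact hfinE
    | succ n =>
      obtain ⟨e⟩ := nonempty_rel_succ φ hφ n (hexC n) (hexC (n + 1))
      exact Module.Finite.equiv e.symm
  have hD'n : ∀ n, Module.Finite k (D'.H n) := fun n => by
    cases n with
    | zero => exact hfinD'
    | succ n =>
      obtain ⟨e⟩ := nonempty_rel_succ ψ hψ n (hexD n) (hexD (n + 1))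
      exact Module.Finite.equiv e.symm
  have hEs : ∀ n, Module.finrank k (E.H (n + 1)) = Module.finrank k ((kerCx φ).H (n + 2)) := fun n => by
    obtain ⟨e⟩ := nonempty_rel_succ φ hφ n (hexC n) (hexC (n + 1))
    exact e.finrank_eq
  have hD's : ∀ n, Module.finrank k (D'.H (n + 1)) = Module.finrank k ((kerCx ψ).H (n + 2)) := fun n => by
    obtain ⟨e⟩ := nonempty_rel_succ ψ hψ n (hexD n) (hexD (n + 1))
    exact e.finrank_eq
  have hex : ∀ n, (tot C D).Z (n + 1) ≤ (tot C D).B (n + 1) := fun n => by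
    haveI : ∀ x : Idx (n + 1), Subsingleton (C.H x.1.1 ⊗[k] D.H x.1.2) := fun x => by
      rcases x with ⟨⟨p, q⟩, h⟩
      rcases p with _ | p
      · obtain ⟨q', rfl⟩ : ∃ q', q = q' + 1 := ⟨q - 1, by simp only at h; omega⟩
        haveI := subsingleton_H_of_exact D (hexD q')
        infer_instance
      · haveI := subsingleton_H_of_exact C (hexC p)
        infer_instance
    obtain ⟨e⟩ := nonempty_kunneth C D (n + 1)
    haveI : Subsingleton ((tot C D).H (n + 1)) := e.toEquiv.subsingleton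
    exact exact_of_subsingleton_H _
  have hinj := totMap_inj φ ψ hinj₁ hinj₂
  have hsurj := totMap_surjective φ ψ hφ hψ
  haveI := hEn
  haveI := hD'n
  have hT' : ∀ n, Module.Finite k ((tot E D').H n) ∧ Module.finrank k ((tot E D').H n) =
      ∑ i ∈ Finset.range (n + 1), Module.finrank k (E.H i) * Module.finrank k (D'.H (n - i)) := fun n => by
    obtain ⟨e⟩ := nonempty_kunneth E D' n
    refine ⟨Module.Finite.equiv e.symm, ?_⟩
    rw [e.finrank_eq, Module.finrank_pi_fintype,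
      ← sum_idx (fun i j => Module.finrank k (E.H i) * Module.finrank k (D'.H j)) n]
    exact Finset.sum_congr rfl fun x _ => Module.finrank_tensorProduct
  rcases q with _ | _ | n
  · haveI := kerCx_H0 (totMap φ ψ) hinj
    rw [Module.finrank_zero_of_subsingleton, ha0, hb0]
    simp [Finset.sum_range_succ, ha0, hb0]
  · obtain ⟨e⟩ := nonempty_H0_equiv (tot C D)
    obtain ⟨eC⟩ := nonempty_H0_equiv C
    obtain ⟨eD⟩ := nonempty_H0_equiv D
    obtain ⟨e00⟩ := nonempty_kunneth C D 0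
    haveI : Module.Finite k (C.H 0) := Module.Finite.equiv eC.symm
    haveI : Module.Finite k (D.H 0) := Module.Finite.equiv eD.symm
    haveI : ∀ x : Idx 0, Module.Finite k (C.H x.1.1 ⊗[k] D.H x.1.2) := fun x => by
      rcases x with ⟨⟨p, q⟩, h⟩
      obtain ⟨rfl, rfl⟩ : p = 0 ∧ q = 0 := by simp only at h; omega
      infer_instance
    have hZ : Module.finrank k ((tot C D).Z 0) = Module.finrank k (C.Z 0) * Module.finrank k (D.Z 0) := by
      rw [← e.finrank_eq, e00.finrank_eq, Module.finrank_pi_fintype,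
        show (Finset.univ : Finset (Idx 0)) = {⟨(0, 0), rfl⟩} from Finset.eq_singleton_iff_unique_mem.2
          ⟨Finset.mem_univ _, fun ⟨⟨p, q⟩, h⟩ _ => by
            simp only at h; obtain ⟨rfl, rfl⟩ : p = 0 ∧ q = 0 := by omega
            rfl⟩,
        Finset.sum_singleton, Module.finrank_tensorProduct, eC.finrank_eq, eD.finrank_eq]
    haveI : Module.Finite k ((tot C D).Z 0) := Module.Finite.equiv ((e00.symm).trans e)
    -- the quotient in degree zero has finite cohomology, hence so does the kernel in degree one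
    haveI hfin0 := (hT' 0).1
    haveI : Module.Finite k ((kerCx (totMap φ ψ)).H 1) := by
      obtain ⟨s, hs⟩ : ∃ s : (tot E D').H 0 →ₗ[k] relP (totMap φ ψ) 0, relA (totMap φ ψ) 0 ∘ₗ s = LinearMap.id :=
        LinearMap.exists_rightInverse_of_surjective _ (LinearMap.range_eq_top.2 (relA_surjective _ hsurj 0))
      refine Module.Finite.of_surjective (relB (totMap φ ψ) 0 ∘ₗ s) fun y => ?_
      obtain ⟨x, rfl⟩ := relB_surjective (totMap φ ψ) 0 (hex 0) y
      refine ⟨relA (totMap φ ψ) 0 x, ?_⟩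
      have hx : relA (totMap φ ψ) 0 (x - s (relA (totMap φ ψ) 0 x)) = 0 := by
        rw [map_sub, ← LinearMap.comp_apply (relA (totMap φ ψ) 0) s, hs, LinearMap.id_apply, sub_self]
      obtain ⟨b, hb, h⟩ := (relA_eq_zero _ hsurj 0 _).1 hx
      have := (relB_eq_zero _ 0 _).2 ⟨b, (tot C D).B_le_Z 0 hb, h⟩
      rw [map_sub, sub_eq_zero] at this
      exact this.symm
    obtain ⟨-, h1⟩ := rel_zero (totMap φ ψ) hsurj (hex 0) hinj
    rw [(hT' 0).2, hZ, Finset.sum_range_one, Nat.sub_zero, hE0, hD'0] at h1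
    rw [Finset.sum_range_succ, Finset.sum_range_succ, Finset.sum_range_one]
    simp only [ha0, hb0, zero_add, Nat.sub_self, mul_zero, zero_mul, add_zero, show 1 + 1 - 1 = 1 from rfl]
    linarith [h1]
  · obtain ⟨e⟩ := nonempty_rel_succ (totMap φ ψ) hsurj n (hex n) (hex (n + 1))
    rw [← e.finrank_eq, (hT' (n + 1)).2]
    exact arith (fun i => Module.finrank k ((kerCx φ).H i)) (fun i => Module.finrank k ((kerCx ψ).H i))
      (fun i => Module.finrank k (E.H i)) (fun i => Module.finrank k (D'.H i)) _ _ ha0 hb0 hE0 hD'0 hEs hD's n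

end Tot

end Groth.Agent.GrLib8.KVec
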