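import Groth.Agent.GrLib8.KVecRel

/-!
# The top degree of the cohomology of the kernel of a tensor product of quotient maps
-/

set_option autoImplicit false
set_option linter.unusedSectionVars false

universe u

open scoped TensorProduct

namespace Groth.Agent.GrLib8.KVec

variable {k : Type u} [Field k] {C E D D' : Cx.{u} k}

/-- The top degree. -/
theorem finrank_ker_totMap_top (φ : Hom C E) (ψ : Hom D D') (hφ : ∀ n, Function.Surjective (φ.f n))
    (hψ : ∀ n, Function.Surjective (ψ.f n)) (hexC : ∀ n, C.Z (n + 1) ≤ C.B (n + 1))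
    (hexD : ∀ n, D.Z (n + 1) ≤ D.B (n + 1)) (p q : ℕ)
    (hA : ∀ i, p + 2 < i → Subsingleton ((kerCx φ).H i)) (hB : ∀ i, q + 2 < i → Subsingleton ((kerCx ψ).H i))
    [Module.Finite k ((kerCx φ).H (p + 2))] [Module.Finite k ((kerCx ψ).H (q + 2))] :
    Module.Finite k ((kerCx (totMap φ ψ)).H (p + q + 1 + 2)) ∧
    Module.finrank k ((kerCx (totMap φ ψ)).H (p + q + 1 + 2)) =
      Module.finrank k ((kerCx φ).H (p + 2)) * Module.finrank k ((kerCx ψ).H (q + 2)) := by
  classical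
  have hex : ∀ n, (tot C D).Z (n + 1) ≤ (tot C D).B (n + 1) := fun n => by
    haveI : ∀ x : Idx (n + 1), Subsingleton (C.H x.1.1 ⊗[k] D.H x.1.2) := fun x => by
      rcases x with ⟨⟨p, q⟩, h⟩
      rcases p with _ | p
      · obtain ⟨q', rfl⟩ : ∃ q', q = q' + 1 := ⟨q - 1, by simp only at h; omega⟩
        haveI := subsingleton_H_of_exact D (hexD q')
        infer_instance
      · haveI := subsingleton_H_of_exact C (hexC p)
        infer_instance
    obtain ⟨e⟩ := nonempty_kunneth C D (n + 1)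
    haveI : Subsingleton ((tot C D).H (n + 1)) := e.toEquiv.subsingleton
    exact exact_of_subsingleton_H _
  obtain ⟨e⟩ := nonempty_rel_succ (totMap φ ψ) (totMap_surjective φ ψ hφ hψ) (p + q + 1) (hex _) (hex _)
  obtain ⟨e'⟩ := nonempty_kunneth E D' (p + q + 1 + 1)
  let x₀ : Idx (p + q + 1 + 1) := ⟨(p + 1, q + 1), by simp only; omega⟩
  have hzero : ∀ x : Idx (p + q + 1 + 1), x ≠ x₀ → Subsingleton (E.H x.1.1 ⊗[k] D'.H x.1.2) := by
    rintro ⟨⟨i, j⟩, h⟩ hne
    simp only at h ⊢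
    rcases lt_or_ge (p + 1) i with hi | hi
    · obtain ⟨i', rfl⟩ : ∃ i', i = i' + 1 := ⟨i - 1, by omega⟩
      obtain ⟨f⟩ := nonempty_rel_succ φ hφ i' (hexC _) (hexC _)
      haveI := hA (i' + 2) (by omega)
      haveI : Subsingleton (E.H (i' + 1)) := f.toEquiv.subsingleton
      infer_instance
    · have hj : q + 1 < j := by
        by_contra hj
        refine hne (Subtype.ext (Prod.ext ?_ ?_)) <;> show _ = _ <;> simp only [x₀] <;> omega
      obtain ⟨j', rfl⟩ : ∃ j', j = j' + 1 := ⟨j - 1, by omega⟩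
      obtain ⟨f⟩ := nonempty_rel_succ ψ hψ j' (hexD _) (hexD _)
      haveI := hB (j' + 2) (by omega)
      haveI : Subsingleton (D'.H (j' + 1)) := f.toEquiv.subsingleton
      infer_instance
  let g : (∀ x : Idx (p + q + 1 + 1), E.H x.1.1 ⊗[k] D'.H x.1.2) ≃ₗ[k] E.H (p + 1) ⊗[k] D'.H (q + 1) :=
    LinearEquiv.ofBijective (LinearMap.proj x₀) ⟨fun a b h => funext fun x => by
      by_cases hx : x = x₀
      · subst hx; exact h
      · haveI := hzero x hx; exact Subsingleton.elim _ _, fun v => ⟨Pi.single (M := fun x : Idx (p + q + 1 + 1) => E.H x.1.1 ⊗[k] D'.H x.1.2) x₀ v,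
        Pi.single_eq_same (M := fun x : Idx (p + q + 1 + 1) => E.H x.1.1 ⊗[k] D'.H x.1.2) x₀ v⟩⟩
  obtain ⟨fE⟩ := nonempty_rel_succ φ hφ p (hexC _) (hexC _)
  obtain ⟨fD⟩ := nonempty_rel_succ ψ hψ q (hexD _) (hexD _)
  let tt := (e.symm.trans e').trans (g.trans (TensorProduct.congr fE fD))
  exact ⟨Module.Finite.equiv tt.symm, by rw [tt.finrank_eq, Module.finrank_tensorProduct]⟩

end Groth.Agent.GrLib8.KVec
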