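import Groth.Prelude.Def_Wider
import Groth.Agent.LC.InjNoeth
import Groth.Agent.S0314
import Groth.Agent.AssLib.Basic
import Groth.Agent.CohenLib.PowerSeries
import Mathlib.RingTheory.Derivation.Basic

/-!
# Torsion modules over power series rings with derivations are sums of injective hulls
-/

set_option autoImplicit false
set_option linter.style.haveILetI false

universe u

open IsLocalRing

namespace Groth.Agent.GrLib8.KashiwaraPS

variable {k : Type u} [Field k] [CharZero k] {d : ℕ}

variable {M : Type u} [AddCommGroup M] [Module (MvPowerSeries (Fin d) k) M] {θ : Fin d → Derivation k (MvPowerSeries (Fin d) k) (MvPowerSeries (Fin d) k)} {D : Fin d → M →+ M}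
  (hθ : ∀ i j : Fin d, θ i (MvPowerSeries.X j) = if i = j then 1 else 0)
  (hD : ∀ (i : Fin d) (f : (MvPowerSeries (Fin d) k)) (z : M), D i (f • z) = θ i f • z + f • D i z)

include hθ in
theorem X_mem_maximalIdeal (i : Fin d) : (MvPowerSeries.X i : (MvPowerSeries (Fin d) k)) ∈ maximalIdeal (MvPowerSeries (Fin d) k) := by
  rw [mem_maximalIdeal, mem_nonunits_iff, MvPowerSeries.isUnit_iff_constantCoeff, MvPowerSeries.constantCoeff_X]
  exact not_isUnit_zero

theorem maximalIdeal_le_span : maximalIdeal (MvPowerSeries (Fin d) k) ≤ Ideal.span (Set.range fun i : Fin d => (MvPowerSeries.X i : (MvPowerSeries (Fin d) k))) := by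
  intro f hf
  have h0 : MvPowerSeries.constantCoeff f = 0 := by
    rw [mem_maximalIdeal, mem_nonunits_iff, MvPowerSeries.isUnit_iff_constantCoeff, isUnit_iff_ne_zero] at hf
    exact not_not.1 hf
  exact (PSLib.mem_vars_iff.2 h0 : f ∈ PSLib.vars d k)

theorem isUnit_natCast {n : ℕ} (hn : n ≠ 0) : IsUnit (n : (MvPowerSeries (Fin d) k)) := by
  rw [MvPowerSeries.isUnit_iff_constantCoeff, map_natCast, isUnit_iff_ne_zero]
  exact_mod_cast hn

include hθ hD in
/-- The key divisibility on the kernels of the first few variables. -/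
theorem exists_div (i : Fin d) (n : ℕ) : ∀ z : M, (MvPowerSeries.X i : (MvPowerSeries (Fin d) k)) ^ n • z = 0 →
    (∀ j < i, (MvPowerSeries.X j : (MvPowerSeries (Fin d) k)) • z = 0) →
    ∃ w : M, (∀ j < i, (MvPowerSeries.X j : (MvPowerSeries (Fin d) k)) • w = 0) ∧ (MvPowerSeries.X i : (MvPowerSeries (Fin d) k)) • w = z := by
  induction n with
  | zero =>
    intro z hz _
    rw [pow_zero, one_smul] at hz
    exact ⟨0, fun j _ => smul_zero _, by rw [hz, smul_zero]⟩
  | succ n ih =>
    intro z hz hlt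
    let x : (MvPowerSeries (Fin d) k) := MvPowerSeries.X i
    have hDz : ∀ j < i, (MvPowerSeries.X j : (MvPowerSeries (Fin d) k)) • D i z = 0 := fun j hj => by
      have h := hD i (MvPowerSeries.X j) z
      rw [hlt j hj, map_zero, hθ, if_neg (ne_of_gt hj), zero_smul, zero_add] at h
      exact h.symm
    have h1 : x ^ n • ((n + 1 : ℕ) • z + x • D i z) = 0 := by
      have h := hD i (x ^ (n + 1)) z
      rw [hz, map_zero, (θ i).leibniz_pow, hθ, if_pos rfl, Nat.add_sub_cancel, smul_eq_mul, mul_one] at h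
      rw [smul_add, smul_smul, ← pow_succ, smul_comm]
      exact ((smul_assoc (n + 1) (x ^ n) z).symm ▸ h).symm
    have h2 : ∀ j < i, (MvPowerSeries.X j : (MvPowerSeries (Fin d) k)) • ((n + 1 : ℕ) • z + x • D i z) = 0 := fun j hj => by
      rw [smul_add, smul_comm, hlt j hj, smul_zero, zero_add, smul_comm, hDz j hj, smul_zero]
    obtain ⟨w, hw, hw'⟩ := ih _ h1 h2
    obtain ⟨u, hu⟩ := isUnit_natCast (k := k) (d := d) (Nat.succ_ne_zero n)
    refine ⟨(↑u⁻¹ : (MvPowerSeries (Fin d) k)) • (w - D i z), fun j hj => ?_, ?_⟩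
    · rw [smul_comm, smul_sub, hw j hj, hDz j hj, sub_zero, smul_zero]
    · rw [smul_comm (MvPowerSeries.X i : (MvPowerSeries (Fin d) k)) _ (w - D i z), smul_sub, hw', add_sub_cancel_right, ← Nat.cast_smul_eq_nsmul (MvPowerSeries (Fin d) k), ← hu, smul_smul,
        Units.inv_mul, one_smul]

include hθ hD in
/-- Compatible systems of `x_i`-multiples lift. -/
theorem exists_lift (hM : LocCoh.IsPowerTorsion (maximalIdeal (MvPowerSeries (Fin d) k)) M) : ∀ m ≤ d, ∀ z : Fin d → M,
    (∀ i j, (MvPowerSeries.X i : (MvPowerSeries (Fin d) k)) • z j = (MvPowerSeries.X j : (MvPowerSeries (Fin d) k)) • z i) →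
    ∃ w : M, ∀ i : Fin d, (i : ℕ) < m → (MvPowerSeries.X i : (MvPowerSeries (Fin d) k)) • w = z i := by
  intro m
  induction m with
  | zero => exact fun _ z _ => ⟨0, fun i hi => absurd hi (Nat.not_lt_zero _)⟩
  | succ m ih =>
    intro hm z hz
    obtain ⟨w, hw⟩ := ih (by omega) z hz
    let i : Fin d := ⟨m, hm⟩
    let z' := z i - (MvPowerSeries.X i : (MvPowerSeries (Fin d) k)) • w
    obtain ⟨n, hn⟩ := hM z'
    obtain ⟨v, hv, hv'⟩ := exists_div hθ hD i n z'
      (hn _ (Ideal.pow_mem_pow (X_mem_maximalIdeal hθ i) n)) (fun j hj => by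
        rw [smul_sub, hz, smul_comm, hw j hj, sub_self])
    refine ⟨w + v, fun j hj => ?_⟩
    rcases Nat.lt_succ_iff_lt_or_eq.1 hj with hj' | hj'
    · rw [smul_add, hw j hj', hv j hj', add_zero]
    · obtain rfl : j = i := Fin.ext hj'
      rw [smul_add, hv', add_sub_cancel]

include hθ hD in
theorem nonempty_iso (hM : LocCoh.IsPowerTorsion (maximalIdeal (MvPowerSeries (Fin d) k)) M) {E : Type u} [AddCommGroup E] [Module (MvPowerSeries (Fin d) k) E]
    (e : ResidueField (MvPowerSeries (Fin d) k) →ₗ[(MvPowerSeries (Fin d) k)] E) (he : InjHull.IsInjectiveHull e) :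
    ∃ J : Type u, Nonempty (M ≃ₗ[(MvPowerSeries (Fin d) k)] (J →₀ E)) := by
  classical
  let 𝔪 := maximalIdeal (MvPowerSeries (Fin d) k)
  let V := LocCoh.torsionBy 𝔪 M
  letI := Ideal.Quotient.field 𝔪
  let J := Module.Free.ChooseBasisIndex ((MvPowerSeries (Fin d) k) ⧸ 𝔪) V
  let b := Module.Free.chooseBasis ((MvPowerSeries (Fin d) k) ⧸ 𝔪) V
  haveI : Module.Injective (MvPowerSeries (Fin d) k) E := he.isInjective
  haveI : Module.Injective (MvPowerSeries (Fin d) k) (J →₀ E) := by
    have h := LC.injective_directSum (fun _ : J => E) fun _ => he.isInjective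
    exact Module.Baer.injective ((Module.Baer.iff_injective.2 h).of_equiv (finsuppLEquivDirectSum (MvPowerSeries (Fin d) k) E J).symm)
  -- the socle embeds
  let s : V →ₗ[(MvPowerSeries (Fin d) k)] (J →₀ E) :=
    (Finsupp.mapRange.linearMap e) ∘ₗ (b.repr.toLinearMap.restrictScalars (MvPowerSeries (Fin d) k))
  have hs : Function.Injective s :=
    (Finsupp.mapRange_injective _ (map_zero e) he.injective).comp b.repr.injective
  obtain ⟨f, hf⟩ := Module.Baer.extension_property
    (Module.Baer.iff_injective.2 ‹Module.Injective (MvPowerSeries (Fin d) k) (J →₀ E)›) V.subtype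
    (Submodule.injective_subtype _) s
  have hsocV : ∀ v : M, (∀ a ∈ 𝔪, a • v = 0) → v ∈ V := fun v hv =>
    (Submodule.mem_torsionBySet_iff _ _).2 fun a => hv a a.2
  have hfinj : Function.Injective f := by
    refine (injective_iff_map_eq_zero _).2 fun z hz => ?_
    obtain ⟨n, hn⟩ := hM z
    induction n generalizing z with
    | zero =>
      have := hn 1 (by simp)
      rwa [one_smul] at this
    | succ n ih =>
      have h1 : ∀ a ∈ 𝔪, a • z = 0 := fun a ha => ih (a • z) (by rw [map_smul, hz, smul_zero]) fun b hb => by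
        rw [smul_smul]
        exact hn _ (by rw [pow_succ]; exact Ideal.mul_mem_mul hb ha)
      have h2 : s ⟨z, hsocV z h1⟩ = 0 := by rw [← hf]; exact hz
      exact congrArg Subtype.val (hs (h2.trans (map_zero s).symm))
  -- the socle of `E`
  have hsocE : ∀ t : E, (∀ a ∈ 𝔪, a • t = 0) → ∃ r, e r = t := fun t ht => by
    by_cases h0 : t = 0
    · exact ⟨0, by rw [map_zero, h0]⟩
    obtain ⟨y, hy, hy0⟩ := Submodule.exists_mem_ne_zero_of_ne_bot
      (he.essential (Submodule.span (MvPowerSeries (Fin d) k) {t}) (by rwa [Ne, Submodule.span_singleton_eq_bot]))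
    obtain ⟨hy1, r, hr⟩ := hy
    obtain ⟨c, rfl⟩ := Submodule.mem_span_singleton.1 hy1
    have hc : IsUnit c := IsLocalRing.notMem_maximalIdeal.1 fun hc => hy0 (ht c hc)
    obtain ⟨u, rfl⟩ := hc
    exact ⟨(↑u⁻¹ : (MvPowerSeries (Fin d) k)) • r, by rw [map_smul, hr, smul_smul, Units.inv_mul, one_smul]⟩
  have hsocJ : ∀ y : J →₀ E, (∀ a ∈ 𝔪, a • y = 0) → ∃ v, f v = y := fun y hy => by
    choose r hr using fun j => hsocE (y j) (fun a ha => congrArg (fun w : J →₀ E => w j) (hy a ha))
    have hr0 : ∀ j, y j = 0 → r j = 0 := fun j hj => he.injective ((hr j).trans (hj.trans (map_zero e).symm))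
    let c : J →₀ ((MvPowerSeries (Fin d) k) ⧸ 𝔪) := Finsupp.onFinset y.support r fun j hj =>
      Finsupp.mem_support_iff.2 fun h => hj (hr0 j h)
    refine ⟨(b.repr.symm c : V), ?_⟩
    have h := LinearMap.congr_fun hf (b.repr.symm c)
    refine h.trans ?_
    show Finsupp.mapRange.linearMap e (b.repr (b.repr.symm c)) = y
    rw [LinearEquiv.apply_symm_apply]
    ext j
    simp only [c, Finsupp.mapRange.linearMap_apply, Finsupp.mapRange_apply, Finsupp.onFinset_apply]
    exact hr j
  have htors : ∀ t : E, ∃ n : ℕ, ∀ a ∈ 𝔪 ^ n, a • t = 0 := fun t => by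
    haveI := Groth.Agent.S0314.result (MvPowerSeries (Fin d) k) E e he
    obtain ⟨n, hn⟩ := AssLib.exists_pow_le_annihilator (MvPowerSeries (Fin d) k) (Submodule.span (MvPowerSeries (Fin d) k) {t})
    exact ⟨n, fun a ha => congrArg Subtype.val
      (Module.mem_annihilator.1 (hn ha) ⟨t, Submodule.mem_span_singleton_self t⟩)⟩
  have hsurj : ∀ n : ℕ, ∀ y : J →₀ E, (∀ a ∈ 𝔪 ^ n, a • y = 0) → ∃ v, f v = y := fun n => by
    induction n with
    | zero => exact fun y hy => ⟨0, by rw [map_zero, ← one_smul (MvPowerSeries (Fin d) k) y, hy 1 (by simp)]⟩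
    | succ n ih =>
      intro y hy
      choose z hz using fun i : Fin d => ih ((MvPowerSeries.X i : (MvPowerSeries (Fin d) k)) • y) fun a ha => by
        rw [smul_smul]
        exact hy _ (by rw [pow_succ]; exact Ideal.mul_mem_mul ha (X_mem_maximalIdeal hθ i))
      obtain ⟨w, hw⟩ := exists_lift hθ hD hM d le_rfl z fun i j => hfinj (by
        rw [map_smul, map_smul, hz, hz, smul_comm])
      obtain ⟨v, hv⟩ := hsocJ (y - f w) fun a ha => by
        have hle : Ideal.span (Set.range fun i : Fin d => (MvPowerSeries.X i : (MvPowerSeries (Fin d) k))) ≤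
            LinearMap.ker (LinearMap.toSpanSingleton (MvPowerSeries (Fin d) k) (J →₀ E) (y - f w)) := by
          rw [Ideal.span_le]
          rintro _ ⟨i, rfl⟩
          rw [SetLike.mem_coe, LinearMap.mem_ker, LinearMap.toSpanSingleton_apply, smul_sub, ← map_smul,
            hw i i.2, hz, sub_self]
        exact hle (maximalIdeal_le_span ha)
      exact ⟨w + v, by rw [map_add, hv, add_sub_cancel]⟩
  refine ⟨J, ⟨LinearEquiv.ofBijective f ⟨hfinj, fun y => ?_⟩⟩⟩
  choose n hn using htors
  refine hsurj (∑ j ∈ y.support, n (y j)) y fun a ha => Finsupp.ext fun j => ?_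
  rw [Finsupp.smul_apply, Finsupp.zero_apply]
  by_cases hj : j ∈ y.support
  · exact hn _ a (Ideal.pow_le_pow_right (Finset.single_le_sum (f := fun j => n (y j))
      (fun i _ => Nat.zero_le _) hj) ha)
  · rw [Finsupp.notMem_support_iff.1 hj, smul_zero]

end Groth.Agent.GrLib8.KashiwaraPS
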