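import Groth.Agent.Koszul15.Basic
import Groth.Agent.GrLib8.KChiBasic
import Groth.Agent.S15815
import Mathlib.LinearAlgebra.TensorProduct.Quotient

/-!
# Koszul cohomology of a multiple of a regular sequence
-/

set_option autoImplicit false
set_option linter.style.haveILetI false

universe u

open CategoryTheory Limits CochainComplex TensorProduct

namespace Groth.Agent.GrLib8.KoszulScaleReg

variable {A : Type u} [CommRing A]

theorem nonempty_koszul_iso : ∀ l : List A,
    Nonempty (Koszul.koszul A l ≅ CohIII.koszulCx (ModuleCat.of A A) l)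
  | [] => ⟨Iso.refl _⟩
  | f :: l => by
    obtain ⟨e⟩ := nonempty_koszul_iso l
    exact ⟨KChi.coneIso _ (f • 𝟙 (CohIII.koszulCx (ModuleCat.of A A) l)) e (by
      simp [Linear.smul_comp, Linear.comp_smul])⟩

theorem nonempty_iso (l : List A) (hl : RingTheory.Sequence.IsWeaklyRegular A l) (x : A)
    (hx : x ∈ nonZeroDivisors A) (q : ℤ) (hq : q < 0) :
    Nonempty ((Koszul.koszul A (l.map (fun f => x * f))).homology q ≅
      ModuleCat.of A (↥(LinearMap.ker ((Koszul.koszul A l).d q (q + 1)).hom) ⊗[A] (A ⧸ Ideal.span {x}))) := by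
  obtain ⟨e⟩ := S15815.result A l x hx q
  obtain ⟨c⟩ := nonempty_koszul_iso l
  have hz : IsZero ((Koszul.koszul A l).homology q) :=
    (Koszul15.isZero_homology_of_isWeaklyRegular l (ModuleCat.of A A) hl q (by omega)).of_iso
      (HomologicalComplex.homologyMapIso c q)
  have hex := (ShortComplex.moduleCat_exact_iff_range_eq_ker _).1
    ((HomologicalComplex.exactAt_iff' (Koszul.koszul A l) (q - 1) q (q + 1) (by simp) (by simp)).1
      ((HomologicalComplex.exactAt_iff_isZero_homology _ _).2 hz))
  let Z := LinearMap.ker ((Koszul.koszul A l).d q (q + 1)).hom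
  have hsub : Submodule.comap Z.subtype (Ideal.span {x} • LinearMap.range ((Koszul.koszul A l).d (q - 1) q).hom) =
      Ideal.span {x} • (⊤ : Submodule A Z) := by
    change Submodule.comap Z.subtype (Ideal.span {x} • LinearMap.range ((Koszul.koszul A l).sc' (q - 1) q (q + 1)).f.hom) = _
    rw [hex]
    apply Submodule.map_injective_of_injective Z.injective_subtype
    rw [Submodule.map_smul'', Submodule.map_comap_eq, Submodule.map_top, Submodule.range_subtype]
    exact inf_of_le_right Submodule.smul_le_right
  exact ⟨e ≪≫ (((Submodule.quotEquivOfEq _ _ hsub).trans (TensorProduct.quotTensorEquivQuotSMul Z (Ideal.span {x})).symm).trans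
    (TensorProduct.comm A _ _)).toModuleIso⟩

end Groth.Agent.GrLib8.KoszulScaleReg
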