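import Groth.Agent.GrLib8.KChiArith

/-!
# Koszul cohomology of a sequence extended by elements of its ideal
-/

set_option autoImplicit false
set_option linter.style.haveILetI false

universe u

open CategoryTheory Limits CochainComplex

namespace Groth.Agent.GrLib8.KoszulSplit

variable {A : Type u} [CommRing A]

/-- The cone of a null-homotopic scalar splits in cohomology. -/
theorem nonempty_cone_split (K : CechLC.Cx A) (f : A) (ho : Homotopy (f • 𝟙 K) 0) (i : ℤ) :
    Nonempty ((mappingCone (f • 𝟙 K)).homology i ≃ₗ[A] (K.homology (i + 1) × K.homology i)) := by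
  obtain ⟨b, -, hex, hb⟩ := KChi.exists_cone_proj f K i
  have hz : HomologicalComplex.homologyMap (f • 𝟙 K) (i + 1) = 0 := by
    rw [ho.homologyMap_eq, HomologicalComplex.homologyMap_zero]
  obtain ⟨α, hα⟩ := HomComplex.Cochain.equivHomotopy (f • 𝟙 K) 0 ho
  let ρ : mappingCone (f • 𝟙 K) ⟶ K := mappingCone.desc (f • 𝟙 K) α (𝟙 K) (by
    rw [Category.comp_id, hα, HomComplex.Cochain.ofHom_zero, add_zero])
  let r := (HomologicalComplex.homologyMap ρ i).hom
  let a := (HomologicalComplex.homologyMap (mappingCone.inr (f • 𝟙 K)) i).hom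
  have hra : ∀ x, r (a x) = x := fun x => by
    have h : HomologicalComplex.homologyMap (mappingCone.inr (f • 𝟙 K)) i ≫ HomologicalComplex.homologyMap ρ i = 𝟙 _ := by
      rw [← HomologicalComplex.homologyMap_comp, mappingCone.inr_desc, HomologicalComplex.homologyMap_id]
    exact ConcreteCategory.congr_hom h x
  refine ⟨LinearEquiv.ofBijective (b.prod r) ⟨(injective_iff_map_eq_zero _).2 fun w hw => ?_, fun yx => ?_⟩⟩
  · obtain ⟨x, rfl⟩ := (hex w).1 (congrArg Prod.fst hw)
    have h1 : r (a x) = 0 := congrArg Prod.snd hw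
    rw [hra] at h1
    rw [h1, map_zero]
  · have hf : f • yx.1 = 0 := by
      obtain ⟨w, hw⟩ := (ModuleCat.epi_iff_surjective (K.homologyπ (i + 1))).1 inferInstance yx.1
      have h2 := ConcreteCategory.congr_hom (HomologicalComplex.homologyπ_naturality (f • 𝟙 K) (i + 1)) w
      rw [hz] at h2
      rw [← hw, ← map_smul, show f • w = (HomologicalComplex.cyclesMap (f • 𝟙 K) (i + 1)).hom w from
        (ModuleCat.mono_iff_injective (K.iCycles (i + 1))).1 inferInstance ?_]
      · exact h2.symm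
      · refine (map_smul (K.iCycles (i + 1)).hom f w).trans ?_
        exact (ConcreteCategory.congr_hom (HomologicalComplex.cyclesMap_i (f • 𝟙 K) (i + 1)) w).symm
    obtain ⟨w, hw⟩ := (hb yx.1).2 hf
    refine ⟨w + a (yx.2 - r w), Prod.ext ?_ ?_⟩
    · show b (w + a (yx.2 - r w)) = yx.1
      rw [map_add, (hex _).2 ⟨_, rfl⟩, add_zero, hw]
    · show r (w + a (yx.2 - r w)) = yx.2
      rw [map_add, hra, add_sub_cancel]

/-- Cohomology in equal degrees. -/
noncomputable def degCongr (K : CechLC.Cx A) {p q : ℤ} (h : p = q) : K.homology p ≃ₗ[A] K.homology q := by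
  subst h
  exact LinearEquiv.refl _ _

theorem exists_index (M : ModuleCat.{u} A) (xs : List A) : ∀ (ys : List A),
    (∀ y ∈ ys, y ∈ Ideal.span {a | a ∈ xs}) →
    ∃ (ι : Type) (_ : Fintype ι) (deg : ι → ℕ),
      (∀ j, Nat.card {s // deg s = j} = ys.length.choose j) ∧
      ∀ m : ℤ, Nonempty (KChi.H M (ys ++ xs) m ≃ₗ[A] ((s : ι) → KChi.H M xs (m + deg s)))
  | [], _ => by
    refine ⟨Unit, inferInstance, fun _ => 0, fun j => ?_, fun m => ⟨?_⟩⟩
    · cases j with
      | zero => simp
      | succ j => simp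
    · exact ((LinearEquiv.funUnique Unit A _).trans
        (degCongr _ (by simp : m + ((0 : ℕ) : ℤ) = m))).symm
  | y :: ys, hy => by
    obtain ⟨ι, _, deg, hc, he⟩ := exists_index M xs ys fun z hz => hy z (List.mem_cons_of_mem _ hz)
    have hmem : y ∈ Ideal.span {a | a ∈ ys ++ xs} :=
      Ideal.span_mono (fun a ha => List.mem_append_right _ ha) (hy y List.mem_cons_self)
    obtain ⟨ho⟩ := Koszul15.homotopy_of_mem M (ys ++ xs) y hmem
    refine ⟨ι ⊕ ι, inferInstance, Sum.elim (fun s => deg s + 1) deg, fun j => ?_, fun m => ?_⟩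
    · rw [Nat.card_congr (Equiv.subtypeSum (p := fun s => Sum.elim (fun s => deg s + 1) deg s = j)), Nat.card_sum]
      cases j with
      | zero =>
        simp only [Sum.elim_inl, Sum.elim_inr, Nat.add_one_ne_zero, List.length_cons, Nat.choose_zero_right, hc]
        simp
      | succ j =>
        simp only [Sum.elim_inl, Sum.elim_inr, Nat.add_right_cancel_iff, hc, List.length_cons]
        rw [Nat.choose_succ_succ']
    · obtain ⟨e⟩ := nonempty_cone_split _ y ho m
      obtain ⟨e₁⟩ := he (m + 1)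
      obtain ⟨e₀⟩ := he m
      have e₁' : KChi.H M (ys ++ xs) (m + 1) ≃ₗ[A] ((s : ι) → KChi.H M xs (m + ((deg s + 1 : ℕ) : ℤ))) :=
        e₁.trans (LinearEquiv.piCongrRight fun s => degCongr _ (by push_cast; omega))
      exact ⟨(e.trans (LinearEquiv.prodCongr e₁' e₀)).trans
        (LinearEquiv.sumPiEquivProdPi A ι ι (fun s => KChi.H M xs (m + (Sum.elim (fun s => deg s + 1) deg s : ℕ)))).symm⟩

theorem nonempty_iso (M : ModuleCat.{u} A) (xs ys : List A) (hy : ∀ y ∈ ys, y ∈ Ideal.span {a | a ∈ xs}) (m : ℤ) :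
    Nonempty ((DRing.tensorCx (Koszul.koszul A (xs ++ ys)) M).homology m ≅
      ModuleCat.of A ((j : Fin (ys.length + 1)) → Fin (ys.length.choose j) →
        (DRing.tensorCx (Koszul.koszul A xs) M).homology (m + j))) := by
  obtain ⟨e₁⟩ := KChi.nonempty_tensor_iso M (xs ++ ys)
  obtain ⟨e₂⟩ := KChi.nonempty_perm_iso M (List.perm_append_comm : (xs ++ ys).Perm (ys ++ xs))
  obtain ⟨e₃⟩ := KChi.nonempty_tensor_iso M xs
  obtain ⟨ι, _, deg, hc, he⟩ := exists_index M xs ys hy
  obtain ⟨e₄⟩ := he m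
  have hle : ∀ s, deg s < ys.length + 1 := fun s => by
    have h : 0 < ys.length.choose (deg s) := by
      rw [← hc]
      haveI : Nonempty {t // deg t = deg s} := ⟨⟨s, rfl⟩⟩
      exact Nat.card_pos
    exact Nat.lt_succ_of_le (not_lt.1 fun hlt => h.ne' (Nat.choose_eq_zero_of_lt hlt))
  let deg' : ι → Fin (ys.length + 1) := fun s => ⟨deg s, hle s⟩
  let σ : ι ≃ Σ j : Fin (ys.length + 1), Fin (ys.length.choose j) :=
    (Equiv.sigmaFiberEquiv deg').symm.trans (Equiv.sigmaCongrRight fun j =>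
      (Nat.equivFinOfCardPos (α := {s // deg' s = j}) (by
        rw [Nat.card_congr (Equiv.subtypeEquivRight (q := fun s => deg s = j) fun s => Fin.ext_iff), hc]
        exact (Nat.choose_pos (Nat.le_of_lt_succ j.2)).ne')).trans
        (finCongr (by rw [Nat.card_congr (Equiv.subtypeEquivRight (q := fun s => deg s = j) fun s => Fin.ext_iff), hc])))
  have hσ : ∀ x, deg (σ.symm x) = x.1 := fun ⟨j, i⟩ => by
    obtain ⟨s, rfl⟩ : ∃ s, σ.symm ⟨j, i⟩ = s := ⟨_, rfl⟩
    have h : (σ (σ.symm ⟨j, i⟩)).1 = j := by rw [Equiv.apply_symm_apply]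
    exact congrArg Fin.val h
  have e₅ : ((s : ι) → KChi.H M xs (m + deg s)) ≃ₗ[A] ((j : Fin (ys.length + 1)) → Fin (ys.length.choose j) →
      (DRing.tensorCx (Koszul.koszul A xs) M).homology (m + j)) :=
    ((LinearEquiv.piCongrLeft' A (fun s => KChi.H M xs (m + deg s)) σ).trans
      (LinearEquiv.piCongrRight fun x => (degCongr _ (by rw [hσ x])).trans
        (HomologicalComplex.homologyMapIso e₃ (m + (x.1 : ℤ))).symm.toLinearEquiv)).trans
      (LinearEquiv.piCurry A (fun (j : Fin (ys.length + 1)) (_ : Fin (ys.length.choose j)) =>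
        ((DRing.tensorCx (Koszul.koszul A xs) M).homology (m + j) : Type u)))
  exact ⟨((HomologicalComplex.homologyMapIso (e₁ ≪≫ e₂) m).toLinearEquiv.trans (e₄.trans e₅)).toModuleIso⟩

end Groth.Agent.GrLib8.KoszulSplit
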