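import Groth.Agent.GrLib8.ConeTensor
import Groth.Agent.GrLib8.KChiBasic
import Mathlib.Algebra.Homology.Monoidal
import Mathlib.Algebra.Category.ModuleCat.Monoidal.Basic

/-!
# Tensor products of Koszul complexes
-/

set_option autoImplicit false
set_option linter.style.haveILetI false
set_option backward.isDefEq.respectTransparency false

universe u

open CategoryTheory CategoryTheory.Limits MonoidalCategory CochainComplex

namespace Groth.Agent.GrLib8.KoszulTensor

variable {A : Type u} [CommRing A]

/-- The tensor bifunctor. -/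
noncomputable abbrev T : ModuleCat.{u} A ⥤ ModuleCat.{u} A ⥤ ModuleCat.{u} A := curriedTensor (ModuleCat.{u} A)

theorem tot₁_smul (a : A) (K L : DRing.Cx A) :
    ConeTensor.tot₁ T (a • 𝟙 K) L = a • 𝟙 (ConeTensor.tot T K L) := by
  ext n : 1
  apply HomologicalComplex.mapBifunctor.hom_ext
  intro p q h
  rw [HomologicalComplex.ι_mapBifunctorMap, HomologicalComplex.smul_f_apply, HomologicalComplex.id_f,
    HomologicalComplex.smul_f_apply, HomologicalComplex.id_f, HomologicalComplex.id_f, CategoryTheory.Functor.map_id,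
    Category.id_comp, Linear.comp_smul, Category.comp_id]
  show ((a • 𝟙 (K.X p)) ▷ L.X q) ≫ _ = _
  rw [MonoidalLinear.smul_whiskerRight, id_whiskerRight, Linear.smul_comp, Category.id_comp]

theorem nonempty_iso : ∀ f g : List A,
    Nonempty ((MonoidalCategoryStruct.tensorObj (C := DRing.Cx A) (Koszul.koszul A f) (Koszul.koszul A g)) ≅
      Koszul.koszul A (f ++ g))
  | [], g => ⟨leftUnitor (Koszul.koszul A g)⟩
  | a :: f, g => by
    obtain ⟨e⟩ := nonempty_iso f g
    let K := Koszul.koszul A f
    let L := Koszul.koszul A g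
    refine ⟨(ConeTensor.totConeIso T (a • 𝟙 K) L : _) ≪≫ KChi.coneIso _ (a • 𝟙 (Koszul.koszul A (f ++ g))) e ?_⟩
    rw [tot₁_smul, Linear.smul_comp, Linear.comp_smul]
    exact congrArg (fun z => a • z) ((Category.id_comp _).trans (Category.comp_id _).symm)

end Groth.Agent.GrLib8.KoszulTensor
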