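import Groth.Agent.FlatLoc6.Miracle
import Groth.Agent.AvramovLib.Ps
import Groth.Agent.CAlgOdd.AuslanderBuchsbaum
import Groth.Agent.GrLib8.NIT.Canonical
import Groth.Agent.RegLoc6.Serre
import Mathlib.RingTheory.RingHom.Flat
import Mathlib.Algebra.CharP.Frobenius

/-!
# Kunz's theorem: regularity is flatness of Frobenius
-/

set_option autoImplicit false
set_option linter.style.haveILetI false

universe u

open IsLocalRing RingTheory.Sequence
open scoped TensorProduct

namespace Groth.Agent.GrLib8.Kunz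

section Regular

/-- A local map from a regular local ring to a Cohen–Macaulay one of equal dimension with primary closed fibre is flat. -/
theorem flat_of_primary {A B : Type u} [CommRing A] [IsRegularLocalRing A] [CommRing B]
    [LocCoh.IsCohenMacaulayLocalRing B] (φ : A →+* B) [IsLocalHom φ]
    (hrad : maximalIdeal B ≤ ((maximalIdeal A).map φ).radical) (hdim : ringKrullDim B = ringKrullDim A) :
    φ.Flat := by
  letI := φ.toAlgebra
  haveI hloc : IsLocalHom (algebraMap A B) := ‹IsLocalHom φ›
  have hCM : LocCoh.IsCohenMacaulayModule B B := LocCoh.IsCohenMacaulayLocalRing.supportDim_eq_depth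
  refine (FlatLoc6.flat_of_isCM (A := A) (B := B) (M := B) hCM ?_ : Module.Flat A B)
  have hI : (maximalIdeal A).map (algebraMap A B) ≤ maximalIdeal B := map_maximalIdeal_le (algebraMap A B)
  haveI : Nontrivial (B ⧸ (maximalIdeal A).map (algebraMap A B)) := Ideal.Quotient.nontrivial_iff.2
    fun h => (maximalIdeal.isMaximal B).ne_top (top_le_iff.1 (h ▸ hI))
  haveI : Subsingleton (PrimeSpectrum.zeroLocus (R := B) (((maximalIdeal A).map (algebraMap A B) : Ideal B) : Set B)) :=
    ⟨fun a b => by
      have key : ∀ q : PrimeSpectrum B, q ∈ PrimeSpectrum.zeroLocus (((maximalIdeal A).map (algebraMap A B) : Ideal B) : Set B) →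
          q.asIdeal = maximalIdeal B := fun q hq => le_antisymm (le_maximalIdeal q.isPrime.ne_top)
        (hrad.trans ((Ideal.radical_mono hq).trans q.isPrime.radical.le))
      exact Subtype.ext (PrimeSpectrum.ext ((key a a.2).trans (key b b.2).symm))⟩
  haveI : Nonempty (PrimeSpectrum.zeroLocus (R := B) (((maximalIdeal A).map (algebraMap A B) : Ideal B) : Set B)) :=
    ⟨⟨closedPoint B, hI⟩⟩
  have h0 : Module.supportDim B (B ⧸ FlatLoc6.mN A B B) = 0 := by
    rw [Module.supportDim_eq_of_equiv (Submodule.quotEquivOfEq (FlatLoc6.mN A B B)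
      ((maximalIdeal A).map (algebraMap A B)) (by rw [FlatLoc6.mN, smul_eq_mul, Ideal.mul_top])),
      Module.supportDim_eq_ringKrullDim_quotient_annihilator, Ideal.annihilator_quotient, ringKrullDim_quotient]
    exact le_antisymm Order.krullDim_nonpos_of_subsingleton Order.krullDim_nonneg
  rw [h0, add_zero, Module.supportDim_self_eq_ringKrullDim, hdim]

theorem flat_frobenius (R : Type u) [CommRing R] [IsRegularLocalRing R] (p : ℕ) [Fact p.Prime] [CharP R p] :
    (frobenius R p).Flat := by
  haveI hloc : IsLocalHom (frobenius R p) := ⟨fun a ha => by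
    rw [frobenius_def, isUnit_pow_iff (Fact.out : p.Prime).ne_zero] at ha
    exact ha⟩
  haveI := AvramovLib.isCM_of_regular R
  refine flat_of_primary (frobenius R p) (fun x hx => ⟨p, ?_⟩) rfl
  rw [← frobenius_def]
  exact Ideal.mem_map_of_mem _ hx

end Regular

section Local

variable {R : Type u} [CommRing R] [IsLocalRing R] [IsNoetherianRing R]

/-- A stage of a minimal free resolution: relations with coefficients in the maximal ideal. -/
abbrev Stage (R : Type u) [CommRing R] [IsLocalRing R] : Type u :=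
  (n : ℕ) × { K : Submodule R (Fin n → R) // K ≤ maximalIdeal R • ⊤ }

theorem exists_next (S : Stage R) : ∃ (T : Stage R) (d : (Fin T.1 → R) →ₗ[R] (Fin S.1 → R)),
    LinearMap.range d = S.2.1 ∧ LinearMap.ker d = T.2.1 := by
  obtain ⟨m, g, hg, hmin⟩ := CAlgOdd.AB.exists_minimal (R := R) S.2.1
  refine ⟨⟨m, LinearMap.ker g, fun c hc => ?_⟩, S.2.1.subtype ∘ₗ g, ?_, ?_⟩
  · rw [pi_eq_sum_univ c]
    exact Submodule.sum_mem _ fun i _ => Submodule.smul_mem_smul (hmin c hc i) trivial
  · rw [LinearMap.range_comp_of_range_eq_top _ (LinearMap.range_eq_top.2 hg), Submodule.range_subtype]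
  · exact LinearMap.ker_comp_of_ker_eq_bot _ (Submodule.ker_subtype _)

theorem exists_minimal_resolution :
    ∃ (r : ℕ → ℕ) (d : ∀ i, (Fin (r (i + 1)) → R) →ₗ[R] (Fin (r i) → R))
      (ε : (Fin (r 0) → R) →ₗ[R] R ⧸ maximalIdeal R), Function.Surjective ε ∧ Function.Exact (d 0) ε ∧
      (∀ i, Function.Exact (d (i + 1)) (d i)) ∧
      ∀ i v, d i v ∈ maximalIdeal R • (⊤ : Submodule R (Fin (r i) → R)) := by
  choose next d hd hd' using exists_next (R := R)
  obtain ⟨m, g, hg, hmin⟩ := CAlgOdd.AB.exists_minimal (R := R) (R ⧸ maximalIdeal R)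
  let S₀ : Stage R := ⟨m, LinearMap.ker g, fun c hc => by
    rw [pi_eq_sum_univ c]
    exact Submodule.sum_mem _ fun i _ => Submodule.smul_mem_smul (hmin c hc i) trivial⟩
  let S : ℕ → Stage R := fun i => next^[i] S₀
  have hS : ∀ i, S (i + 1) = next (S i) := fun i => Function.iterate_succ_apply' next i S₀
  have key : ∀ i, ∃ f : (Fin (S (i + 1)).1 → R) →ₗ[R] (Fin (S i).1 → R),
      LinearMap.range f = (S i).2.1 ∧ LinearMap.ker f = (S (i + 1)).2.1 := fun i => by
    rw [hS]
    exact ⟨d _, hd _, hd' _⟩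
  choose f hf hf' using key
  refine ⟨fun i => (S i).1, f, g, hg, ?_, fun i => ?_, fun i v => ?_⟩
  · exact LinearMap.exact_iff.2 (hf 0).symm
  · exact LinearMap.exact_iff.2 ((hf' i).trans (hf (i + 1)).symm)
  · exact (S i).2.2 (hf i ▸ ⟨v, rfl⟩)

theorem pd_le_of_rank_eq_zero {r : ℕ → ℕ} {d : ∀ i, (Fin (r (i + 1)) → R) →ₗ[R] (Fin (r i) → R)}
    (hex : ∀ i, Function.Exact (d (i + 1)) (d i)) : ∀ (t i : ℕ), r (i + t + 1) = 0 →
    ∀ (M : Type u) [AddCommGroup M] [Module R M] (ε : (Fin (r i) → R) →ₗ[R] M), Function.Surjective ε →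
      Function.Exact (d i) ε → RegLoc6.PdLE R t M := by
  intro t
  induction t with
  | zero =>
    intro i h0 M _ _ ε hε hexε
    haveI : Subsingleton (Fin (r (i + 1)) → R) := by
      rw [show i + 1 = i + 0 + 1 from rfl, h0]; infer_instance
    have hinj : Function.Injective ε := (injective_iff_map_eq_zero _).2 fun v hv => by
      obtain ⟨u, rfl⟩ := (hexε v).1 hv
      rw [Subsingleton.elim u 0, map_zero]
    haveI : Module.Projective R M := Module.Projective.of_equiv (LinearEquiv.ofBijective ε ⟨hinj, hε⟩)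
    exact RegLoc6.pdLE_of_projective 0
  | succ t ih =>
    intro i h0 M _ _ ε hε hexε
    refine (RegLoc6.pdLE_succ_iff ε hε).2 (ih (i + 1) (by rw [← h0]; ring_nf) _
      ((d i).codRestrict (LinearMap.ker ε) fun v => hexε.apply_apply_eq_zero v) (fun w => ?_) fun v => ?_)
    · obtain ⟨u, hu⟩ := (hexε w.1).1 w.2
      exact ⟨u, Subtype.ext hu⟩
    · exact ⟨fun hv => (hex i v).1 (congrArg Subtype.val hv), fun hv => Subtype.ext ((hex i v).2 hv)⟩

/-- Exactness survives division by a regular sequence, in degrees above its length. -/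
theorem exists_boundary_mod {Y : ℕ → Type u} [∀ i, AddCommGroup (Y i)] [∀ i, Module R (Y i)]
    [∀ i, Module.Free R (Y i)] {d : ∀ i, Y (i + 1) →ₗ[R] Y i} (hex : ∀ i, Function.Exact (d (i + 1)) (d i)) :
    ∀ ys : List R, IsWeaklyRegular R ys → ∀ i, ys.length ≤ i → ∀ z : Y (i + 1),
      d i z ∈ Ideal.ofList ys • (⊤ : Submodule R (Y i)) →
      ∃ u, z - d (i + 1) u ∈ Ideal.ofList ys • (⊤ : Submodule R (Y (i + 1))) := by
  intro ys
  induction ys using List.reverseRecOn with
  | nil =>
    intro _ i _ z hz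
    rw [Ideal.ofList_nil, Submodule.bot_smul, Submodule.mem_bot] at hz
    obtain ⟨u, hu⟩ := (hex i z).1 hz
    exact ⟨u, by rw [hu, sub_self]; exact zero_mem _⟩
  | append_singleton l y ih =>
    intro hreg i hi z hz
    rw [LC.isWeaklyRegular_concat_iff] at hreg
    rw [List.length_append, List.length_singleton] at hi
    obtain ⟨j, rfl⟩ : ∃ j, i = j + 1 := ⟨i - 1, by omega⟩
    have hcancel : ∀ b : R, y * b ∈ Ideal.ofList l → b ∈ Ideal.ofList l := fun b hb => by
      have h := hreg.2.right_eq_zero_of_smul (x := Submodule.Quotient.mk b) (by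
        rw [← Submodule.Quotient.mk_smul, Submodule.Quotient.mk_eq_zero, smul_eq_mul, smul_eq_mul, Ideal.mul_top]
        exact hb)
      rwa [Submodule.Quotient.mk_eq_zero, smul_eq_mul, Ideal.mul_top] at h
    rw [Ideal.ofList_append, Ideal.ofList_singleton, Submodule.sup_smul, Submodule.mem_sup] at hz
    obtain ⟨e, he, xw, hxw, hsum⟩ := hz
    rw [Submodule.ideal_span_singleton_smul, Submodule.mem_smul_pointwise_iff_exists] at hxw
    obtain ⟨w, -, rfl⟩ := hxw
    have h1 : d j w ∈ Ideal.ofList l • (⊤ : Submodule R (Y j)) := by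
      have h2 : y • d j w = - d j e := by
        have := congrArg (d j) hsum
        rw [map_add, map_smul, (hex j).apply_apply_eq_zero] at this
        exact eq_neg_of_add_eq_zero_right this
      have h3 := NIT.colon_free (Ideal.ofList l) y 1 (fun b hb => by rw [one_mul]; exact hcancel b hb) _
        (show y • d j w ∈ _ by rw [h2]; exact neg_mem (NIT.map_mem_smul_top _ _ he))
      rwa [one_smul] at h3
    obtain ⟨u, hu⟩ := ih hreg.1 j (by omega) w h1
    obtain ⟨u', hu'⟩ := ih hreg.1 (j + 1) (by omega) (z - y • u) (by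
      rw [show d (j + 1) (z - y • u) = e + y • (w - d (j + 1) u) by
        rw [map_sub, map_smul, ← hsum, smul_sub]; abel]
      exact add_mem he (Submodule.smul_mem _ _ hu))
    refine ⟨u', ?_⟩
    rw [Ideal.ofList_append, Ideal.ofList_singleton, Submodule.sup_smul, Submodule.mem_sup]
    exact ⟨_, hu', y • u, Submodule.smul_mem_smul (Ideal.mem_span_singleton_self y) trivial, by abel⟩

/-- Base change of a minimal exact sequence along a flat map. -/
theorem exists_baseChange {B : Type u} [CommRing B] (φ : R →+* B) (hflat : φ.Flat) {r : ℕ → ℕ}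
    {d : ∀ i, (Fin (r (i + 1)) → R) →ₗ[R] (Fin (r i) → R)} (hex : ∀ i, Function.Exact (d (i + 1)) (d i))
    (hmin : ∀ i v, d i v ∈ maximalIdeal R • (⊤ : Submodule R (Fin (r i) → R))) (n : ℕ) (hn : r n ≠ 0) :
    ∃ (Y : ℕ → Type u) (_ : ∀ i, AddCommGroup (Y i))
      (_ : ∀ i, Module B (Y i)) (_ : ∀ i, Module.Free B (Y i)) (d' : ∀ i, Y (i + 1) →ₗ[B] Y i),
      (∀ i, Function.Exact (d' (i + 1)) (d' i)) ∧
      (∀ i v, d' i v ∈ (maximalIdeal R).map φ • (⊤ : Submodule B (Y i))) ∧
      ∃ (y : Y n) (Ψ : Y n →ₗ[B] B), Ψ y = 1 := by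
  letI : Algebra R B := φ.toAlgebra
  haveI : Module.Flat R B := hflat
  let l : Fin (r n) := ⟨0, Nat.pos_of_ne_zero hn⟩
  refine ⟨fun i => B ⊗[R] (Fin (r i) → R), inferInstance, inferInstance, fun i => inferInstance,
    fun i => (d i).baseChange B, fun i => Module.Flat.lTensor_exact B (hex i), fun i v => ?_,
    (1 : B) ⊗ₜ[R] Pi.single l 1,
    (TensorProduct.AlgebraTensorModule.rid R B B).toLinearMap ∘ₗ (LinearMap.proj (R := R) (φ := fun _ => R) l).baseChange B, ?_⟩
  · induction v using TensorProduct.induction_on with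
    | zero => rw [map_zero]; exact zero_mem _
    | tmul b t => rw [LinearMap.baseChange_tmul]; exact NIT.tmul_mem_smul_top _ _ (hmin i t)
    | add a b ha hb => rw [map_add]; exact add_mem ha hb
  · show TensorProduct.AlgebraTensorModule.rid R B B
      ((LinearMap.proj (R := R) (φ := fun _ => R) l).baseChange B ((1 : B) ⊗ₜ[R] Pi.single l 1)) = 1
    rw [LinearMap.baseChange_tmul, LinearMap.proj_apply, Pi.single_eq_same,
      TensorProduct.AlgebraTensorModule.rid_tmul, one_smul]

/-- Kunz: flatness of Frobenius forces regularity. -/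
theorem isRegularLocalRing_of_flat (p : ℕ) [Fact p.Prime] [CharP R p] (h : (frobenius R p).Flat) :
    IsRegularLocalRing R := by
  classical
  obtain ⟨r, d, ε, hε, hexε, hex, hmin⟩ := exists_minimal_resolution (R := R)
  obtain ⟨ys, -, hys, hmem, hmax⟩ := LC.exists_maximal_extension (I := maximalIdeal R) (M := R)
    (by rw [smul_eq_mul, Ideal.mul_top]; exact (maximalIdeal.isMaximal R).ne_top) (IsWeaklyRegular.nil R R) (by simp)
  refine RegLoc6.isRegularLocalRing_of_pdLE (n := ys.length)
    (pd_le_of_rank_eq_zero hex ys.length 0 ?_ _ ε hε hexε)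
  rw [zero_add]
  by_contra hr
  let Q := R ⧸ (Ideal.ofList ys • ⊤ : Submodule R R)
  have hass : maximalIdeal R ∈ associatedPrimes R Q := by
    by_contra hn
    obtain ⟨x, hx, hxreg⟩ := (Alg6.exists_isSMulRegular_mem_iff (M := Q) (maximalIdeal R)).2 fun q hq hle => hn (by
      rwa [(maximalIdeal.isMaximal R).eq_of_le (IsAssociatedPrime.isPrime hq).ne_top hle])
    exact hmax x hx ((LC.isWeaklyRegular_concat_iff ys x).2 ⟨hys, hxreg⟩)
  obtain ⟨hp', q, hq⟩ := Alg6.mem_ass_iff.1 hass
  obtain ⟨z, rfl⟩ := Submodule.Quotient.mk_surjective _ q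
  have hz : z ∉ Ideal.ofList ys := fun hz => hp'.ne_top ((Ideal.eq_top_iff_one _).2 ((hq 1).2 (by
    rw [one_smul, Submodule.Quotient.mk_eq_zero, smul_eq_mul, Ideal.mul_top]; exact hz)))
  have hzm : ∀ a ∈ maximalIdeal R, a * z ∈ Ideal.ofList ys := fun a ha => by
    have h1 := (hq a).1 ha
    rwa [← Submodule.Quotient.mk_smul, Submodule.Quotient.mk_eq_zero, smul_eq_mul, smul_eq_mul, Ideal.mul_top] at h1
  have hle : Ideal.ofList ys ≤ maximalIdeal R := Ideal.span_le.2 hmem
  obtain ⟨e, he⟩ : ∃ e, z ∉ Ideal.ofList ys ⊔ maximalIdeal R ^ (e + 1) := by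
    by_contra! hall
    apply hz
    let I := Ideal.ofList ys
    haveI : Nontrivial (R ⧸ I) := Ideal.Quotient.nontrivial_iff.2 fun ht =>
      (maximalIdeal.isMaximal R).ne_top (top_le_iff.1 (ht ▸ hle))
    haveI : IsLocalRing (R ⧸ I) := .of_surjective' _ Ideal.Quotient.mk_surjective
    rw [← Ideal.Quotient.eq_zero_iff_mem, ← Ideal.mem_bot,
      ← Ideal.iInf_pow_eq_bot_of_isLocalRing _ (maximalIdeal.isMaximal (R ⧸ I)).ne_top, Submodule.mem_iInf]
    intro n
    rw [← map_maximalIdeal_of_surjective _ (Ideal.Quotient.mk_surjective (I := I)), ← Ideal.map_pow]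
    refine Ideal.pow_le_pow_right (Nat.le_succ n) |> Ideal.map_mono <| ?_
    have h1 := Ideal.mem_map_of_mem (Ideal.Quotient.mk I) (hall n)
    rwa [Ideal.map_sup, Ideal.map_quotient_self, bot_sup_eq] at h1
  have hflat : (iterateFrobenius R p (e + 1)).Flat := by
    generalize e + 1 = n
    induction n with
    | zero => rw [iterateFrobenius_zero]; exact RingHom.Flat.id R
    | succ n ih => rw [iterateFrobenius_add, iterateFrobenius_one]; exact RingHom.Flat.comp h ih
  let φ := iterateFrobenius R p (e + 1)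
  -- the base change along Frobenius
  obtain ⟨Y, _, _, _, d', hex', hmin', y, Ψ, hΨ⟩ := exists_baseChange φ hflat hex hmin (ys.length + 1) hr
  have hφm : (maximalIdeal R).map φ ≤ maximalIdeal R ^ (e + 1) := by
    rw [Ideal.map_le_iff_le_comap]
    intro a ha
    rw [Ideal.mem_comap, iterateFrobenius_def]
    exact Ideal.pow_le_pow_right (Nat.lt_pow_self (Fact.out : p.Prime).one_lt).le (Ideal.pow_mem_pow ha _)
  obtain ⟨u, hu⟩ := exists_boundary_mod hex' ys hys ys.length le_rfl (z • y) (by
    rw [map_smul]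
    have h1 := hmin' ys.length y
    refine Submodule.smul_induction_on h1 (fun a ha w _ => ?_) (fun a b ha hb => by rw [smul_add]; exact add_mem ha hb)
    rw [smul_smul]
    refine Submodule.smul_mem_smul ?_ trivial
    rw [mul_comm]
    exact hzm a ((hφm.trans (Ideal.pow_le_self (Nat.succ_ne_zero e))) ha))
  have h2 := NIT.map_mem_smul_top Ψ _ hu
  have h3 := NIT.map_mem_smul_top Ψ _ (Submodule.smul_mono_left hφm (hmin' (ys.length + 1) u))
  rw [smul_eq_mul, Ideal.mul_top] at h2 h3
  rw [map_sub, map_smul, hΨ, smul_eq_mul, mul_one] at h2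
  exact he (Submodule.mem_sup.2 ⟨_, h2, _, h3, sub_add_cancel z _⟩)

end Local

theorem isRegularRing_iff (p : ℕ) [Fact p.Prime] (R : Type u) [CommRing R] [IsNoetherianRing R] [CharP R p] :
    IsRegularRing R ↔ (frobenius R p).Flat := by
  have hchar : ∀ (P : Ideal R) [P.IsPrime], CharP (Localization.AtPrime P) p := fun P _ =>
    (CharP.charP_iff_prime_eq_zero Fact.out).2 (by
      rw [← map_natCast (algebraMap R (Localization.AtPrime P)), CharP.cast_eq_zero, map_zero])
  have hcomap : ∀ (P : Ideal R) [P.IsPrime], P = Ideal.comap (frobenius R p) P := fun P hP => by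
    ext x
    rw [Ideal.mem_comap, frobenius_def, hP.pow_mem_iff_mem p (Fact.out : p.Prime).pos]
  have hloc : ∀ (P Q : Ideal R) [P.IsPrime] [Q.IsPrime] (hQ : Q = Ideal.comap (frobenius R p) P),
      haveI := hchar P
      ∃ e : Q = P, Localization.localRingHom Q P (frobenius R p) hQ =
        e ▸ frobenius (Localization.AtPrime P) p := fun P Q _ _ hQ => by
    haveI := hchar P
    obtain rfl : Q = P := hQ.trans (hcomap P).symm
    refine ⟨rfl, ?_⟩
    refine IsLocalization.ringHom_ext Q.primeCompl (RingHom.ext fun x => ?_)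
    show Localization.localRingHom Q Q (frobenius R p) hQ (algebraMap R _ x) = frobenius _ p (algebraMap R _ x)
    rw [Localization.localRingHom_to_map, frobenius_def, frobenius_def, map_pow]
  constructor
  · intro hreg
    refine RingHom.Flat.ofLocalizationPrime (frobenius R p) fun P _ => ?_
    haveI := hchar P
    have h := flat_frobenius (Localization.AtPrime P) p
    have key : ∀ (Q : Ideal R) [Q.IsPrime] (hQ : Q = Ideal.comap (frobenius R p) P),
        (Localization.localRingHom Q P (frobenius R p) hQ).Flat := fun Q _ hQ => by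
      obtain ⟨e, he⟩ := hloc P Q hQ
      subst e
      rw [he]
      exact h
    exact key _ rfl
  · intro h
    refine ⟨fun P _ => ?_⟩
    haveI := hchar P
    refine isRegularLocalRing_of_flat p ?_
    obtain ⟨e, he⟩ := hloc P P (hcomap P)
    rw [← show Localization.localRingHom P P (frobenius R p) (hcomap P) = frobenius _ p from he]
    exact h.localRingHom P P (hcomap P)

end Groth.Agent.GrLib8.Kunz
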