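import Groth.Agent.LC.GorRing
import Groth.Agent.LC.GorRows
import Groth.Agent.LC.MatlisExtra
import Groth.Agent.LC.TopDim

/-!
# Local rings whose top local cohomology has simple socle
-/

set_option autoImplicit false
set_option linter.unusedSectionVars false
set_option linter.style.haveILetI false

universe u

open CategoryTheory IsLocalRing

namespace Groth.Agent.GrLib8

/-- The socle is simple: each of its nonzero elements generates it. -/
def SimpleSoc {R : Type u} [CommRing R] (J : Ideal R) (H : Type u) [AddCommGroup H] [Module R H] : Prop :=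
  ∀ y ∈ LocCoh.torsionBy J H, y ≠ 0 → LocCoh.torsionBy J H ≤ R ∙ y

theorem mem_soc_iff {R : Type u} [CommRing R] {J : Ideal R} {H : Type u} [AddCommGroup H] [Module R H] {y : H} :
    y ∈ LocCoh.torsionBy J H ↔ ∀ a ∈ J, a • y = 0 :=
  (Submodule.mem_torsionBySet_iff _ _).trans ⟨fun h a ha => h ⟨a, ha⟩, fun h a => h a a.2⟩

/-- Depth `= dim` and simple socle of the top cohomology give Gorenstein. -/
theorem gorensteinLocal_of_simpleSoc : ∀ (d : ℕ) (A : Type u) [CommRing A] [IsLocalRing A] [IsNoetherianRing A],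
    ringKrullDim A = d → (∀ i < d, Subsingleton (LocCoh.H (maximalIdeal A) i A)) →
    SimpleSoc (maximalIdeal A) (LocCoh.H (maximalIdeal A) d A) → LocCoh.IsGorensteinLocalRing A
  | 0 => fun A _ _ _ hd _ hs => by
    classical
    haveI : IsArtinianRing A := by
      rw [isArtinianRing_iff_krullDimLE_zero]
      exact Ring.krullDimLE_iff.2 (by exact_mod_cast hd.le)
    have hnil : IsNilpotent (maximalIdeal A) := by
      rw [← jacobson_eq_maximalIdeal ⊥ bot_ne_top]
      exact IsArtinianRing.isNilpotent_jacobson_bot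
    obtain ⟨N, hN⟩ := hnil
    have htors : LocCoh.IsPowerTorsion (maximalIdeal A) A := fun z => ⟨N, fun r hr => by
      rw [hN] at hr
      rw [(Submodule.mem_bot A).1 hr, zero_smul]⟩
    let e : LocCoh.H (maximalIdeal A) 0 A ≃ₗ[A] A := (LC.H0Equiv (maximalIdeal A) (ModuleCat.of A A)).trans
      ((LinearEquiv.ofEq _ _ (LC.torsionSub_eq_top _ htors)).trans Submodule.topEquiv)
    obtain ⟨r, hr0, hr⟩ := LC.exists_socle_multiple (maximalIdeal A) htors (one_ne_zero (α := A))
    refine LC.gorenstein_of_socle ⟨N, hN⟩ hr0 (fun a ha => mem_soc_iff.1 hr a ha) fun t ht => ?_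
    have hmem : ∀ z : A, (∀ a ∈ maximalIdeal A, a * z = 0) → e.symm z ∈ LocCoh.torsionBy (maximalIdeal A) _ :=
      fun z hz => mem_soc_iff.2 fun a ha => by rw [← map_smul, smul_eq_mul, hz a ha, map_zero]
    obtain ⟨c, hc⟩ := Submodule.mem_span_singleton.1 (hs _ (hmem _ fun a ha => mem_soc_iff.1 hr a ha)
      (fun h => hr0 (e.symm.map_eq_zero_iff.1 h)) (hmem t ht))
    exact ⟨c, e.symm.injective (by rw [← hc, ← map_smul, smul_eq_mul])⟩
  | d + 1 => fun A _ _ _ hd hlow hs => by
    classical
    have hdep : ((d + 1 : ℕ) : ℕ∞) ≤ LocCoh.idealDepth (maximalIdeal A) A :=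
      (LC.le_idealDepth_iff_H (maximalIdeal A) A (d + 1)).2 hlow
    obtain ⟨rs, hrs, hrsm, hlen⟩ := LC.exists_idealDepth_eq_length (M := A) (maximalIdeal A)
      (LC.smul_top_ne_top_of_le_maximal (R := A) (M := A) le_rfl)
    rw [hlen] at hdep
    obtain ⟨x, rs, rfl⟩ : ∃ x rs', rs = x :: rs' := by
      cases rs with
      | nil => exact absurd (show d + 1 ≤ 0 by exact_mod_cast hdep) (by omega)
      | cons x rs => exact ⟨x, rs, rfl⟩
    rw [RingTheory.Sequence.isWeaklyRegular_cons_iff] at hrs
    have hxm : x ∈ maximalIdeal A := hrsm x List.mem_cons_self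
    have hx := hrs.1
    let B := A ⧸ Ideal.span {x}
    haveI : Nontrivial B := Ideal.Quotient.nontrivial_iff.2 fun h =>
      (maximalIdeal.isMaximal A).ne_top (top_le_iff.1 (h ▸ Ideal.span_le.2 (Set.singleton_subset_iff.2 hxm)))
    haveI : IsLocalRing B := IsLocalRing.of_surjective' _ Ideal.Quotient.mk_surjective
    refine (LC.gorenstein_iff_of_surjective (Ideal.Quotient.mk (Ideal.span {x})) Ideal.Quotient.mk_surjective hxm hx
      (Ideal.mk_ker)).2 ?_
    have hdB : ringKrullDim B = d := by
      have h := ringKrullDim_quotient_span_singleton_succ_eq_ringKrullDim_of_mem_jacobson hx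
        ((IsLocalRing.ringJacobson_eq_maximalIdeal (R := A)).ge hxm)
      rw [hd] at h
      change ringKrullDim B + 1 = _ at h
      generalize ringKrullDim B = v at h ⊢
      cases v with
      | bot => exact absurd h (by rw [WithBot.bot_add]; exact WithBot.bot_ne_coe)
      | coe v =>
        cases v with
        | top => exact absurd h (by exact_mod_cast (show (⊤ : ℕ∞) + 1 ≠ ((d + 1 : ℕ) : ℕ∞) from top_add (1 : ℕ∞) ▸ (ENat.natCast_ne_top (d + 1)).symm))
        | coe v =>
          have : v + 1 = d + 1 := by exact_mod_cast h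
          exact_mod_cast (Nat.succ_injective this)
    let q : QuotSMulTop x A ≃ₗ[A] B := Submodule.quotEquivOfEq _ _ (by
      rw [← Submodule.ideal_span_singleton_smul, smul_eq_mul, Ideal.mul_top])
    have hmax : (maximalIdeal A).map (algebraMap A B) = maximalIdeal B :=
      IsLocalRing.map_maximalIdeal_of_surjective _ Ideal.Quotient.mk_surjective
    have key : ∀ i, ∃ χ : LocCoh.H (maximalIdeal B) i B ≃+ LocCoh.H (maximalIdeal A) i (QuotSMulTop x A),
        ∀ (a : A) z, χ (algebraMap A B a • z) = a • χ z := fun i => by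
      obtain ⟨φ, hφ⟩ : ∃ φ : (localCohomology (maximalIdeal B) i).obj (ModuleCat.of B B) ≃+
          (localCohomology (maximalIdeal A) i).obj (ModuleCat.of A B),
          ∀ (a : A) z, φ (algebraMap A B a • z) = a • φ z :=
        hmax ▸ LC.exists_indep (R := A) (R' := B) (maximalIdeal A) i B
      let ψ := ((localCohomology (maximalIdeal A) i).mapIso q.symm.toModuleIso).toLinearEquiv
      exact ⟨φ.trans ψ.toAddEquiv, fun a z => (congrArg ψ (hφ a z)).trans (map_smul ψ a _)⟩
    refine gorensteinLocal_of_simpleSoc d B hdB (fun i hi => ?_) fun y hy hy0 y' hy' => ?_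
    · obtain ⟨χ, -⟩ := key i
      obtain ⟨δ, hδ, π, hπδ, -⟩ := LC.exact_smul (maximalIdeal A) hx i
      haveI := hlow (i + 1) (by omega)
      haveI := hlow i (by omega)
      haveI : Subsingleton (LocCoh.H (maximalIdeal A) i (QuotSMulTop x A)) := subsingleton_of_forall_eq 0 fun z => by
        obtain ⟨w, rfl⟩ := (hπδ z).1 (Subsingleton.elim _ _)
        rw [Subsingleton.elim w 0, map_zero]
      exact χ.toEquiv.subsingleton
    · obtain ⟨χ, hχ⟩ := key d
      obtain ⟨δ, hδ, π, hπδ, -⟩ := LC.exact_smul (maximalIdeal A) hx d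
      haveI := hlow d (by omega)
      have hinj : Function.Injective δ := (injective_iff_map_eq_zero δ).2 fun z hz => by
        obtain ⟨w, rfl⟩ := (hπδ z).1 hz
        rw [Subsingleton.elim w 0, map_zero]
      have hsocle : ∀ z ∈ LocCoh.torsionBy (maximalIdeal B) (LocCoh.H (maximalIdeal B) d B),
          δ (χ z) ∈ LocCoh.torsionBy (maximalIdeal A) (LocCoh.H (maximalIdeal A) (d + 1) A) := fun z hz =>
        mem_soc_iff.2 fun a ha => by
          rw [← map_smul, ← hχ, mem_soc_iff.1 hz _ (hmax ▸ Ideal.mem_map_of_mem _ ha), map_zero, map_zero]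
      obtain ⟨c, hc⟩ := Submodule.mem_span_singleton.1 (hs _ (hsocle y hy)
        (fun h => hy0 (χ.map_eq_zero_iff.1 ((injective_iff_map_eq_zero δ).1 hinj _ h))) (hsocle y' hy'))
      rw [← map_smul, ← hχ] at hc
      exact Submodule.mem_span_singleton.2 ⟨algebraMap A B c, χ.injective (hinj hc)⟩

end Groth.Agent.GrLib8
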