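import Groth.Agent.GrLib8.LocalCoh

/-!
# *Injective hulls of residue fields at maximal homogeneous ideals
-/

set_option autoImplicit false

universe u

open DirectSum InjHull

namespace Groth.Agent.GrLib8

variable {ι : Type} [AddCommGroup ι] [DecidableEq ι]
variable {R : Type u} [CommRing R] [IsNoetherianRing R] {σ : Type u} [SetLike σ R] [AddSubgroupClass σ R] {𝒜 : ι → σ}
  [GradedRing 𝒜]

theorem isHomogeneous_of_sum {M : Type u} [AddCommGroup M] [Module R M] (ℳ : ι → AddSubgroup M) [Decomposition ℳ]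
    (P : Submodule R M)
    (h : ∀ z ∈ P, ∃ (s : Finset ι) (f : ι → M), (∀ i, f i ∈ ℳ i ∧ f i ∈ P) ∧ z = ∑ i ∈ s, f i) :
    P.IsHomogeneous ℳ := by
  intro g x hx
  obtain ⟨s, f, hf, rfl⟩ := h x hx
  rw [decompose_sum, DFinsupp.finsetSum_apply, AddSubmonoidClass.coe_finsetSum]
  refine P.sum_mem fun i _ => ?_
  rcases eq_or_ne i g with rfl | hne
  · rw [decompose_of_mem_same _ (hf i).1]
    exact (hf i).2
  · rw [decompose_of_mem_ne _ (hf i).1 hne]
    exact zero_mem _

theorem isInjectiveHull_of_isStarInjHull_maximal (m : HomogeneousIdeal 𝒜) [m.toIdeal.IsMaximal] {E' : Type u}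
    [AddCommGroup E'] [Module R E'] (𝓔 : ι → AddSubgroup E') [Decomposition 𝓔] [SetLike.GradedSMul 𝒜 𝓔]
    (e : (R ⧸ m.toIdeal) →ₗ[R] E') (he : GrLC.IsStarInjHull 𝒜 (GrLC.quotGr 𝒜 m) 𝓔 e) :
    InjHull.IsInjectiveHull e := by
  classical
  have hess := isEssentialInj_of_isStarEss_quot 𝒜 𝓔 he.toIsStarEss
  obtain ⟨E, _, _, g, hg⟩ := LC.exists_injectiveHull R (R ⧸ m.toIdeal)
  have := hg.isInjective
  obtain ⟨j, hj⟩ := LC.exists_extension e hess.injective g
  have hje : ∀ z, j (e z) = g z := fun z => LinearMap.congr_fun hj z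
  have hjinj : Function.Injective j :=
    LC.isEssentialInj_injective_of_comp hess j (by rw [hj]; exact hg.injective)
  have hsoc : ∀ z : E, (∀ a ∈ m.toIdeal, a • z = 0) → z ∈ LinearMap.range g := by
    intro z hz
    rcases eq_or_ne z 0 with rfl | hz0
    · exact zero_mem _
    obtain ⟨r, c, hc0, hc⟩ := LC.isEssentialInj_exists hg.toIsEssentialInj hz0
    have hr : r ∉ m.toIdeal := fun hr => hc0 (hg.injective (by rw [hc, hz r hr, map_zero]))
    obtain ⟨s, i, hi, hsi⟩ := (‹m.toIdeal.IsMaximal›.exists_inv hr)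
    refine ⟨s • c, ?_⟩
    have h1 : z = (s * r) • z + i • z := by rw [← add_smul, hsi, one_smul]
    rw [map_smul, hc, smul_smul]
    conv_rhs => rw [h1, hz i hi, add_zero]
  have hk : ∀ (n : ℕ) (z : E), (∀ a ∈ m.toIdeal ^ n, a • z = 0) → z ∈ LinearMap.range j := by
    intro n
    induction n with
    | zero =>
      intro z hz
      rw [show z = 0 from (one_smul R z).symm.trans (hz 1 (by rw [pow_zero, Ideal.one_eq_top]; trivial))]
      exact zero_mem _
    | succ n ih =>
      intro z hz
      let K : Submodule R R := m.toIdeal ^ n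
      have hmem : ∀ r : K, (r : R) • z ∈ LinearMap.range g := fun r => hsoc _ fun a ha => by
        rw [smul_smul]
        exact hz _ (by rw [pow_succ']; exact Ideal.mul_mem_mul ha r.2)
      let φ : K →ₗ[R] E' := e ∘ₗ (LinearEquiv.ofInjective g hg.injective).symm.toLinearMap ∘ₗ
        ((LinearMap.toSpanSingleton R E z).comp K.subtype).codRestrict (LinearMap.range g) hmem
      haveI : Module.Finite R K := Module.Finite.iff_fg.2 (IsNoetherian.noetherian K)
      let B := gmodPieces 𝒜 𝒜
      let K' : Submodule R B.carrier := K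
      haveI : Module.Finite R K' := Module.Finite.iff_fg.2 (IsNoetherian.noetherian K : K.FG)
      obtain ⟨ψ, hψ⟩ := exists_extend 𝓔 he.starInj B K' (fun g x hx => by
        exact (isHomogeneous_of_sum B.gr K' (fun z hz => ⟨(decompose (M := R) 𝒜 z).support, fun i => (decompose (M := R) 𝒜 z i : R),
          fun i => ⟨SetLike.coe_mem (decompose (M := R) 𝒜 z i), isHomogeneous_pow m n i hz⟩,
          (sum_support_decompose (M := R) 𝒜 z).symm⟩)) g hx) φ
      let y : E' := ψ (1 : R)
      have hy : ∀ r : K, (r : R) • j y = (r : R) • z := fun r => by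
        have h1 : ψ (r : R) = φ r := LinearMap.congr_fun hψ r
        have h2 : (r : R) • y = φ r := by
          rw [← h1]
          show (r : R) • ψ (1 : R) = _
          rw [← map_smul]
          exact congrArg ψ (mul_one (r : R))
        rw [← map_smul, h2]
        refine (hje _).trans ?_
        exact congrArg Subtype.val ((LinearEquiv.ofInjective g hg.injective).apply_symm_apply ⟨(r : R) • z, hmem r⟩)
      obtain ⟨w, hw⟩ := ih (z - j y) fun a ha => by rw [smul_sub, hy ⟨a, ha⟩, sub_self]
      exact ⟨w + y, by rw [map_add, hw, sub_add_cancel]⟩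
  have htor : LocCoh.IsPowerTorsion m.toIdeal E := LC.isPowerTorsion_of_isEssentialInj _ (fun x => by
    refine ⟨1, fun a ha => ?_⟩
    rw [pow_one] at ha
    obtain ⟨r, rfl⟩ := Ideal.Quotient.mk_surjective x
    exact Ideal.Quotient.eq_zero_iff_mem.2 (m.toIdeal.mul_mem_right r ha)) hg.toIsEssentialInj
  have hsur : Function.Surjective j := fun z => by
    obtain ⟨n, hn⟩ := htor z
    exact hk n z hn
  let φE := LinearEquiv.ofBijective j ⟨hjinj, hsur⟩
  exact ⟨hess, LC.injective_of_linearEquiv φE.symm⟩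

end Groth.Agent.GrLib8
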