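import Groth.Agent.LocCohDepth.PuncturedKill
import Groth.Agent.LocCohDepth.Degree
import Groth.Agent.CurveCohLib.Euler
import Groth.Agent.LC.CohTorsion
import Groth.Agent.S0817
import Groth.Agent.KFlatLib.Scheme.TildePC
import Groth.Agent.QCoh.ExtendFT
import Groth.Agent.QCoh.SpecFT
import Groth.Agent.SiteBase.OpenRestr

/-!
# Cohomology on the complement of `V(I)` and local cohomology, linearly
-/

set_option autoImplicit false
set_option backward.isDefEq.respectTransparency false
set_option backward.isDefEq.respectTransparency.types false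

universe u

open CategoryTheory CategoryTheory.Limits AlgebraicGeometry Opposite TopologicalSpace
open Groth.Agent.LocCohDepth.Punct
open Groth.Agent.PnCoh.Finite (mapLin deltaLin)

namespace Groth.Agent.GrLib8.PuncturedLC

variable {A : Type u} [CommRing A]

set_option maxHeartbeats 800000

section General

variable {R : CommRingCat.{u}} (U : (Spec R).Opens)

theorem shortExact_G {S : ShortComplex (ModuleCat.{u} R)} (hS : S.ShortExact) : (S.map (G U)).ShortExact :=
  (hS.map_of_exact (tilde.functor R)).map_of_exact (Scheme.Modules.restrictFunctor U.ι)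

theorem mapG_exact₀ {S : ShortComplex (ModuleCat.{u} R)} (hS : S.ShortExact) :
    Function.Injective (mapLin R ((G U).map S.f) 0) ∧
      LinearMap.ker (mapLin R ((G U).map S.g) 0) = LinearMap.range (mapLin R ((G U).map S.f) 0) := by
  refine ⟨?_, ?_⟩
  · intro x y hxy
    exact CurveCohLib.mapLin_f_zero_injective (S := S.map (G U)) R (shortExact_G U hS) hxy
  · exact CurveCohLib.ker_mapLin_g (S := S.map (G U)) R (shortExact_G U hS) 0

theorem exists_deltaG {S : ShortComplex (ModuleCat.{u} R)} (hS : S.ShortExact) (n : ℕ) :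
    ∃ δ : Coh.HH (U : Scheme.{u}) ((G U).obj S.X₃) n →ₗ[R] Coh.HH (U : Scheme.{u}) ((G U).obj S.X₁) (n + 1),
      LinearMap.ker δ = LinearMap.range (mapLin R ((G U).map S.g) n) ∧
        (Subsingleton (Coh.HH (U : Scheme.{u}) ((G U).obj S.X₂) (n + 1)) → Function.Surjective δ) := by
  refine ⟨deltaLin R (shortExact_G U hS) n, CurveCohLib.ker_deltaLin R (shortExact_G U hS) n, fun h x => ?_⟩
  haveI : Subsingleton (Coh.HH (U : Scheme.{u}) (S.map (G U)).X₂ (n + 1)) := h
  have hx : x ∈ LinearMap.ker (mapLin R (S.map (G U)).f (n + 1)) := LinearMap.mem_ker.2 (Subsingleton.elim _ _)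
  rw [CurveCohLib.ker_mapLin_f_succ R (shortExact_G U hS) n] at hx
  exact hx

/-- Isomorphic modules have isomorphic cohomology. -/
noncomputable def mapEquiv {U : (Spec R).Opens} {M N : (U : Scheme.{u}).Modules} (e : M ≅ N) (i : ℕ) :
    Coh.HH (U : Scheme.{u}) M i ≃ₗ[R] Coh.HH (U : Scheme.{u}) N i :=
  LinearEquiv.ofLinear (mapLin R e.hom i) (mapLin R e.inv i)
    (LinearMap.ext fun x => by rw [LinearMap.comp_apply, ← mapLin_comp, e.inv_hom_id, mapLin_id, LinearMap.id_apply])
    (LinearMap.ext fun x => by rw [LinearMap.comp_apply, ← mapLin_comp, e.hom_inv_id, mapLin_id, LinearMap.id_apply])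

end General

end Groth.Agent.GrLib8.PuncturedLC
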