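import Groth.Agent.GrLib8.PuncturedLCBase
import Groth.Agent.GrLib8.PuncturedLCExact

/-!
# Cohomology on the complement of `V(I)` and local cohomology, linearly
-/

set_option autoImplicit false
set_option backward.isDefEq.respectTransparency false
set_option backward.isDefEq.respectTransparency.types false

universe u

open CategoryTheory CategoryTheory.Limits AlgebraicGeometry Opposite TopologicalSpace
open Groth.Agent.LocCohDepth.Punct
open Groth.Agent.PnCoh.Finite (mapLin deltaLin)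

namespace Groth.Agent.GrLib8.PuncturedLC

variable {A : Type u} [CommRing A]

set_option maxHeartbeats 800000

variable [IsNoetherianRing A] (I : Ideal A)

instance : IsNoetherianRing (CommRingCat.of A) := inferInstanceAs (IsNoetherianRing A)

local notation "UI" => (LocCoh.puncturedOpen A I)

theorem cmap_surjective (E : ModuleCat.{u} (CommRingCat.of A)) [Module.Injective A E] :
    Function.Surjective (cmap (LocCoh.puncturedOpen A I) E) := fun x => by
  obtain ⟨m, hm⟩ := LocCohDepth.toSec_surjective E ((LocCoh.puncturedOpen A I).ι ''ᵁ ⊤) (sec₀ _ E x)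
  exact ⟨m, (sec₀ _ E).injective ((sec₀_cmap _ E m).trans hm)⟩

theorem mem_ker_cmap (N : ModuleCat.{u} (CommRingCat.of A)) (m : N) :
    m ∈ LinearMap.ker (cmap (LocCoh.puncturedOpen A I) N) ↔ m ∈ DRing.torsionSub I N := by
  rw [LinearMap.mem_ker, ← (sec₀ _ N).map_eq_zero_iff, sec₀_cmap]
  have h := LocCohSec.mem_ker_toSec N I m
  rw [LinearMap.mem_ker] at h
  refine Iff.trans ?_ h
  rw [Scheme.Opens.ι_image_top]

theorem subsingleton_HH_injective (E : ModuleCat.{u} (CommRingCat.of A)) [Module.Injective A E] (i : ℕ) :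
    Subsingleton (Coh.HH (UI : Scheme.{u}) ((G UI).obj E) (i + 1)) := by
  haveI hf := LocCohDepth.isFlasque_tilde (A := A) E
  haveI : TopCat.Sheaf.IsFlasque (X := (UI : Scheme.{u}).toPresheafedSpace.carrier) (Coh.toAb ((G UI).obj E)) :=
    ⟨fun {V W} j => hf.epi ((UI).ι.opensFunctor.map j.unop).op⟩
  exact SiteBase.subsingleton_H_of_isFlasque _ i

/-- The first local cohomology as the cokernel of the map to the sections. -/
theorem nonempty_H1 (Q : ModuleCat.{u} (CommRingCat.of A)) :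
    Nonempty ((Coh.HH (UI : Scheme.{u}) ((G UI).obj Q) 0 ⧸ LinearMap.range (cmap UI Q)) ≃ₗ[A]
      (localCohomology I 1).obj Q) := by
  let S : ShortComplex (ModuleCat.{u} (CommRingCat.of A)) :=
    ShortComplex.mk (Injective.ι Q) (cokernel.π (Injective.ι Q)) (cokernel.condition _)
  have hS : S.ShortExact :=
    { exact := ShortComplex.exact_of_g_is_cokernel _ (cokernelIsCokernel _) }
  haveI : Injective S.X₂ := inferInstanceAs (Injective (Injective.under Q))
  haveI : Module.Injective A S.X₂ := Module.injective_module_of_injective_object A S.X₂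
  let f₀ : Coh.HH (UI : Scheme.{u}) ((G UI).obj S.X₁) 0 →ₗ[A] Coh.HH (UI : Scheme.{u}) ((G UI).obj S.X₂) 0 :=
    mapLin A ((G UI).map S.f) 0
  obtain ⟨hf₀, hker⟩ : Function.Injective f₀ ∧
      LinearMap.ker (mapLin A ((G UI).map S.g) 0) = LinearMap.range f₀ := mapG_exact₀ UI hS
  let P : Submodule A S.X₂ := (DRing.torsionSub I S.X₃).comap S.g.hom
  have hP : ∀ p : P, cmap UI S.X₂ p ∈ LinearMap.range f₀ := fun p => by
    rw [← hker, LinearMap.mem_ker]
    exact (cmap_natural UI S.g p.1).trans (LinearMap.mem_ker.1 ((mem_ker_cmap I S.X₃ _).2 p.2))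
  let α : P →ₗ[A] Coh.HH (UI : Scheme.{u}) ((G UI).obj S.X₁) 0 :=
    (LinearEquiv.ofInjective f₀ hf₀).symm.toLinearMap.comp
      (((cmap UI S.X₂).comp P.subtype).codRestrict _ hP)
  have hα : ∀ p : P, f₀ (α p) = cmap UI S.X₂ p.1 := fun p =>
    congrArg Subtype.val ((LinearEquiv.ofInjective f₀ hf₀).apply_symm_apply
      (((cmap UI S.X₂).comp P.subtype).codRestrict _ hP p))
  let φ := (LinearMap.range (cmap UI S.X₁)).mkQ.comp α
  have hφ : Function.Surjective φ := by
    refine (Submodule.mkQ_surjective _).comp fun x => ?_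
    obtain ⟨e, he⟩ := cmap_surjective I S.X₂ (f₀ x)
    have heP : e ∈ P := by
      refine (mem_ker_cmap I S.X₃ _).1 (LinearMap.mem_ker.2 ?_)
      refine (cmap_natural UI S.g e).symm.trans ?_
      rw [he]
      exact LinearMap.mem_ker.1 (hker ▸ LinearMap.mem_range_self f₀ x)
    exact ⟨⟨e, heP⟩, hf₀ ((hα ⟨e, heP⟩).trans he)⟩
  let τ : P →ₗ[A] DRing.torsionSub I S.X₃ := S.g.hom.restrict fun _ hx => hx
  let ψ : P →ₗ[A] (localCohomology I 1).obj S.X₁ :=
    (LC.δH I 0 hS 1 rfl).comp ((LC.H0Equiv I S.X₃).symm.toLinearMap.comp τ)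
  have hψ : Function.Surjective ψ := by
    intro z
    haveI := LC.subsingleton_of_injective I S.X₂ 0
    obtain ⟨w, hw⟩ := (LC.exact₁ I 0 hS 1 rfl z).1 (Subsingleton.elim _ _)
    haveI : Epi S.g := hS.epi_g
    obtain ⟨e, he⟩ := (ModuleCat.epi_iff_surjective S.g).1 inferInstance (LC.H0Equiv I S.X₃ w).1
    refine ⟨⟨e, show S.g.hom e ∈ DRing.torsionSub I S.X₃ from he ▸ (LC.H0Equiv I S.X₃ w).2⟩, ?_⟩
    rw [← hw]
    refine congrArg (LC.δH I 0 hS 1 rfl) ((LC.H0Equiv I S.X₃).symm_apply_eq.2 (Subtype.ext he))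
  have hexact : Function.Exact S.f.hom S.g.hom :=
    (ShortComplex.ShortExact.moduleCat_exact_iff_function_exact S).1 hS.exact
  have hK : LinearMap.ker φ = LinearMap.ker ψ := by
    have h1 : ∀ p : P, p ∈ LinearMap.ker φ ↔ ∃ q, p.1 - S.f.hom q ∈ DRing.torsionSub I S.X₂ := fun p => by
      rw [LinearMap.mem_ker, LinearMap.comp_apply, Submodule.mkQ_apply, Submodule.Quotient.mk_eq_zero,
        LinearMap.mem_range]
      refine exists_congr fun q => ?_
      rw [← mem_ker_cmap, LinearMap.mem_ker, map_sub, sub_eq_zero, ← hα, ← cmap_natural UI S.f q]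
      exact ⟨fun h => h ▸ rfl, fun h => hf₀ h.symm⟩
    have h2 : ∀ p : P, p ∈ LinearMap.ker ψ ↔ ∃ e ∈ DRing.torsionSub I S.X₂, S.g.hom e = S.g.hom p.1 := fun p => by
      refine LinearMap.mem_ker.trans ((LC.exact₃ I 0 hS 1 rfl _).trans ?_)
      constructor
      · rintro ⟨w, hw⟩
        refine ⟨(LC.H0Equiv I S.X₂ w).1, (LC.H0Equiv I S.X₂ w).2, ?_⟩
        rw [← LC.H0Equiv_natural I S.g w, hw]
        exact congrArg Subtype.val ((LC.H0Equiv I S.X₃).apply_symm_apply (τ p))
      · rintro ⟨e, he, hge⟩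
        refine ⟨(LC.H0Equiv I S.X₂).symm ⟨e, he⟩, (LC.H0Equiv I S.X₃).injective (Subtype.ext ?_)⟩
        refine (LC.H0Equiv_natural I S.g _).trans ?_
        rw [LinearEquiv.apply_symm_apply]
        exact hge.trans (congrArg Subtype.val ((LC.H0Equiv I S.X₃).apply_symm_apply (τ p))).symm
    refine Submodule.ext fun p => (h1 p).trans ((h2 p).trans ?_).symm
    constructor
    · rintro ⟨e, he, hge⟩
      obtain ⟨q, hq⟩ := (hexact (p.1 - e)).1 (by rw [map_sub, hge, sub_self])
      exact ⟨q, by rw [hq, sub_sub_cancel]; exact he⟩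
    · rintro ⟨q, hq⟩
      exact ⟨_, hq, by rw [map_sub, hexact.apply_apply_eq_zero, sub_zero]⟩
  exact ⟨(φ.quotKerEquivOfSurjective hφ).symm.trans
    ((Submodule.quotEquivOfEq _ _ hK).trans (ψ.quotKerEquivOfSurjective hψ))⟩

/-- `H^{i+1}(U, N~) ≅ H^{i+2}_I(N)`, linearly. -/
theorem nonempty_HH_succ : ∀ (i : ℕ) (N : ModuleCat.{u} (CommRingCat.of A)),
    Nonempty (Coh.HH (UI : Scheme.{u}) ((G UI).obj N) (i + 1) ≃ₗ[A] (localCohomology I (i + 2)).obj N) := by
  intro i
  induction i with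
  | zero =>
    intro N
    let S : ShortComplex (ModuleCat.{u} (CommRingCat.of A)) :=
      ShortComplex.mk (Injective.ι N) (cokernel.π (Injective.ι N)) (cokernel.condition _)
    have hS : S.ShortExact :=
      { exact := ShortComplex.exact_of_g_is_cokernel _ (cokernelIsCokernel _) }
    haveI : Injective S.X₂ := inferInstanceAs (Injective (Injective.under N))
    haveI : Module.Injective A S.X₂ := Module.injective_module_of_injective_object A S.X₂
    haveI := subsingleton_HH_injective I S.X₂ 0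
    obtain ⟨δ, hδk, hδs⟩ : ∃ δ : Coh.HH (UI : Scheme.{u}) ((G UI).obj S.X₃) 0 →ₗ[A]
        Coh.HH (UI : Scheme.{u}) ((G UI).obj S.X₁) (0 + 1),
      LinearMap.ker δ = LinearMap.range (mapLin A ((G UI).map S.g) 0) ∧
        (Subsingleton (Coh.HH (UI : Scheme.{u}) ((G UI).obj S.X₂) (0 + 1)) → Function.Surjective δ) :=
      exists_deltaG UI hS 0
    have hδ : Function.Surjective δ := hδs inferInstance
    haveI : Epi S.g := hS.epi_g
    have hk : LinearMap.ker δ = LinearMap.range (cmap UI S.X₃) := by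
      rw [hδk]
      refine le_antisymm ?_ ?_
      · rintro _ ⟨y, rfl⟩
        obtain ⟨e, rfl⟩ := cmap_surjective I S.X₂ y
        exact ⟨S.g.hom e, (cmap_natural UI S.g e).symm⟩
      · rintro _ ⟨q, rfl⟩
        obtain ⟨e, rfl⟩ := (ModuleCat.epi_iff_surjective S.g).1 inferInstance q
        exact ⟨cmap UI S.X₂ e, cmap_natural UI S.g e⟩
    obtain ⟨e₁⟩ := nonempty_H1 I S.X₃
    haveI := LC.subsingleton_of_injective I S.X₂ 0
    haveI := LC.subsingleton_of_injective I S.X₂ 1
    refine ⟨(δ.quotKerEquivOfSurjective hδ).symm.trans ((Submodule.quotEquivOfEq _ _ hk).trans (e₁.trans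
      (LinearEquiv.ofBijective (LC.δH I 1 hS 2 rfl) ⟨?_, fun z => (LC.exact₁ I 1 hS 2 rfl z).1 (Subsingleton.elim _ _)⟩)))⟩
    rw [injective_iff_map_eq_zero]
    intro z hz
    obtain ⟨w, rfl⟩ := (LC.exact₃ I 1 hS 2 rfl z).1 hz
    rw [Subsingleton.elim w 0, map_zero]
  | succ i ih =>
    intro N
    let S : ShortComplex (ModuleCat.{u} (CommRingCat.of A)) :=
      ShortComplex.mk (Injective.ι N) (cokernel.π (Injective.ι N)) (cokernel.condition _)
    have hS : S.ShortExact :=
      { exact := ShortComplex.exact_of_g_is_cokernel _ (cokernelIsCokernel _) }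
    haveI : Injective S.X₂ := inferInstanceAs (Injective (Injective.under N))
    haveI : Module.Injective A S.X₂ := Module.injective_module_of_injective_object A S.X₂
    haveI := subsingleton_HH_injective I S.X₂ i
    haveI := subsingleton_HH_injective I S.X₂ (i + 1)
    haveI := LC.subsingleton_of_injective I S.X₂ (i + 1)
    haveI := LC.subsingleton_of_injective I S.X₂ (i + 2)
    obtain ⟨δ, hδk, hδs⟩ : ∃ δ : Coh.HH (UI : Scheme.{u}) ((G UI).obj S.X₃) (i + 1) →ₗ[A]
        Coh.HH (UI : Scheme.{u}) ((G UI).obj S.X₁) (i + 1 + 1),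
      LinearMap.ker δ = LinearMap.range (mapLin A ((G UI).map S.g) (i + 1)) ∧
        (Subsingleton (Coh.HH (UI : Scheme.{u}) ((G UI).obj S.X₂) (i + 1 + 1)) → Function.Surjective δ) :=
      exists_deltaG UI hS (i + 1)
    obtain ⟨e⟩ := ih S.X₃
    refine ⟨(LinearEquiv.ofBijective δ ⟨?_, hδs inferInstance⟩).symm.trans (e.trans
      (LinearEquiv.ofBijective (LC.δH I (i + 2) hS (i + 3) rfl)
        ⟨?_, fun z => (LC.exact₁ I (i + 2) hS (i + 3) rfl z).1 (Subsingleton.elim _ _)⟩))⟩
    · rw [injective_iff_map_eq_zero]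
      intro z hz
      obtain ⟨w, rfl⟩ := (hδk ▸ LinearMap.mem_ker.2 hz : z ∈ LinearMap.range (mapLin A ((G UI).map S.g) (i + 1)))
      rw [Subsingleton.elim w 0, map_zero]
    · rw [injective_iff_map_eq_zero]
      intro z hz
      obtain ⟨w, rfl⟩ := (LC.exact₃ I (i + 2) hS (i + 3) rfl z).1 hz
      rw [Subsingleton.elim w 0, map_zero]

/-- A coherent module on the complement of `V(I)` comes from a finite module. -/
theorem exists_finite (F : (UI : Scheme.{u}).Modules) (hF : Coh.IsCoh F) :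
    ∃ (M : Type u) (_ : AddCommGroup M) (_ : Module A M) (_ : Module.Finite A M),
      Nonempty (F ≅ (G UI).obj (ModuleCat.of A M)) := by
  haveI : NoetherianSpace (Spec (CommRingCat.of A)) :=
    inferInstanceAs (NoetherianSpace (PrimeSpectrum A))
  have hX : ∀ x : Spec (CommRingCat.of A), ∃ V : (Spec (CommRingCat.of A)).Opens, x ∈ V ∧
      NoetherianSpace (V : Set (Spec (CommRingCat.of A))) := fun _ => ⟨⊤, trivial, inferInstance⟩
  obtain ⟨G', hq, hft, ⟨e⟩⟩ := QCoh.exists_extension_abs (QCoh.extStep_noetherian hX UI) F hF.1 hF.2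
  obtain ⟨M, ⟨φ⟩⟩ := QCoh.isQCoh_spec_iff.1 hq
  haveI : Module.Finite A M := (QCoh.isFT_tilde_iff (R := CommRingCat.of A) M).1 (KFlatLib.isFT_of_iso' φ.symm hft)
  exact ⟨M, inferInstance, inferInstance, inferInstance,
    ⟨e.symm ≪≫ (Scheme.Modules.restrictFunctor (UI).ι).mapIso φ.symm⟩⟩

/-- The higher cohomology of a coherent module on a punctured spectrum is Artinian. -/
theorem isArtinian_HH [IsLocalRing A] (F : (LocCoh.puncturedOpen A (IsLocalRing.maximalIdeal A) : Scheme.{u}).Modules)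
    (hF : Coh.IsCoh F) (i : ℕ) (hi : 0 < i) :
    IsArtinian A (Coh.HH (LocCoh.puncturedOpen A (IsLocalRing.maximalIdeal A) : Scheme.{u}) F i) := by
  obtain ⟨j, rfl⟩ := Nat.exists_eq_add_of_le' hi
  obtain ⟨M, _, _, _, ⟨e⟩⟩ := exists_finite (IsLocalRing.maximalIdeal A) F hF
  obtain ⟨ε⟩ := nonempty_HH_succ (IsLocalRing.maximalIdeal A) j (ModuleCat.of A M)
  haveI : IsArtinian A ((localCohomology (IsLocalRing.maximalIdeal A) (j + 2)).obj (ModuleCat.of A M)) :=
    Groth.Agent.S0817.result A M (j + 2)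
  exact isArtinian_of_injective ((mapEquiv e (j + 1)).trans ε).toLinearMap
    ((mapEquiv e (j + 1)).trans ε).injective

end Groth.Agent.GrLib8.PuncturedLC
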