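import Groth.Agent.S0563
import Mathlib.RingTheory.RegularLocalRing.Polynomial
import Mathlib.RingTheory.LocalProperties.ProjectiveDimension
import Mathlib.RingTheory.KrullDimension.Polynomial
import Mathlib.RingTheory.Ideal.Height

/-!
# Global dimension of polynomial rings over fields
-/

set_option autoImplicit false

universe u

open CategoryTheory

namespace Groth.Agent.GrLib8

theorem hasProjectiveDimensionLE_mvPolynomial (k : Type u) [Field k] (n : ℕ) (M : Type u) [AddCommGroup M]
    [Module (MvPolynomial (Fin n) k) M] [Module.Finite (MvPolynomial (Fin n) k) M] :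
    HasProjectiveDimensionLE (ModuleCat.of (MvPolynomial (Fin n) k) M) n := by
  haveI : IsRegularRing k := inferInstance
  rw [ModuleCat.hasProjectiveDimensionLE_iff_forall_maximalSpectrum]
  intro m
  haveI := m.2
  haveI : IsRegularLocalRing (Localization.AtPrime m.1) :=
    (isRegularRing_iff (R := MvPolynomial (Fin n) k)).1 inferInstance m.1
  have hdim : ringKrullDim (Localization.AtPrime m.1) ≤ (n : WithBot ℕ∞) := by
    rw [IsLocalization.AtPrime.ringKrullDim_eq_height m.1]
    refine (Ideal.height_le_ringKrullDim_of_ne_top m.2.ne_top).trans ?_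
    rw [MvPolynomial.ringKrullDim_of_isNoetherianRing, ringKrullDim_eq_zero_of_field]
    simp
  obtain ⟨d, hd⟩ : ∃ d : ℕ, ringKrullDim (Localization.AtPrime m.1) = d := by
    exact ⟨_, ((isRegularLocalRing_iff (Localization.AtPrime m.1)).1 inferInstance).symm⟩
  have hdn : d ≤ n := by rw [hd] at hdim; exact_mod_cast hdim
  haveI := Groth.Agent.S0563.result (Localization.AtPrime m.1) d hd
    ((ModuleCat.of (MvPolynomial (Fin n) k) M).localizedModule m.1.primeCompl)
  exact hasProjectiveDimensionLT_of_ge _ (d + 1) (n + 1) (by omega)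

end Groth.Agent.GrLib8
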