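import Groth.Agent.GrLib8.EventVan

/-!
# Properties of the pieces of graded local cohomology closed under exact middles
-/

set_option autoImplicit false
set_option linter.unusedSectionVars false

universe u

open DirectSum

namespace Groth.Agent.GrLib8

variable {R : Type u} [CommRing R] {σ : Type u} [SetLike σ R] [AddSubgroupClass σ R] {𝒜 : ℤ → σ} [GradedRing 𝒜]
variable {M : Type u} [AddCommGroup M] [Module R M] {τ : Type u} [SetLike τ M] [AddSubgroupClass τ M] {ℳ : ℤ → τ}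
  [Decomposition ℳ] [SetLike.GradedSMul 𝒜 ℳ]
variable {N : Type u} [AddCommGroup N] [Module R N] {τ' : Type u} [SetLike τ' N] [AddSubgroupClass τ' N] {𝒩 : ℤ → τ'}
  [Decomposition 𝒩] [SetLike.GradedSMul 𝒜 𝒩]

/-- A homogeneous map between cohomologies, on one piece, linear over degree zero. -/
def pieceMap (E : GrLC.StarInjRes 𝒜 ℳ) (F : GrLC.StarInjRes 𝒜 𝒩) (a : HomogeneousIdeal 𝒜) {i j : ℕ}
    (δ : E.H a i →ₗ[R] F.H a j) {d : ℤ} (hδ : GrLC.IsGrHomDeg (E.Hgr a i) (F.Hgr a j) δ d) {g g' : ℤ}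
    (h : g + d = g') : E.Hcomp a i g →ₗ[GrLC.deg0 𝒜] F.Hcomp a j g' :=
  (δ.restrictScalars (GrLC.deg0 𝒜)).restrict fun x hx => h ▸ hδ g x hx

theorem pieceMap_apply (E : GrLC.StarInjRes 𝒜 ℳ) (F : GrLC.StarInjRes 𝒜 𝒩) (a : HomogeneousIdeal 𝒜) {i j : ℕ}
    (δ : E.H a i →ₗ[R] F.H a j) {d : ℤ} (hδ : GrLC.IsGrHomDeg (E.Hgr a i) (F.Hgr a j) δ d) {g g' : ℤ}
    (h : g + d = g') (x : E.Hcomp a i g) : (pieceMap E F a δ hδ h x : F.H a j) = δ x := rfl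

/-- A property of modules over the degree-zero ring inherited by middles of exact sequences. -/
structure MidClosed (Φ : ∀ (A : Type u) [AddCommGroup A] [Module (GrLC.deg0 𝒜) A], Prop) : Prop where
  mid : ∀ (A B C : Type u) [AddCommGroup A] [AddCommGroup B] [AddCommGroup C] [Module (GrLC.deg0 𝒜) A]
    [Module (GrLC.deg0 𝒜) B] [Module (GrLC.deg0 𝒜) C] (f : A →ₗ[GrLC.deg0 𝒜] B) (g : B →ₗ[GrLC.deg0 𝒜] C),
    Function.Exact f g → Φ A → Φ C → Φ B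
  zero : ∀ (A : Type u) [AddCommGroup A] [Module (GrLC.deg0 𝒜) A], Subsingleton A → Φ A

/-- Pieces do not depend on the resolution nor on the bundling. -/
theorem nonempty_piece_equiv (E : GrLC.StarInjRes 𝒜 ℳ) (F : GrLC.StarInjRes 𝒜 (gmodPieces 𝒜 ℳ).gr)
    (a : HomogeneousIdeal 𝒜) (i : ℕ) (g : ℤ) :
    Nonempty (E.Hcomp a i g ≃ₗ[GrLC.deg0 𝒜] F.Hcomp a i g) := by
  let id1 : (gmodPieces 𝒜 ℳ).carrier →ₗ[R] M := LinearMap.id
  let id2 : M →ₗ[R] (gmodPieces 𝒜 ℳ).carrier := LinearMap.id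
  have h1 : GrLC.IsGrHomDeg (gmodPieces 𝒜 ℳ).gr ℳ id1 0 := fun j m hm => (add_zero j).symm ▸ hm
  have h2 : GrLC.IsGrHomDeg ℳ (gmodPieces 𝒜 ℳ).gr id2 0 := fun j m hm => (add_zero j).symm ▸ hm
  have h11 : GrLC.IsGrHomDeg (gmodPieces 𝒜 ℳ).gr (gmodPieces 𝒜 ℳ).gr (id2 ∘ₗ id1) 0 :=
    isGrHomDeg_comp h1 h2 (add_zero 0)
  have h22 : GrLC.IsGrHomDeg ℳ ℳ (id1 ∘ₗ id2) 0 := isGrHomDeg_comp h2 h1 (add_zero 0)
  have e1 : hmap E F a id2 h2 i ∘ₗ hmap F E a id1 h1 i = LinearMap.id :=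
    (hmap_comp a h1 h2 h11 (add_zero 0) i).trans (hmap_id (ℳ := (gmodPieces 𝒜 ℳ).gr) a i h11)
  have e2 : hmap F E a id1 h1 i ∘ₗ hmap E F a id2 h2 i = LinearMap.id :=
    (hmap_comp a h2 h1 h22 (add_zero 0) i).trans (hmap_id a i h22)
  exact ⟨LinearEquiv.ofLinear (pieceMap E F a _ (isGrHomDeg_hmap a h2 i) (add_zero g))
    (pieceMap F E a _ (isGrHomDeg_hmap a h1 i) (add_zero g))
    (LinearMap.ext fun y => Subtype.ext (LinearMap.congr_fun e1 y.1))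
    (LinearMap.ext fun y => Subtype.ext (LinearMap.congr_fun e2 y.1))⟩

variable (a : HomogeneousIdeal 𝒜) (Φ : ∀ (A : Type u) [AddCommGroup A] [Module (GrLC.deg0 𝒜) A], Prop)

/-- `Φ` holds for a piece of cohomology. -/
def HP (X : GrLC.GMod.{u} 𝒜) (i : ℕ) (g : ℤ) : Prop := ∀ E : GrLC.StarInjRes 𝒜 X.gr, Φ (E.Hcomp a i g)

variable {a Φ}

theorem phi_of_exact (hΦ : MidClosed Φ) {A B C : GrLC.GMod.{u} 𝒜} (EA : GrLC.StarInjRes 𝒜 A.gr)
    (EB : GrLC.StarInjRes 𝒜 B.gr) (EC : GrLC.StarInjRes 𝒜 C.gr) {i j k : ℕ}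
    (u : EA.H a i →ₗ[R] EB.H a j) (v : EB.H a j →ₗ[R] EC.H a k) {du dv : ℤ}
    (hu : GrLC.IsGrHomDeg (EA.Hgr a i) (EB.Hgr a j) u du) (hv : GrLC.IsGrHomDeg (EB.Hgr a j) (EC.Hgr a k) v dv)
    (hex : Function.Exact u v) {g : ℤ} (h1 : Φ (EA.Hcomp a i (g - du))) (h2 : Φ (EC.Hcomp a k (g + dv))) :
    Φ (EB.Hcomp a j g) := by
  refine hΦ.mid _ _ _ (pieceMap EA EB a u hu (sub_add_cancel g du)) (pieceMap EB EC a v hv rfl) (fun y => ?_) h1 h2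
  constructor
  · intro hy
    obtain ⟨w, hw, hwe⟩ := exists_preimage_Hgr EA EB a u hu y.2 ((hex y).1 (congrArg Subtype.val hy :))
    exact ⟨⟨w, hw⟩, Subtype.ext hwe⟩
  · rintro ⟨w, rfl⟩
    exact Subtype.ext ((hex _).2 ⟨w, rfl⟩)

theorem hp_of_hVan (hΦ : MidClosed Φ) {X : GrLC.GMod.{u} 𝒜} {i : ℕ} {g : ℤ} (h : HVan a X i g) : HP a Φ X i g :=
  fun E => hΦ.zero _ ((h E).symm ▸ Submodule.subsingleton_iff_eq_bot.2 rfl)

theorem hp_middle (hΦ : MidClosed Φ) {X Y Z : GrLC.GMod.{u} 𝒜} {f : X.carrier →ₗ[R] Y.carrier}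
    {p : Y.carrier →ₗ[R] Z.carrier} {d : ℤ} (hf : GrLC.IsGrHomDeg X.gr Y.gr f d) (hp : GrLC.IsGrHomDeg Y.gr Z.gr p 0)
    (hinj : Function.Injective f) (hsurj : Function.Surjective p) (hex : Function.Exact f p) {i : ℕ} {g : ℤ}
    (hX : HP a Φ X i (g - d)) (hZ : HP a Φ Z i g) : HP a Φ Y i g := by
  intro G
  obtain ⟨-, hi⟩ := exists_les f p hf hp hinj hsurj hex (starRes X.gr) G (starRes Z.gr) a
  obtain ⟨δ, -, e1, -, -⟩ := hi i
  refine phi_of_exact hΦ (starRes X.gr) G (starRes Z.gr) _ _ (isGrHomDeg_hmap a hf i) (isGrHomDeg_hmap a hp i) e1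
    (hX _) ?_
  rw [add_zero]; exact hZ _

variable [IsNoetherianRing R]

/-- Descending along a regular element of positive degree. -/
theorem hp_of_regular (hΦ : MidClosed Φ) {X Y : GrLC.GMod.{u} 𝒜} {x : R} {e : ℤ} (he : 0 < e)
    (π : X.carrier →ₗ[R] Y.carrier)
    (hμ : GrLC.IsGrHomDeg X.gr X.gr (x • (LinearMap.id : X.carrier →ₗ[R] X.carrier)) e)
    (hπg : GrLC.IsGrHomDeg X.gr Y.gr π 0)
    (hinj : Function.Injective (x • (LinearMap.id : X.carrier →ₗ[R] X.carrier))) (hπ : Function.Surjective π)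
    (hex : Function.Exact (x • (LinearMap.id : X.carrier →ₗ[R] X.carrier)) π)
    (i : ℕ) (hY : ∀ g, HP a Φ Y i g) (c : ℤ) (hX : ∀ g, c < g → HVan a X (i + 1) g) (g : ℤ) : HP a Φ X (i + 1) g := by
  suffices ∀ (k : ℕ) (g : ℤ), c - g < k → HP a Φ X (i + 1) g from this ((c - g + 1).toNat) g (by omega)
  intro k
  induction k with
  | zero => exact fun g hg => hp_of_hVan hΦ (hX g (by omega))
  | succ k ih =>
    intro g hg E
    obtain ⟨-, hi⟩ := exists_les _ π hμ hπg hinj hπ hex E E (starRes Y.gr) a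
    obtain ⟨δ, hδ, -, -, e3⟩ := hi i
    exact phi_of_exact hΦ (starRes Y.gr) E E δ _ hδ (isGrHomDeg_hmap a hμ (i + 1)) e3 (hY _ _) (ih _ (by omega) E)

variable (hpos : ∀ n < 0, ∀ r ∈ 𝒜 n, r = 0)

include hpos in
/-- Reduction of a property to `H⁰` and to irrelevant-torsion modules. -/
theorem hp_all (hΦ : MidClosed Φ) (ha : (GrSyz.irrel 𝒜).toIdeal ≤ a.toIdeal)
    (h0 : ∀ (X : GrLC.GMod.{u} 𝒜) [Module.Finite R X.carrier] (g : ℤ), HP a Φ X 0 g)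
    (hL : ∀ (X : GrLC.GMod.{u} 𝒜) [Module.Finite R X.carrier],
      LocCoh.IsPowerTorsion (GrSyz.irrel 𝒜).toIdeal X.carrier → ∀ (i : ℕ) (g : ℤ), HP a Φ X i g) :
    ∀ (i : ℕ) (X : GrLC.GMod.{u} 𝒜) [Module.Finite R X.carrier] (g : ℤ), HP a Φ X i g
  | 0 => fun X _ g => h0 X g
  | i + 1 => fun X _ g => by
    obtain ⟨T, Q, j, p, _, _, hT, hQ, hj, hp, hji, hps, hjp, -⟩ := exists_tors_seq (GrSyz.irrel 𝒜) X
    refine hp_middle hΦ hj hp hji hps hjp (hL T hT _ _) ?_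
    obtain ⟨e, he, x, hx, hxi, hreg⟩ := exists_regular_pos 𝒜 hpos hQ
    obtain ⟨Y, π, _, hμ, hπg, hinj, hπ, hex, -⟩ := exists_regular_seq hx hreg
    obtain ⟨c, hc⟩ := exists_hVan hpos ha (i + 1) Q
    exact hp_of_regular hΦ he π hμ hπg hinj hπ hex i (fun g => hp_all hΦ ha h0 hL i Y g) c hc g

/-- `H⁰` is the torsion submodule, piece by piece. -/
theorem exists_H0_piece {X : GrLC.GMod.{u} 𝒜} (E : GrLC.StarInjRes 𝒜 X.gr) (g : ℤ) :
    ∃ ι₀ : E.Hcomp a 0 g →ₗ[GrLC.deg0 𝒜] GrLC.comp 𝒜 X.gr g, Function.Injective ι₀ ∧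
      ∀ y, ∃ n : ℕ, ∀ r ∈ a.toIdeal ^ n, r • (ι₀ y : X.carrier) = 0 := by
  obtain ⟨e, he⟩ := exists_H0_equiv E a
  refine ⟨(((GrLC.gam a.toIdeal X.carrier).subtype.comp e.symm.toLinearMap).restrictScalars (GrLC.deg0 𝒜)).restrict
    fun y hy => (he g (e.symm y)).2 ((e.apply_symm_apply y).symm ▸ hy), fun y z h => ?_, fun y => ?_⟩
  · exact Subtype.ext (e.symm.injective (Subtype.ext (congrArg Subtype.val h :)))
  · exact (e.symm (y : E.H a 0)).2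

end Groth.Agent.GrLib8
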