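import Groth.Agent.GrLib8.Irrel

/-!
# Degree zero of the standard grading
-/

set_option autoImplicit false

universe u

namespace Groth.Agent.GrLib8

theorem eq_C_of_stdGr_zero (k : Type u) [CommRing k] (s : Type*) (p : MvPolynomial s k) (hp : p ∈ GrSyz.stdGr k s 0) :
    p = MvPolynomial.C (MvPolynomial.coeff 0 p) := by
  classical
  refine MvPolynomial.ext _ _ fun d => ?_
  rw [MvPolynomial.coeff_C]
  split_ifs with h
  · subst h; rfl
  · by_contra hd
    refine h ?_
    have hw := (GrSyz.mem_stdGr_iff k s 0 p).1 hp hd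
    rw [Finsupp.weight_apply] at hw
    have hs := (Finset.sum_eq_zero_iff_of_nonneg fun i _ => by simp).1 hw
    refine Finsupp.ext fun i => ?_
    by_contra hi
    have := hs i (Finsupp.mem_support_iff.2 fun h0 => hi h0.symm)
    simp at this
    exact hi this.symm

theorem isUnit_of_stdGr_zero (k : Type u) [Field k] (s : Type*) (p : MvPolynomial s k)
    (hp : p ∈ GrSyz.stdGr k s 0) (h0 : p ≠ 0) : IsUnit p := by
  rw [eq_C_of_stdGr_zero k s p hp] at h0 ⊢
  exact (isUnit_iff_ne_zero.2 fun h => h0 (by rw [h, map_zero])).map MvPolynomial.C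

end Groth.Agent.GrLib8
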