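import Groth.Agent.GrLib8.RegRes
import Groth.Agent.GrLib8.StdField

/-!
# Regularity over a polynomial ring
-/

set_option autoImplicit false
set_option linter.unusedSectionVars false

universe u

open DirectSum

namespace Groth.Agent.GrLib8

theorem add_coe_le_iff (x : WithBot (WithTop ℤ)) (i d : ℤ) :
    x + ((i : WithTop ℤ) : WithBot (WithTop ℤ)) ≤ ((d : WithTop ℤ) : WithBot (WithTop ℤ)) ↔
      x ≤ (((d - i : ℤ) : WithTop ℤ) : WithBot (WithTop ℤ)) := by
  cases x with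
  | bot => simp
  | coe y =>
    cases y with
    | top =>
      rw [← WithBot.coe_add, top_add, WithBot.coe_le_coe, WithBot.coe_le_coe]
      simp
    | coe z =>
      rw [← WithBot.coe_add, ← WithTop.coe_add, WithBot.coe_le_coe, WithBot.coe_le_coe, WithTop.coe_le_coe,
        WithTop.coe_le_coe]
      omega

variable {R : Type u} [CommRing R] {σ : Type u} [SetLike σ R] [AddSubgroupClass σ R] {𝒜 : ℤ → σ} [GradedRing 𝒜]
variable {M : Type u} [AddCommGroup M] [Module R M] {τ : Type u} [SetLike τ M] [AddSubgroupClass τ M] {ℳ : ℤ → τ}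
  [Decomposition ℳ] [SetLike.GradedSMul 𝒜 ℳ]

theorem regBd_iff_endDeg (E : GrLC.StarInjRes 𝒜 ℳ) (a : HomogeneousIdeal 𝒜) (d : ℤ) :
    RegBd a (gmodPieces 𝒜 ℳ) d ↔ ∀ i : ℕ,
      GrLC.endDeg (E.Hgr a i) + (((i : ℤ) : WithTop ℤ) : WithBot (WithTop ℤ)) ≤ ((d : WithTop ℤ) : WithBot (WithTop ℤ)) := by
  simp only [add_coe_le_iff, endDeg_le_iff, Hgr_eq_bot_iff, RegBd, hVan_of_pieces_res E]
  exact forall_congr' fun i => ⟨fun h g hg => h g (by omega), fun h g hg => h g (by omega)⟩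

theorem regBd_iff_diag [IsNoetherianRing R] (E : GrLC.StarInjRes 𝒜 ℳ) {a : HomogeneousIdeal 𝒜}
    (h1 : a.toIdeal ≤ Ideal.span ((𝒜 1 : σ) : Set R)) (d : ℤ) :
    RegBd a (gmodPieces 𝒜 ℳ) d ↔
      (GrLC.endDeg (E.Hgr a 0) ≤ ((d : WithTop ℤ) : WithBot (WithTop ℤ)) ∧
        ∀ i : ℕ, 0 < i → E.Hcomp a i (d - (i : ℤ) + 1) = ⊥) := by
  simp only [endDeg_le_iff, Hgr_eq_bot_iff, ← hVan_of_pieces_res E]
  constructor
  · exact fun h => ⟨fun g hg => h 0 g (by simpa using hg), fun i _ => h i _ (by omega)⟩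
  · rintro ⟨h0, hpos⟩ i g hg
    rcases Nat.eq_zero_or_pos i with rfl | hi
    · exact h0 g (by simpa using hg)
    · have h := hVan_persist h1 (gmodPieces 𝒜 ℳ) (d + 1) 1 le_rfl
        (fun j hj => by rw [show d + 1 - (j : ℤ) = d - j + 1 by ring]; exact hpos j hj) (g + i) (by omega) i hi
      rwa [add_sub_cancel_right] at h

section Std

variable {k : Type u} [Field k] {n : ℕ}
variable {M : Type u} [AddCommGroup M] [Module k M] [Module (MvPolynomial (Fin n) k) M]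
  [IsScalarTower k (MvPolynomial (Fin n) k) M] [Module.Finite (MvPolynomial (Fin n) k) M]
  {ℳ : ℤ → Submodule k M} [Decomposition ℳ] [SetLike.GradedSMul (GrSyz.stdGr k (Fin n)) ℳ]

theorem isGenLE_iff_regBd (F : GrSyz.FreeRes (GrSyz.stdGr k (Fin n)) ℳ)
    (hF : F.IsMinimal (GrSyz.irrel (GrSyz.stdGr k (Fin n))).toIdeal) (d : ℤ) :
    F.IsGenLE d ↔ RegBd (GrSyz.irrel (GrSyz.stdGr k (Fin n))) (gmodPieces (GrSyz.stdGr k (Fin n)) ℳ) d := by
  classical
  have hR : RegBd (GrSyz.irrel (GrSyz.stdGr k (Fin n))) (gmodPieces (GrSyz.stdGr k (Fin n)) (GrSyz.stdGr k (Fin n))) 0 :=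
    fun i g hg => hVan_stdGr k n i g hg
  refine ⟨fun h => regBd_of_isGenLE hR F h, fun h => ?_⟩
  obtain ⟨xs, hxs, hspan⟩ := exists_list_span
    ((GrSyz.stdGr k (Fin n) 1 : Submodule k (MvPolynomial (Fin n) k)) : Set (MvPolynomial (Fin n) k))
  exact isGenLE_of_regBd (stdGr_nonneg k (Fin n)) hR xs hxs ((irrel_le_span_one k n).trans hspan) F hF h

theorem isRegLE_iff_regBd (d : ℤ) :
    GrSyz.IsRegLE (GrSyz.stdGr k (Fin n)) ℳ (GrSyz.irrel (GrSyz.stdGr k (Fin n))).toIdeal d ↔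
      RegBd (GrSyz.irrel (GrSyz.stdGr k (Fin n))) (gmodPieces (GrSyz.stdGr k (Fin n)) ℳ) d := by
  constructor
  · rintro ⟨F, hF, hd⟩
    exact (isGenLE_iff_regBd F hF d).1 hd
  · intro h
    obtain ⟨F, hF⟩ := exists_freeRes (ℳ := ℳ) (stdGr_nonneg k (Fin n)) (isUnit_of_stdGr_zero k (Fin n))
    exact ⟨F, hF, (isGenLE_iff_regBd F hF d).2 h⟩

theorem reg_le_iff (d : ℤ) :
    GrSyz.reg (GrSyz.stdGr k (Fin n)) ℳ (GrSyz.irrel (GrSyz.stdGr k (Fin n))).toIdeal ≤
        ((d : WithTop ℤ) : WithBot (WithTop ℤ)) ↔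
      RegBd (GrSyz.irrel (GrSyz.stdGr k (Fin n))) (gmodPieces (GrSyz.stdGr k (Fin n)) ℳ) d := by
  constructor
  · intro h i g hg
    have hlt : GrSyz.reg (GrSyz.stdGr k (Fin n)) ℳ (GrSyz.irrel (GrSyz.stdGr k (Fin n))).toIdeal <
        (((d + 1 : ℤ) : WithTop ℤ) : WithBot (WithTop ℤ)) :=
      lt_of_le_of_lt h (WithBot.coe_lt_coe.2 (WithTop.coe_lt_coe.2 (by omega)))
    simp only [GrSyz.reg, iInf_lt_iff, exists_prop] at hlt
    obtain ⟨r, hr, hrd⟩ := hlt
    have hrd' : r < d + 1 := WithTop.coe_lt_coe.1 (WithBot.coe_lt_coe.1 hrd)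
    exact (isRegLE_iff_regBd r).1 hr i g (by omega)
  · exact fun h => iInf₂_le d ((isRegLE_iff_regBd d).2 h)

/-- Two extended integers with the same finite upper bounds are equal. -/
theorem eq_of_forall_int_le {x y : WithBot (WithTop ℤ)}
    (h : ∀ d : ℤ, x ≤ ((d : WithTop ℤ) : WithBot (WithTop ℤ)) ↔ y ≤ ((d : WithTop ℤ) : WithBot (WithTop ℤ))) : x = y := by
  suffices ∀ x y : WithBot (WithTop ℤ), (∀ d : ℤ, y ≤ ((d : WithTop ℤ) : WithBot (WithTop ℤ)) →
      x ≤ ((d : WithTop ℤ) : WithBot (WithTop ℤ))) → x ≤ y from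
    le_antisymm (this x y fun d => (h d).2) (this y x fun d => (h d).1)
  intro x y h
  cases y with
  | bot =>
    cases x with
    | bot => exact le_rfl
    | coe x =>
      cases x with
      | top => exact absurd (WithBot.coe_le_coe.1 (h 0 bot_le)) (by simp)
      | coe x =>
        have := WithTop.coe_le_coe.1 (WithBot.coe_le_coe.1 (h (x - 1) bot_le))
        omega
  | coe y =>
    cases y with
    | top =>
      cases x with
      | bot => exact bot_le
      | coe x => exact WithBot.coe_le_coe.2 le_top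
    | coe y => exact h y le_rfl

end Std

end Groth.Agent.GrLib8
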