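import Mathlib.RingTheory.GradedAlgebra.Homogeneous.Ideal

/-!
# Pieces of standard graded rings are products
-/

set_option autoImplicit false
set_option linter.unusedSectionVars false

universe u

open DirectSum

namespace Groth.Agent.GrLib8.StdMul

variable {R : Type u} [CommRing R] {σ : Type*} [SetLike σ R] [AddSubgroupClass σ R] (𝒜 : ℤ → σ) [GradedRing 𝒜]
  (hstd : Ideal.span (⋃ n ∈ Set.Ioi (0 : ℤ), (𝒜 n : Set R)) = Ideal.span ((𝒜 1 : σ) : Set R))

include hstd in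
theorem succ_le (n : ℤ) (hn : 0 ≤ n) {x : R} (hx : x ∈ 𝒜 (n + 1)) :
    x ∈ AddSubgroup.closure {z : R | ∃ u ∈ 𝒜 n, ∃ v ∈ 𝒜 1, z = u * v} := by
  classical
  have hmem : x ∈ Ideal.span ((𝒜 1 : σ) : Set R) := by
    rw [← hstd]
    exact Ideal.subset_span (Set.mem_biUnion (x := n + 1) (show (0 : ℤ) < n + 1 by omega) hx)
  have key : ∀ z ∈ Ideal.span ((𝒜 1 : σ) : Set R), ∀ r : R,
      (decompose 𝒜 (r * z) (n + 1) : R) ∈ AddSubgroup.closure {z : R | ∃ u ∈ 𝒜 n, ∃ v ∈ 𝒜 1, z = u * v} := by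
    intro z hz
    induction hz using Submodule.span_induction with
    | mem v hv =>
      intro r
      rw [coe_decompose_mul_add_of_right_mem 𝒜 (i := n) hv]
      exact AddSubgroup.subset_closure ⟨_, SetLike.coe_mem _, v, hv, rfl⟩
    | zero => intro r; simp
    | add a b _ _ ha hb =>
      intro r
      rw [mul_add, decompose_add, DirectSum.add_apply, AddMemClass.coe_add]
      exact add_mem (ha r) (hb r)
    | smul c a _ ha =>
      intro r
      rw [smul_eq_mul, ← mul_assoc]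
      exact ha _
  have h := key x hmem 1
  rwa [one_mul, decompose_of_mem_same 𝒜 hx] at h

include hstd in
theorem add_le (m : ℤ) (hm : 0 ≤ m) (n : ℕ) {x : R} (hx : x ∈ 𝒜 (m + n)) :
    x ∈ AddSubgroup.closure {z : R | ∃ u ∈ 𝒜 m, ∃ v ∈ 𝒜 (n : ℤ), z = u * v} := by
  induction n generalizing x with
  | zero => exact AddSubgroup.subset_closure ⟨x, by simpa using hx, 1, SetLike.one_mem_graded 𝒜, (mul_one x).symm⟩
  | succ k ih =>
    have h1 := succ_le 𝒜 hstd (m + k) (by omega) (x := x) (by rw [add_assoc]; exact_mod_cast hx)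
    refine AddSubgroup.closure_le _ |>.2 ?_ h1
    rintro _ ⟨u, hu, v, hv, rfl⟩
    refine AddSubgroup.closure_induction (p := fun u _ => u * v ∈ AddSubgroup.closure {z : R | ∃ u ∈ 𝒜 m, ∃ v ∈ 𝒜 ((k + 1 : ℕ) : ℤ), z = u * v})
      ?_ (by simp) (fun a b _ _ ha hb => by rw [add_mul]; exact add_mem ha hb) (fun a _ ha => by rw [neg_mul]; exact neg_mem ha) (ih hu)
    rintro _ ⟨a, ha, b, hb, rfl⟩
    refine AddSubgroup.subset_closure ⟨a, ha, b * v, ?_, mul_assoc a b v⟩
    have := SetLike.mul_mem_graded (A := 𝒜) hb hv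
    push_cast
    exact this

include hstd in
theorem le_closure {m n : ℤ} (hm : 0 ≤ m) (hn : 0 ≤ n) {x : R} (hx : x ∈ 𝒜 (m + n)) :
    x ∈ AddSubgroup.closure {z : R | ∃ u ∈ 𝒜 m, ∃ v ∈ 𝒜 n, z = u * v} := by
  lift n to ℕ using hn
  exact add_le 𝒜 hstd m hm n hx

end Groth.Agent.GrLib8.StdMul
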