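import Groth.Agent.GrLib8.RegList
import Groth.Agent.GrLib8.RegStd
import Groth.Agent.GrLib8.StdMul
import Groth.Agent.GrLib8.ABStd
import Groth.Agent.GrLib8.FilterInj
import Mathlib.RingTheory.RegularLocalRing.Polynomial

/-!
# Standard graded Cohen-Macaulay rings with `a = -dim` are polynomial rings
-/

set_option autoImplicit false
set_option linter.unusedSectionVars false
set_option linter.style.haveILetI false
set_option maxHeartbeats 1600000

universe u

open DirectSum RingTheory.Sequence MvPolynomial IsLocalRing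
open scoped Pointwise

namespace Groth.Agent.GrLib8.PolyChar

variable {k : Type u} [Field k] {N : ℕ} {R : Type u} [CommRing R] [Algebra (MvPolynomial (Fin N) k) R]
  {𝒜 : ℤ → AddSubgroup R} [GradedRing 𝒜]

local notation "𝕊" => GrSyz.stdGr k (Fin N)

/-- An injective-on-degree-one linear quotient of regularity zero has no relations. -/
theorem injective_of_regBd [SetLike.GradedSMul (GrSyz.stdGr k (Fin N)) 𝒜]
    (hp : GrLC.IsGrHomDeg (gmodPieces (GrSyz.stdGr k (Fin N)) (GrSyz.stdGr k (Fin N))).gr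
      (gmodPieces (GrSyz.stdGr k (Fin N)) 𝒜).gr (Algebra.linearMap (MvPolynomial (Fin N) k) R) 0)
    (hs : Function.Surjective (algebraMap (MvPolynomial (Fin N) k) R))
    (hlow : ∀ g ≤ 1, ∀ p ∈ GrSyz.stdGr k (Fin N) g, algebraMap (MvPolynomial (Fin N) k) R p = 0 → p = 0)
    (hZ : RegBd (GrSyz.irrel (GrSyz.stdGr k (Fin N))) (gmodPieces (GrSyz.stdGr k (Fin N)) 𝒜) 0) :
    Function.Injective (algebraMap (MvPolynomial (Fin N) k) R) := by
  classical
  let Y := gmodPieces 𝕊 𝕊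
  let Z := gmodPieces 𝕊 𝒜
  let p : Y.carrier →ₗ[MvPolynomial (Fin N) k] Z.carrier := Algebra.linearMap (MvPolynomial (Fin N) k) R
  have hK : (LinearMap.ker p).IsHomogeneous Y.gr := fun g z hz => by
    rw [LinearMap.mem_ker, map_decompose_deg p hp, LinearMap.mem_ker.1 hz]
    simp
  let K := subGMod 𝕊 Y.gr (LinearMap.ker p) hK
  let f : K.carrier →ₗ[MvPolynomial (Fin N) k] Y.carrier := (LinearMap.ker p).subtype
  have hf : GrLC.IsGrHomDeg K.gr Y.gr f 0 := fun g z hz => (add_zero g).symm ▸ hz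
  have hinj : Function.Injective f := Subtype.val_injective
  have hex : Function.Exact f p := LinearMap.exact_subtype_ker_map p
  have hdiag : ∀ g : ℤ, 2 ≤ g → ∀ q : ℕ, HVan (GrSyz.irrel 𝕊) K q (g - q) := by
    intro g hg q
    have hS : ∀ (i : ℕ) (h : ℤ), 0 < h + i → HVan (GrSyz.irrel 𝕊) Y i h := fun i h hh => hVan_stdGr k N i h hh
    rcases q with _ | q
    · have := hVan_left_zero hf hp hinj hs hex (hS 0 g (by push_cast; omega))
      rwa [Nat.cast_zero]
    · have := hVan_left hf hp hinj hs hex (hZ q (g - ((q + 1 : ℕ) : ℤ)) (by push_cast; omega))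
        (hS (q + 1) (g - ((q + 1 : ℕ) : ℤ)) (by push_cast; omega))
      rwa [sub_zero] at this
  have key : ∀ (n : ℕ) (g : ℤ), g < n → ∀ z ∈ K.gr g, z = 0 := by
    intro n
    induction n with
    | zero => exact fun g hg z hz => Subtype.ext (stdGr_nonneg k (Fin N) g (by omega) _ hz)
    | succ n ih =>
      intro g hg z hz
      by_cases hn : g < (n : ℤ)
      · exact ih g hn z hz
      by_cases h1 : g ≤ 1
      · exact Subtype.ext (hlow g h1 _ hz (LinearMap.mem_ker.1 (z : LinearMap.ker p).2))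
      obtain ⟨xs, hxs, hspan⟩ := exists_list_span
        ((GrSyz.stdGr k (Fin N) 1 : Submodule k (MvPolynomial (Fin N) k)) : Set (MvPolynomial (Fin N) k))
      have hmem := mem_smul_top_of_diagonal K xs hxs ((irrel_le_span_one k N).trans hspan) g
        (hdiag g (by omega)) z hz
      have hle : Ideal.ofList xs ≤ (GrSyz.irrel 𝕊).toIdeal :=
        Ideal.span_le.2 fun y hy => mem_irrel_of_pos _ one_pos (hxs y hy)
      have htop : (⊤ : Submodule (MvPolynomial (Fin N) k) K.carrier) ≤ aboveSub 𝕊 K.gr (stdGr_nonneg k (Fin N)) g :=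
        fun w _ h hh => ih h (by omega) _ (SetLike.coe_mem _)
      have := irrel_smul_le 𝕊 K.gr (stdGr_nonneg k (Fin N)) g (Submodule.smul_mono hle htop hmem) g (by omega)
      rwa [decompose_of_mem_same K.gr hz] at this
  rw [injective_iff_map_eq_zero]
  intro (q : Y.carrier) hq
  show q = (0 : Y.carrier)
  rw [← sum_support_decompose Y.gr q]
  refine Finset.sum_eq_zero fun g _ => ?_
  have hker : (decompose Y.gr q g : Y.carrier) ∈ LinearMap.ker p := hK g hq
  have h0 : (⟨_, hker⟩ : LinearMap.ker p) = 0 :=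
    key (g.toNat + 1) g (by omega) (⟨_, hker⟩ : LinearMap.ker p) (SetLike.coe_mem (decompose Y.gr q g))
  exact congrArg Subtype.val h0

end Groth.Agent.GrLib8.PolyChar

namespace Groth.Agent.GrLib8.PolyChar

variable {R : Type u} [CommRing R] {𝒜 : ℤ → AddSubgroup R} [GradedRing 𝒜]

/-- The ends of the top cohomology agree. -/
theorem endDeg_eq_iff {m : HomogeneousIdeal 𝒜} (I : GrLC.StarInjRes 𝒜 𝒜) {r : ℕ} {c : ℤ}
    (h2 : ∀ g, c < g → HVan m (gmodPieces 𝒜 𝒜) r g) (h3 : ¬ HVan m (gmodPieces 𝒜 𝒜) r c) (a : ℤ) :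
    GrLC.endDeg (I.Hgr m r) = ((a : WithTop ℤ) : WithBot (WithTop ℤ)) ↔ a = c := by
  have key : ∀ d : ℤ, GrLC.endDeg (I.Hgr m r) ≤ ((d : WithTop ℤ) : WithBot (WithTop ℤ)) ↔ c ≤ d := fun d => by
    simp only [endDeg_le_iff, Hgr_eq_bot_iff, ← hVan_of_pieces_res I]
    refine ⟨fun h => not_lt.1 fun hlt => h3 (h c hlt), fun h g hg => h2 g (by omega)⟩
  constructor
  · intro h
    have h1 := (key a).1 h.le
    by_contra hne
    have h4 := (key (a - 1)).2 (by omega)
    rw [h] at h4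
    have := WithTop.coe_le_coe.1 (WithBot.coe_le_coe.1 h4)
    omega
  · rintro rfl
    refine le_antisymm ((key a).2 le_rfl) ?_
    refine le_iSup₂_of_le a (fun hb => h3 ((hVan_of_pieces_res I).2 ((Hgr_eq_bot_iff I m r a).1 hb))) le_rfl

variable [IsNoetherianRing R] (hpos : ∀ n : ℤ, n < 0 → 𝒜 n = ⊥) (h0 : IsField (GrLC.deg0 𝒜))
  (hstd : Ideal.span (⋃ n ∈ Set.Ioi (0 : ℤ), (𝒜 n : Set R)) = Ideal.span ((𝒜 1 : AddSubgroup R) : Set R))

include hpos h0 hstd in
/-- The presentation by a basis of the linear forms. -/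
theorem exists_presentation : letI := h0.toField
    ∃ (N : ℕ) (φ : MvPolynomial (Fin N) (GrLC.deg0 𝒜) →+* R),
      (∀ (g : ℤ) (p : MvPolynomial (Fin N) (GrLC.deg0 𝒜)), p ∈ GrSyz.stdGr (GrLC.deg0 𝒜) (Fin N) g → φ p ∈ 𝒜 g) ∧
      Function.Surjective φ ∧
      (∀ g ≤ 1, ∀ p ∈ GrSyz.stdGr (GrLC.deg0 𝒜) (Fin N) g, φ p = 0 → p = 0) ∧
      (∀ c : GrLC.deg0 𝒜, φ (MvPolynomial.C c) = (c : R)) ∧
      (∀ (n : ℕ), ∀ x ∈ 𝒜 (n : ℤ), ∃ p ∈ GrSyz.stdGr (GrLC.deg0 𝒜) (Fin N) (n : ℤ), φ p = x) ∧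
      N = Module.finrank (GrLC.deg0 𝒜) (GrLC.comp 𝒜 𝒜 1) := by
  classical
  letI := h0.toField
  haveI : Module.Finite (GrLC.deg0 𝒜) (GrLC.comp 𝒜 𝒜 1) := finite_comp 𝒜 (nonneg_of_bot hpos) 𝒜 1
  let b := Module.finBasis (GrLC.deg0 𝒜) (GrLC.comp 𝒜 𝒜 1)
  let S := MvPolynomial (Fin (Module.finrank (GrLC.deg0 𝒜) (GrLC.comp 𝒜 𝒜 1))) (GrLC.deg0 𝒜)
  let φ : S →+* R := eval₂Hom (GrLC.deg0 𝒜).subtype fun i => (b i : R)
  have hmon : ∀ d : Fin (Module.finrank (GrLC.deg0 𝒜) (GrLC.comp 𝒜 𝒜 1)) →₀ ℕ,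
      d.prod (fun i e => (b i : R) ^ e) ∈ 𝒜 (∑ i ∈ d.support, (d i : ℤ)) := by
    intro d
    refine SetLike.prod_mem_graded (A := 𝒜) (i := fun i => (d i : ℤ)) (g := fun i => (b i : R) ^ d i) (F := d.support) fun i _ => ?_
    exact by
      have := SetLike.pow_mem_graded (A := 𝒜) (d i) (show (b i : R) ∈ 𝒜 1 from (b i).2)
      simpa using this
  have hdeg : ∀ (g : ℤ) (p : S), p ∈ GrSyz.stdGr (GrLC.deg0 𝒜) _ g → φ p ∈ 𝒜 g := by
    intro g p hp
    show eval₂ _ _ p ∈ 𝒜 g
    rw [eval₂_eq]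
    refine sum_mem fun d hd => ?_
    have hw := (GrSyz.mem_stdGr_iff _ _ g p).1 hp (mem_support_iff.1 hd)
    have hdg : (∑ i ∈ d.support, (d i : ℤ)) = g := by
      rw [← hw, Finsupp.weight_apply, Finsupp.sum]
      simp
    have := SetLike.mul_mem_graded (A := 𝒜) (p.coeff d).2 (hmon d)
    rw [zero_add, hdg] at this
    exact this
  have hsurjdeg : ∀ (n : ℕ), ∀ x ∈ 𝒜 (n : ℤ), ∃ p ∈ GrSyz.stdGr (GrLC.deg0 𝒜) _ (n : ℤ), φ p = x := by
    intro n
    induction n with
    | zero =>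
      intro x hx
      exact ⟨C ⟨x, hx⟩, isWeightedHomogeneous_C _ _, eval₂_C (GrLC.deg0 𝒜).subtype (fun i => (b i : R)) _⟩
    | succ n ih =>
      intro x hx
      refine AddSubgroup.closure_induction (p := fun y _ => ∃ p ∈ GrSyz.stdGr (GrLC.deg0 𝒜) _ ((n + 1 : ℕ) : ℤ), φ p = y)
        ?_ ⟨0, zero_mem _, map_zero φ⟩ ?_ ?_ (StdMul.succ_le 𝒜 hstd (n : ℤ) (by omega) (x := x) (by exact_mod_cast hx))
      · rintro _ ⟨u, hu, v, hv, rfl⟩
        obtain ⟨p, hp, rfl⟩ := ih u hu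
        refine ⟨p * ∑ i, C (b.repr ⟨v, hv⟩ i) * MvPolynomial.X i, ?_, ?_⟩
        · push_cast
          refine SetLike.mul_mem_graded (A := GrSyz.stdGr (GrLC.deg0 𝒜) _) hp (sum_mem fun i _ => ?_)
          have := SetLike.mul_mem_graded (A := GrSyz.stdGr (GrLC.deg0 𝒜) _)
            (isWeightedHomogeneous_C (fun _ => (1 : ℤ)) (b.repr ⟨v, hv⟩ i))
            (isWeightedHomogeneous_X (GrLC.deg0 𝒜) (fun _ => (1 : ℤ)) i)
          rwa [zero_add] at this
        · rw [map_mul, map_sum]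
          congr 1
          refine (Finset.sum_congr rfl fun i _ => ?_ : _ = ∑ i, ((b.repr ⟨v, hv⟩ i : GrLC.deg0 𝒜) : R) * (b i : R)).trans ?_
          · rw [map_mul]; exact congrArg₂ (· * ·) (eval₂_C _ _ _) (eval₂_X _ _ _)
          have h := congrArg Subtype.val (b.sum_repr ⟨v, hv⟩)
          simp only [AddSubmonoidClass.coe_finsetSum] at h
          exact h
      · rintro u v _ _ ⟨p, hp, rfl⟩ ⟨q, hq, rfl⟩
        exact ⟨p + q, add_mem hp hq, map_add φ p q⟩
      · rintro u _ ⟨p, hp, rfl⟩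
        exact ⟨-p, neg_mem hp, map_neg φ p⟩
  refine ⟨_, φ, hdeg, fun x => ?_, ?_, fun c => eval₂_C (GrLC.deg0 𝒜).subtype (fun i => (b i : R)) c, hsurjdeg, rfl⟩
  · induction x using DirectSum.Decomposition.inductionOn 𝒜 with
    | zero => exact ⟨0, map_zero φ⟩
    | add a b ha hb => obtain ⟨p, rfl⟩ := ha; obtain ⟨q, rfl⟩ := hb; exact ⟨p + q, map_add φ p q⟩
    | @homogeneous i r =>
      rcases lt_or_ge i 0 with hi | hi
      · exact ⟨0, by rw [map_zero, nonneg_of_bot hpos i hi _ r.2]⟩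
      · lift i to ℕ using hi
        obtain ⟨p, -, hp⟩ := hsurjdeg i r r.2
        exact ⟨p, hp⟩
  · intro g hg p hp hp0
    rcases lt_trichotomy g 0 with hneg | rfl | hpos'
    · exact stdGr_nonneg _ _ g hneg p hp
    · rw [eq_C_of_stdGr_zero _ _ p hp] at hp0 ⊢
      have : p.coeff 0 = 0 := Subtype.ext (by simpa [φ] using hp0)
      rw [this, map_zero]
    · obtain rfl : g = 1 := by omega
      have hlin : p = ∑ i, C (p.coeff (Finsupp.single i 1)) * MvPolynomial.X i := by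
        ext d
        rw [coeff_sum]
        simp only [coeff_C_mul, coeff_X, mul_ite, mul_one, mul_zero]
        by_cases hd : ∃ i, d = Finsupp.single i 1
        · obtain ⟨i, rfl⟩ := hd
          rw [Finset.sum_eq_single i (fun j _ hj => if_neg fun h => hj (Finsupp.single_left_injective one_ne_zero h))
            (fun h => absurd (Finset.mem_univ i) h), if_pos rfl]
        · rw [Finset.sum_eq_zero fun i _ => if_neg fun h => hd ⟨i, h.symm⟩]
          by_contra hne
          have hw := (GrSyz.mem_stdGr_iff _ _ 1 p).1 hp (d := d) fun h => hne (congrArg Subtype.val h)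
          rw [Finsupp.weight_apply, Finsupp.sum] at hw
          simp only [nsmul_eq_mul, mul_one] at hw
          have hw' : d.degree = 1 := by exact_mod_cast hw
          obtain ⟨i, hi⟩ : ∃ i, d = Finsupp.single i 1 := Finsupp.sum_eq_one_iff d |>.1 (by rw [Finsupp.sum]; exact hw')
          exact hd ⟨i, hi⟩
      have hzero : ∑ i, p.coeff (Finsupp.single i 1) • b i = 0 := by
        refine Subtype.ext ?_
        rw [AddSubmonoidClass.coe_finsetSum]
        rw [hlin, map_sum] at hp0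
        refine Eq.trans (Finset.sum_congr rfl fun i _ => ?_) hp0
        rw [map_mul]
        show ((p.coeff (Finsupp.single i 1) : GrLC.deg0 𝒜) : R) * (b i : R) = _
        exact (congrArg₂ (· * ·) (eval₂_C (GrLC.deg0 𝒜).subtype (fun i => (b i : R)) _)
          (eval₂_X (GrLC.deg0 𝒜).subtype (fun i => (b i : R)) i)).symm
      rw [hlin]
      refine Finset.sum_eq_zero fun i _ => ?_
      rw [Fintype.linearIndependent_iff.1 b.linearIndependent _ hzero i, map_zero, zero_mul]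

variable {m : HomogeneousIdeal 𝒜}

include hpos h0 hstd in
/-- Injectivity of the presentation when the ring is `a = -dim`. -/
theorem nonempty_equiv_of_endDeg [LocCoh.IsCohenMacaulayRing R] (hm : GrLC.IsStarLocal 𝒜 m)
    (hmsp : m.toIdeal = Ideal.span (⋃ n ∈ Set.Ioi (0 : ℤ), (𝒜 n : Set R)))
    (r : ℕ) (hr : ringKrullDim R = r) (I : GrLC.StarInjRes 𝒜 𝒜)
    (ha : GrLC.endDeg (I.Hgr m r) = (((-(r : ℤ) : ℤ) : WithTop ℤ) : WithBot (WithTop ℤ))) :
    Nonempty (R ≃+* MvPolynomial (Fin r) (GrLC.deg0 𝒜)) := by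
  classical
  letI := h0.toField
  obtain ⟨N, φ, hdeg, hs, hlow, hC, hsd, -⟩ := exists_presentation hpos h0 hstd
  letI := φ.toAlgebra
  haveI : SetLike.GradedSMul (GrSyz.stdGr (GrLC.deg0 𝒜) (Fin N)) 𝒜 :=
    ⟨fun {i j p x} hp hx => SetLike.mul_mem_graded (A := 𝒜) (hdeg i p hp) hx⟩
  have hp := nonneg_of_bot hpos
  have hmirr : m.toIdeal = (GrSyz.irrel 𝒜).toIdeal := hmsp.trans irrel_toIdeal_eq.symm
  let X := gmodPieces 𝒜 𝒜
  haveI : Module.Finite R X.carrier := inferInstanceAs (Module.Finite R R)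
  have hvan : ∀ i, i ≠ r → ∀ g, HVan m X i g := fun i hi g =>
    (hVan_of_pieces_res I).2 (Hcomp_eq_bot_of_ne hpos hm hr hi I g)
  obtain ⟨l, hlen, hl, hreg, htors⟩ := exists_regular_list hpos hm hmirr r X (fun i hi g => hvan i (by omega) g)
    ((show Module.supportDim R X.carrier = ringKrullDim R from Module.supportDim_self_eq_ringKrullDim R).trans hr).le
  let J : Ideal R := Ideal.ofList (l.map Prod.fst)
  have hJ : ∀ z : R, z ∈ Ideal.ofList (l.map Prod.fst) • (⊤ : Submodule R R) ↔ z ∈ J := fun z => by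
    rw [smul_eq_mul, Ideal.mul_top]
  -- the socle degree of `R / J`
  obtain ⟨k₀, hk₀⟩ := htors (1 : R)
  obtain ⟨D, hD⟩ := exists_deg_bound 𝒜 hp
  obtain ⟨c, ⟨z, hz, hzJ⟩, hc⟩ := Int.exists_greatest_of_bdd (P := fun g => ∃ z ∈ 𝒜 g, z ∉ J)
    ⟨((k₀ * D : ℕ) : ℤ), fun g ⟨z, hz, hzJ⟩ => by
      by_contra hg
      refine hzJ ((hJ z).1 ?_)
      have := hk₀ z (hmirr ▸ hD k₀ g (by omega) z hz)
      have h2 : z * 1 ∈ Ideal.ofList (l.map Prod.fst) • (⊤ : Submodule R R) := this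
      rwa [mul_one] at h2⟩
    ⟨0, 1, SetLike.one_mem_graded 𝒜, fun h => by
      have h1 : (1 : R) ∈ m.toIdeal := Ideal.span_le.2 (fun y hy => by
        obtain ⟨p, hp, rfl⟩ := List.mem_map.1 hy
        exact (hl p hp).2.2) h
      exact (isMaximal_of_isStarLocal hpos hm).ne_top ((Ideal.eq_top_iff_one _).2 h1)⟩
  obtain ⟨-, h2, h3⟩ := hVan_regular_top (a := m) l X (fun p hp => ⟨(hl p hp).1, (hl p hp).2.1.le, (hl p hp).2.2⟩)
    hreg htors c (fun g hg y hy => (hJ y).2 (by_contra fun h => absurd (hc g ⟨y, hy, h⟩) (by omega)))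
    ⟨z, hz, fun h => hzJ ((hJ z).1 h)⟩
  rw [hlen] at h2 h3
  have hcr := (endDeg_eq_iff I h2 h3 _).1 ha
  -- lift the sequence
  have hex : ∀ p ∈ l, ∃ q : MvPolynomial (Fin N) (GrLC.deg0 𝒜),
      q ∈ GrSyz.stdGr (GrLC.deg0 𝒜) (Fin N) p.2 ∧ φ q = p.1 := fun p hp => by
    obtain ⟨n, hn⟩ : ∃ n : ℕ, p.2 = n := ⟨p.2.toNat, by have := (hl p hp).2.1; omega⟩
    obtain ⟨q, hq, hqe⟩ := hsd n p.1 (hn ▸ (hl p hp).1)
    exact ⟨q, hn ▸ hq, hqe⟩
  choose! q hq hqe using hex
  let l' := l.map fun p => (q p, p.2)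
  have hfst : (l'.map Prod.fst).map (algebraMap (MvPolynomial (Fin N) (GrLC.deg0 𝒜)) R) = l.map Prod.fst := by
    simp only [l', List.map_map]
    exact List.map_congr_left fun p hp => hqe p hp
  have hsnd : l'.map Prod.snd = l.map Prod.snd := by
    simp only [l', List.map_map]; rfl
  let Z := gmodPieces (GrSyz.stdGr (GrLC.deg0 𝒜) (Fin N)) 𝒜
  haveI : Module.Finite (MvPolynomial (Fin N) (GrLC.deg0 𝒜)) Z.carrier :=
    Module.Finite.of_surjective (Algebra.linearMap (MvPolynomial (Fin N) (GrLC.deg0 𝒜)) R) hs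
  have hJ' : ∀ y : R, y ∈ Ideal.ofList (l'.map Prod.fst) •
      (⊤ : Submodule (MvPolynomial (Fin N) (GrLC.deg0 𝒜)) R) ↔ y ∈ J := fun y => by
    rw [Ideal.smul_top_eq_map, Submodule.restrictScalars_mem, Ideal.map_ofList, hfst]
  have hirr : ∀ x ∈ (GrSyz.irrel (GrSyz.stdGr (GrLC.deg0 𝒜) (Fin N))).toIdeal, φ x ∈ m.toIdeal := by
    intro x hx
    refine (Ideal.map_le_iff_le_comap.1 ?_ : _ ≤ Ideal.comap φ m.toIdeal) hx
    rw [show (GrSyz.irrel (GrSyz.stdGr (GrLC.deg0 𝒜) (Fin N))).toIdeal = Ideal.span _ from rfl, Ideal.map_span]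
    refine Ideal.span_le.2 ?_
    rintro _ ⟨p, ⟨n, hn, hp'⟩, rfl⟩
    exact hmirr.ge (mem_irrel_of_pos 𝒜 hn (hdeg n p hp'))
  obtain ⟨k1, k2, -⟩ := hVan_regular_top (a := GrSyz.irrel (GrSyz.stdGr (GrLC.deg0 𝒜) (Fin N))) l' Z
    (fun p' hp' => by
      obtain ⟨p, hp, rfl⟩ := List.mem_map.1 hp'
      exact ⟨hq p hp, (hl p hp).2.1.le, mem_irrel_of_pos _ (hl p hp).2.1 (hq p hp)⟩)
    ((isWeaklyRegular_map_algebraMap_iff R R (l'.map Prod.fst)).1 (hfst ▸ hreg))
    (fun (y : R) => by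
      obtain ⟨k, hk⟩ := htors y
      refine ⟨k, fun x hx => (hJ' _).2 ?_⟩
      have h1 : φ x ∈ m.toIdeal ^ k :=
        Ideal.pow_right_mono (Ideal.map_le_iff_le_comap.2 hirr) k (Ideal.map_pow φ _ k ▸ Ideal.mem_map_of_mem φ hx)
      exact (hJ _).1 (hk _ h1))
    c (fun g hg y hy => (hJ' y).2 (by_contra fun h => absurd (hc g ⟨y, hy, h⟩) (by omega)))
    ⟨z, hz, fun h => hzJ ((hJ' z).1 h)⟩
  rw [show l'.length = r by simp [l', hlen]] at k1 k2
  rw [hsnd] at k2
  have hZ : RegBd (GrSyz.irrel (GrSyz.stdGr (GrLC.deg0 𝒜) (Fin N))) Z 0 := fun i g hg => by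
    rcases eq_or_ne i r with rfl | hi
    · exact k2 g (by omega)
    · exact k1 i hi g
  have hinj : Function.Injective φ := injective_of_regBd
    (fun g p hp => show φ p ∈ 𝒜 (g + 0) from (add_zero g).symm ▸ hdeg g p hp) hs hlow hZ
  let ε := RingEquiv.ofBijective φ ⟨hinj, hs⟩
  have hNr : N = r := by
    have h := ringKrullDim_eq_of_ringEquiv ε
    rw [hr, MvPolynomial.ringKrullDim_of_isNoetherianRing, ringKrullDim_eq_zero_of_field, zero_add] at h
    simpa using h
  subst hNr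
  exact ⟨ε.symm⟩

include hpos h0 hstd in
/-- A polynomial ring has `a = -dim`. -/
theorem endDeg_of_equiv (hm : GrLC.IsStarLocal 𝒜 m)
    (hmsp : m.toIdeal = Ideal.span (⋃ n ∈ Set.Ioi (0 : ℤ), (𝒜 n : Set R)))
    (r : ℕ) (hr : ringKrullDim R = r) (I : GrLC.StarInjRes 𝒜 𝒜)
    (hψ : Nonempty (R ≃+* MvPolynomial (Fin r) (GrLC.deg0 𝒜))) :
    GrLC.endDeg (I.Hgr m r) = (((-(r : ℤ) : ℤ) : WithTop ℤ) : WithBot (WithTop ℤ)) := by
  classical
  letI := h0.toField
  obtain ⟨ψ⟩ := hψ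
  obtain ⟨N, φ, hdeg, hs, hlow, hC, hsd, -⟩ := exists_presentation hpos h0 hstd
  have hp := nonneg_of_bot hpos
  haveI hmax := isMaximal_of_isStarLocal hpos hm
  haveI : IsRegularRing R := IsRegularRing.of_ringEquiv ψ.symm
  let A := Localization.AtPrime m.toIdeal
  haveI : IsRegularLocalRing A := IsRegularRing.isRegularLocalRing_localization (R := R) m.toIdeal
  have hXm : ∀ i, φ (MvPolynomial.X i) ∈ m.toIdeal := fun i =>
    hmsp.ge (Ideal.subset_span (Set.mem_biUnion (Set.mem_Ioi.2 one_pos)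
      (hdeg 1 _ (isWeightedHomogeneous_X _ (fun _ => (1 : ℤ)) i))))
  have hdimA : ringKrullDim A = r := by
    rw [IsLocalization.AtPrime.ringKrullDim_eq_height m.toIdeal A, height_eq_ringKrullDim_of_isStarLocal hpos hm, hr]
  -- the linear forms are independent in the cotangent space
  have hle : N ≤ r := by
    have hrk : Module.finrank (ResidueField A) (CotangentSpace A) = r := by
      have h := (IsRegularLocalRing.iff_finrank_cotangentSpace (R := A)).1 inferInstance
      rw [hdimA] at h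
      exact_mod_cast h
    let x : Fin N → maximalIdeal A := fun i => ⟨algebraMap R A (φ (MvPolynomial.X i)),
      (IsLocalization.AtPrime.to_map_mem_maximal_iff A m.toIdeal _).2 (hXm i)⟩
    have hli : LinearIndependent (ResidueField A) fun i => (maximalIdeal A).toCotangent (x i) := by
      rw [Fintype.linearIndependent_iff]
      intro g hg i
      choose a ha using fun j => Ideal.Quotient.mk_surjective (I := maximalIdeal A) (g j)
      obtain ⟨s, hs'⟩ := IsLocalization.exist_integer_multiples_of_finite m.toIdeal.primeCompl a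
      choose t ht using hs'
      have hsum : (maximalIdeal A).toCotangent (∑ j, a j • x j) = 0 := by
        rw [map_sum, ← hg]
        refine Finset.sum_congr rfl fun j _ => ?_
        rw [map_smul, ← ha j]
        rfl
      rw [Ideal.toCotangent_eq_zero] at hsum
      have hsum' : algebraMap R A (∑ j, t j * φ (MvPolynomial.X j)) ∈ (m.toIdeal ^ 2).map (algebraMap R A) := by
        rw [Ideal.map_pow, Localization.AtPrime.map_eq_maximalIdeal]
        have := Ideal.mul_mem_left (maximalIdeal A ^ 2) (algebraMap R A s) hsum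
        rw [AddSubmonoidClass.coe_finsetSum, Finset.mul_sum] at this
        rw [map_sum]
        refine Eq.mp (congrArg (· ∈ maximalIdeal A ^ 2) (Finset.sum_congr rfl fun j _ => ?_)) this
        rw [map_mul, ht j]
        show algebraMap R A s * (a j * (x j : A)) = _
        rw [← algebraMap_smul A (s : R) (a j), smul_eq_mul]
        exact (mul_assoc _ _ _).symm
      obtain ⟨⟨w, hw⟩, v, hv, hwv⟩ : ∃ (w : m.toIdeal.primeCompl) (v : R), v ∈ m.toIdeal ^ 2 ∧
          (w : R) * (∑ j, t j * φ (MvPolynomial.X j)) = v := by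
        obtain ⟨⟨⟨v, hv⟩, u⟩, huv⟩ := (IsLocalization.mem_map_algebraMap_iff m.toIdeal.primeCompl A).1 hsum'
        rw [← map_mul] at huv
        obtain ⟨w, hw⟩ := (IsLocalization.eq_iff_exists m.toIdeal.primeCompl A).1 huv
        exact ⟨w * u, w * v, Ideal.mul_mem_left _ _ hv, by
          simp only [Submonoid.coe_mul]
          rw [mul_assoc, mul_comm (u : R)]; exact hw⟩
      have hab : m.toIdeal ^ 2 ≤ aboveSub 𝒜 𝒜 hp 2 := by
        have hall : (⊤ : Submodule R R) ≤ aboveSub 𝒜 𝒜 hp 0 := fun y _ g hg => hp g hg _ (SetLike.coe_mem _)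
        have h1 := (Submodule.smul_mono le_rfl hall).trans (irrel_smul_le 𝒜 𝒜 hp 0)
        have h2 := (Submodule.smul_mono le_rfl h1).trans (irrel_smul_le 𝒜 𝒜 hp (0 + 1))
        intro y hy
        rw [hmsp, ← irrel_toIdeal_eq, sq] at hy
        refine (h2 : _ ≤ aboveSub 𝒜 𝒜 hp (0 + 1 + 1)) ?_
        rwa [smul_eq_mul, smul_eq_mul, Ideal.mul_top]
      have hv1 : (decompose 𝒜 v 1 : R) = 0 := hab hv 1 (by omega)
      rw [← hwv, Finset.mul_sum, decompose_sum, DFinsupp.finsetSum_apply, AddSubmonoidClass.coe_finsetSum] at hv1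
      have hzero : ∑ j, C (⟨_, SetLike.coe_mem (decompose 𝒜 (w * t j) 0)⟩ : GrLC.deg0 𝒜) * MvPolynomial.X j = 0 := by
        refine hlow 1 le_rfl _ (sum_mem fun j _ => ?_) ?_
        · have := SetLike.mul_mem_graded (A := GrSyz.stdGr (GrLC.deg0 𝒜) (Fin N))
            (isWeightedHomogeneous_C (fun _ => (1 : ℤ)) (⟨_, SetLike.coe_mem (decompose 𝒜 (w * t j) 0)⟩ : GrLC.deg0 𝒜))
            (isWeightedHomogeneous_X (GrLC.deg0 𝒜) (fun _ => (1 : ℤ)) j)
          rwa [zero_add] at this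
        · rw [map_sum, ← hv1]
          refine Finset.sum_congr rfl fun j _ => ?_
          have hd := coe_decompose_mul_add_of_right_mem 𝒜 (a := (w : R) * t j) (i := (0 : ℤ))
            (hdeg 1 _ (isWeightedHomogeneous_X (GrLC.deg0 𝒜) (fun _ => (1 : ℤ)) j))
          rw [zero_add] at hd
          rw [map_mul, ← mul_assoc w, hd]
          congr 1
          exact hC _
      have hwt : w * t i ∈ m.toIdeal := by
        have h1 := congrArg (fun P => MvPolynomial.coeff (Finsupp.single i 1) P) hzero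
        simp only [coeff_sum, coeff_C_mul, coeff_X, mul_ite, mul_one, mul_zero, coeff_zero] at h1
        rw [Finset.sum_eq_single i (fun j _ hj => if_neg fun h => hj (Finsupp.single_left_injective one_ne_zero h))
          (fun h => absurd (Finset.mem_univ i) h), if_pos rfl] at h1
        have h2 : (decompose 𝒜 (w * t i) 0 : R) = 0 := congrArg Subtype.val h1
        rw [hmsp, ← irrel_toIdeal_eq, mem_irrel_iff 𝒜 hp, h2]
      have hti : t i ∈ m.toIdeal := (hmax.isPrime.mem_or_mem hwt).resolve_left hw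
      rw [← ha i]
      refine Ideal.Quotient.eq_zero_iff_mem.2 ?_
      have h1 : algebraMap R A s * a i ∈ maximalIdeal A := by
        rw [← Algebra.smul_def]
        show ((s : R)) • a i ∈ _
        rw [← ht i]
        exact (IsLocalization.AtPrime.to_map_mem_maximal_iff A m.toIdeal _).2 hti
      exact ((Ideal.IsMaximal.isPrime inferInstance).mem_or_mem h1).resolve_left fun h =>
        s.2 ((IsLocalization.AtPrime.to_map_mem_maximal_iff A m.toIdeal _).1 h)
    have := hli.fintype_card_le_finrank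
    rwa [hrk, Fintype.card_fin] at this
  haveI : IsDomain R := ψ.toMulEquiv.isDomain
  have hdimS : ringKrullDim (MvPolynomial (Fin N) (GrLC.deg0 𝒜)) = N := by
    rw [MvPolynomial.ringKrullDim_of_isNoetherianRing, ringKrullDim_eq_zero_of_field]; simp
  have hNr : N = r := by
    refine le_antisymm hle ?_
    have h := ringKrullDim_le_of_surjective φ hs
    rw [hr, hdimS] at h
    exact_mod_cast h
  subst hNr
  have hinj : Function.Injective φ := by
    rw [injective_iff_map_eq_zero]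
    intro p hp0
    by_contra hne
    have h1 := ringKrullDim_quotient_succ_le_of_nonZeroDivisor (mem_nonZeroDivisors_of_ne_zero hne)
    let χ : MvPolynomial (Fin N) (GrLC.deg0 𝒜) ⧸ Ideal.span {p} →+* R := Ideal.Quotient.lift _ φ fun y hy => by
      obtain ⟨q, rfl⟩ := Ideal.mem_span_singleton'.1 hy
      rw [map_mul, hp0, mul_zero]
    have hχ : Function.Surjective χ := fun y => let ⟨q, hq⟩ := hs y; ⟨Ideal.Quotient.mk _ q, hq⟩
    replace h1 := (add_le_add_left (ringKrullDim_le_of_surjective χ hχ) 1).trans h1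
    rw [hr, hdimS] at h1
    have h2 : N + 1 ≤ N := by exact_mod_cast h1
    omega
  let X := gmodPieces 𝒜 𝒜
  haveI : Module.Finite R X.carrier := inferInstanceAs (Module.Finite R R)
  let l : List (R × ℤ) := List.ofFn fun i : Fin N => (φ (MvPolynomial.X i), (1 : ℤ))
  letI := φ.toAlgebra
  have hfst : l.map Prod.fst = (List.ofFn (MvPolynomial.X : Fin N → MvPolynomial (Fin N) (GrLC.deg0 𝒜))).map
      (algebraMap (MvPolynomial (Fin N) (GrLC.deg0 𝒜)) R) := by
    simp [l, List.map_ofFn, Function.comp_def, RingHom.algebraMap_toAlgebra]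
  have hreg : IsWeaklyRegular R (l.map Prod.fst) := by
    rw [hfst, isWeaklyRegular_map_algebraMap_iff]
    exact ((LinearEquiv.ofBijective (Algebra.linearMap (MvPolynomial (Fin N) (GrLC.deg0 𝒜)) R)
      ⟨hinj, hs⟩).isWeaklyRegular_congr _).1 (isWeaklyRegular_X _ N)
  have hofl : Ideal.ofList (l.map Prod.fst) = m.toIdeal := by
    rw [hfst, ← Ideal.map_ofList, ← irrel_stdGr_eq_ofList, hmsp, hstd]
    refine le_antisymm ?_ ?_
    · rw [Ideal.map_le_iff_le_comap]
      refine (irrel_le_span_one _ N).trans ?_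
      rw [Ideal.span_le]
      exact fun p hp => Ideal.subset_span (hdeg 1 p hp)
    · rw [Ideal.span_le]
      intro x hx
      obtain ⟨p, hp', rfl⟩ := hsd 1 x (by exact_mod_cast hx)
      exact Ideal.mem_map_of_mem _ (mem_irrel_of_pos _ one_pos hp')
  have htop : ∀ y, y ∈ Ideal.ofList (l.map Prod.fst) • (⊤ : Submodule R R) ↔ y ∈ m.toIdeal := fun y => by
    rw [smul_eq_mul, Ideal.mul_top, hofl]
  obtain ⟨-, h2, h3⟩ := hVan_regular_top (a := m) l X
    (fun p hp => by
      obtain ⟨i, rfl⟩ := List.mem_ofFn.1 hp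
      exact ⟨hdeg 1 _ (isWeightedHomogeneous_X _ (fun _ => (1 : ℤ)) i), zero_le_one, hXm i⟩)
    hreg (fun (y : R) => ⟨1, fun x hx => (htop _).2 (m.toIdeal.mul_mem_right y (by rwa [pow_one] at hx))⟩) 0
    (fun g hg y hy => (htop y).2 (hmsp.ge (Ideal.subset_span (Set.mem_biUnion (Set.mem_Ioi.2 hg) hy))))
    ⟨(1 : R), SetLike.one_mem_graded 𝒜, fun h => hmax.ne_top ((Ideal.eq_top_iff_one _).2 ((htop 1).1 h))⟩
  rw [show l.length = N by simp [l], show (l.map Prod.snd).sum = (N : ℤ) by simp [l, List.map_ofFn, Function.comp_def],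
    zero_sub] at h2 h3
  exact (endDeg_eq_iff I h2 h3 _).2 rfl

end Groth.Agent.GrLib8.PolyChar
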