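import Groth.Agent.LocCohDepth.PuncturedKill
import Groth.Agent.LocCohDepth.Degree
import Groth.Agent.CurveCohLib.Euler
import Groth.Agent.LC.CohTorsion
import Groth.Agent.S0817
import Groth.Agent.KFlatLib.Scheme.TildePC
import Groth.Agent.QCoh.ExtendFT
import Groth.Agent.QCoh.SpecFT
import Groth.Agent.SiteBase.OpenRestr

/-!
# Cohomology on the complement of `V(I)` and local cohomology, linearly
-/

set_option autoImplicit false
set_option backward.isDefEq.respectTransparency false
set_option backward.isDefEq.respectTransparency.types false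

universe u

open CategoryTheory CategoryTheory.Limits AlgebraicGeometry Opposite TopologicalSpace
open Groth.Agent.LocCohDepth.Punct
open Groth.Agent.PnCoh.Finite (mapLin deltaLin)

namespace Groth.Agent.GrLib8.PuncturedLC

variable {A : Type u} [CommRing A]

set_option maxHeartbeats 800000

section General

variable {R : CommRingCat.{u}} (U : (Spec R).Opens)

/-- The section `1`. -/
noncomputable def one₀ :
    Coh.HH (U : Scheme.{u}) ((G U).obj (ModuleCat.of R R)) 0 :=
  (Sheaf.H.equiv₀ (Coh.toAb ((G U).obj (ModuleCat.of R R))) isTerminalTop).symm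
    (LocCohSec.toSec (R := R) (ModuleCat.of R R) (U.ι ''ᵁ ⊤) (1 : R))

/-- Scalar multiplication by a point, as a map of modules. -/
noncomputable def spanHom (N : ModuleCat.{u} R) (m : N) : ModuleCat.of R R ⟶ N :=
  ModuleCat.ofHom (LinearMap.toSpanSingleton R N m)

theorem spanHom_add (N : ModuleCat.{u} R) (m m' : N) : spanHom N (m + m') = spanHom N m + spanHom N m' :=
  ModuleCat.hom_ext (LinearMap.ext fun a => smul_add a m m')

theorem spanHom_smul (N : ModuleCat.{u} R) (a : R) (m : N) : spanHom N (a • m) = spanHom N m ≫ (a • 𝟙 N) :=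
  ModuleCat.hom_ext (LinearMap.ext fun r => smul_comm r a m)

/-- The value of the map to the sections. -/
noncomputable def cmapFun (N : ModuleCat.{u} R) (m : N) : Coh.HH (U : Scheme.{u}) ((G U).obj N) 0 :=
  mapLin R ((G U).map (spanHom N m)) 0 (one₀ U)

theorem cmapFun_add (N : ModuleCat.{u} R) (m m' : N) : cmapFun U N (m + m') = cmapFun U N m + cmapFun U N m' := by
  unfold cmapFun
  rw [spanHom_add, Functor.map_add, mapLin_add]

theorem cmapFun_smul (N : ModuleCat.{u} R) (a : R) (m : N) : cmapFun U N (a • m) = a • cmapFun U N m := by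
  unfold cmapFun
  rw [spanHom_smul, Functor.map_comp, mapLin_comp, mapLin_smul]

/-- The map from a module to the sections of its sheaf, into `H^0`. -/
noncomputable def cmap (N : ModuleCat.{u} R) : N →ₗ[R] Coh.HH (U : Scheme.{u}) ((G U).obj N) 0 where
  toFun := cmapFun U N
  map_add' := cmapFun_add U N
  map_smul' := cmapFun_smul U N

theorem cmap_natural {N M : ModuleCat.{u} R} (g : N ⟶ M) (m : N) :
    mapLin R ((G U).map g) 0 (cmap U N m) = cmap U M (g.hom m) := by
  show mapLin R ((G U).map g) 0 (cmapFun U N m) = cmapFun U M (g.hom m)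
  unfold cmapFun
  rw [← mapLin_comp, ← Functor.map_comp, show spanHom N m ≫ g = spanHom M (g.hom m) from
    ModuleCat.hom_ext (LinearMap.ext fun r => g.hom.map_smul r m)]

/-- `H^0` as sections. -/
noncomputable def sec₀ (N : ModuleCat.{u} R) :
    Coh.HH (U : Scheme.{u}) ((G U).obj N) 0 ≃+ LocCohSec.sec (R := R) N (U.ι ''ᵁ ⊤) :=
  Sheaf.H.equiv₀ (Coh.toAb ((G U).obj N)) isTerminalTop

theorem sec₀_cmap (N : ModuleCat.{u} R) (m : N) :
    sec₀ U N (cmap U N m) = LocCohSec.toSec (R := R) N (U.ι ''ᵁ ⊤) m := by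
  refine (Sheaf.H.equiv₀_naturality isTerminalTop
    ((QCoh.toAbFunctor (U : Scheme.{u})).map ((G U).map (ModuleCat.ofHom (LinearMap.toSpanSingleton R N m)))) (one₀ U)).symm.trans ?_
  refine (congrArg _ ((Sheaf.H.equiv₀ (Coh.toAb ((G U).obj (ModuleCat.of R R))) isTerminalTop).apply_symm_apply _)).trans ?_
  refine (ConcreteCategory.congr_hom (tilde.toOpen_map_app (ModuleCat.ofHom (LinearMap.toSpanSingleton R N m)) (U.ι ''ᵁ ⊤)) (1 : R)).trans ?_
  exact congrArg (LocCohSec.toSec (R := R) N (U.ι ''ᵁ ⊤)) (one_smul R m)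

end General

end Groth.Agent.GrLib8.PuncturedLC
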