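import Groth.Agent.GrLib8.HZshPre

/-!
# Derived functors of global sections with supports are the Ext groups
-/

set_option autoImplicit false

universe u

open CategoryTheory CategoryTheory.Limits Opposite TopologicalSpace

noncomputable section

namespace Groth.Agent.GrLib8.HZshPre

variable {X : TopCat.{u}} (U : Opens X)

local notation "JX" => Opens.grothendieckTopology X

instance evalTop_additive : ((evaluation (Opens X)ᵒᵖ AddCommGrpCat.{u}).obj (op ⊤)).Additive where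

/-- `ℤ_X/ℤ_{X ∩ U} ≅ ℤ_X/ℤ_U`. -/
def zqTopIso : (P U).obj ⊤ ≅ ToposFin.quotZ (LocCohZ.openSh U) :=
  { hom := LocCohZ.zqMap (le_top : U ≤ ⊤) (inf_le_left : ⊤ ⊓ U ≤ ⊤) inf_le_right le_rfl
    inv := LocCohZ.zqMap (inf_le_left : ⊤ ⊓ U ≤ ⊤) (le_top : U ≤ ⊤) (le_inf le_top le_rfl) le_rfl
    hom_inv_id := (SuppFam.zqMap_comp _ _ _ _ _ _ _).trans (SuppFam.zqMap_id _)
    inv_hom_id := (SuppFam.zqMap_comp _ _ _ _ _ _ _).trans (SuppFam.zqMap_id _) } ≪≫ LocCohZ.zqIsoQuotZ U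

/-- `R^qΓ_Z(X, -) ≅ Ext^q(ℤ_X/ℤ_U, -)`. -/
def rhzIso (q : ℕ) : LocCohZ.RHZ U q ≅ ToposFin.HZFunctor (LocCohZ.openSh U) q :=
  SiteBase.rightDerivedCongr (G := (LocCohZ.sectSuppF U ⋙ sheafToPresheaf JX AddCommGrpCat.{u}) ⋙
      (evaluation (Opens X)ᵒᵖ AddCommGrpCat.{u}).obj (op ⊤)) (Functor.associator _ _ _).symm q ≪≫
    SiteBase.rightDerivedCompIso (LocCohZ.sectSuppF U ⋙ sheafToPresheaf JX AddCommGrpCat.{u})
      ((evaluation (Opens X)ᵒᵖ AddCommGrpCat.{u}).obj (op ⊤)) q ≪≫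
    Functor.isoWhiskerRight ((pres U).rightDerivedIso q) _ ≪≫
    (Abelian.extFunctor.{u} q).mapIso (zqTopIso U).symm.op

end Groth.Agent.GrLib8.HZshPre
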