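import Groth.Agent.GrLib8.Koszul
import Groth.Agent.GrLib8.Diag
import Groth.Agent.GrLib8.EventVan

/-!
# Regularity through local cohomology bounds the degrees of generators
-/

set_option autoImplicit false
set_option linter.unusedSectionVars false

universe u

open DirectSum

namespace Groth.Agent.GrLib8

variable {R : Type u} [CommRing R] [IsNoetherianRing R] {σ : Type u} [SetLike σ R] [AddSubgroupClass σ R]
  {𝒜 : ℤ → σ} [GradedRing 𝒜] {a : HomogeneousIdeal 𝒜}

/-- If the diagonal `H^p(X)_{g-p}` vanishes, degree `g` is generated from below. -/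
theorem mem_smul_top_of_diagonal (X : GrLC.GMod.{u} 𝒜) (xs : List R) (hxs : ∀ x ∈ xs, x ∈ 𝒜 1)
    (hspan : a.toIdeal ≤ Ideal.ofList xs) (g : ℤ) (h : ∀ p : ℕ, HVan a X p (g - p)) (m : X.carrier) (hm : m ∈ X.gr g) :
    m ∈ Ideal.ofList xs • (⊤ : Submodule R X.carrier) := by
  classical
  obtain ⟨C, d, ε, hd, hε, hdd, hh, hvan, htop, hrange⟩ := exists_koszul a X 1 xs hxs
  let L0 : Submodule R (C 0).carrier := LinearMap.range (d 0)
  have hB := hVan_boundary X 1 xs hspan 0 g C d hd hdd hh hvan htop fun q => by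
    rw [show g - (q + 1) • (1 : ℤ) = g - ((q + 1 : ℕ) : ℤ) by rw [nsmul_eq_mul, mul_one],
      show 0 + 1 + q = q + 1 by omega]
    exact h (q + 1)
  have hL0 : L0.IsHomogeneous (C 0).gr := isHomogeneous_range (C 0).gr (C 1).gr (isGrHomDeg_zero_iff.1 (hd 0))
  let T0 := quotGMod 𝒜 (C 0).gr L0 hL0
  let π0 : (C 0).carrier →ₗ[R] T0.carrier := L0.mkQ
  have hT0 : HVan a T0 0 g := by
    refine hVan_right (X := subGMod 𝒜 (C 0).gr L0 hL0) (Y := C 0) (Z := T0) (f := L0.subtype) (p := π0) (d := 0)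
      (fun l m hm => (add_zero l).symm ▸ hm) (fun l m hm => (add_zero l).symm ▸ isGrHom_mkQ (C 0).gr L0 l m hm)
      Subtype.val_injective (Submodule.mkQ_surjective L0) (LinearMap.exact_subtype_mkQ L0) (hvan 0 0 g ?_) ?_
    · simpa using h 0
    · rw [sub_zero]; exact hB
  have htors : ∀ z : (C 0).carrier, ∀ y ∈ a.toIdeal, y • z ∈ L0 := fun z y hy => by
    have hy' := hspan hy
    change y ∈ Ideal.span _ at hy'
    clear hy
    induction hy' using Submodule.span_induction with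
    | mem y hy1 =>
      obtain ⟨hy2, hy3, -⟩ := hh y hy1
      exact ⟨hy2 0 z, hy3 z⟩
    | zero => rw [zero_smul]; exact zero_mem _
    | add y y' _ _ h1 h2 => rw [add_smul]; exact add_mem h1 h2
    | smul c y _ h1 => rw [smul_eq_mul, mul_smul]; exact L0.smul_mem c h1
  obtain ⟨w, hw, hwm⟩ := exists_preimage_mem ε.toLinearMap hε hm ⟨ε.symm m, ε.apply_symm_apply m⟩
  rw [sub_zero] at hw
  obtain ⟨e, he⟩ := exists_H0_equiv (starRes T0.gr) a
  have hgam : π0 w ∈ GrLC.gam a.toIdeal T0.carrier :=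
    ⟨1, fun r hr => (map_smul π0 r w).symm.trans ((Submodule.Quotient.mk_eq_zero L0).2 (htors w r (by rwa [pow_one] at hr)))⟩
  have h0 : e ⟨π0 w, hgam⟩ = 0 :=
    (Hcomp_eq_bot_iff _ a 0 g).1 (hT0 _) _ ((he g ⟨π0 w, hgam⟩).1 (isGrHom_mkQ (C 0).gr L0 g w hw))
  have hwL : w ∈ L0 := (Submodule.Quotient.mk_eq_zero L0).1 (congrArg Subtype.val (e.map_eq_zero_iff.1 h0) :)
  obtain ⟨v, hv⟩ := hwL
  have h1 : ε w ∈ (Ideal.ofList xs • (⊤ : Submodule R (C 0).carrier)).map ε.toLinearMap :=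
    Submodule.mem_map_of_mem (hv ▸ hrange v)
  rw [Submodule.map_smul''] at h1
  rw [← hwm]
  exact Submodule.smul_mono le_rfl le_top h1

end Groth.Agent.GrLib8
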