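import Groth.Agent.GrLib8.EventVan
import Mathlib.RingTheory.Artinian.Ring

/-!
# The maximal homogeneous ideal over an Artinian degree zero part
-/

set_option autoImplicit false
set_option linter.unusedSectionVars false

universe u

open DirectSum

namespace Groth.Agent.GrLib8

variable {R : Type u} [CommRing R] [IsNoetherianRing R] {𝒜 : ℤ → AddSubgroup R} [GradedRing 𝒜]

theorem le_of_isStarLocal {m : HomogeneousIdeal 𝒜} (hm : GrLC.IsStarLocal 𝒜 m) {J : HomogeneousIdeal 𝒜} (hJ : J ≠ ⊤) :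
    J ≤ m := by
  haveI : WellFoundedGT (HomogeneousIdeal 𝒜) :=
    StrictMono.wellFoundedGT (f := HomogeneousIdeal.toIdeal) fun I K h => h
  haveI : IsCoatomic (HomogeneousIdeal 𝒜) := isCoatomic_of_orderTop_gt_wellFounded wellFounded_gt
  rcases eq_top_or_exists_le_coatom J with h | ⟨c, hc, hle⟩
  · exact absurd h hJ
  · exact (hm.2 c hc) ▸ hle

/-- A power of the maximal homogeneous ideal lies in the irrelevant ideal. -/
theorem exists_pow_le_irrel (hpos : ∀ n : ℤ, n < 0 → 𝒜 n = ⊥) [IsArtinianRing (GrLC.deg0 𝒜)]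
    {m : HomogeneousIdeal 𝒜} (hm : GrLC.IsStarLocal 𝒜 m) :
    ∃ k, m.toIdeal ^ k ≤ (GrSyz.irrel 𝒜).toIdeal := by
  classical
  have hpos' := nonneg_of_bot hpos
  let m0 : Ideal (GrLC.deg0 𝒜) := m.toIdeal.comap (GrLC.deg0 𝒜).subtype
  have hm0 : m0 ≤ Ideal.jacobson ⊥ := by
    refine le_sInf fun n ⟨_, hn⟩ => ?_
    haveI := hn
    let J : HomogeneousIdeal 𝒜 := ⟨Ideal.span ((GrLC.deg0 𝒜).subtype '' (n : Set (GrLC.deg0 𝒜))),
      Ideal.homogeneous_span 𝒜 _ fun y ⟨z, _, hz⟩ => ⟨0, hz ▸ z.2⟩⟩ ⊔ GrSyz.irrel 𝒜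
    have hJ : J ≠ ⊤ := fun htop => by
      have h1 : (1 : R) ∈ J.toIdeal := by rw [htop]; trivial
      rw [HomogeneousIdeal.toIdeal_sup] at h1
      obtain ⟨u, hu, v, hv, huv⟩ := Submodule.mem_sup.1 h1
      have h := congrArg (fun y => (decompose 𝒜 y 0 : R)) huv
      simp only [decompose_add, DirectSum.add_apply, AddMemClass.coe_add,
        decompose_of_mem_same 𝒜 (SetLike.one_mem_graded 𝒜)] at h
      have hall : ∀ y : R, y ∈ aboveSub 𝒜 𝒜 hpos' 0 := fun y g hg => hpos' g hg _ (SetLike.coe_mem _)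
      have hv' : v • (1 : R) ∈ aboveSub 𝒜 𝒜 hpos' (0 + 1) :=
        irrel_smul_le 𝒜 𝒜 hpos' 0 (Submodule.smul_mem_smul hv (hall 1))
      rw [smul_eq_mul, mul_one] at hv'
      have hv0 := hv' 0 (by norm_num)
      rw [hv0, add_zero] at h
      have hmap : (decompose 𝒜 u 0 : R) ∈ n.map (GrLC.deg0 𝒜).subtype :=
        (Ideal.homogeneous_span 𝒜 ((GrLC.deg0 𝒜).subtype '' (n : Set (GrLC.deg0 𝒜)))
          fun y ⟨z, _, hz⟩ => ⟨0, hz ▸ z.2⟩) 0 hu
      rw [h] at hmap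
      exact hn.ne_top ((Ideal.eq_top_iff_one n).2 (mem_of_mem_map_deg0 𝒜 n 1 hmap))
    have hle : J.toIdeal ≤ m.toIdeal := le_of_isStarLocal hm hJ
    have hne : m0 ≠ ⊤ := fun htop => hm.1.1 (HomogeneousIdeal.toIdeal_injective (by
      rw [HomogeneousIdeal.toIdeal_top]
      exact (Ideal.eq_top_iff_one _).2 ((Ideal.eq_top_iff_one m0).1 htop : (1 : GrLC.deg0 𝒜) ∈ m0)))
    have hnm : n ≤ m0 := fun z hz => hle (by
      rw [HomogeneousIdeal.toIdeal_sup]
      exact Ideal.mem_sup_left (Ideal.subset_span ⟨z, hz, rfl⟩))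
    exact (hn.eq_of_le hne hnm).ge
  obtain ⟨k, hk⟩ := IsArtinianRing.isNilpotent_jacobson_bot (R := GrLC.deg0 𝒜)
  refine ⟨k, ?_⟩
  have hm' : m.toIdeal ≤ m0.map (GrLC.deg0 𝒜).subtype ⊔ (GrSyz.irrel 𝒜).toIdeal := by
    intro r hr
    rw [← sum_support_decompose 𝒜 r]
    refine Ideal.sum_mem _ fun i _ => ?_
    rcases lt_trichotomy i 0 with hi | rfl | hi
    · rw [hpos' i hi _ (SetLike.coe_mem _)]; exact zero_mem _
    · refine Ideal.mem_sup_left ?_
      have hx : (⟨_, (decompose 𝒜 r 0).2⟩ : GrLC.deg0 𝒜) ∈ m0 :=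
        (show (decompose 𝒜 r 0 : R) ∈ m.toIdeal from m.isHomogeneous 0 hr)
      exact Ideal.mem_map_of_mem (GrLC.deg0 𝒜).subtype hx
    · exact Ideal.mem_sup_right (mem_irrel_of_pos 𝒜 hi (SetLike.coe_mem _))
  have hsup : ∀ (I K : Ideal R) (q : ℕ), (I ⊔ K) ^ q ≤ I ^ q ⊔ K := fun I K q => by
    induction q with
    | zero => rw [pow_zero, pow_zero, Ideal.one_eq_top]; exact le_sup_left
    | succ q ih =>
      rw [pow_succ, pow_succ]
      refine (Ideal.mul_mono_left ih).trans ?_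
      simp only [Ideal.sup_mul, Ideal.mul_sup, sup_le_iff]
      refine ⟨⟨?_, ?_⟩, ?_, ?_⟩ <;> first
        | exact le_sup_left
        | exact Ideal.mul_le_left.trans le_sup_right
        | exact Ideal.mul_le_right.trans le_sup_right
  refine (Ideal.pow_right_mono hm' k).trans ((hsup _ _ k).trans (sup_le ?_ le_rfl))
  rw [← Ideal.map_pow, le_bot_iff.1 ((Ideal.pow_right_mono hm0 k).trans (le_of_eq hk)), Ideal.map_bot]
  exact bot_le

end Groth.Agent.GrLib8
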