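import Groth.Agent.GrLib8.RegStd

/-!
# The bound passes to quotients by regular linear forms
-/

set_option autoImplicit false
set_option linter.unusedSectionVars false

universe u

open DirectSum RingTheory.Sequence
open scoped Pointwise

namespace Groth.Agent.GrLib8

variable {R : Type u} [CommRing R] [IsNoetherianRing R] {σ : Type u} [SetLike σ R] [AddSubgroupClass σ R]
  {𝒜 : ℤ → σ} [GradedRing 𝒜] {a : HomogeneousIdeal 𝒜}

theorem mem_of_regBd : ∀ (ys : List R) (X : GrLC.GMod.{u} 𝒜) [Module.Finite R X.carrier],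
    (∀ y ∈ ys, y ∈ 𝒜 1) → IsWeaklyRegular X.carrier ys →
    (∀ m : X.carrier, ∃ k : ℕ, ∀ r ∈ a.toIdeal ^ k, r • m ∈ Ideal.ofList ys • (⊤ : Submodule R X.carrier)) →
    ∀ d : ℤ, RegBd a X d → ∀ g, d < g → ∀ m ∈ X.gr g, m ∈ Ideal.ofList ys • (⊤ : Submodule R X.carrier)
  | [] => fun X _ _ _ htors d hX g hg m hm => by
    simp only [Ideal.ofList_nil, Submodule.bot_smul, Submodule.mem_bot] at htors ⊢
    obtain ⟨e, he⟩ := exists_H0_equiv (starRes X.gr) a
    have h := (Hcomp_eq_bot_iff _ a 0 g).1 (hX 0 g (by simpa using hg) (starRes X.gr)) _ ((he g ⟨m, htors m⟩).1 hm)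
    exact congrArg Subtype.val (e.map_eq_zero_iff.1 h)
  | y :: ys => fun X _ hy1 hreg htors d hX g hg m hm => by
    rw [isWeaklyRegular_cons_iff] at hreg
    have hy := hy1 y List.mem_cons_self
    obtain ⟨Y, π, _, hμ, hπg, hinj, hπ, hex, hl⟩ := exists_regular_seq hy hreg.1
    have hker : LinearMap.ker π = y • (⊤ : Submodule R X.carrier) := by
      rw [LinearMap.exact_iff.1 hex]
      refine Submodule.ext fun z => ⟨?_, ?_⟩
      · rintro ⟨w, rfl⟩; exact Submodule.smul_mem_pointwise_smul w y ⊤ Submodule.mem_top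
      · intro hz
        obtain ⟨w, -, rfl⟩ := (Submodule.mem_smul_pointwise_iff_exists z y ⊤).1 hz
        exact ⟨w, rfl⟩
    let eY : QuotSMulTop y X.carrier ≃ₗ[R] Y.carrier :=
      (Submodule.quotEquivOfEq _ _ hker.symm).trans (π.quotKerEquivOfSurjective hπ)
    have hlist : Ideal.ofList (y :: ys) • (⊤ : Submodule R X.carrier) =
        y • (⊤ : Submodule R X.carrier) ⊔ Ideal.ofList ys • ⊤ := by
      rw [Ideal.ofList_cons, Submodule.sup_smul, Submodule.ideal_span_singleton_smul]
    have hmap : (Ideal.ofList ys • (⊤ : Submodule R X.carrier)).map π = Ideal.ofList ys • ⊤ := by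
      rw [Submodule.map_smul'', Submodule.map_top, LinearMap.range_eq_top.2 hπ]
    have hiff : ∀ w : X.carrier, π w ∈ Ideal.ofList ys • (⊤ : Submodule R Y.carrier) ↔
        w ∈ Ideal.ofList (y :: ys) • (⊤ : Submodule R X.carrier) := fun w => by
      rw [← hmap, hlist, ← hker, sup_comm, ← Submodule.comap_map_eq, Submodule.mem_comap]
    refine (hiff m).1 (mem_of_regBd ys Y (fun z hz => hy1 z (List.mem_cons_of_mem _ hz))
      ((eY.isWeaklyRegular_congr ys).1 hreg.2) (fun q => ?_) d (fun i g' hg' => ?_) g hg _ ?_)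
    · obtain ⟨w, rfl⟩ := hπ q
      obtain ⟨k, hk⟩ := htors w
      exact ⟨k, fun r hr => (map_smul π r w) ▸ (hiff _).2 (hk r hr)⟩
    · exact hVan_right hμ hπg hinj hπ hex (hX i g' hg') (hX (i + 1) (g' - 1) (by push_cast; omega))
    · have := hπg g m hm
      rwa [add_zero] at this

end Groth.Agent.GrLib8
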