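import Groth.Agent.GrLib8.RegBound
import Groth.Agent.GrLib8.RegLC
import Groth.Agent.GrLib8.FreeResBuild
import Groth.Agent.LC.Connected

/-!
# Minimal resolutions and regularity through local cohomology
-/

set_option autoImplicit false
set_option linter.unusedSectionVars false

universe u

open DirectSum

namespace Groth.Agent.GrLib8

variable {R : Type u} [CommRing R] [IsNoetherianRing R] {σ : Type u} [SetLike σ R] [AddSubgroupClass σ R]
  {𝒜 : ℤ → σ} [GradedRing 𝒜] {a : HomogeneousIdeal 𝒜}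

variable (a) in
/-- `H^i_a(X)_g = 0` above the diagonal `g + i = d`. -/
def RegBd (X : GrLC.GMod.{u} 𝒜) (d : ℤ) : Prop := ∀ (i : ℕ) (g : ℤ), d < g + i → HVan a X i g

theorem hVan_of_subsingleton {X : GrLC.GMod.{u} 𝒜} [hX : Subsingleton X.carrier] (i : ℕ) (g : ℤ) : HVan a X i g := by
  rcases i with _ | i
  · exact hVan_zero_of fun m _ _ => Subsingleton.elim m 0
  · exact hVan_of_torsion (fun m => ⟨0, fun r _ => Subsingleton.elim _ _⟩) i g

/-- Free modules inherit the bound of the ring. -/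
theorem regBd_free (hR : RegBd a (gmodPieces 𝒜 𝒜) 0) : ∀ {n : ℕ} (e : Fin n → ℤ) (d : ℤ), (∀ b, e b ≤ d) →
    RegBd a (freeGMod (𝒜 := 𝒜) e) d
  | 0, e, _, _ => fun i g _ => by
    haveI : Subsingleton (freeGMod (𝒜 := 𝒜) e).carrier := inferInstanceAs (Subsingleton (Fin 0 → R))
    exact hVan_of_subsingleton i g
  | n + 1, e, d, he => fun i g hg => by
    classical
    let X := shiftGMod 𝒜 (gmodPieces 𝒜 𝒜).gr (-e 0)
    let Y := freeGMod (𝒜 := 𝒜) e
    let Z := freeGMod (𝒜 := 𝒜) fun j : Fin n => e j.succ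
    let f : X.carrier →ₗ[R] Y.carrier := LinearMap.single R (fun _ : Fin (n + 1) => R) 0
    let p : Y.carrier →ₗ[R] Z.carrier := LinearMap.funLeft R R Fin.succ
    refine hVan_middle (X := X) (Y := Y) (Z := Z) (f := f) (p := p) (d := 0) ?_ ?_ (Pi.single_injective (M := fun _ : Fin (n + 1) => R) 0 :)
      (LinearMap.funLeft_surjective_of_injective R R _ (Fin.succ_injective n)) ?_ ?_
      (regBd_free hR _ d (fun b => he _) i g hg)
    · intro l (m : R) hm b _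
      show Pi.single (M := fun _ : Fin (n + 1) => R) 0 m b ∈ 𝒜 (l + 0 - e b)
      rcases eq_or_ne b 0 with rfl | hb
      · rw [Pi.single_eq_same, add_zero, sub_eq_add_neg]; exact hm
      · rw [Pi.single_eq_of_ne hb]; exact zero_mem _
    · intro l (z : Fin (n + 1) → R) hz b _
      show z b.succ ∈ 𝒜 (l + 0 - e b.succ)
      rw [add_zero]; exact hz b.succ trivial
    · intro (z : Fin (n + 1) → R)
      refine ⟨fun h => ⟨z 0, funext fun b => ?_⟩, fun ⟨w, hw⟩ => funext fun b => ?_⟩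
      · show Pi.single (M := fun _ : Fin (n + 1) => R) 0 (z 0) b = z b
        refine Fin.cases ?_ (fun j => ?_) b
        · rw [Pi.single_eq_same]
        · rw [Pi.single_eq_of_ne (Fin.succ_ne_zero j)]; exact (congrFun h j).symm
      · show z b.succ = 0
        rw [← hw]; exact Pi.single_eq_of_ne (M := fun _ : Fin (n + 1) => R) (Fin.succ_ne_zero b) (w : R)
    · refine hVan_shift (hR i _ ?_)
      have := he 0
      omega

/-- One step down a minimal resolution. -/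
theorem regBd_step (hpos : ∀ n < 0, ∀ r ∈ 𝒜 n, r = 0) (hR : RegBd a (gmodPieces 𝒜 𝒜) 0) (xs : List R)
    (hxs : ∀ x ∈ xs, x ∈ 𝒜 1) (hspan : a.toIdeal ≤ Ideal.ofList xs) [Nontrivial R]
    {n : ℕ} {e : Fin n → ℤ} {K Z : GrLC.GMod.{u} 𝒜} (f : K.carrier →ₗ[R] (freeGMod (𝒜 := 𝒜) e).carrier)
    (p : (freeGMod (𝒜 := 𝒜) e).carrier →ₗ[R] Z.carrier) (hf : GrLC.IsGrHomDeg K.gr (freeGMod (𝒜 := 𝒜) e).gr f 0)
    (hp : GrLC.IsGrHomDeg (freeGMod (𝒜 := 𝒜) e).gr Z.gr p 0) (hinj : Function.Injective f)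
    (hsurj : Function.Surjective p) (hex : Function.Exact f p)
    (hmin : ∀ v : Fin n → R, p v = 0 → ∀ j, v j ∈ (GrSyz.irrel 𝒜).toIdeal) {D : ℤ} (hZ : RegBd a Z D) :
    (∀ b, e b ≤ D) ∧ RegBd a K (D + 1) := by
  classical
  have he : ∀ b, e b ≤ D := by
    intro b
    by_contra hb
    let v : Fin n → R := Pi.single b 1
    have hv : v ∈ (freeGMod (𝒜 := 𝒜) e).gr (e b) := fun j _ => by
      show Pi.single (M := fun _ : Fin n => R) b 1 j ∈ 𝒜 (e b - e j)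
      rcases eq_or_ne j b with rfl | hj
      · rw [Pi.single_eq_same, sub_self]; exact SetLike.one_mem_graded 𝒜
      · rw [Pi.single_eq_of_ne hj]; exact zero_mem _
    have hz := hp (e b) v hv
    rw [add_zero] at hz
    have hmem := mem_smul_top_of_diagonal Z xs hxs hspan (e b) (fun q => hZ q _ (by omega)) _ hz
    have hle : Ideal.ofList xs ≤ (GrSyz.irrel 𝒜).toIdeal :=
      Ideal.span_le.2 fun y hy => mem_irrel_of_pos 𝒜 one_pos (hxs y hy)
    let q : (Fin n → R) →ₗ[R] Z.carrier := p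
    have hmem' : q v ∈ ((GrSyz.irrel 𝒜).toIdeal • (⊤ : Submodule R (Fin n → R))).map q := by
      rw [Submodule.map_smul'', Submodule.map_top, (LinearMap.range_eq_top (f := q)).2 hsurj]
      exact Submodule.smul_mono_left hle hmem
    obtain ⟨w, hw, hwv⟩ := hmem'
    have hwj : ∀ w ∈ (GrSyz.irrel 𝒜).toIdeal • (⊤ : Submodule R (Fin n → R)), ∀ j, w j ∈ (GrSyz.irrel 𝒜).toIdeal := by
      intro w hw
      refine Submodule.smul_induction_on hw (fun r hr m _ j => ?_) (fun x y hx hy j => ?_)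
      · exact Ideal.mul_mem_right _ _ hr
      · exact add_mem (hx j) (hy j)
    have h1 := hmin (v - w) (by
      show q (v - w) = 0
      exact (map_sub q v w).trans (sub_eq_zero.2 hwv.symm)) b
    have h2 : v b ∈ (GrSyz.irrel 𝒜).toIdeal := by
      have := add_mem h1 (hwj w hw b)
      rwa [Pi.sub_apply, sub_add_cancel] at this
    rw [show v b = 1 from Pi.single_eq_same b 1, mem_irrel_iff 𝒜 hpos,
      decompose_of_mem_same 𝒜 (SetLike.one_mem_graded 𝒜)] at h2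
    exact one_ne_zero h2
  refine ⟨he, fun i g hg => ?_⟩
  rcases i with _ | i
  · have := hVan_left_zero hf hp hinj hsurj hex (regBd_free hR e D he 0 g (by simp only [Nat.cast_zero] at *; omega))
    rwa [sub_zero] at this
  · have := hVan_left hf hp hinj hsurj hex (hZ i g (by push_cast at hg; omega))
      (regBd_free hR e D he (i + 1) g (by omega))
    rwa [sub_zero] at this

variable {M : Type u} [AddCommGroup M] [Module R M] {τ : Type u} [SetLike τ M] [AddSubgroupClass τ M] {ℳ : ℤ → τ}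
  [Decomposition ℳ] [SetLike.GradedSMul 𝒜 ℳ]

/-- The syzygies of a resolution, as exact sequences of graded modules. -/
theorem exists_syz (F : GrSyz.FreeRes 𝒜 ℳ) :
    ∃ (K : ℕ → GrLC.GMod.{u} 𝒜) (j : ∀ i, (K i).carrier →ₗ[R] (freeGMod (𝒜 := 𝒜) (F.deg i)).carrier)
      (p₀ : (freeGMod (𝒜 := 𝒜) (F.deg 0)).carrier →ₗ[R] (gmodPieces 𝒜 ℳ).carrier)
      (p : ∀ i, (freeGMod (𝒜 := 𝒜) (F.deg (i + 1))).carrier →ₗ[R] (K i).carrier),
      (∀ i, GrLC.IsGrHomDeg (K i).gr (freeGMod (𝒜 := 𝒜) (F.deg i)).gr (j i) 0 ∧ Function.Injective (j i)) ∧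
      (GrLC.IsGrHomDeg (freeGMod (𝒜 := 𝒜) (F.deg 0)).gr (gmodPieces 𝒜 ℳ).gr p₀ 0 ∧ Function.Surjective p₀ ∧
        Function.Exact (j 0) p₀) ∧
      (∀ i, GrLC.IsGrHomDeg (freeGMod (𝒜 := 𝒜) (F.deg (i + 1))).gr (K i).gr (p i) 0 ∧ Function.Surjective (p i) ∧
        Function.Exact (j (i + 1)) (p i)) ∧
      (F.IsMinimal (GrSyz.irrel 𝒜).toIdeal → (∀ v : Fin (F.rk 0) → R, p₀ v = 0 → ∀ b, v b ∈ (GrSyz.irrel 𝒜).toIdeal) ∧
        ∀ i (v : Fin (F.rk (i + 1)) → R), p i v = 0 → ∀ b, v b ∈ (GrSyz.irrel 𝒜).toIdeal) := by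
  classical
  let φ : ∀ i, (freeGMod (𝒜 := 𝒜) (F.deg (i + 1))).carrier →ₗ[R] (freeGMod (𝒜 := 𝒜) (F.deg i)).carrier :=
    fun i => F.dLin i
  have hφ : ∀ i, GrLC.IsGrHomDeg (freeGMod (𝒜 := 𝒜) (F.deg (i + 1))).gr (freeGMod (𝒜 := 𝒜) (F.deg i)).gr (φ i) 0 := by
    intro i g x hx
    have h := isGrHomDeg_linComb (M := (freeGMod (𝒜 := 𝒜) (F.deg i)).carrier) (ℳ := (freeGMod (𝒜 := 𝒜) (F.deg i)).gr)
      (e := F.deg (i + 1)) (fun b a => F.d i a b) (fun b a _ => F.d_mem i a b) g x hx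
    show F.dLin i x ∈ _
    rw [GrSyz.FreeRes.dLin, mulVecLin_eq_linComb]
    exact h
  let p₀ : (freeGMod (𝒜 := 𝒜) (F.deg 0)).carrier →ₗ[R] (gmodPieces 𝒜 ℳ).carrier := F.augLin
  have hp₀ : GrLC.IsGrHomDeg (freeGMod (𝒜 := 𝒜) (F.deg 0)).gr (gmodPieces 𝒜 ℳ).gr p₀ 0 := fun g x hx =>
    isGrHomDeg_linComb (ℳ := ℳ) F.aug F.aug_mem g x hx
  let S : ∀ i, Submodule R (freeGMod (𝒜 := 𝒜) (F.deg i)).carrier := fun i => LinearMap.range (φ i)
  have hS : ∀ i, (S i).IsHomogeneous (freeGMod (𝒜 := 𝒜) (F.deg i)).gr := fun i =>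
    isHomogeneous_range (freeGMod (𝒜 := 𝒜) (F.deg i)).gr (freeGMod (𝒜 := 𝒜) (F.deg (i + 1))).gr
      (isGrHomDeg_zero_iff.1 (hφ i))
  let K : ℕ → GrLC.GMod.{u} 𝒜 := fun i => subGMod 𝒜 (freeGMod (𝒜 := 𝒜) (F.deg i)).gr (S i) (hS i)
  refine ⟨K, fun i => (S i).subtype, p₀, fun i => (φ i).rangeRestrict,
    fun i => ⟨fun g m hm => (add_zero g).symm ▸ hm, Subtype.val_injective⟩, ⟨hp₀, F.aug_surjective, fun z => ?_⟩,
    fun i => ⟨fun g m hm => hφ i g m hm, LinearMap.surjective_rangeRestrict _, fun z => ?_⟩, fun hmin => ⟨?_, ?_⟩⟩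
  · exact ⟨fun hz => ⟨⟨z, F.exact_zero.le (LinearMap.mem_ker.2 hz)⟩, rfl⟩,
      fun ⟨w, hw⟩ => hw ▸ LinearMap.mem_ker.1 (F.exact_zero.ge (w : S 0).2)⟩
  · exact ⟨fun hz => ⟨⟨z, (F.exact_succ i).le (LinearMap.mem_ker.2 (congrArg Subtype.val hz))⟩, rfl⟩,
      fun ⟨w, hw⟩ => hw ▸ Subtype.ext (LinearMap.mem_ker.1 ((F.exact_succ i).ge (w : S (i + 1)).2))⟩
  · intro v hv b
    obtain ⟨w, rfl⟩ := F.exact_zero.le (LinearMap.mem_ker.2 hv)
    show (∑ c, F.d 0 b c * w c) ∈ _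
    exact Ideal.sum_mem _ fun c _ => Ideal.mul_mem_right _ _ (hmin 0 b c)
  · intro i v hv b
    obtain ⟨w, rfl⟩ := (F.exact_succ i).le (LinearMap.mem_ker.2 (congrArg Subtype.val hv))
    show (∑ c, F.d (i + 1) b c * w c) ∈ _
    exact Ideal.sum_mem _ fun c _ => Ideal.mul_mem_right _ _ (hmin (i + 1) b c)

/-- Generation bounds of any resolution give the cohomological bound. -/
theorem regBd_of_isGenLE (hR : RegBd a (gmodPieces 𝒜 𝒜) 0) (F : GrSyz.FreeRes 𝒜 ℳ) {d : ℤ} (hF : F.IsGenLE d) :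
    RegBd a (gmodPieces 𝒜 ℳ) d := by
  classical
  obtain ⟨K, j, p₀, p, hj, ⟨hp₀, hs₀, hx₀⟩, hp, -⟩ := exists_syz F
  obtain ⟨s, hs⟩ := IsNoetherian.noetherian a.toIdeal
  have hbig : ∀ (X : GrLC.GMod.{u} 𝒜) (i : ℕ) (g : ℤ), s.card < i → HVan a X i g := fun X i g hi E => by
    haveI : Subsingleton (LocCoh.H a.toIdeal i X.carrier) := by
      rw [← hs]; exact LC.cdLE_span_finset s X.carrier i hi
    obtain ⟨e⟩ := nonempty_H_equiv X.gr E a i
    haveI := e.toEquiv.subsingleton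
    exact Hcomp_eq_bot_of_subsingleton E a i g
  have key : ∀ (k : ℕ) (i q : ℕ) (g : ℤ), s.card < q + k → d + i + 1 < g + q → HVan a (K i) q g := by
    intro k
    induction k with
    | zero => exact fun i q g hq _ => hbig _ q g (by omega)
    | succ k ih =>
      intro i q g hq hg
      refine hVan_right (hj (i + 1)).1 (hp i).1 (hj (i + 1)).2 (hp i).2.1 (hp i).2.2
        (regBd_free hR _ (d + (i + 1 : ℕ)) (hF (i + 1)) q g (by push_cast; omega)) ?_
      rw [sub_zero]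
      exact ih (i + 1) (q + 1) g (by omega) (by push_cast; omega)
  intro q g hg
  refine hVan_right (hj 0).1 hp₀ (hj 0).2 hs₀ hx₀ (regBd_free hR _ (d + (0 : ℕ)) (hF 0) q g (by simpa using hg)) ?_
  rw [sub_zero]
  exact key (s.card + 1) 0 (q + 1) g (by omega) (by push_cast; omega)

/-- The cohomological bound gives the generation bound of a minimal resolution. -/
theorem isGenLE_of_regBd (hpos : ∀ n < 0, ∀ r ∈ 𝒜 n, r = 0) (hR : RegBd a (gmodPieces 𝒜 𝒜) 0) (xs : List R)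
    (hxs : ∀ x ∈ xs, x ∈ 𝒜 1) (hspan : a.toIdeal ≤ Ideal.ofList xs) [Nontrivial R]
    (F : GrSyz.FreeRes 𝒜 ℳ) (hF : F.IsMinimal (GrSyz.irrel 𝒜).toIdeal) {d : ℤ}
    (h : RegBd a (gmodPieces 𝒜 ℳ) d) : F.IsGenLE d := by
  classical
  obtain ⟨K, j, p₀, p, hj, ⟨hp₀, hs₀, hx₀⟩, hp, hmin⟩ := exists_syz F
  obtain ⟨hm₀, hm⟩ := hmin hF
  have h0 := regBd_step hpos hR xs hxs hspan (j 0) p₀ (hj 0).1 hp₀ (hj 0).2 hs₀ hx₀ hm₀ h
  have hK : ∀ i : ℕ, RegBd a (K i) (d + i + 1) := by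
    intro i
    induction i with
    | zero => simpa using h0.2
    | succ i ih =>
      have := (regBd_step hpos hR xs hxs hspan (j (i + 1)) (p i) (hj _).1 (hp i).1 (hj _).2 (hp i).2.1 (hp i).2.2
        (hm i) ih).2
      rwa [show d + ((i + 1 : ℕ) : ℤ) + 1 = d + i + 1 + 1 by push_cast; ring]
  rintro (_ | i) b
  · simpa using h0.1 b
  · have := (regBd_step hpos hR xs hxs hspan (j (i + 1)) (p i) (hj _).1 (hp i).1 (hj _).2 (hp i).2.1 (hp i).2.2
      (hm i) (hK i)).1 b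
    push_cast
    omega

end Groth.Agent.GrLib8
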