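import Groth.Agent.GrLib8.Koszul
import Groth.Agent.GrLib8.PosGr
import Groth.Agent.GrLib8.Res
import Mathlib.RingTheory.Filtration

/-!
# Filtering *injective modules by torsion submodules
-/

set_option autoImplicit false
set_option linter.unusedSectionVars false

universe u

open DirectSum

namespace Groth.Agent.GrLib8

variable {R : Type u} [CommRing R] [IsNoetherianRing R] {σ : Type u} [SetLike σ R] [AddSubgroupClass σ R]
  {𝒜 : ℤ → σ} [GradedRing 𝒜]

omit [IsNoetherianRing R] in
/-- An element of the ideal acting bijectively kills all graded local cohomology. -/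
theorem hVan_of_bijective_smul {a : HomogeneousIdeal 𝒜} {X : GrLC.GMod.{u} 𝒜} {x : R} {d : ℤ} (hx : x ∈ 𝒜 d)
    (hxa : x ∈ a.toIdeal) (hbij : Function.Bijective fun m : X.carrier => x • m) (i : ℕ) (g : ℤ) : HVan a X i g := by
  intro E
  rw [Hcomp_eq_bot_iff]
  intro c _
  obtain ⟨z, rfl⟩ := toH_surj E a i c
  obtain ⟨n, hn⟩ := z.2.1
  have hzero : x ^ n • E.toH a i z = 0 := by
    rw [← map_smul, show x ^ n • z = 0 from Subtype.ext (hn _ (Ideal.pow_mem_pow hxa n)), map_zero]
  suffices hinj : ∀ c : E.H a i, x • c = 0 → c = 0 by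
    clear hn
    induction n with
    | zero => rwa [pow_zero, one_smul] at hzero
    | succ n ih => exact ih (hinj _ (by rwa [pow_succ', mul_smul] at hzero))
  intro c hc
  let f : X.carrier →ₗ[R] X.carrier := x • LinearMap.id
  have hf : GrLC.IsGrHomDeg X.gr X.gr f d := isGrHomDeg_smul_id hx
  let e := LinearEquiv.ofBijective f hbij
  have he : GrLC.IsGrHomDeg X.gr X.gr e.symm.toLinearMap (-d) := by
    intro j y hy
    obtain ⟨w, hw, rfl⟩ := exists_preimage_mem f hf hy (hbij.2 y)
    rw [← sub_eq_add_neg]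
    show e.symm (e w) ∈ _
    rwa [e.symm_apply_apply]
  have hcomp : GrLC.IsGrHomDeg X.gr X.gr (e.symm.toLinearMap ∘ₗ f) 0 := isGrHomDeg_comp hf he (add_neg_cancel d)
  have hfe : e.symm.toLinearMap ∘ₗ f = LinearMap.id := LinearMap.ext fun z => e.symm_apply_apply z
  have h1 := LinearMap.congr_fun ((hmap_comp a (E := E) (F := E) (G := E) hf he hcomp (add_neg_cancel d) i).trans
    ((hmap_congr a hfe hcomp (hfe ▸ hcomp) i).trans (hmap_id a i _))) c
  rw [LinearMap.comp_apply, hmap_smul_id a hf hx i, LinearMap.smul_apply, LinearMap.id_apply, hc, map_zero] at h1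
  exact h1.symm

/-- A homogeneous submodule of torsion in a *injective module: the torsion submodule is *injective. -/
theorem isStarInj_gam (J : HomogeneousIdeal 𝒜) (I : GrLC.GMod.{u} 𝒜) (hI : GrLC.IsStarInj 𝒜 I.gr) :
    GrLC.IsStarInj 𝒜 (subGMod 𝒜 I.gr (GrLC.gam J.toIdeal I.carrier) (isHomogeneous_gam I.gr J)).gr := by
  classical
  let G : GrLC.GMod.{u} 𝒜 := subGMod 𝒜 I.gr (GrLC.gam J.toIdeal I.carrier) (isHomogeneous_gam I.gr J)
  let incl : G.carrier →ₗ[R] I.carrier := (GrLC.gam J.toIdeal I.carrier).subtype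
  obtain ⟨H, f, hf⟩ := exists_hull G
  obtain ⟨h, hh, hhf⟩ := hI G H f hf.grHom hf.injective incl (fun _ _ hm => hm)
  have hhinj : Function.Injective h := by
    rw [← LinearMap.ker_eq_bot]
    by_contra hne
    refine hf.essential (LinearMap.ker h) (isHomogeneous_ker H.gr I.gr hh) hne ?_
    rw [eq_bot_iff]
    rintro _ ⟨hy, w, rfl⟩
    have : incl w = 0 := by rw [← hhf]; exact hy
    rw [show w = 0 from Subtype.ext this, map_zero]
    exact zero_mem _
  -- essential extensions of torsion modules are torsion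
  have htor : ∀ g, ∀ y ∈ H.gr g, y ∈ GrLC.gam J.toIdeal H.carrier := by
    intro g y hy
    let N : Submodule R H.carrier := R ∙ y
    haveI : Module.Finite R N := Module.Finite.span_singleton R y
    let W : Submodule R N := (LinearMap.range f).comap N.subtype
    obtain ⟨c, hc⟩ := J.toIdeal.exists_pow_inf_eq_pow_smul W
    obtain ⟨t, ht⟩ := (IsNoetherian.noetherian W : W.FG)
    have hk : ∀ w : N, ∃ n : ℕ, w ∈ W → ∀ r ∈ J.toIdeal ^ n, r • w = 0 := fun w => by
      by_cases hw : w ∈ W
      · obtain ⟨v, hv⟩ := hw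
        obtain ⟨n, hn⟩ := v.2
        exact ⟨n, fun _ r hr => Subtype.ext (by
          show r • (w : H.carrier) = 0
          have hrv : r • v = 0 := Subtype.ext (hn r hr)
          rw [show (w : H.carrier) = f v from hv.symm, ← map_smul, hrv, map_zero])⟩
      · exact ⟨0, fun h => absurd h hw⟩
    choose κ hκ using hk
    let M₀ := t.sup κ
    have hann : ∀ w ∈ W, ∀ r ∈ J.toIdeal ^ M₀, r • w = 0 := by
      intro w hw r hr
      rw [← ht] at hw
      induction hw using Submodule.span_induction with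
      | mem w hw =>
        exact hκ w (ht.le (Submodule.subset_span hw)) r
          (Ideal.pow_le_pow_right (Finset.le_sup (f := κ) hw) hr)
      | zero => exact smul_zero r
      | add a b _ _ ha hb => rw [smul_add, ha, hb, add_zero]
      | smul s a _ ha => rw [smul_comm, ha, smul_zero]
    refine ⟨M₀ + c, fun r hr => ?_⟩
    let P : Submodule R H.carrier := (J.toIdeal ^ (M₀ + c) • (⊤ : Submodule R N)).map N.subtype
    have hP : P = ⊥ := by
      by_contra hne
      have hPhom : P.IsHomogeneous H.gr := by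
        have hPeq : P = J.toIdeal ^ (M₀ + c) • N := by
          show Submodule.map N.subtype _ = _
          rw [Submodule.map_smul'', Submodule.map_subtype_top]
        rw [hPeq]
        intro j m hm
        refine Submodule.smul_induction_on (p := fun m => (decompose H.gr m j : H.carrier) ∈ J.toIdeal ^ (M₀ + c) • N) hm
          (fun s hs n hn => ?_) (fun a b ha hb => ?_)
        · obtain ⟨s', rfl⟩ := Submodule.mem_span_singleton.1 hn
          rw [smul_smul, decompose_smul_of_mem 𝒜 H.gr hy]
          refine Submodule.smul_mem_smul (isHomogeneous_pow J _ (j - g) (Ideal.mul_mem_right s' _ hs)) ?_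
          exact Submodule.mem_span_singleton_self y
        · rw [decompose_add, DirectSum.add_apply, AddMemClass.coe_add]; exact add_mem ha hb
      refine hf.essential P hPhom hne ?_
      rw [eq_bot_iff]
      rintro z ⟨hz, hzr⟩
      obtain ⟨w, hw, rfl⟩ := hz
      have h2 : w ∈ J.toIdeal ^ (M₀ + c) • (⊤ : Submodule R N) ⊓ W := ⟨hw, hzr⟩
      rw [hc (M₀ + c) (Nat.le_add_left c M₀), Nat.add_sub_cancel] at h2
      have h3 : w = 0 := by
        refine Submodule.smul_induction_on h2 (fun s hs v hv => hann v hv.2 s hs) (fun a b ha hb => ?_)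
        rw [ha, hb, add_zero]
      rw [h3, map_zero]
      exact zero_mem _
    have hmem : r • y ∈ P := ⟨r • ⟨y, Submodule.mem_span_singleton_self y⟩,
      Submodule.smul_mem_smul hr Submodule.mem_top, rfl⟩
    rw [hP] at hmem
    exact hmem
  have htor' : ∀ y : H.carrier, h y ∈ GrLC.gam J.toIdeal I.carrier := fun y => by
    refine map_gam h ?_
    rw [← sum_support_decompose H.gr y]
    exact Submodule.sum_mem _ fun g _ => htor g _ (SetLike.coe_mem _)
  let h' : H.carrier →ₗ[R] G.carrier := h.codRestrict _ htor'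
  have hh' : GrLC.IsGrHom H.gr G.gr h' := fun g y hy => hh g y hy
  have hbij : Function.Bijective h' := by
    refine ⟨fun a b hab => hhinj (congrArg Subtype.val hab), fun w => ⟨f w, Subtype.ext ?_⟩⟩
    exact LinearMap.congr_fun hhf w
  intro A B φ hφ hφi g hg
  obtain ⟨u, hu, huφ⟩ := hf.starInj A B φ hφ hφi (f ∘ₗ g) (fun j a ha => hf.grHom j _ (hg j a ha))
  refine ⟨h' ∘ₗ u, fun j b hb => hh' j _ (hu j b hb), LinearMap.ext fun a => Subtype.ext ?_⟩
  show h (u (φ a)) = incl (g a)
  rw [← LinearMap.comp_apply u φ, huφ]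
  exact LinearMap.congr_fun hhf (g a)

/-- A split short exact sequence of graded modules. -/
structure SplitSeq (A B C : GrLC.GMod.{u} 𝒜) : Type u where
  /-- inclusion -/
  i : A.carrier →ₗ[R] B.carrier
  /-- projection -/
  p : B.carrier →ₗ[R] C.carrier
  /-- retraction -/
  r : B.carrier →ₗ[R] A.carrier
  /-- section -/
  s : C.carrier →ₗ[R] B.carrier
  hi : GrLC.IsGrHom A.gr B.gr i
  hp : GrLC.IsGrHom B.gr C.gr p
  hr : GrLC.IsGrHom B.gr A.gr r
  hs : GrLC.IsGrHom C.gr B.gr s
  ri : r ∘ₗ i = LinearMap.id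
  ps : p ∘ₗ s = LinearMap.id
  sum : i ∘ₗ r + s ∘ₗ p = LinearMap.id
  pi : p ∘ₗ i = 0

variable (hpos : ∀ n < 0, ∀ r ∈ 𝒜 n, r = 0)

/-- Dévissage of *injective modules. -/
theorem starInj_induction (Φ : GrLC.GMod.{u} 𝒜 → Prop)
    (tors : ∀ X : GrLC.GMod.{u} 𝒜, LocCoh.IsPowerTorsion (GrSyz.irrel 𝒜).toIdeal X.carrier → Φ X)
    (bij : ∀ (X : GrLC.GMod.{u} 𝒜) (x : R) (e : ℤ), 0 < e → x ∈ 𝒜 e →
      (Function.Bijective fun m : X.carrier => x • m) → Φ X)
    (split : ∀ (A B C : GrLC.GMod.{u} 𝒜), SplitSeq A B C → Φ A → Φ C → Φ B)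
    (I : GrLC.GMod.{u} 𝒜) (hI : GrLC.IsStarInj 𝒜 I.gr) : Φ I := by
  classical
  obtain ⟨N, f, d, hd, hf, hspan⟩ := exists_irrel_gens 𝒜
  suffices ∀ (S : Finset (Fin N)) (I : GrLC.GMod.{u} 𝒜), GrLC.IsStarInj 𝒜 I.gr →
      (∀ j ∉ S, ∀ m : I.carrier, ∃ n : ℕ, f j ^ n • m = 0) → Φ I from
    this Finset.univ I hI (fun j hj => absurd (Finset.mem_univ j) hj)
  intro S
  induction S using Finset.induction_on with
  | empty =>
    intro I _ h
    refine tors I fun m => ?_
    choose n hn using fun j => h j (Finset.notMem_empty j) m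
    have hann : Ideal.span (Set.range f) ≤ ((R ∙ m).annihilator).radical := Ideal.span_le.2 (by
      rintro _ ⟨j, rfl⟩
      exact ⟨n j, Submodule.mem_annihilator_span_singleton m _ |>.2 (hn j)⟩)
    obtain ⟨K, hK⟩ := Ideal.exists_pow_le_of_le_radical_of_fg (hspan.le.trans hann) (IsNoetherian.noetherian _)
    exact ⟨K, fun r hr => Submodule.mem_annihilator_span_singleton m r |>.1 (hK hr)⟩
  | insert j S hj ih =>
    intro I hI h
    let J : HomogeneousIdeal 𝒜 := ⟨Ideal.span {f j}, Ideal.homogeneous_span 𝒜 _ (by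
      rintro y hy; exact ⟨d j, Set.mem_singleton_iff.1 hy ▸ hf j⟩)⟩
    have hmemJ : ∀ (n : ℕ) (m : I.carrier), f j ^ n • m = 0 → m ∈ GrLC.gam J.toIdeal I.carrier := fun n m hm =>
      ⟨n, fun r hr => by
        have hr' : r ∈ Ideal.span {f j ^ n} := by rwa [← Ideal.span_singleton_pow]
        obtain ⟨c, rfl⟩ := Ideal.mem_span_singleton'.1 hr'
        rw [mul_smul, hm, smul_zero]⟩
    let G : GrLC.GMod.{u} 𝒜 := subGMod 𝒜 I.gr (GrLC.gam J.toIdeal I.carrier) (isHomogeneous_gam I.gr J)
    let Q : GrLC.GMod.{u} 𝒜 := quotGMod 𝒜 I.gr (GrLC.gam J.toIdeal I.carrier) (isHomogeneous_gam I.gr J)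
    have hG := isStarInj_gam J I hI
    let incl : G.carrier →ₗ[R] I.carrier := (GrLC.gam J.toIdeal I.carrier).subtype
    let prj : I.carrier →ₗ[R] Q.carrier := (GrLC.gam J.toIdeal I.carrier).mkQ
    obtain ⟨ρ, hρ, hρi⟩ := hG G I incl (fun _ _ hm => hm) Subtype.val_injective LinearMap.id (fun _ _ hm => hm)
    have hker : GrLC.gam J.toIdeal I.carrier ≤ LinearMap.ker (LinearMap.id - incl ∘ₗ ρ) := fun m hm => by
      have := LinearMap.congr_fun hρi ⟨m, hm⟩
      rw [LinearMap.mem_ker, LinearMap.sub_apply, sub_eq_zero]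
      exact (congrArg Subtype.val this).symm
    let sec : Q.carrier →ₗ[R] I.carrier := (GrLC.gam J.toIdeal I.carrier).liftQ _ hker
    have hsec : ∀ m, sec (prj m) = m - incl (ρ m) := fun m => rfl
    have hsecg : GrLC.IsGrHom Q.gr I.gr sec := by
      rintro g _ ⟨x, hx, rfl⟩
      exact sub_mem hx (hρ g x hx)
    have hps : prj ∘ₗ sec = LinearMap.id := by
      refine Submodule.linearMap_qext _ (LinearMap.ext fun m => ?_)
      show prj (m - incl (ρ m)) = prj m
      rw [map_sub, show prj (incl (ρ m)) = 0 from (Submodule.Quotient.mk_eq_zero _).2 (ρ m).2, sub_zero]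
    let sq : SplitSeq G I Q :=
      { i := incl
        p := prj
        r := ρ
        s := sec
        hi := fun _ _ hm => hm
        hp := isGrHom_mkQ I.gr _
        hr := hρ
        hs := hsecg
        ri := hρi
        ps := hps
        sum := LinearMap.ext fun m => by
          show incl (ρ m) + sec (prj m) = m
          rw [hsec]; abel
        pi := LinearMap.ext fun m => (Submodule.Quotient.mk_eq_zero _).2 m.2 }
    refine split G I Q sq (ih G hG fun l hl m => ?_) (bij Q (f j) (d j) (hd j) (hf j) ⟨?_, ?_⟩)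
    · by_cases hlj : l = j
      · subst hlj
        obtain ⟨n, hn⟩ := m.2
        exact ⟨n, Subtype.ext (hn _ (Ideal.pow_mem_pow (Ideal.mem_span_singleton_self _) n))⟩
      · obtain ⟨n, hn⟩ := h l (by simp [hlj, hl]) (incl m)
        exact ⟨n, Subtype.ext hn⟩
    · intro a b hab
      obtain ⟨a, rfl⟩ := Submodule.mkQ_surjective (GrLC.gam J.toIdeal I.carrier) a
      obtain ⟨b, rfl⟩ := Submodule.mkQ_surjective (GrLC.gam J.toIdeal I.carrier) b
      refine (Submodule.Quotient.eq _).2 ?_
      have hab' : f j • a - f j • b ∈ GrLC.gam J.toIdeal I.carrier := (Submodule.Quotient.eq _).1 hab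
      obtain ⟨n, hn⟩ := hab'
      refine hmemJ (n + 1) _ ?_
      rw [pow_succ, mul_smul, smul_sub]
      exact hn _ (Ideal.pow_mem_pow (Ideal.mem_span_singleton_self _) n)
    · intro y
      -- divide in `I` using injectivity
      have hμ : GrLC.IsGrHomDeg Q.gr Q.gr (f j • LinearMap.id) (d j) := isGrHomDeg_smul_id (hf j)
      have hμi : Function.Injective (f j • (LinearMap.id : Q.carrier →ₗ[R] Q.carrier)) := by
        intro a b hab
        obtain ⟨a, rfl⟩ := Submodule.mkQ_surjective (GrLC.gam J.toIdeal I.carrier) a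
        obtain ⟨b, rfl⟩ := Submodule.mkQ_surjective (GrLC.gam J.toIdeal I.carrier) b
        refine (Submodule.Quotient.eq _).2 ?_
        have hab' : f j • a - f j • b ∈ GrLC.gam J.toIdeal I.carrier := (Submodule.Quotient.eq _).1 hab
        obtain ⟨n, hn⟩ := hab'
        refine hmemJ (n + 1) _ ?_
        rw [pow_succ, mul_smul, smul_sub]
        exact hn _ (Ideal.pow_mem_pow (Ideal.mem_span_singleton_self _) n)
      obtain ⟨g, -, hg⟩ := extend_deg (A := Q) (B := Q) (I := I) hI (a := d j) (b := 0) (c := -d j) hμ hμi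
        (g := sec) (fun n m hm => by rw [add_zero]; exact hsecg n m hm) (by ring)
      refine ⟨prj (g y), ?_⟩
      have h1 := congrArg prj (LinearMap.congr_fun hg y)
      rw [LinearMap.comp_apply, LinearMap.smul_apply, LinearMap.id_apply, map_smul, map_smul] at h1
      rw [show prj (sec y) = y from LinearMap.congr_fun hps y] at h1
      exact h1

end Groth.Agent.GrLib8
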