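import Groth.Agent.GrLib8.SegObj
import Groth.Agent.GrLib8.StarFilter

/-!
# Segre products of *injectives are acyclic
-/

set_option autoImplicit false
set_option linter.unusedSectionVars false

universe u

open DirectSum
open scoped TensorProduct

namespace Groth.Agent.GrLib8.Seg

variable {k : Type u} [Field k] {R S T : Type u} [CommRing R] [CommRing S] [CommRing T] [Algebra k R] [Algebra k S]
  [Algebra k T] {𝒜 : ℤ → Submodule k R} [GradedAlgebra 𝒜] {ℬ : ℤ → Submodule k S} [GradedAlgebra ℬ]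
  {𝒯 : ℤ → Submodule k T} [GradedAlgebra 𝒯] {ψ : T →ₐ[k] R ⊗[k] S}
variable [IsNoetherianRing R] [IsNoetherianRing S] [IsNoetherianRing T]
variable (hT : ∀ n : ℤ, (𝒯 n).map ψ.toLinearMap = GrSeg.segrePiece k 𝒜 ℬ n)
variable (hpR : ∀ n < 0, ∀ r ∈ 𝒜 n, r = 0) (hpS : ∀ n < 0, ∀ r ∈ ℬ n, r = 0) (hpT : ∀ n < 0, ∀ r ∈ 𝒯 n, r = 0)

include hpT in
omit [IsNoetherianRing R] [IsNoetherianRing S] [IsNoetherianRing T] in
theorem decompose_eq_zero_of_mem_pow {K : ℕ} {t : T} (ht : t ∈ (GrSyz.irrel 𝒯).toIdeal ^ K) {g : ℤ} (hg : g < K) :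
    (decompose 𝒯 t g : T) = 0 := by
  classical
  have hb : aboveSub 𝒯 𝒯 hpT 0 = ⊤ := eq_top_iff.2 fun x _ g hg => hpT g hg _ (SetLike.coe_mem _)
  have h : t ∈ aboveSub 𝒯 𝒯 hpT (0 + K) := by
    refine pow_smul_le 𝒯 𝒯 hpT 0 hb K ?_
    have := Submodule.smul_mem_smul ht (Submodule.mem_top (x := (1 : T)) : (1 : T) ∈ (⊤ : Submodule T T))
    simpa [smul_eq_mul] using this
  exact h g (by omega)

variable (X : GrLC.GMod.{u} 𝒜) (Y : GrLC.GMod.{u} ℬ)

omit [IsNoetherianRing R] [IsNoetherianRing S] [IsNoetherianRing T] in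
theorem smul_k_def {X : GrLC.GMod.{u} 𝒜} (c : k) (x : X.carrier) : c • x = algebraMap k R c • x := rfl

omit [IsNoetherianRing R] [IsNoetherianRing S] [IsNoetherianRing T] in
theorem sqVal_smul_k (c : k) (z : (sq X Y hT).carrier) : sqVal X Y hT (c • z) = c • sqVal X Y hT z := by
  rw [smul_k_def, sqVal_smul, AlgHom.commutes, Algebra.algebraMap_eq_smul_one, map_smul, LinearMap.smul_apply,
    act_one]
where
  act_one {w : X.carrier ⊗[k] Y.carrier} : GrSeg.act k R S X.carrier Y.carrier 1 w = w := by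
    rw [← actHom_apply, map_one]; rfl

/-- The underlying tensor, linearly. -/
noncomputable def sqValL : (sq X Y hT).carrier →ₗ[k] X.carrier ⊗[k] Y.carrier where
  toFun := sqVal X Y hT
  map_add' _ _ := rfl
  map_smul' := sqVal_smul_k hT X Y

omit [IsNoetherianRing R] [IsNoetherianRing S] [IsNoetherianRing T] in
theorem sq_induction {C : (sq X Y hT).carrier → Prop} (h0 : C 0) (hadd : ∀ a b, C a → C b → C (a + b))
    (hsmul : ∀ (c : k) a, C a → C (c • a))
    (hgen : ∀ n x y, x ∈ X.gr n → y ∈ Y.gr n → ∀ z, sqVal X Y hT z = x ⊗ₜ[k] y → C z) :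
    ∀ z, C z := by
  have key : ∀ n, ∀ w ∈ GrSeg.segrePiece k X.gr Y.gr n, ∃ z, sqVal X Y hT z = w ∧ C z := by
    intro n w hw
    induction hw using Submodule.span_induction with
    | mem w hw =>
      obtain ⟨x, hx, y, hy, rfl⟩ := hw
      obtain ⟨z, hz⟩ := exists_sqVal X Y hT (Submodule.mem_iSup_of_mem n (tmul_mem_segrePiece X Y hx hy))
      exact ⟨z, hz, hgen n x y hx hy z hz⟩
    | zero => exact ⟨0, rfl, h0⟩
    | add a b _ _ ha hb =>
      obtain ⟨za, rfl, ha⟩ := ha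
      obtain ⟨zb, rfl, hb⟩ := hb
      exact ⟨za + zb, rfl, hadd za zb ha hb⟩
    | smul c a _ ha =>
      obtain ⟨za, rfl, ha⟩ := ha
      exact ⟨c • za, sqVal_smul_k hT X Y c za, hsmul c za ha⟩
  intro z
  induction z using DirectSum.Decomposition.inductionOn (sq X Y hT).gr with
  | zero => exact h0
  | add a b ha hb => exact hadd a b ha hb
  | homogeneous z =>
    rename_i n
    obtain ⟨z', hz', hC⟩ := key n _ ((mem_sq_gr X Y hT _).1 z.2)
    exact sqVal_injective X Y hT hz' ▸ hC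

include hpR hpS hpT in
omit [IsNoetherianRing T] in
theorem mem_gam_of_factor {n : ℤ} {x : X.carrier} {y : Y.carrier} (hx : x ∈ X.gr n) (hy : y ∈ Y.gr n)
    (h : x ∈ GrLC.gam (GrSyz.irrel 𝒜).toIdeal X.carrier ∨ y ∈ GrLC.gam (GrSyz.irrel ℬ).toIdeal Y.carrier)
    (z : (sq X Y hT).carrier) (hz : sqVal X Y hT z = x ⊗ₜ[k] y) :
    z ∈ GrLC.gam (GrSyz.irrel 𝒯).toIdeal (sq X Y hT).carrier := by
  classical
  obtain ⟨D, hD⟩ := exists_deg_bound 𝒜 hpR
  obtain ⟨D', hD'⟩ := exists_deg_bound ℬ hpS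
  obtain ⟨c, hc⟩ : ∃ c : ℕ, ∀ g : ℤ, (c : ℤ) ≤ g → ∀ a ∈ 𝒜 g, ∀ b ∈ ℬ g, (a • x) ⊗ₜ[k] (b • y) = 0 := by
    rcases h with ⟨c, hc⟩ | ⟨c, hc⟩
    · exact ⟨c * D + 1, fun g hg a ha b _ => by
        rw [hc a (hD c g (by push_cast at hg ⊢; omega) a ha), TensorProduct.zero_tmul]⟩
    · exact ⟨c * D' + 1, fun g hg a _ b hb => by
        rw [hc b (hD' c g (by push_cast at hg ⊢; omega) b hb), TensorProduct.tmul_zero]⟩
  refine ⟨c, fun t ht => sqVal_injective X Y hT ?_⟩
  rw [sqVal_smul, hz]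
  show _ = (0 : X.carrier ⊗[k] Y.carrier)
  rw [← sum_support_decompose 𝒯 t, map_sum, map_sum, LinearMap.sum_apply]
  refine Finset.sum_eq_zero fun g _ => ?_
  rcases lt_or_ge g (c : ℤ) with hg | hg
  · rw [decompose_eq_zero_of_mem_pow hpT ht hg, map_zero, map_zero, LinearMap.zero_apply]
  have hmem : ψ (decompose 𝒯 t g : T) ∈ GrSeg.segrePiece k 𝒜 ℬ g := (hT g).le ⟨_, SetLike.coe_mem _, rfl⟩
  generalize ψ (decompose 𝒯 t g : T) = v at hmem
  induction hmem using Submodule.span_induction with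
  | mem w hw =>
    obtain ⟨a, ha, b, hb, rfl⟩ := hw
    rw [GrSeg.act_tmul]
    exact hc g hg a ha b hb
  | zero => rw [map_zero, LinearMap.zero_apply]
  | add a b _ _ ha hb => rw [map_add, LinearMap.add_apply, ha, hb, add_zero]
  | smul r a _ ha => rw [map_smul, LinearMap.smul_apply, ha, smul_zero]

omit [IsNoetherianRing R] [IsNoetherianRing S] [IsNoetherianRing T] in
theorem gam_smul_k {a : Ideal T} (c : k) {z : (sq X Y hT).carrier} (hz : z ∈ GrLC.gam a (sq X Y hT).carrier) :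
    c • z ∈ GrLC.gam a (sq X Y hT).carrier := Submodule.smul_mem _ (algebraMap k T c) hz

include hpR hpS hpT in
omit [IsNoetherianRing T] in
/-- A Segre product with a torsion factor is torsion. -/
theorem torsion_sq (h : LocCoh.IsPowerTorsion (GrSyz.irrel 𝒜).toIdeal X.carrier ∨
    LocCoh.IsPowerTorsion (GrSyz.irrel ℬ).toIdeal Y.carrier) :
    LocCoh.IsPowerTorsion (GrSyz.irrel 𝒯).toIdeal (sq X Y hT).carrier := by
  refine sq_induction hT X Y (zero_mem (GrLC.gam (GrSyz.irrel 𝒯).toIdeal (sq X Y hT).carrier))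
    (fun a b ha hb => (GrLC.gam (GrSyz.irrel 𝒯).toIdeal (sq X Y hT).carrier).add_mem ha hb) (fun c a ha => gam_smul_k hT X Y c ha)
    fun n x y hx hy z hz => ?_
  refine mem_gam_of_factor hT hpR hpS hpT X Y hx hy ?_ z hz
  rcases h with h | h
  exacts [Or.inl (h x), Or.inr (h y)]

omit [IsNoetherianRing R] [IsNoetherianRing S] [IsNoetherianRing T] in
theorem bijective_pow {A M : Type u} [CommRing A] [AddCommGroup M] [Module A M] {x : A}
    (h : Function.Bijective fun m : M => x • m) : ∀ n : ℕ, Function.Bijective fun m : M => x ^ n • m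
  | 0 => by simp only [pow_zero, one_smul]; exact Function.bijective_id
  | n + 1 => by
    have : (fun m : M => x ^ (n + 1) • m) = (fun m : M => x ^ n • m) ∘ fun m : M => x • m := by
      funext m; simp [pow_succ, mul_smul]
    rw [this]
    exact (bijective_pow h n).comp h

omit [IsNoetherianRing R] [IsNoetherianRing S] [IsNoetherianRing T] in
theorem exists_bij_sq {x : R} {e : ℤ} {y : S} {e' : ℤ} (he : 0 < e) (he' : 0 < e') (hx : x ∈ 𝒜 e) (hy : y ∈ ℬ e')
    (hxb : Function.Bijective fun m : X.carrier => x • m) (hyb : Function.Bijective fun m : Y.carrier => y • m) :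
    ∃ t ∈ 𝒯 (e * e'), t ∈ (GrSyz.irrel 𝒯).toIdeal ∧ Function.Bijective fun z : (sq X Y hT).carrier => t • z := by
  classical
  lift e to ℕ using he.le
  lift e' to ℕ using he'.le
  have ha : x ^ e' ∈ 𝒜 ((e : ℤ) * e') := by
    have h := SetLike.pow_mem_graded (A := 𝒜) e' hx
    rwa [nsmul_eq_mul, mul_comm] at h
  have hb : y ^ e ∈ ℬ ((e : ℤ) * e') := by
    have h := SetLike.pow_mem_graded (A := ℬ) e hy
    rwa [nsmul_eq_mul] at h
  have hmem : (x ^ e') ⊗ₜ[k] (y ^ e) ∈ GrSeg.segrePiece k 𝒜 ℬ ((e : ℤ) * e') :=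
    Submodule.subset_span ⟨_, ha, _, hb, rfl⟩
  obtain ⟨t, ht, htv⟩ := (hT _).ge hmem
  refine ⟨t, ht, mem_irrel_of_pos 𝒯 (by positivity) ht, ?_, ?_⟩
  · intro z w hzw
    refine sqVal_injective X Y hT ?_
    have h1 := congrArg (sqVal X Y hT) hzw
    simp only at h1
    rw [sqVal_smul, sqVal_smul, show ψ t = (x ^ e') ⊗ₜ[k] (y ^ e) from htv] at h1
    let ax : X.carrier →ₗ[k] X.carrier := ((x ^ e') • (LinearMap.id : X.carrier →ₗ[R] X.carrier)).restrictScalars k
    let ay : Y.carrier →ₗ[k] Y.carrier := ((y ^ e) • (LinearMap.id : Y.carrier →ₗ[S] Y.carrier)).restrictScalars k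
    have hmap : ∀ w, GrSeg.act k R S X.carrier Y.carrier ((x ^ e') ⊗ₜ[k] (y ^ e)) w = TensorProduct.map ax ay w := by
      intro w
      induction w using TensorProduct.induction_on with
      | zero => simp
      | add a b ha hb => simp only [map_add, ha, hb]
      | tmul a b => rw [GrSeg.act_tmul, TensorProduct.map_tmul]; rfl
    rw [hmap, hmap] at h1
    exact TensorProduct.map_injective_of_flat_flat ax ay (bijective_pow hxb e').1 (bijective_pow hyb e).1 h1
  · refine sq_induction hT X Y (C := fun z => ∃ w, t • w = z) ⟨0, smul_zero t⟩ (fun a b ⟨u, hu⟩ ⟨v, hv⟩ =>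
      ⟨u + v, by rw [smul_add, hu, hv]⟩) (fun c a ⟨u, hu⟩ => ⟨c • u, by
        rw [smul_k_def, smul_k_def, smul_smul, mul_comm, ← smul_smul, hu]⟩) fun n a b han hbn z hz => ?_
    let fx : X.carrier →ₗ[R] X.carrier := (x ^ e') • LinearMap.id
    let fy : Y.carrier →ₗ[S] Y.carrier := (y ^ e) • LinearMap.id
    obtain ⟨a', ha', rfl⟩ := exists_preimage_mem fx (isGrHomDeg_smul_id ha) han ((bijective_pow hxb e').2 a)
    obtain ⟨b', hb', rfl⟩ := exists_preimage_mem fy (isGrHomDeg_smul_id hb) hbn ((bijective_pow hyb e).2 b)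
    obtain ⟨w, hw⟩ := exists_sqVal X Y hT (Submodule.mem_iSup_of_mem _ (tmul_mem_segrePiece X Y ha' hb'))
    refine ⟨w, sqVal_injective X Y hT ?_⟩
    rw [sqVal_smul, hw, hz, show ψ t = (x ^ e') ⊗ₜ[k] (y ^ e) from htv, GrSeg.act_tmul]
    rfl

variable {X Y}
variable {X' X'' : GrLC.GMod.{u} 𝒜} {Y' Y'' : GrLC.GMod.{u} ℬ}

omit [IsNoetherianRing R] [IsNoetherianRing S] [IsNoetherianRing T] in
theorem sqMap_comp (f : X.carrier →ₗ[R] X'.carrier) (g : Y.carrier →ₗ[S] Y'.carrier)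
    (f' : X'.carrier →ₗ[R] X''.carrier) (g' : Y'.carrier →ₗ[S] Y''.carrier)
    (hf : GrLC.IsGrHom X.gr X'.gr f) (hg : GrLC.IsGrHom Y.gr Y'.gr g)
    (hf' : GrLC.IsGrHom X'.gr X''.gr f') (hg' : GrLC.IsGrHom Y'.gr Y''.gr g') (z : (sq X Y hT).carrier) :
    sqMap hT f' g' hf' hg' (sqMap hT f g hf hg z) =
      sqMap hT (f' ∘ₗ f) (g' ∘ₗ g) (fun n x hx => hf' n _ (hf n x hx)) (fun n x hx => hg' n _ (hg n x hx)) z := by
  refine sqVal_injective X'' Y'' hT ?_
  rw [sqVal_sqMap, sqVal_sqMap, sqVal_sqMap]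
  show TensorProduct.map _ _ (TensorProduct.map _ _ _) = TensorProduct.map _ _ _
  rw [← LinearMap.comp_apply, ← TensorProduct.map_comp]
  rfl

omit [IsNoetherianRing R] [IsNoetherianRing S] [IsNoetherianRing T] in
/-- Split sequences in the left factor. -/
noncomputable def splitLeft {A B C : GrLC.GMod.{u} 𝒜} (q : SplitSeq A B C) (Y : GrLC.GMod.{u} ℬ) :
    SplitSeq (sq A Y hT) (sq B Y hT) (sq C Y hT) :=
  have hid : GrLC.IsGrHom Y.gr Y.gr LinearMap.id := fun _ _ h => h
  { i := sqMap hT q.i LinearMap.id q.hi hid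
    p := sqMap hT q.p LinearMap.id q.hp hid
    r := sqMap hT q.r LinearMap.id q.hr hid
    s := sqMap hT q.s LinearMap.id q.hs hid
    hi := sqMap_grHom hT _ _ _ _
    hp := sqMap_grHom hT _ _ _ _
    hr := sqMap_grHom hT _ _ _ _
    hs := sqMap_grHom hT _ _ _ _
    ri := LinearMap.ext fun z => sqVal_injective A Y hT (by
      rw [LinearMap.comp_apply, sqMap_comp, sqVal_sqMap, LinearMap.id_apply]
      show TensorProduct.map ((q.r ∘ₗ q.i).restrictScalars k) _ _ = _
      rw [q.ri]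
      exact LinearMap.congr_fun TensorProduct.map_id _)
    ps := LinearMap.ext fun z => sqVal_injective C Y hT (by
      rw [LinearMap.comp_apply, sqMap_comp, sqVal_sqMap, LinearMap.id_apply]
      show TensorProduct.map ((q.p ∘ₗ q.s).restrictScalars k) _ _ = _
      rw [q.ps]
      exact LinearMap.congr_fun TensorProduct.map_id _)
    sum := LinearMap.ext fun z => sqVal_injective B Y hT (by
      rw [LinearMap.add_apply, LinearMap.comp_apply, LinearMap.comp_apply, LinearMap.id_apply, sqMap_comp, sqMap_comp]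
      show tmap (q.i ∘ₗ q.r) (LinearMap.id ∘ₗ LinearMap.id) (sqVal B Y hT z) +
        tmap (q.s ∘ₗ q.p) (LinearMap.id ∘ₗ LinearMap.id) (sqVal B Y hT z) = sqVal B Y hT z
      rw [← LinearMap.add_apply, ← TensorProduct.map_add_left]
      show TensorProduct.map ((q.i ∘ₗ q.r + q.s ∘ₗ q.p).restrictScalars k) _ _ = _
      rw [q.sum]
      exact LinearMap.congr_fun TensorProduct.map_id _)
    pi := LinearMap.ext fun z => sqVal_injective C Y hT (by
      rw [LinearMap.comp_apply, sqMap_comp, sqVal_sqMap]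
      show TensorProduct.map ((q.p ∘ₗ q.i).restrictScalars k) _ _ = _
      rw [q.pi, LinearMap.restrictScalars_zero, TensorProduct.map_zero_left]
      rfl) }

omit [IsNoetherianRing R] [IsNoetherianRing S] [IsNoetherianRing T] in
/-- Split sequences in the right factor. -/
noncomputable def splitRight {A B C : GrLC.GMod.{u} ℬ} (X : GrLC.GMod.{u} 𝒜) (q : SplitSeq A B C) :
    SplitSeq (sq X A hT) (sq X B hT) (sq X C hT) :=
  have hid : GrLC.IsGrHom X.gr X.gr LinearMap.id := fun _ _ h => h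
  { i := sqMap hT LinearMap.id q.i hid q.hi
    p := sqMap hT LinearMap.id q.p hid q.hp
    r := sqMap hT LinearMap.id q.r hid q.hr
    s := sqMap hT LinearMap.id q.s hid q.hs
    hi := sqMap_grHom hT _ _ _ _
    hp := sqMap_grHom hT _ _ _ _
    hr := sqMap_grHom hT _ _ _ _
    hs := sqMap_grHom hT _ _ _ _
    ri := LinearMap.ext fun z => sqVal_injective X A hT (by
      rw [LinearMap.comp_apply, sqMap_comp, sqVal_sqMap, LinearMap.id_apply]
      show TensorProduct.map _ ((q.r ∘ₗ q.i).restrictScalars k) _ = _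
      rw [q.ri]
      exact LinearMap.congr_fun TensorProduct.map_id _)
    ps := LinearMap.ext fun z => sqVal_injective X C hT (by
      rw [LinearMap.comp_apply, sqMap_comp, sqVal_sqMap, LinearMap.id_apply]
      show TensorProduct.map _ ((q.p ∘ₗ q.s).restrictScalars k) _ = _
      rw [q.ps]
      exact LinearMap.congr_fun TensorProduct.map_id _)
    sum := LinearMap.ext fun z => sqVal_injective X B hT (by
      rw [LinearMap.add_apply, LinearMap.comp_apply, LinearMap.comp_apply, LinearMap.id_apply, sqMap_comp, sqMap_comp]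
      show tmap (LinearMap.id ∘ₗ LinearMap.id) (q.i ∘ₗ q.r) (sqVal X B hT z) +
        tmap (LinearMap.id ∘ₗ LinearMap.id) (q.s ∘ₗ q.p) (sqVal X B hT z) = sqVal X B hT z
      rw [← LinearMap.add_apply, ← TensorProduct.map_add_right]
      show TensorProduct.map _ ((q.i ∘ₗ q.r + q.s ∘ₗ q.p).restrictScalars k) _ = _
      rw [q.sum]
      exact LinearMap.congr_fun TensorProduct.map_id _)
    pi := LinearMap.ext fun z => sqVal_injective X C hT (by
      rw [LinearMap.comp_apply, sqMap_comp, sqVal_sqMap]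
      show TensorProduct.map _ ((q.p ∘ₗ q.i).restrictScalars k) _ = _
      rw [q.pi, LinearMap.restrictScalars_zero, TensorProduct.map_zero_right]
      rfl) }

omit [IsNoetherianRing R] [IsNoetherianRing S] in
theorem hVan_of_split {a : HomogeneousIdeal 𝒯} {A B C : GrLC.GMod.{u} 𝒯} (q : SplitSeq A B C) {i : ℕ} {g : ℤ}
    (hA : HVan a A i g) (hC : HVan a C i g) : HVan a B i g := by
  refine hVan_middle (isGrHomDeg_zero_iff.2 q.hi) (isGrHomDeg_zero_iff.2 q.hp) ?_ ?_ ?_ (by rwa [sub_zero]) hC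
  · exact Function.LeftInverse.injective (g := q.r) fun x => LinearMap.congr_fun q.ri x
  · exact fun x => ⟨q.s x, LinearMap.congr_fun q.ps x⟩
  · refine fun x => ⟨fun hx => ⟨q.r x, ?_⟩, ?_⟩
    · have := LinearMap.congr_fun q.sum x
      rwa [LinearMap.add_apply, LinearMap.comp_apply, LinearMap.comp_apply, hx, map_zero, add_zero] at this
    · rintro ⟨y, rfl⟩
      exact LinearMap.congr_fun q.pi y

include hpR hpS hpT in
/-- A Segre product of a *injective with a module with a bijective positive element is acyclic. -/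
theorem hVan_sq_bij (X : GrLC.GMod.{u} 𝒜) (hX : GrLC.IsStarInj 𝒜 X.gr) {Y : GrLC.GMod.{u} ℬ} {y : S} {e' : ℤ}
    (he' : 0 < e') (hy : y ∈ ℬ e') (hyb : Function.Bijective fun m : Y.carrier => y • m) (i : ℕ) (g : ℤ) :
    HVan (GrSyz.irrel 𝒯) (sq X Y hT) (i + 1) g := by
  refine starInj_induction (fun X => HVan (GrSyz.irrel 𝒯) (sq X Y hT) (i + 1) g) (fun X h => ?_)
    (fun X x e he hx hxb => ?_) (fun A B C q hA hC => hVan_of_split (splitLeft hT q Y) hA hC) X hX
  · exact hVan_of_torsion (torsion_sq hT hpR hpS hpT X Y (Or.inl h)) i g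
  · obtain ⟨t, ht, hti, htb⟩ := exists_bij_sq hT X Y he he' hx hy hxb hyb
    exact hVan_of_bijective_smul ht hti htb (i + 1) g

include hpR hpS hpT in
/-- A Segre product of *injectives is acyclic. -/
theorem hVan_sq (X : GrLC.GMod.{u} 𝒜) (hX : GrLC.IsStarInj 𝒜 X.gr) (Y : GrLC.GMod.{u} ℬ)
    (hY : GrLC.IsStarInj ℬ Y.gr) (i : ℕ) (g : ℤ) : HVan (GrSyz.irrel 𝒯) (sq X Y hT) (i + 1) g := by
  refine starInj_induction (fun Y => HVan (GrSyz.irrel 𝒯) (sq X Y hT) (i + 1) g) (fun Y h => ?_)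
    (fun Y y e he hy hyb => hVan_sq_bij hT hpR hpS hpT X hX he hy hyb i g)
    (fun A B C q hA hC => hVan_of_split (splitRight hT X q) hA hC) Y hY
  exact hVan_of_torsion (torsion_sq hT hpR hpS hpT X Y (Or.inr h)) i g

/-! ### The torsion submodule -/

omit [IsNoetherianRing S] [IsNoetherianRing T] in
theorem exists_separating {A M : Type u} [CommRing A] [IsNoetherianRing A] [AddCommGroup M] [Module A M] {J : Ideal A}
    {N : ℕ} (f : Fin N → A) (hf : J ≤ Ideal.span (Set.range f)) (h0 : GrLC.gam J M = ⊥) (n : ℕ) (v : M)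
    (hv : ∀ i, f i ^ n • v = 0) : v = 0 := by
  have hann : Ideal.span (Set.range f) ≤ ((A ∙ v).annihilator).radical := Ideal.span_le.2 (by
    rintro _ ⟨j, rfl⟩
    exact ⟨n, Submodule.mem_annihilator_span_singleton v _ |>.2 (hv j)⟩)
  obtain ⟨K, hK⟩ := Ideal.exists_pow_le_of_le_radical_of_fg (hf.trans hann) (IsNoetherian.noetherian _)
  have : v ∈ GrLC.gam J M := ⟨K, fun r hr => Submodule.mem_annihilator_span_singleton v r |>.1 (hK hr)⟩
  rwa [h0, Submodule.mem_bot] at this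

include hpT in
omit [IsNoetherianRing T] in
/-- A Segre product of torsion-free modules is torsion-free. -/
theorem gam_sq_eq_bot (X : GrLC.GMod.{u} 𝒜) (Y : GrLC.GMod.{u} ℬ)
    (hX : GrLC.gam (GrSyz.irrel 𝒜).toIdeal X.carrier = ⊥) (hY : GrLC.gam (GrSyz.irrel ℬ).toIdeal Y.carrier = ⊥) :
    GrLC.gam (GrSyz.irrel 𝒯).toIdeal (sq X Y hT).carrier = ⊥ := by
  classical
  rw [Submodule.eq_bot_iff]
  rintro z ⟨K, hK⟩
  obtain ⟨N, f, d, hd, hf, hfs⟩ := exists_irrel_gens 𝒜
  obtain ⟨M, g, e, he, hg, hgs⟩ := exists_irrel_gens ℬ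
  let A := K * ∑ j, (e j).toNat
  let B := K * ∑ i, (d i).toNat
  have hkill : ∀ i j, GrSeg.act k R S X.carrier Y.carrier ((f i ^ A) ⊗ₜ[k] (g j ^ B)) (sqVal X Y hT z) = 0 := by
    intro i j
    obtain ⟨d', hd'⟩ : ∃ d' : ℕ, d i = d' := ⟨(d i).toNat, (Int.toNat_of_nonneg (hd i).le).symm⟩
    obtain ⟨e', he'⟩ : ∃ e' : ℕ, e j = e' := ⟨(e j).toNat, (Int.toNat_of_nonneg (he j).le).symm⟩
    have ha : f i ^ e' ∈ 𝒜 ((d' : ℤ) * e') := by
      have h := SetLike.pow_mem_graded (A := 𝒜) e' (hf i)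
      rwa [hd', nsmul_eq_mul, mul_comm] at h
    have hb : g j ^ d' ∈ ℬ ((d' : ℤ) * e') := by
      have h := SetLike.pow_mem_graded (A := ℬ) d' (hg j)
      rwa [he', nsmul_eq_mul] at h
    obtain ⟨t, ht, htv⟩ := (hT ((d' : ℤ) * e')).ge
      (Submodule.subset_span ⟨_, ha, _, hb, rfl⟩ : (f i ^ e') ⊗ₜ[k] (g j ^ d') ∈ GrSeg.segrePiece k 𝒜 ℬ _)
    have hpos : 0 < (d' : ℤ) * e' := by
      have h1 := hd i
      have h2 := he j
      rw [hd'] at h1
      rw [he'] at h2
      positivity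
    have h0 := congrArg (sqVal X Y hT) (hK (t ^ K) (Ideal.pow_mem_pow (mem_irrel_of_pos 𝒯 hpos ht) K))
    rw [sqVal_smul, map_pow, show ψ t = (f i ^ e') ⊗ₜ[k] (g j ^ d') from htv, Algebra.TensorProduct.tmul_pow,
      ← pow_mul, ← pow_mul] at h0
    have hA : e' * K ≤ A := by
      rw [mul_comm]
      exact Nat.mul_le_mul_left K (le_of_eq_of_le (by omega : e' = (e j).toNat)
        (Finset.single_le_sum (f := fun j => (e j).toNat) (fun _ _ => Nat.zero_le _) (Finset.mem_univ j)))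
    have hB : d' * K ≤ B := by
      rw [mul_comm]
      exact Nat.mul_le_mul_left K (le_of_eq_of_le (by omega : d' = (d i).toNat)
        (Finset.single_le_sum (f := fun i => (d i).toNat) (fun _ _ => Nat.zero_le _) (Finset.mem_univ i)))
    rw [← Nat.sub_add_cancel hA, ← Nat.sub_add_cancel hB, pow_add, pow_add, ← Algebra.TensorProduct.tmul_mul_tmul,
      ← actHom_apply, map_mul, Module.End.mul_apply, actHom_apply, actHom_apply]
    exact (congrArg _ h0).trans (map_zero _)
  let F : X.carrier →ₗ[k] (Fin N → X.carrier) :=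
    LinearMap.pi fun i => ((f i ^ A) • (LinearMap.id : X.carrier →ₗ[R] X.carrier)).restrictScalars k
  let G : Y.carrier →ₗ[k] (Fin M → Y.carrier) :=
    LinearMap.pi fun j => ((g j ^ B) • (LinearMap.id : Y.carrier →ₗ[S] Y.carrier)).restrictScalars k
  have hF : Function.Injective F := (injective_iff_map_eq_zero F).2 fun v hv =>
    exists_separating f hfs.le hX A v fun i => congrFun hv i
  have hG : Function.Injective G := (injective_iff_map_eq_zero G).2 fun v hv =>
    exists_separating g hgs.le hY B v fun j => congrFun hv j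
  have hsum : ∀ w : (Fin N → X.carrier) ⊗[k] (Fin M → Y.carrier), w = ∑ i, ∑ j,
      TensorProduct.map (LinearMap.single k (fun _ => X.carrier) i) (LinearMap.single k (fun _ => Y.carrier) j)
        (TensorProduct.map (LinearMap.proj i) (LinearMap.proj j) w) := by
    intro w
    induction w using TensorProduct.induction_on with
    | zero => simp
    | add a b ha hb =>
      simp only [map_add, Finset.sum_add_distrib]
      rw [← ha, ← hb]
    | tmul a b =>
      simp only [TensorProduct.map_tmul, ← TensorProduct.tmul_sum, ← TensorProduct.sum_tmul]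
      rw [show (∑ i, LinearMap.single k (fun _ => X.carrier) i (LinearMap.proj i a)) = a from Finset.univ_sum_single a,
        show (∑ j, LinearMap.single k (fun _ => Y.carrier) j (LinearMap.proj j b)) = b from Finset.univ_sum_single b]
  have hFG : TensorProduct.map F G (sqVal X Y hT z) = 0 := by
    rw [hsum (TensorProduct.map F G (sqVal X Y hT z))]
    refine Finset.sum_eq_zero fun i _ => Finset.sum_eq_zero fun j _ => ?_
    have h1 : ∀ w, TensorProduct.map (LinearMap.proj i) (LinearMap.proj j) (TensorProduct.map F G w) =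
        GrSeg.act k R S X.carrier Y.carrier ((f i ^ A) ⊗ₜ[k] (g j ^ B)) w := by
      intro w
      induction w using TensorProduct.induction_on with
      | zero => simp
      | add a b ha hb => simp only [map_add, ha, hb]
      | tmul a b => rw [GrSeg.act_tmul, TensorProduct.map_tmul, TensorProduct.map_tmul]; rfl
    rw [h1, hkill, map_zero]
  exact sqVal_injective X Y hT ((TensorProduct.map_injective_of_flat_flat F G hF hG) (hFG.trans (map_zero _).symm))

omit [IsNoetherianRing S] [IsNoetherianRing T] in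
theorem gam_quot_eq_bot {A : Type u} [CommRing A] [IsNoetherianRing A] {M : Type u} [AddCommGroup M] [Module A M]
    (J : Ideal A) : GrLC.gam J (M ⧸ GrLC.gam J M) = ⊥ := by
  rw [Submodule.eq_bot_iff]
  rintro x ⟨n, hn⟩
  obtain ⟨x, rfl⟩ := Submodule.mkQ_surjective (GrLC.gam J M) x
  refine (Submodule.Quotient.mk_eq_zero _).2 ?_
  obtain ⟨s, hs⟩ := (IsNoetherian.noetherian (J ^ n) : (J ^ n).FG)
  have hk : ∀ r : A, ∃ c : ℕ, r ∈ J ^ n → ∀ u ∈ J ^ c, u • r • x = 0 := fun r => by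
    by_cases hr : r ∈ J ^ n
    · have hrx : r • x ∈ GrLC.gam J M := (Submodule.Quotient.mk_eq_zero _).1 (hn r hr)
      obtain ⟨c, hc⟩ := hrx
      exact ⟨c, fun _ => hc⟩
    · exact ⟨0, fun h => absurd h hr⟩
  choose κ hκ using hk
  refine ⟨s.sup κ + n, fun u hu => ?_⟩
  rw [pow_add] at hu
  refine Submodule.mul_induction_on (C := fun u => u • x = 0) hu (fun p hp q hq => ?_)
    fun a b ha hb => by rw [add_smul, ha, hb, add_zero]
  rw [mul_smul]
  rw [← hs] at hq
  induction hq using Submodule.span_induction with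
  | mem r hr =>
    exact hκ r (hs.le (Submodule.subset_span hr)) p (Ideal.pow_le_pow_right (Finset.le_sup (f := κ) hr) hp)
  | zero => rw [zero_smul, smul_zero]
  | add a b _ _ ha hb => rw [add_smul, smul_add, ha, hb, add_zero]
  | smul c a _ ha => rw [smul_eq_mul, mul_smul, smul_comm, ha, smul_zero]

/-- The torsion-free quotient. -/
noncomputable def bar {R₀ : Type u} [CommRing R₀] [Algebra k R₀] {𝒞 : ℤ → Submodule k R₀} [GradedAlgebra 𝒞]
    (X : GrLC.GMod.{u} 𝒞) : GrLC.GMod.{u} 𝒞 :=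
  quotGMod 𝒞 X.gr (GrLC.gam (GrSyz.irrel 𝒞).toIdeal X.carrier) (isHomogeneous_gam X.gr (GrSyz.irrel 𝒞))

/-- The projection to the torsion-free quotient. -/
noncomputable def barMap {R₀ : Type u} [CommRing R₀] [Algebra k R₀] {𝒞 : ℤ → Submodule k R₀} [GradedAlgebra 𝒞]
    (X : GrLC.GMod.{u} 𝒞) : X.carrier →ₗ[R₀] (bar X).carrier :=
  (GrLC.gam (GrSyz.irrel 𝒞).toIdeal X.carrier).mkQ

theorem barMap_grHom {R₀ : Type u} [CommRing R₀] [Algebra k R₀] {𝒞 : ℤ → Submodule k R₀} [GradedAlgebra 𝒞]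
    (X : GrLC.GMod.{u} 𝒞) : GrLC.IsGrHom X.gr (bar X).gr (barMap X) :=
  isGrHom_mkQ X.gr _

omit [IsNoetherianRing T] in
theorem exists_ker_mem {n : ℤ} {w : X.carrier ⊗[k] Y.carrier} (hw : w ∈ GrSeg.segrePiece k X.gr Y.gr n)
    (h0 : tmap (barMap X) (barMap Y) w = 0) :
    w ∈ Submodule.span k {w | ∃ x ∈ X.gr n, ∃ y ∈ Y.gr n, (x ∈ GrLC.gam (GrSyz.irrel 𝒜).toIdeal X.carrier ∨
      y ∈ GrLC.gam (GrSyz.irrel ℬ).toIdeal Y.carrier) ∧ w = x ⊗ₜ[k] y} := by
  rw [← range_pieceTensor] at hw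
  obtain ⟨v, rfl⟩ := hw
  let p₁ : pieceK 𝒜 X.gr n →ₗ[k] (bar X).carrier := (barMap X).restrictScalars k ∘ₗ (pieceK 𝒜 X.gr n).subtype
  let p₂ : pieceK ℬ Y.gr n →ₗ[k] (bar Y).carrier := (barMap Y).restrictScalars k ∘ₗ (pieceK ℬ Y.gr n).subtype
  have h1 : TensorProduct.map (LinearMap.range p₁).subtype (LinearMap.range p₂).subtype
      (TensorProduct.map p₁.rangeRestrict p₂.rangeRestrict v) = 0 := by
    rw [← LinearMap.comp_apply, ← TensorProduct.map_comp, LinearMap.subtype_comp_codRestrict,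
      LinearMap.subtype_comp_codRestrict]
    rw [← h0, pieceTensor, ← LinearMap.comp_apply (tmap (barMap X) (barMap Y)), ← TensorProduct.map_comp]
  have h2 : TensorProduct.map p₁.rangeRestrict p₂.rangeRestrict v = 0 :=
    (injective_iff_map_eq_zero _).1 (TensorProduct.map_injective_of_flat_flat _ _ Subtype.val_injective
      Subtype.val_injective) _ h1
  have hex : ∀ {V W : Type u} [AddCommGroup V] [Module k V] [AddCommGroup W] [Module k W] (p : V →ₗ[k] W),
      Function.Exact (LinearMap.ker p).subtype p.rangeRestrict := fun {V W} _ _ _ _ p => by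
    intro x
    rw [← LinearMap.mem_ker, LinearMap.ker_rangeRestrict]
    exact ⟨fun hx => ⟨⟨x, hx⟩, rfl⟩, fun ⟨y, hy⟩ => hy ▸ y.2⟩
  have h3 := (TensorProduct.map_ker (hex p₁) p₁.surjective_rangeRestrict (hex p₂) p₂.surjective_rangeRestrict).le
    (LinearMap.mem_ker.2 h2)
  let Wk := Submodule.span k {w | ∃ x ∈ X.gr n, ∃ y ∈ Y.gr n, (x ∈ GrLC.gam (GrSyz.irrel 𝒜).toIdeal X.carrier ∨
      y ∈ GrLC.gam (GrSyz.irrel ℬ).toIdeal Y.carrier) ∧ w = x ⊗ₜ[k] y}
  show pieceTensor X Y n v ∈ Wk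
  refine (sup_le ?_ ?_ : _ ≤ Wk.comap (pieceTensor X Y n)) h3
  · rintro _ ⟨u, rfl⟩
    induction u using TensorProduct.induction_on with
    | zero => rw [map_zero]; exact zero_mem _
    | add a b ha hb => rw [map_add]; exact add_mem ha hb
    | tmul a b =>
      refine Submodule.subset_span ⟨a.1, a.2, b.1.1, b.1.2, Or.inr ?_, rfl⟩
      exact (Submodule.Quotient.mk_eq_zero _).1 b.2
  · rintro _ ⟨u, rfl⟩
    induction u using TensorProduct.induction_on with
    | zero => rw [map_zero]; exact zero_mem _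
    | add a b ha hb => rw [map_add]; exact add_mem ha hb
    | tmul a b =>
      refine Submodule.subset_span ⟨a.1.1, a.1.2, b.1, b.2, Or.inl ?_, rfl⟩
      exact (Submodule.Quotient.mk_eq_zero _).1 a.2

include hpR hpS hpT in
/-- The torsion of a Segre product is the kernel of the map to the product of the torsion-free quotients. -/
theorem mem_gam_sq_iff (z : (sq X Y hT).carrier) :
    z ∈ GrLC.gam (GrSyz.irrel 𝒯).toIdeal (sq X Y hT).carrier ↔ tmap (barMap X) (barMap Y) (sqVal X Y hT z) = 0 := by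
  classical
  let π := sqMap hT (barMap X) (barMap Y) (barMap_grHom X) (barMap_grHom Y)
  have hπ : GrLC.IsGrHom (sq X Y hT).gr (sq (bar X) (bar Y) hT).gr π := sqMap_grHom hT _ _ _ _
  constructor
  · intro hz
    have h1 : π z ∈ GrLC.gam (GrSyz.irrel 𝒯).toIdeal (sq (bar X) (bar Y) hT).carrier := map_gam π hz
    rw [gam_sq_eq_bot hT hpT (bar X) (bar Y) (gam_quot_eq_bot _) (gam_quot_eq_bot _), Submodule.mem_bot] at h1
    exact congrArg (sqVal (bar X) (bar Y) hT) h1
  · intro hz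
    have hπz : π z = 0 := sqVal_injective _ _ hT hz
    rw [← sum_support_decompose (sq X Y hT).gr z]
    refine Submodule.sum_mem _ fun n _ => ?_
    have hn : π (decompose (sq X Y hT).gr z n : (sq X Y hT).carrier) = 0 := by
      have h1 := map_decompose (sq X Y hT).gr (sq (bar X) (bar Y) hT).gr π.toAddMonoidHom hπ z n
      rw [show π.toAddMonoidHom z = π z from rfl, hπz, decompose_zero] at h1
      simpa using h1
    obtain ⟨w, hw⟩ : ∃ w, w = (decompose (sq X Y hT).gr z n : (sq X Y hT).carrier) := ⟨_, rfl⟩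
    rw [← hw] at hn ⊢
    have hwn : w ∈ (sq X Y hT).gr n := hw ▸ SetLike.coe_mem _
    have hspan := exists_ker_mem ((mem_sq_gr X Y hT w).1 hwn) (congrArg (sqVal (bar X) (bar Y) hT) hn)
    suffices key : ∀ u ∈ Submodule.span k {u | ∃ x ∈ X.gr n, ∃ y ∈ Y.gr n,
        (x ∈ GrLC.gam (GrSyz.irrel 𝒜).toIdeal X.carrier ∨ y ∈ GrLC.gam (GrSyz.irrel ℬ).toIdeal Y.carrier) ∧
          u = x ⊗ₜ[k] y}, ∃ v ∈ GrLC.gam (GrSyz.irrel 𝒯).toIdeal (sq X Y hT).carrier, sqVal X Y hT v = u by
      obtain ⟨v, hv, he⟩ := key _ hspan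
      exact sqVal_injective X Y hT he ▸ hv
    intro u hu
    induction hu using Submodule.span_induction with
    | mem u hu =>
      obtain ⟨x, hx, y, hy, hor, rfl⟩ := hu
      obtain ⟨v, hv⟩ := exists_sqVal X Y hT (Submodule.mem_iSup_of_mem n (tmul_mem_segrePiece X Y hx hy))
      exact ⟨v, mem_gam_of_factor hT hpR hpS hpT X Y hx hy hor v hv, hv⟩
    | zero => exact ⟨0, zero_mem _, rfl⟩
    | add a b _ _ ha hb =>
      obtain ⟨va, hva, rfl⟩ := ha
      obtain ⟨vb, hvb, rfl⟩ := hb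
      exact ⟨va + vb, add_mem hva hvb, rfl⟩
    | smul c a _ ha =>
      obtain ⟨va, hva, rfl⟩ := ha
      exact ⟨c • va, gam_smul_k hT X Y c hva, sqVal_smul_k hT X Y c va⟩

end Groth.Agent.GrLib8.Seg
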