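import Groth.Agent.GrLib8.SegBridge
import Groth.Agent.GrLib8.GrCMField
import Groth.Agent.GrLib8.Res

/-!
# Cohen-Macaulayness of Segre products
-/

set_option autoImplicit false
set_option linter.unusedSectionVars false
set_option linter.style.haveILetI false

universe u

open DirectSum
open scoped TensorProduct

namespace Groth.Agent.GrLib8.Seg

variable {k : Type u} [Field k]

section Ring

variable {R₀ : Type u} [CommRing R₀] [Algebra k R₀] (𝒞 : ℤ → Submodule k R₀) [GradedAlgebra 𝒞] [Nontrivial R₀]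
  [IsNoetherianRing R₀] {M : Type u} [AddCommGroup M] [Module R₀ M] (ℳ : ℤ → AddSubgroup M) [Decomposition ℳ]
  [SetLike.GradedSMul 𝒞 ℳ] [Module.Finite R₀ M]
  (hpos : ∀ n < 0, ∀ r ∈ 𝒞 n, r = 0) (h0 : 𝒞 0 = Submodule.span k {(1 : R₀)})

include hpos h0 in
theorem finrank_Hcomp_eq_zero_iff (E : GrLC.StarInjRes 𝒞 ℳ) (i : ℕ) (g : ℤ) :
    Module.finrank (GrLC.deg0 𝒞) (E.Hcomp (GrSyz.irrel 𝒞) i g) = 0 ↔ E.Hcomp (GrSyz.irrel 𝒞) i g = ⊥ := by
  haveI : Module.Finite R₀ (GrLC.GMod.of 𝒞 M ℳ).carrier := ‹Module.Finite R₀ M›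
  let V := E.Hcomp (GrSyz.irrel 𝒞) i g
  letI : Module k V := Module.compHom V (iota 𝒞)
  have hj : ∀ (c : k) (v : V), (AddEquiv.refl V) (c • v) = iota 𝒞 c • (AddEquiv.refl V) v := fun _ _ => rfl
  haveI : Module.Finite k V :=
    finite_transfer h0 (AddEquiv.refl V) hj (finite_Hcomp hpos h0 (X := GrLC.GMod.of 𝒞 M ℳ) E i g)
  rw [← finrank_transfer h0 (AddEquiv.refl V) hj, Module.finrank_zero_iff]
  exact Submodule.subsingleton_iff_eq_bot

variable [Module k M] [IsScalarTower k R₀ M]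

include hpos h0 in
theorem finrank_pieceK_eq_zero_iff (d : ℤ) : Module.finrank k (pieceK 𝒞 ℳ d) = 0 ↔ ℳ d = ⊥ := by
  haveI := finite_pieceK 𝒞 ℳ hpos h0 d
  rw [Module.finrank_zero_iff, Submodule.subsingleton_iff_eq_bot, Submodule.eq_bot_iff, AddSubgroup.eq_bot_iff_forall]
  exact Iff.rfl

end Ring

variable {R S T : Type u} [CommRing R] [CommRing S] [CommRing T] [Algebra k R] [Algebra k S]
  [Algebra k T] {𝒜 : ℤ → Submodule k R} [GradedAlgebra 𝒜] {ℬ : ℤ → Submodule k S} [GradedAlgebra ℬ]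
  {𝒯 : ℤ → Submodule k T} [GradedAlgebra 𝒯] {ψ : T →ₐ[k] R ⊗[k] S}
variable {M N P : Type u} [AddCommGroup M] [Module R M] [Module k M] [IsScalarTower k R M]
  [AddCommGroup N] [Module S N] [Module k N] [IsScalarTower k S N]
  [AddCommGroup P] [Module T P] [Module k P] [IsScalarTower k T P]
  (ℳ : ℤ → AddSubgroup M) [Decomposition ℳ] [SetLike.GradedSMul 𝒜 ℳ]
  (𝒩 : ℤ → AddSubgroup N) [Decomposition 𝒩] [SetLike.GradedSMul ℬ 𝒩]
  (𝒬 : ℤ → AddSubgroup P) [Decomposition 𝒬]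

theorem gradedSMul_segre (hT : GrSeg.IsSegreRing 𝒜 ℬ 𝒯 ψ) {φ : P →ₗ[k] M ⊗[k] N}
    (hP : GrSeg.IsSegreMod ψ ℳ 𝒩 𝒬 φ) : SetLike.GradedSMul 𝒯 𝒬 := by
  refine ⟨fun i n t p ht hp => ?_⟩
  have h1 : φ (p : P) ∈ GrSeg.segrePiece k ℳ 𝒩 n := (hP.image_piece n).le ⟨p, hp, rfl⟩
  have h2 : φ (t • p) ∈ (GrSeg.segrePiece k ℳ 𝒩 (i + n) : Set (M ⊗[k] N)) := by
    rw [SetLike.mem_coe, hP.map_smul]
    have hmem : ψ t ∈ GrSeg.segrePiece k 𝒜 ℬ i := (hT.2 i).le ⟨t, ht, rfl⟩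
    generalize ψ t = v at hmem ⊢
    generalize φ p = w' at h1 ⊢
    induction hmem using Submodule.span_induction with
    | mem w hw =>
      obtain ⟨a, ha, b, hb, rfl⟩ := hw
      induction h1 using Submodule.span_induction with
      | mem w hw =>
        obtain ⟨x, hx, y, hy, rfl⟩ := hw
        rw [GrSeg.act_tmul]
        exact Submodule.subset_span ⟨_, SetLike.GradedSMul.smul_mem (B := ℳ) ha hx, _,
          SetLike.GradedSMul.smul_mem (B := 𝒩) hb hy, rfl⟩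
      | zero => rw [map_zero]; exact zero_mem _
      | add a b _ _ ha hb => rw [map_add]; exact add_mem ha hb
      | smul c a _ ha => rw [map_smul]; exact Submodule.smul_mem _ c ha
    | zero => rw [map_zero, LinearMap.zero_apply]; exact zero_mem _
    | add a b _ _ ha hb => rw [map_add, LinearMap.add_apply]; exact add_mem ha hb
    | smul c a _ ha => rw [map_smul, LinearMap.smul_apply]; exact Submodule.smul_mem _ c ha
  obtain ⟨p', hp', he⟩ := (hP.image_piece (i + n)).ge h2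
  rw [vadd_eq_add, ← hP.injective he]
  exact hp'

/-- The local cohomology of a Segre product of Cohen-Macaulay modules below the top degree. -/
theorem isCM_segre_iff [Nontrivial R] [Nontrivial S] [Algebra.FiniteType k R] [Algebra.FiniteType k S]
    (hposR : ∀ n : ℤ, n < 0 → 𝒜 n = ⊥) (h0R : 𝒜 0 = Submodule.span k {(1 : R)})
    (hposS : ∀ n : ℤ, n < 0 → ℬ n = ⊥) (h0S : ℬ 0 = Submodule.span k {(1 : S)})
    (hT : GrSeg.IsSegreRing 𝒜 ℬ 𝒯 ψ) [Module.Finite R M] [Module.Finite S N]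
    (EM : GrLC.StarInjRes 𝒜 ℳ) (EN : GrLC.StarInjRes ℬ 𝒩) (φ : P →ₗ[k] M ⊗[k] N)
    (hP : GrSeg.IsSegreMod ψ ℳ 𝒩 𝒬 φ) {r s : ℕ} (h1r : 1 ≤ r) (h1s : 1 ≤ s)
    (hdM : Module.supportDim R M = r) (hdN : Module.supportDim S N = s)
    (hdP : Module.supportDim T P = ((r + s - 1 : ℕ) : WithBot ℕ∞))
    (hMcm : ∀ (q : Ideal R) [q.IsPrime], Subsingleton (LocalizedModule q.primeCompl M) ∨
        LocCoh.IsCohenMacaulayModule (Localization.AtPrime q) (LocalizedModule q.primeCompl M))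
    (hNcm : ∀ (q : Ideal S) [q.IsPrime], Subsingleton (LocalizedModule q.primeCompl N) ∨
        LocCoh.IsCohenMacaulayModule (Localization.AtPrime q) (LocalizedModule q.primeCompl N)) :
    (∀ (q : Ideal T) [q.IsPrime], Subsingleton (LocalizedModule q.primeCompl P) ∨
        LocCoh.IsCohenMacaulayModule (Localization.AtPrime q) (LocalizedModule q.primeCompl P)) ↔
      (2 ≤ r → ∀ d : ℤ, ℳ d = ⊥ ∨ EN.Hcomp (GrSyz.irrel ℬ) s d = ⊥) ∧
        (2 ≤ s → ∀ d : ℤ, EM.Hcomp (GrSyz.irrel 𝒜) r d = ⊥ ∨ 𝒩 d = ⊥) := by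
  haveI := gradedSMul_segre ℳ 𝒩 𝒬 hT hP
  haveI : IsNoetherianRing R := Algebra.FiniteType.isNoetherianRing k R
  haveI : IsNoetherianRing S := Algebra.FiniteType.isNoetherianRing k S
  haveI : IsNoetherianRing T := isNoetherianRing_segre 𝒜 ℬ 𝒯 ψ hT
  haveI : Nontrivial T := segre_nontrivial hT
  haveI := isNoetherian_segre 𝒜 ℬ ℳ 𝒩 𝒯 𝒬 hT.2 hP
  haveI : Module.Finite T P := Module.Finite.of_fg_top (IsNoetherian.noetherian ⊤)
  have hpR := nonneg_of_eq_bot 𝒜 hposR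
  have hpS := nonneg_of_eq_bot ℬ hposS
  have hpT := segre_nonneg hT hpR
  have h0T := segre_deg_zero hT h0R h0S
  have hposT : ∀ n : ℤ, n < 0 → 𝒯 n = ⊥ := fun n hn => (Submodule.eq_bot_iff _).2 (hpT n hn)
  let EP : GrLC.StarInjRes 𝒯 𝒬 := starRes 𝒬
  rw [isCM_iff_Hcomp 𝒯 𝒬 hposT h0T EP _ hdP]
  have hzM : ∀ i, i ≠ r → ∀ d, Module.finrank (GrLC.deg0 𝒜) (EM.Hcomp (GrSyz.irrel 𝒜) i d) = 0 := fun i hi d =>
    (finrank_Hcomp_eq_zero_iff 𝒜 ℳ hpR h0R EM i d).2 (Hcomp_eq_bot_of_isCM 𝒜 ℳ hposR h0R EM hdM hMcm hi d)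
  have hzN : ∀ i, i ≠ s → ∀ d, Module.finrank (GrLC.deg0 ℬ) (EN.Hcomp (GrSyz.irrel ℬ) i d) = 0 := fun i hi d =>
    (finrank_Hcomp_eq_zero_iff ℬ 𝒩 hpS h0S EN i d).2 (Hcomp_eq_bot_of_isCM ℬ 𝒩 hposS h0S EN hdN hNcm hi d)
  have hform : ∀ (q : ℕ), q < r + s - 1 → ∀ d : ℤ, (EP.Hcomp (GrSyz.irrel 𝒯) q d = ⊥ ↔
      Module.finrank k (pieceK 𝒜 ℳ d) * Module.finrank (GrLC.deg0 ℬ) (EN.Hcomp (GrSyz.irrel ℬ) q d) = 0 ∧
      Module.finrank (GrLC.deg0 𝒜) (EM.Hcomp (GrSyz.irrel 𝒜) q d) * Module.finrank k (pieceK ℬ 𝒩 d) = 0) := by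
    intro q hq d
    rw [← finrank_Hcomp_eq_zero_iff 𝒯 𝒬 hpT h0T EP q d,
      finrank_segre ℳ 𝒩 𝒬 hpR h0R hpS h0S hT EM EN φ hP EP
        (Hcomp_eq_bot_of_isCM 𝒜 ℳ hposR h0R EM hdM hMcm (by omega) d)
        (Hcomp_eq_bot_of_isCM ℬ 𝒩 hposS h0S EN hdN hNcm (by omega) d) q,
      Finset.sum_eq_zero fun i hi => ?_, add_zero, Nat.add_eq_zero_iff]
    rcases eq_or_ne i r with rfl | hir
    · rw [hzN (q + 1 - i) (by omega) d, mul_zero]
    · rw [hzM i hir d, zero_mul]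
  constructor
  · intro h
    refine ⟨fun h2 d => ?_, fun h2 d => ?_⟩
    · rcases mul_eq_zero.1 ((hform s (by omega) d).1 (h s (by omega) d)).1 with h' | h'
      · exact Or.inl ((finrank_pieceK_eq_zero_iff 𝒜 ℳ hpR h0R d).1 h')
      · exact Or.inr ((finrank_Hcomp_eq_zero_iff ℬ 𝒩 hpS h0S EN s d).1 h')
    · rcases mul_eq_zero.1 ((hform r (by omega) d).1 (h r (by omega) d)).2 with h' | h'
      · exact Or.inl ((finrank_Hcomp_eq_zero_iff 𝒜 ℳ hpR h0R EM r d).1 h')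
      · exact Or.inr ((finrank_pieceK_eq_zero_iff ℬ 𝒩 hpS h0S d).1 h')
  · intro h q hq d
    refine (hform q hq d).2 ⟨?_, ?_⟩
    · rcases eq_or_ne q s with rfl | hqs
      · rcases h.1 (by omega) d with h' | h'
        · rw [(finrank_pieceK_eq_zero_iff 𝒜 ℳ hpR h0R d).2 h', zero_mul]
        · rw [(finrank_Hcomp_eq_zero_iff ℬ 𝒩 hpS h0S EN _ d).2 h', mul_zero]
      · rw [hzN q hqs d, mul_zero]
    · rcases eq_or_ne q r with rfl | hqr
      · rcases h.2 (by omega) d with h' | h'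
        · rw [(finrank_Hcomp_eq_zero_iff 𝒜 ℳ hpR h0R EM _ d).2 h', zero_mul]
        · rw [(finrank_pieceK_eq_zero_iff ℬ 𝒩 hpS h0S d).2 h', mul_zero]
      · rw [hzM q hqr d, zero_mul]

end Groth.Agent.GrLib8.Seg
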