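import Groth.Agent.VarDim.Basic
import Mathlib.Algebra.Polynomial.Laurent
import Mathlib.RingTheory.Algebraic.Integral
import Mathlib.RingTheory.AlgebraicIndependent.TranscendenceBasis

/-!
# The dimension of a Segre product of two polynomial rings
-/

set_option autoImplicit false
set_option linter.unusedSectionVars false

universe u

open MvPolynomial

namespace Groth.Agent.GrLib8.SegPoly

variable (k : Type u) [Field k] (r s : ℕ)

/-- The subalgebra generated by the products `X_i * Y_j`. -/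
noncomputable def B0 : Subalgebra k (MvPolynomial (Fin r ⊕ Fin s) k) :=
  Algebra.adjoin k (Set.range fun p : Fin r × Fin s => (X (Sum.inl p.1) * X (Sum.inr p.2) : MvPolynomial (Fin r ⊕ Fin s) k))

instance : Algebra.FiniteType k (B0 k r s) :=
  (Subalgebra.fg_iff_finiteType _).1 (Subalgebra.fg_def.2 ⟨_, Set.finite_range _, rfl⟩)

variable {k r s}

theorem monomial_mem : ∀ (n : ℕ) (α : Fin r ⊕ Fin s →₀ ℕ),
    (∑ i, α (Sum.inl i)) = n → (∑ j, α (Sum.inr j)) = n → (monomial α (1 : k)) ∈ B0 k r s := by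
  classical
  intro n
  induction n with
  | zero =>
    intro α h1 h2
    have hα : α = 0 := by
      ext (i | j)
      · simpa using Finset.sum_eq_zero_iff.1 h1 i (Finset.mem_univ i)
      · simpa using Finset.sum_eq_zero_iff.1 h2 j (Finset.mem_univ j)
    rw [hα, monomial_zero', C_1]
    exact one_mem _
  | succ n ih =>
    intro α h1 h2
    obtain ⟨i, hi⟩ : ∃ i, α (Sum.inl i) ≠ 0 := by
      by_contra hc
      push Not at hc
      simp [hc] at h1
    obtain ⟨j, hj⟩ : ∃ j, α (Sum.inr j) ≠ 0 := by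
      by_contra hc
      push Not at hc
      simp [hc] at h2
    obtain ⟨β, hβ⟩ : ∃ β, α = (Finsupp.single (Sum.inl i) 1 + Finsupp.single (Sum.inr j) 1) + β := by
      refine ⟨α - (Finsupp.single (Sum.inl i) 1 + Finsupp.single (Sum.inr j) 1), (add_tsub_cancel_of_le ?_).symm⟩
      intro a
      rcases a with a | a
      · rcases eq_or_ne a i with rfl | h
        · simp; omega
        · simp [Finsupp.single_eq_of_ne (show (Sum.inl a : Fin r ⊕ Fin s) ≠ Sum.inl i by simpa using h)]
      · rcases eq_or_ne a j with rfl | h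
        · simp; omega
        · simp [Finsupp.single_eq_of_ne (show (Sum.inr a : Fin r ⊕ Fin s) ≠ Sum.inr j by simpa using h)]
    subst hβ
    rw [← one_mul (1 : k), ← monomial_mul, ← one_mul (1 : k), ← monomial_mul]
    refine mul_mem (Algebra.subset_adjoin ⟨(i, j), by simp [X]⟩) ?_
    rw [one_mul]
    refine ih β ?_ ?_
    · simp [Finsupp.add_apply, Finset.sum_add_distrib, Finsupp.single_apply] at h1
      omega
    · simp [Finsupp.add_apply, Finset.sum_add_distrib, Finsupp.single_apply] at h2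
      omega

variable (k)

open scoped LaurentPolynomial in
/-- The grading by the difference of the two degrees, as a substitution. -/
noncomputable def θ : MvPolynomial (Fin r ⊕ Fin s) k →ₐ[k] (MvPolynomial (Fin r ⊕ Fin s) k)[T;T⁻¹] :=
  aeval (Sum.elim
    (fun i => LaurentPolynomial.C (X (Sum.inl i)) * LaurentPolynomial.T 1)
    (fun j => LaurentPolynomial.C (X (Sum.inr j)) * LaurentPolynomial.T (-1)))

theorem θ_of_mem {b : MvPolynomial (Fin r ⊕ Fin s) k} (hb : b ∈ B0 k r s) :
    θ k b = LaurentPolynomial.C b := by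
  induction hb using Algebra.adjoin_induction with
  | mem x hx =>
    obtain ⟨⟨i, j⟩, rfl⟩ := hx
    simp only [θ, map_mul, aeval_X, Sum.elim_inl, Sum.elim_inr]
    rw [mul_mul_mul_comm, ← LaurentPolynomial.T_add]
    simp
  | algebraMap c =>
    rw [AlgHom.commutes]
    rfl
  | add x y _ _ hx hy => rw [map_add, map_add, hx, hy]
  | mul x y _ _ hx hy => rw [map_mul, map_mul, hx, hy]

theorem trdeg_B0 (hr : 1 ≤ r) (hs : 1 ≤ s) : Algebra.trdeg k (B0 k r s) = (r + s - 1 : ℕ) := by
  classical
  let i₀ : Fin r := ⟨0, hr⟩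
  let j₀ : Fin s := ⟨0, hs⟩
  let x : Fin 1 → MvPolynomial (Fin r ⊕ Fin s) k := fun _ => X (Sum.inl i₀)
  have hind : AlgebraicIndependent (B0 k r s) x := by
    rw [algebraicIndependent_unique_type_iff, transcendental_iff]
    intro p hp
    have h := congrArg (θ k) hp
    rw [map_zero, Polynomial.aeval_eq_sum_range, map_sum] at h
    refine Polynomial.ext fun l => ?_
    rw [Polynomial.coeff_zero]
    by_contra hl
    have hl' : l ∈ Finset.range (p.natDegree + 1) :=
      Finset.mem_range.2 (Nat.lt_succ_of_le (Polynomial.le_natDegree_of_ne_zero fun h0 => hl (by rw [h0])))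
    have hterm : ∀ m : ℕ, θ k (p.coeff m • x default ^ m) =
        AddMonoidAlgebra.single (m : ℤ) ((p.coeff m : MvPolynomial (Fin r ⊕ Fin s) k) * X (Sum.inl i₀) ^ m) := by
      intro m
      rw [Algebra.smul_def, map_mul, map_pow, show (algebraMap (B0 k r s) (MvPolynomial (Fin r ⊕ Fin s) k)) (p.coeff m) = (p.coeff m : MvPolynomial (Fin r ⊕ Fin s) k) from rfl,
        θ_of_mem k (p.coeff m).2]
      simp only [x, θ, aeval_X, Sum.elim_inl]
      rw [mul_pow, LaurentPolynomial.T_pow, mul_one, ← map_pow, ← mul_assoc, ← map_mul, ← LaurentPolynomial.single_eq_C_mul_T]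
    have hc := congrArg (fun q : AddMonoidAlgebra (MvPolynomial (Fin r ⊕ Fin s) k) ℤ => q.coeff (l : ℤ)) ((Finset.sum_congr rfl fun m _ => hterm m).symm.trans h)
    simp only [AddMonoidAlgebra.coeff_sum, Finsupp.finsetSum_apply, AddMonoidAlgebra.coeff_single,
      AddMonoidAlgebra.coeff_zero, Finsupp.coe_zero, Pi.zero_apply] at hc
    rw [Finset.sum_eq_single l (fun m _ hm => Finsupp.single_eq_of_ne (by exact_mod_cast hm.symm)) (fun h => absurd hl' h),
      Finsupp.single_eq_same, mul_eq_zero] at hc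
    rcases hc with hc | hc
    · exact hl (Subtype.ext hc)
    · exact pow_ne_zero l (X_ne_zero _) hc
  have halg : Algebra.IsAlgebraic (Algebra.adjoin (B0 k r s) (Set.range x)) (MvPolynomial (Fin r ⊕ Fin s) k) := by
    let A := Algebra.adjoin (B0 k r s) (Set.range x)
    have hlin : ∀ a c z : MvPolynomial (Fin r ⊕ Fin s) k, a ∈ A → c ∈ A → a ≠ 0 → a * z = c → IsAlgebraic A z := by
      intro a c z ha hc ha0 h
      refine ⟨Polynomial.C ⟨a, ha⟩ * Polynomial.X - Polynomial.C ⟨c, hc⟩, fun h0 => ha0 ?_, ?_⟩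
      · have h1 := congrArg (fun q : Polynomial A => q.coeff 1) h0
        simp only [Polynomial.coeff_sub, Polynomial.coeff_C_mul, Polynomial.coeff_X_one, mul_one,
          Polynomial.coeff_C_succ, sub_zero, Polynomial.coeff_zero] at h1
        simpa using congrArg Subtype.val h1
      · simp only [map_sub, map_mul, Polynomial.aeval_C, Polynomial.aeval_X]
        exact sub_eq_zero.2 h
    have hXi₀ : (X (Sum.inl i₀) : MvPolynomial (Fin r ⊕ Fin s) k) ∈ A := Algebra.subset_adjoin ⟨0, rfl⟩
    have hB : ∀ i j, (X (Sum.inl i) * X (Sum.inr j) : MvPolynomial (Fin r ⊕ Fin s) k) ∈ A := fun i j =>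
      A.algebraMap_mem (⟨_, Algebra.subset_adjoin ⟨(i, j), rfl⟩⟩ : B0 k r s)
    have hX : ∀ a, IsAlgebraic A (X a : MvPolynomial (Fin r ⊕ Fin s) k) := by
      rintro (i | j)
      · exact hlin _ _ _ (hB i₀ j₀) (mul_mem hXi₀ (hB i j₀)) (mul_ne_zero (X_ne_zero _) (X_ne_zero _)) (by ring)
      · exact hlin _ _ _ hXi₀ (hB i₀ j) (X_ne_zero _) rfl
    refine ⟨fun z => ?_⟩
    induction z using MvPolynomial.induction_on with
    | C a => exact isAlgebraic_algebraMap (A := MvPolynomial (Fin r ⊕ Fin s) k) (⟨_, A.algebraMap_mem (algebraMap k (B0 k r s) a)⟩ : A)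
    | add p q hp hq => exact hp.add hq
    | mul_X p a hp => exact hp.mul (hX a)
  have hbasis : IsTranscendenceBasis (B0 k r s) x := hind.isTranscendenceBasis_iff_isAlgebraic.2 halg
  have h1 : Algebra.trdeg (B0 k r s) (MvPolynomial (Fin r ⊕ Fin s) k) = 1 := by
    have := hbasis.lift_cardinalMk_eq_trdeg
    simpa using this.symm
  have h2 := lift_trdeg_add_eq k (B0 k r s) (MvPolynomial (Fin r ⊕ Fin s) k)
  rw [h1, MvPolynomial.trdeg_of_isDomain] at h2
  obtain ⟨n, -, hn⟩ := VarDim.exists_dim_eq_trdeg k (B0 k r s)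
  rw [hn] at h2 ⊢
  simp at h2
  have h3 : n + 1 = r + s := by exact_mod_cast h2
  exact_mod_cast (show n = r + s - 1 by omega)

/-- The Segre product of two polynomial rings has dimension `r + s - 1`. -/
theorem ringKrullDim_B0 (hr : 1 ≤ r) (hs : 1 ≤ s) : ringKrullDim (B0 k r s) = ((r + s - 1 : ℕ) : WithBot ℕ∞) := by
  obtain ⟨n, hn, hn'⟩ := VarDim.exists_dim_eq_trdeg k (B0 k r s)
  rw [trdeg_B0 k hr hs, Nat.cast_inj] at hn'
  rw [hn, hn']

end Groth.Agent.GrLib8.SegPoly
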