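import Groth.Agent.GrLib8.Segre
import Groth.Agent.GrLib8.SegreRing
import Groth.Agent.GrLib8.SegrePoly
import Groth.Agent.GrLib8.HomNNMod
import Mathlib.RingTheory.Flat.Basic

/-!
# The dimension of a Segre product of two graded modules
-/

set_option autoImplicit false
set_option linter.unusedSectionVars false
set_option linter.style.haveILetI false
set_option maxHeartbeats 1000000

universe u

open DirectSum
open scoped TensorProduct

namespace Groth.Agent.GrLib8.SegDim

variable {k : Type u} [Field k]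

section Free

variable {R : Type u} [CommRing R] [Algebra k R] (𝒜 : ℤ → Submodule k R) [GradedAlgebra 𝒜]
variable {M : Type u} [AddCommGroup M] [Module R M] (ℳ : ℤ → AddSubgroup M) [Decomposition ℳ]
  [SetLike.GradedSMul 𝒜 ℳ]

include ℳ in
theorem annihilator_homogeneous : (Module.annihilator R M).IsHomogeneous 𝒜 := by
  classical
  intro i a ha
  rw [Module.mem_annihilator] at ha ⊢
  intro x
  rw [← sum_support_decompose ℳ x, Finset.smul_sum]
  refine Finset.sum_eq_zero fun g _ => ?_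
  have h := decompose_smul_of_mem 𝒜 ℳ (SetLike.coe_mem (decompose ℳ x g)) a (i + g)
  rw [add_sub_cancel_right, ha, decompose_zero, DirectSum.zero_apply, ZeroMemClass.coe_zero] at h
  exact h.symm

variable {r : ℕ}

include 𝒜 in
theorem exists_free_elem [Module.Finite R M] (f : Fin r → R)
    (hfaith : ∀ p : MvPolynomial (Fin r) k, (∀ m : M, MvPolynomial.aeval f p • m = 0) → p = 0) :
    ∃ g, ∃ x ∈ ℳ g, ∀ p : MvPolynomial (Fin r) k, MvPolynomial.aeval f p • x = 0 → p = 0 := by
  classical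
  by_contra hc
  push Not at hc
  obtain ⟨K, t, e, ht, htop⟩ := exists_homogeneous_generators (R := R) ℳ
  choose p hp hp0 using fun j => hc (e j) (t j) (ht j)
  refine Finset.prod_ne_zero_iff.2 (fun j _ => hp0 j) (hfaith (∏ j, p j) fun m => ?_)
  have hm : m ∈ Submodule.span R (Set.range t) := htop.ge Submodule.mem_top
  induction hm using Submodule.span_induction with
  | mem y hy =>
    obtain ⟨j, rfl⟩ := hy
    rw [← Finset.prod_erase_mul _ _ (Finset.mem_univ j), map_mul, mul_smul, hp, smul_zero]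
  | zero => rw [smul_zero]
  | add a b _ _ ha hb => rw [smul_add, ha, hb, add_zero]
  | smul c a _ ha => rw [smul_comm, ha, smul_zero]

theorem exists_free_succ {D : ℕ} (hD : 0 < D) (hr : 1 ≤ r) (f : Fin r → R) (hf : ∀ j, f j ∈ 𝒜 (D : ℤ))
    (hstd : (GrSyz.irrel 𝒜).toIdeal ≤ Ideal.span ((𝒜 1 : Submodule k R) : Set R)) {g : ℤ} {x : M} (hx : x ∈ ℳ g)
    (hfree : ∀ p : MvPolynomial (Fin r) k, MvPolynomial.aeval f p • x = 0 → p = 0) (n : ℕ) :
    ∃ y ∈ ℳ (g + n), ∀ p : MvPolynomial (Fin r) k, MvPolynomial.aeval f p • y = 0 → p = 0 := by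
  induction n with
  | zero => exact ⟨x, by simpa using hx, hfree⟩
  | succ n ih =>
    obtain ⟨y, hy, hyfree⟩ := ih
    by_contra hc
    push Not at hc
    have hall : ∀ z ∈ Ideal.span ((𝒜 1 : Submodule k R) : Set R),
        ∃ p : MvPolynomial (Fin r) k, p ≠ 0 ∧ (MvPolynomial.aeval f p * z) • y = 0 := by
      intro z hz
      induction hz using Submodule.span_induction with
      | mem a ha =>
        obtain ⟨p, hp, hp0⟩ := hc (a • y) (by
          have h := SetLike.GradedSMul.smul_mem (B := ℳ) ha hy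
          rwa [vadd_eq_add, show (1 : ℤ) + (g + n) = g + ((n + 1 : ℕ) : ℤ) by push_cast; ring] at h)
        exact ⟨p, hp0, by rw [mul_smul]; exact hp⟩
      | zero => exact ⟨1, one_ne_zero, by rw [mul_zero, zero_smul]⟩
      | add a b _ _ ha hb =>
        obtain ⟨p, hp0, hp⟩ := ha
        obtain ⟨q, hq0, hq⟩ := hb
        refine ⟨p * q, mul_ne_zero hp0 hq0, ?_⟩
        rw [map_mul, mul_add, add_smul, mul_right_comm, mul_comm _ (MvPolynomial.aeval f q), mul_smul, hp, smul_zero,
          zero_add, mul_assoc, mul_smul, hq, smul_zero]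
      | smul c a _ ha =>
        obtain ⟨p, hp0, hp⟩ := ha
        exact ⟨p, hp0, by rw [smul_eq_mul, mul_left_comm, mul_smul, hp, smul_zero]⟩
    obtain ⟨p, hp0, hp⟩ := hall (f ⟨0, hr⟩) (hstd (mem_irrel_of_pos 𝒜 (by exact_mod_cast hD) (hf _)))
    refine mul_ne_zero hp0 (MvPolynomial.X_ne_zero (⟨0, hr⟩ : Fin r)) (hyfree _ ?_)
    rw [map_mul, MvPolynomial.aeval_X]
    exact hp

end Free

section Main

variable {R S T : Type u} [CommRing R] [CommRing S] [CommRing T] [Algebra k R] [Algebra k S] [Algebra k T]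
  (𝒜 : ℤ → Submodule k R) [GradedAlgebra 𝒜] (ℬ : ℤ → Submodule k S) [GradedAlgebra ℬ]
  (𝒯 : ℤ → Submodule k T) [GradedAlgebra 𝒯] {ψ : T →ₐ[k] R ⊗[k] S}
variable {M N P : Type u} [AddCommGroup M] [Module R M] [Module k M] [IsScalarTower k R M]
  [AddCommGroup N] [Module S N] [Module k N] [IsScalarTower k S N]
  [AddCommGroup P] [Module T P] [Module k P] [IsScalarTower k T P]
  (ℳ : ℤ → AddSubgroup M) [Decomposition ℳ] [SetLike.GradedSMul 𝒜 ℳ]
  (𝒩 : ℤ → AddSubgroup N) [Decomposition 𝒩] [SetLike.GradedSMul ℬ 𝒩]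
  (𝒬 : ℤ → AddSubgroup P) [Decomposition 𝒬] {φ : P →ₗ[k] M ⊗[k] N}

include 𝒜 ℬ in
theorem diag_act_ne (hP : GrSeg.IsSegreMod ψ ℳ 𝒩 𝒬 φ) {i j : ℤ} (hij : i ≠ j) {a : R} (ha : a ∈ 𝒜 i) {b : S}
    (hb : b ∈ ℬ j) (p : P) : Seg.diag 𝒜 ℬ ℳ 𝒩 (GrSeg.act k R S M N (a ⊗ₜ[k] b) (φ p)) = 0 := by
  induction p using DirectSum.Decomposition.inductionOn 𝒬 with
  | zero => simp
  | add p q hp hq => simp only [map_add, hp, hq, add_zero]
  | homogeneous p =>
    rename_i n
    have hmem : φ (p : P) ∈ (GrSeg.segrePiece k ℳ 𝒩 n : Set (M ⊗[k] N)) := (hP.image_piece n).le ⟨p, p.2, rfl⟩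
    rw [SetLike.mem_coe] at hmem
    generalize φ (p : P) = v at hmem ⊢
    induction hmem using Submodule.span_induction with
    | mem w hw =>
      obtain ⟨x, hx, y, hy, rfl⟩ := hw
      rw [GrSeg.act_tmul, Seg.diag_tmul_of_mem 𝒜 ℬ ℳ 𝒩 (SetLike.GradedSMul.smul_mem (B := ℳ) ha hx),
        decompose_of_mem_ne 𝒩 (SetLike.GradedSMul.smul_mem (B := 𝒩) hb hy)
          (by rw [vadd_eq_add, vadd_eq_add]; omega), TensorProduct.tmul_zero]
    | zero => simp
    | add a b _ _ ha hb => simp only [map_add, ha, hb, add_zero]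
    | smul c a _ ha => simp only [map_smul, ha, smul_zero]

variable {r s : ℕ}

/-- The substitution of parameters. -/
noncomputable def Phi (f : Fin r → R) (g : Fin s → S) : MvPolynomial (Fin r ⊕ Fin s) k →ₐ[k] R ⊗[k] S :=
  MvPolynomial.aeval (Sum.elim (fun i => f i ⊗ₜ[k] (1 : S)) (fun j => (1 : R) ⊗ₜ[k] g j))

/-- Splitting the variables. -/
noncomputable def split : MvPolynomial (Fin r ⊕ Fin s) k →ₐ[k]
    TensorProduct k (MvPolynomial (Fin r) k) (MvPolynomial (Fin s) k) :=
  MvPolynomial.aeval (Sum.elim (fun i => MvPolynomial.X i ⊗ₜ[k] 1) (fun j => 1 ⊗ₜ[k] MvPolynomial.X j))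

theorem split_injective : Function.Injective (split (k := k) (r := r) (s := s)) := by
  let merge : TensorProduct k (MvPolynomial (Fin r) k) (MvPolynomial (Fin s) k) →ₐ[k] MvPolynomial (Fin r ⊕ Fin s) k :=
    Algebra.TensorProduct.lift (MvPolynomial.rename Sum.inl) (MvPolynomial.rename Sum.inr) fun _ _ => Commute.all _ _
  have hms : merge.comp split = AlgHom.id k _ := by
    refine MvPolynomial.algHom_ext fun a => ?_
    rcases a with i | j <;> simp [merge, split]
  exact Function.LeftInverse.injective fun x => DFunLike.congr_fun hms x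

theorem Phi_eq (f : Fin r → R) (g : Fin s → S) :
    Phi f g = (Algebra.TensorProduct.map (MvPolynomial.aeval f) (MvPolynomial.aeval g)).comp (split (k := k)) := by
  refine MvPolynomial.algHom_ext fun a => ?_
  rcases a with i | j <;> simp [Phi, split]

theorem Phi_injective (f : Fin r → R) (g : Fin s → S)
    (hf : Function.Injective (MvPolynomial.aeval f : MvPolynomial (Fin r) k →ₐ[k] R))
    (hg : Function.Injective (MvPolynomial.aeval g : MvPolynomial (Fin s) k →ₐ[k] S)) :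
    Function.Injective (Phi (k := k) f g) := by
  rw [Phi_eq, AlgHom.coe_comp]
  exact (TensorProduct.map_injective_of_flat_flat (MvPolynomial.aeval f).toLinearMap
    (MvPolynomial.aeval g).toLinearMap hf hg).comp split_injective

theorem Phi_monomial (f : Fin r → R) (g : Fin s → S) (α : Fin r ⊕ Fin s →₀ ℕ) :
    Phi f g (MvPolynomial.monomial α (1 : k)) =
      (∏ i, f i ^ α (Sum.inl i)) ⊗ₜ[k] (∏ j, g j ^ α (Sum.inr j)) := by
  classical
  have h1 : ∀ (m : Finset (Fin r)), (∏ i ∈ m, (f i ⊗ₜ[k] (1 : S)) ^ α (Sum.inl i)) = (∏ i ∈ m, f i ^ α (Sum.inl i)) ⊗ₜ[k] (1 : S) := by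
    intro m
    induction m using Finset.induction_on with
    | empty => simp [Algebra.TensorProduct.one_def]
    | insert a m ha ih => rw [Finset.prod_insert ha, Finset.prod_insert ha, ih, Algebra.TensorProduct.tmul_pow, Algebra.TensorProduct.tmul_mul_tmul, one_pow, one_mul]
  have h2 : ∀ (m : Finset (Fin s)), (∏ j ∈ m, ((1 : R) ⊗ₜ[k] g j) ^ α (Sum.inr j)) = (1 : R) ⊗ₜ[k] (∏ j ∈ m, g j ^ α (Sum.inr j)) := by
    intro m
    induction m using Finset.induction_on with
    | empty => simp [Algebra.TensorProduct.one_def]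
    | insert a m ha ih => rw [Finset.prod_insert ha, Finset.prod_insert ha, ih, Algebra.TensorProduct.tmul_pow, Algebra.TensorProduct.tmul_mul_tmul, one_pow, one_mul]
  simp only [Phi, MvPolynomial.aeval_monomial, map_one, one_mul]
  rw [Finsupp.prod_fintype _ _ (fun a => pow_zero _), Fintype.prod_sum_type]
  simp only [Sum.elim_inl, Sum.elim_inr]
  rw [h1, h2, Algebra.TensorProduct.tmul_mul_tmul, mul_one, one_mul]

theorem pieceProd {R : Type u} [CommRing R] [Algebra k R] (𝒜 : ℤ → Submodule k R) [GradedAlgebra 𝒜] {D : ℕ}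
    (f : Fin r → R) (hf : ∀ j, f j ∈ 𝒜 (D : ℤ)) (α : Fin r → ℕ) :
    (∏ i, f i ^ α i) ∈ 𝒜 ((D : ℤ) * (∑ i, α i : ℕ)) := by
  have := SetLike.prod_mem_graded (A := 𝒜) (fun i => α i • (D : ℤ)) (fun i => f i ^ α i) (F := Finset.univ)
    fun i _ => SetLike.pow_mem_graded _ (hf i)
  rwa [← Finset.sum_smul, nsmul_eq_mul, mul_comm] at this

theorem integral_quot {A : Type u} [CommRing A] [Algebra k A] {n : ℕ} (f : Fin n → A) {W : Type u}
    [AddCommGroup W] [Module A W]
    (hfin : ((Ideal.Quotient.mkₐ k (Module.annihilator A W)).comp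
      (MvPolynomial.aeval f : MvPolynomial (Fin n) k →ₐ[k] A)).toRingHom.Finite) (a : A) :
    ∃ p : Polynomial (MvPolynomial (Fin n) k), p.Monic ∧
      p.eval₂ (MvPolynomial.aeval f : MvPolynomial (Fin n) k →ₐ[k] A).toRingHom a ∈ Module.annihilator A W := by
  obtain ⟨p, hp, hp0⟩ := hfin.to_isIntegral (Ideal.Quotient.mk _ a)
  refine ⟨p, hp, Ideal.Quotient.eq_zero_iff_mem.1 ?_⟩
  rw [Polynomial.hom_eval₂]
  exact hp0

variable {D : ℕ} (f : Fin r → R) (g : Fin s → S)
variable (hD : 0 < D) (hf : ∀ j, f j ∈ 𝒜 (D : ℤ)) (hg : ∀ j, g j ∈ ℬ (D : ℤ))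
variable (hfinj : Function.Injective ((Ideal.Quotient.mkₐ k (Module.annihilator R M)).comp
  (MvPolynomial.aeval f : MvPolynomial (Fin r) k →ₐ[k] R)))
variable (hginj : Function.Injective ((Ideal.Quotient.mkₐ k (Module.annihilator S N)).comp
  (MvPolynomial.aeval g : MvPolynomial (Fin s) k →ₐ[k] S)))
variable (hffin : ((Ideal.Quotient.mkₐ k (Module.annihilator R M)).comp
  (MvPolynomial.aeval f : MvPolynomial (Fin r) k →ₐ[k] R)).toRingHom.Finite)
variable (hgfin : ((Ideal.Quotient.mkₐ k (Module.annihilator S N)).comp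
  (MvPolynomial.aeval g : MvPolynomial (Fin s) k →ₐ[k] S)).toRingHom.Finite)

include hffin hgfin in
theorem integral_act (z : R ⊗[k] S) : ∃ p : Polynomial (MvPolynomial (Fin r ⊕ Fin s) k), p.Monic ∧
    ∀ w : M ⊗[k] N, GrSeg.act k R S M N (p.eval₂ (Phi f g).toRingHom z) w = 0 := by
  let J : Ideal (R ⊗[k] S) := RingHom.ker (Seg.actHom (k := k) (R := R) (S := S) (M := M) (N := N)).toRingHom
  have hJ : ∀ x, x ∈ J ↔ ∀ w : M ⊗[k] N, GrSeg.act k R S M N x w = 0 := fun x => by
    rw [RingHom.mem_ker]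
    exact ⟨fun h w => (Seg.actHom_apply x w).symm.trans (LinearMap.congr_fun h w),
      fun h => LinearMap.ext fun w => (Seg.actHom_apply x w).trans (h w)⟩
  let χ : MvPolynomial (Fin r ⊕ Fin s) k →+* (R ⊗[k] S) ⧸ J := (Ideal.Quotient.mk J).comp (Phi f g).toRingHom
  suffices h : χ.IsIntegralElem (Ideal.Quotient.mk J z) by
    obtain ⟨p, hp, hp0⟩ := h
    rw [← Polynomial.hom_eval₂] at hp0
    exact ⟨p, hp, (hJ _).1 (Ideal.Quotient.eq_zero_iff_mem.1 hp0)⟩
  induction z using TensorProduct.induction_on with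
  | zero => rw [map_zero]; exact χ.isIntegralElem_zero
  | add a b ha hb => rw [map_add]; exact ha.add _ hb
  | tmul a b =>
    rw [show a ⊗ₜ[k] b = (a ⊗ₜ[k] (1 : S)) * ((1 : R) ⊗ₜ[k] b) by simp, map_mul]
    refine RingHom.IsIntegralElem.mul _ ?_ ?_
    · obtain ⟨p, hp, hp0⟩ := integral_quot (W := M) f hffin a
      refine ⟨p.map (MvPolynomial.rename (Sum.inl : Fin r → Fin r ⊕ Fin s)).toRingHom, hp.map _, ?_⟩
      rw [← Polynomial.hom_eval₂, Ideal.Quotient.eq_zero_iff_mem, hJ]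
      intro w
      have h := Polynomial.hom_eval₂ p (MvPolynomial.aeval f : MvPolynomial (Fin r) k →ₐ[k] R).toRingHom
        (Algebra.TensorProduct.includeLeft : R →ₐ[k] R ⊗[k] S).toRingHom a
      have h' : ((Algebra.TensorProduct.includeLeft : R →ₐ[k] R ⊗[k] S).toRingHom.comp
          (MvPolynomial.aeval f : MvPolynomial (Fin r) k →ₐ[k] R).toRingHom) =
          (Phi f g).toRingHom.comp (MvPolynomial.rename (Sum.inl : Fin r → Fin r ⊕ Fin s)).toRingHom := by
        have h2 : (Algebra.TensorProduct.includeLeft : R →ₐ[k] R ⊗[k] S).comp (MvPolynomial.aeval f) =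
            (Phi f g).comp (MvPolynomial.rename Sum.inl) := MvPolynomial.algHom_ext fun i => by simp [Phi]
        exact congrArg AlgHom.toRingHom h2
      rw [h'] at h
      rw [Polynomial.eval₂_map]
      refine Eq.trans (congrArg (fun v => GrSeg.act k R S M N v w) h.symm) ?_
      generalize Polynomial.eval₂ (MvPolynomial.aeval f : MvPolynomial (Fin r) k →ₐ[k] R).toRingHom a p = c at hp0 ⊢
      show GrSeg.act k R S M N (c ⊗ₜ[k] (1 : S)) w = 0
      induction w using TensorProduct.induction_on with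
      | zero => simp
      | add x y hx hy => rw [map_add, hx, hy, add_zero]
      | tmul x y => rw [GrSeg.act_tmul, Module.mem_annihilator.1 hp0 x, TensorProduct.zero_tmul]
    · obtain ⟨p, hp, hp0⟩ := integral_quot (W := N) g hgfin b
      refine ⟨p.map (MvPolynomial.rename (Sum.inr : Fin s → Fin r ⊕ Fin s)).toRingHom, hp.map _, ?_⟩
      rw [← Polynomial.hom_eval₂, Ideal.Quotient.eq_zero_iff_mem, hJ]
      intro w
      have h := Polynomial.hom_eval₂ p (MvPolynomial.aeval g : MvPolynomial (Fin s) k →ₐ[k] S).toRingHom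
        (Algebra.TensorProduct.includeRight : S →ₐ[k] R ⊗[k] S).toRingHom b
      have h' : ((Algebra.TensorProduct.includeRight : S →ₐ[k] R ⊗[k] S).toRingHom.comp
          (MvPolynomial.aeval g : MvPolynomial (Fin s) k →ₐ[k] S).toRingHom) =
          (Phi f g).toRingHom.comp (MvPolynomial.rename (Sum.inr : Fin s → Fin r ⊕ Fin s)).toRingHom := by
        have h2 : (Algebra.TensorProduct.includeRight : S →ₐ[k] R ⊗[k] S).comp (MvPolynomial.aeval g) =
            (Phi f g).comp (MvPolynomial.rename Sum.inr) := MvPolynomial.algHom_ext fun i => by simp [Phi]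
        exact congrArg AlgHom.toRingHom h2
      rw [h'] at h
      rw [Polynomial.eval₂_map]
      refine Eq.trans (congrArg (fun v => GrSeg.act k R S M N v w) h.symm) ?_
      generalize Polynomial.eval₂ (MvPolynomial.aeval g : MvPolynomial (Fin s) k →ₐ[k] S).toRingHom b p = c at hp0 ⊢
      show GrSeg.act k R S M N ((1 : R) ⊗ₜ[k] c) w = 0
      induction w using TensorProduct.induction_on with
      | zero => simp
      | add x y hx hy => rw [map_add, hx, hy, add_zero]
      | tmul x y => rw [GrSeg.act_tmul, Module.mem_annihilator.1 hp0 y, TensorProduct.tmul_zero]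

theorem act_Phi_tmul (x : M) (y : N) (c : MvPolynomial (Fin r ⊕ Fin s) k) :
    GrSeg.act k R S M N (Phi f g c) (x ⊗ₜ[k] y) =
      TensorProduct.map
        ((LinearMap.toSpanSingleton R M x).restrictScalars k ∘ₗ (MvPolynomial.aeval f).toLinearMap)
        ((LinearMap.toSpanSingleton S N y).restrictScalars k ∘ₗ (MvPolynomial.aeval g).toLinearMap) (split c) := by
  rw [Phi_eq, AlgHom.comp_apply]
  generalize split c = v
  induction v using TensorProduct.induction_on with
  | zero => simp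
  | add a b ha hb => simp only [map_add, LinearMap.add_apply, ha, hb]
  | tmul a b => rw [Algebra.TensorProduct.map_tmul, GrSeg.act_tmul, TensorProduct.map_tmul]; rfl

include hD hf hg hfinj hginj hffin hgfin in
/-- The subalgebra of parameters controls a Segre product. -/
theorem exists_params_algebra (hT : GrSeg.IsSegreRing 𝒜 ℬ 𝒯 ψ) (hP : GrSeg.IsSegreMod ψ ℳ 𝒩 𝒬 φ)
    (hr : 1 ≤ r) (hs : 1 ≤ s) : ∃ B : Subalgebra k T, ringKrullDim B = ((r + s - 1 : ℕ) : WithBot ℕ∞) ∧
      Algebra.IsIntegral B (T ⧸ Module.annihilator T P) ∧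
      ∀ b ∈ B, ∃ c : MvPolynomial (Fin r ⊕ Fin s) k, Phi f g c = ψ b := by
  classical
  have hgen : ∀ p : Fin r × Fin s, ∃ t : T, ψ t = f p.1 ⊗ₜ[k] g p.2 := fun p => by
    obtain ⟨t, -, ht⟩ := (hT.2 (D : ℤ)).ge (Submodule.subset_span ⟨_, hf p.1, _, hg p.2, rfl⟩ :
      f p.1 ⊗ₜ[k] g p.2 ∈ Submodule.span k {x | ∃ a ∈ 𝒜 (D : ℤ), ∃ b ∈ ℬ (D : ℤ), x = a ⊗ₜ[k] b})
    exact ⟨t, ht⟩
  choose t ht using hgen
  let B := Algebra.adjoin k (Set.range t)
  have hBmap : B.map ψ = (SegPoly.B0 k r s).map (Phi f g) := by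
    simp only [B, SegPoly.B0, AlgHom.map_adjoin, ← Set.range_comp]
    congr 2
    funext p
    simp [Phi, ht]
  have hΦinj : Function.Injective (Phi (k := k) f g) :=
    Phi_injective f g (Function.Injective.of_comp (f := Ideal.Quotient.mkₐ k (Module.annihilator R M))
      (by simpa only [AlgHom.coe_comp] using hfinj))
      (Function.Injective.of_comp (f := Ideal.Quotient.mkₐ k (Module.annihilator S N))
      (by simpa only [AlgHom.coe_comp] using hginj))
  refine ⟨B, ?_, ?_, fun b hb => ?_⟩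
  · rw [← SegPoly.ringKrullDim_B0 k hr hs]
    exact ringKrullDim_eq_of_ringEquiv ((B.equivMapOfInjective ψ hT.1).trans
      ((Subalgebra.equivOfEq _ _ hBmap).trans ((SegPoly.B0 k r s).equivMapOfInjective (Phi f g) hΦinj).symm)).toRingEquiv
  · have hproj : ∀ c : MvPolynomial (Fin r ⊕ Fin s) k, ∃ b ∈ B, ∀ p : P,
        Seg.diag 𝒜 ℬ ℳ 𝒩 (GrSeg.act k R S M N (Phi f g c) (φ p)) = φ (b • p) := by
      intro c
      induction c using MvPolynomial.induction_on' with
      | monomial α a =>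
        rw [show MvPolynomial.monomial α a = a • MvPolynomial.monomial α (1 : k) by
          rw [MvPolynomial.smul_monomial, smul_eq_mul, mul_one], map_smul, Phi_monomial]
        by_cases he : (∑ i, α (Sum.inl i)) = ∑ j, α (Sum.inr j)
        · have hmem : Phi f g (MvPolynomial.monomial α (1 : k)) ∈ B.map ψ := hBmap ▸
            Subalgebra.mem_map.2 ⟨_, SegPoly.monomial_mem _ α rfl he.symm, rfl⟩
          obtain ⟨b, hb, hbe⟩ := Subalgebra.mem_map.1 hmem
          rw [Phi_monomial] at hbe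
          refine ⟨a • b, B.smul_mem hb a, fun p => ?_⟩
          rw [← hbe, map_smul, LinearMap.smul_apply, map_smul, Seg.diag_act 𝒜 ℬ ℳ 𝒩 𝒯 ψ hT.2,
            Seg.diag_apply 𝒜 ℬ ℳ 𝒩 𝒬 hP, ← hP.map_smul, ← map_smul φ, smul_assoc]
        · refine ⟨0, zero_mem _, fun p => ?_⟩
          rw [map_smul, LinearMap.smul_apply, map_smul, zero_smul, map_zero,
            diag_act_ne 𝒜 ℬ ℳ 𝒩 𝒬 hP (fun h => he ?_) (pieceProd 𝒜 f hf fun i => α (Sum.inl i))
              (pieceProd ℬ g hg fun j => α (Sum.inr j)) p, smul_zero]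
          exact_mod_cast (mul_left_cancel₀ (by exact_mod_cast hD.ne' : (D : ℤ) ≠ 0) h)
      | add p q hp hq =>
        obtain ⟨b, hb, hbe⟩ := hp
        obtain ⟨b', hb', hbe'⟩ := hq
        exact ⟨b + b', add_mem hb hb', fun x => by
          rw [map_add, map_add, LinearMap.add_apply, map_add, hbe, hbe', add_smul, map_add]⟩
    choose β hβ hβe using hproj
    refine ⟨fun y => ?_⟩
    obtain ⟨u, rfl⟩ := Ideal.Quotient.mk_surjective y
    obtain ⟨p, hp, hp0⟩ := integral_act (M := M) (N := N) f g hffin hgfin (ψ u)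
    let q : Polynomial B := Polynomial.X ^ p.natDegree + ∑ l ∈ Finset.range p.natDegree,
      Polynomial.C (⟨β (p.coeff l), hβ _⟩ : B) * Polynomial.X ^ l
    refine ⟨q, Polynomial.monic_X_pow_add ?_, ?_⟩
    · refine lt_of_le_of_lt (Polynomial.degree_sum_le _ _) ((Finset.sup_lt_iff (WithBot.bot_lt_coe _)).2 fun l hl => ?_)
      exact lt_of_le_of_lt (Polynomial.degree_C_mul_X_pow_le l _) (WithBot.coe_lt_coe.2 (Finset.mem_range.1 hl))
    · have hq : q.eval₂ (algebraMap B T) u = u ^ p.natDegree + ∑ l ∈ Finset.range p.natDegree, β (p.coeff l) * u ^ l := by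
        simp only [q, Polynomial.eval₂_add, Polynomial.eval₂_X_pow, Polynomial.eval₂_finsetSum, Polynomial.eval₂_mul,
          Polynomial.eval₂_C]
        rfl
      rw [show algebraMap B (T ⧸ Module.annihilator T P) = (Ideal.Quotient.mk _).comp (algebraMap B T) from rfl,
        ← Polynomial.hom_eval₂, hq, Ideal.Quotient.eq_zero_iff_mem, Module.mem_annihilator]
      intro x
      apply hP.injective
      have h := congrArg (Seg.diag 𝒜 ℬ ℳ 𝒩) (hp0 (φ x))
      rw [Polynomial.eval₂_eq_sum_range, Finset.sum_range_succ, hp.coeff_natDegree, map_one, one_mul, map_add,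
        LinearMap.add_apply, map_add, ← map_pow, Seg.diag_act 𝒜 ℬ ℳ 𝒩 𝒯 ψ hT.2, Seg.diag_apply 𝒜 ℬ ℳ 𝒩 𝒬 hP,
        ← hP.map_smul, map_sum, LinearMap.sum_apply, map_sum, map_zero, add_comm] at h
      rw [add_smul, map_add, Finset.sum_smul, map_sum, map_zero]
      refine Eq.trans (congrArg _ (Finset.sum_congr rfl fun l _ => ?_)) h
      rw [mul_smul, ← hβe (p.coeff l) (u ^ l • x), hP.map_smul, map_pow]
      refine congrArg _ ?_
      rw [← Seg.actHom_apply, ← Seg.actHom_apply, ← Seg.actHom_apply, map_mul]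
      rfl
  · have hmem : ψ b ∈ (SegPoly.B0 k r s).map (Phi f g) := hBmap ▸ Subalgebra.mem_map.2 ⟨b, hb, rfl⟩
    obtain ⟨c, -, hc⟩ := Subalgebra.mem_map.1 hmem
    exact ⟨c, hc⟩

include hD hf hg hfinj hginj hffin hgfin in
theorem supportDim_le [Module.Finite T P] (hT : GrSeg.IsSegreRing 𝒜 ℬ 𝒯 ψ) (hP : GrSeg.IsSegreMod ψ ℳ 𝒩 𝒬 φ)
    (hr : 1 ≤ r) (hs : 1 ≤ s) : Module.supportDim T P ≤ ((r + s - 1 : ℕ) : WithBot ℕ∞) := by
  obtain ⟨B, hB, hint, -⟩ := exists_params_algebra 𝒜 ℬ 𝒯 ℳ 𝒩 𝒬 f g hD hf hg hfinj hginj hffin hgfin hT hP hr hs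
  rw [Module.supportDim_eq_ringKrullDim_quotient_annihilator, ← hB]
  let A := B ⧸ RingHom.ker (algebraMap B (T ⧸ Module.annihilator T P))
  letI : Algebra A (T ⧸ Module.annihilator T P) := (RingHom.kerLift (algebraMap B (T ⧸ Module.annihilator T P))).toAlgebra
  haveI : FaithfulSMul A (T ⧸ Module.annihilator T P) :=
    (faithfulSMul_iff_algebraMap_injective _ _).2 (RingHom.kerLift_injective _)
  haveI : Algebra.IsIntegral A (T ⧸ Module.annihilator T P) := ⟨fun y => by
    obtain ⟨q, hq, hq0⟩ := hint.isIntegral y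
    refine ⟨q.map (Ideal.Quotient.mk _), hq.map _, ?_⟩
    rw [Polynomial.eval₂_map]
    exact hq0⟩
  rw [VarDim.ringKrullDim_eq_of_isIntegral (R := A) (S := T ⧸ Module.annihilator T P)]
  exact ringKrullDim_le_of_surjective (Ideal.Quotient.mk _) Ideal.Quotient.mk_surjective

include hD hf hg hfinj hginj hffin hgfin in
theorem supportDim_eq [Module.Finite T P] (hT : GrSeg.IsSegreRing 𝒜 ℬ 𝒯 ψ) (hP : GrSeg.IsSegreMod ψ ℳ 𝒩 𝒬 φ)
    (hr : 1 ≤ r) (hs : 1 ≤ s) {d : ℤ} {x : M} (hx : x ∈ ℳ d) {y : N} (hy : y ∈ 𝒩 d)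
    (hxf : ∀ p : MvPolynomial (Fin r) k, MvPolynomial.aeval f p • x = 0 → p = 0)
    (hyf : ∀ p : MvPolynomial (Fin s) k, MvPolynomial.aeval g p • y = 0 → p = 0) :
    Module.supportDim T P = ((r + s - 1 : ℕ) : WithBot ℕ∞) := by
  obtain ⟨B, hB, hint, hBc⟩ := exists_params_algebra 𝒜 ℬ 𝒯 ℳ 𝒩 𝒬 f g hD hf hg hfinj hginj hffin hgfin hT hP hr hs
  obtain ⟨p₀, -, hp₀⟩ := (hP.image_piece d).ge
    (Submodule.subset_span ⟨x, hx, y, hy, rfl⟩ : x ⊗ₜ[k] y ∈ GrSeg.segrePiece k ℳ 𝒩 d)
  haveI : FaithfulSMul B (T ⧸ Module.annihilator T P) := by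
    refine (faithfulSMul_iff_algebraMap_injective _ _).2 ((injective_iff_map_eq_zero _).2 fun b hb => ?_)
    have hb' : (b : T) ∈ Module.annihilator T P := Ideal.Quotient.eq_zero_iff_mem.1 hb
    obtain ⟨c, hc⟩ := hBc b b.2
    have h1 : GrSeg.act k R S M N (ψ (b : T)) (x ⊗ₜ[k] y) = 0 := by
      rw [← hp₀, ← hP.map_smul, Module.mem_annihilator.1 hb' p₀, map_zero]
    rw [← hc, act_Phi_tmul] at h1
    have hinj : ∀ {A : Type u} [CommRing A] [Algebra k A] {W : Type u} [AddCommGroup W] [Module A W] [Module k W]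
        [IsScalarTower k A W] {n : ℕ} (h : Fin n → A) (w : W),
        (∀ p : MvPolynomial (Fin n) k, MvPolynomial.aeval h p • w = 0 → p = 0) →
        Function.Injective ((LinearMap.toSpanSingleton A W w).restrictScalars k ∘ₗ (MvPolynomial.aeval h).toLinearMap) :=
      fun h w hw => (injective_iff_map_eq_zero _).2 fun p hp => hw p hp
    have h2 := (injective_iff_map_eq_zero _).1
      (TensorProduct.map_injective_of_flat_flat _ _ (hinj f x hxf) (hinj g y hyf)) _ h1
    have h3 : c = 0 := split_injective (h2.trans (map_zero _).symm)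
    rw [h3, map_zero] at hc
    exact Subtype.ext (hT.1 (hc.symm.trans (map_zero ψ).symm))
  haveI := hint
  rw [Module.supportDim_eq_ringKrullDim_quotient_annihilator,
    VarDim.ringKrullDim_eq_of_isIntegral (R := B) (S := T ⧸ Module.annihilator T P), hB]

end Main

end Groth.Agent.GrLib8.SegDim
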