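import Groth.Agent.GrLib8.SegCM
import Groth.Agent.GrLib8.SegDim
import Groth.Agent.GrLib8.FilterInj
import Groth.Agent.S18647

/-!
# Cohen-Macaulayness of Segre product rings
-/

set_option autoImplicit false
set_option linter.unusedSectionVars false
set_option linter.style.haveILetI false

universe u

open DirectSum
open scoped TensorProduct

namespace Groth.Agent.GrLib8.Seg

theorem cmRing_iff (A : Type u) [CommRing A] [IsNoetherianRing A] :
    LocCoh.IsCohenMacaulayRing A ↔ ∀ (q : Ideal A) [q.IsPrime], Subsingleton (LocalizedModule q.primeCompl A) ∨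
      LocCoh.IsCohenMacaulayModule (Localization.AtPrime q) (LocalizedModule q.primeCompl A) := by
  constructor
  · intro h q hq
    haveI := LocCoh.IsCohenMacaulayRing.isCohenMacaulayLocalRing_localization (R := A) q
    refine Or.inr ?_
    unfold LocCoh.IsCohenMacaulayModule
    rw [Module.supportDim_eq_of_equiv (LC.selfLoc q.primeCompl), Hensel.depth_congr (LC.selfLoc q.primeCompl)]
    exact LocCoh.IsCohenMacaulayLocalRing.supportDim_eq_depth
  · intro h
    refine { isCohenMacaulayLocalRing_localization := fun q hq => ?_ }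
    haveI : Nontrivial (LocalizedModule q.primeCompl A) := (LC.selfLoc q.primeCompl).toEquiv.nontrivial
    have h1 := (h q).resolve_left (not_subsingleton_iff_nontrivial.2 ‹Nontrivial (LocalizedModule q.primeCompl A)›)
    unfold LocCoh.IsCohenMacaulayModule at h1
    rw [Module.supportDim_eq_of_equiv (LC.selfLoc q.primeCompl), Hensel.depth_congr (LC.selfLoc q.primeCompl)] at h1
    exact { supportDim_eq_depth := h1 }

theorem endDeg_lt_zero_iff {H : Type u} [AddCommGroup H] (ℋ : ℤ → AddSubgroup H) :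
    GrLC.endDeg ℋ < 0 ↔ ∀ g, 0 ≤ g → ℋ g = ⊥ := by
  have h1 : ∀ x : WithBot (WithTop ℤ), x < 0 ↔ x ≤ (((-1 : ℤ) : WithTop ℤ) : WithBot (WithTop ℤ)) := by
    intro x
    rw [show (0 : WithBot (WithTop ℤ)) = (((0 : ℤ) : WithTop ℤ) : WithBot (WithTop ℤ)) from rfl]
    induction x with
    | bot => exact ⟨fun _ => bot_le, fun _ => WithBot.bot_lt_coe _⟩
    | coe x =>
      rw [WithBot.coe_lt_coe, WithBot.coe_le_coe]
      induction x with
      | top => exact ⟨fun h => absurd h not_top_lt, fun h => absurd (le_antisymm h le_top) WithTop.top_ne_coe⟩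
      | coe x => rw [WithTop.coe_lt_coe, WithTop.coe_le_coe]; omega
  rw [h1, endDeg_le_iff]
  exact ⟨fun h g hg => h g (by omega), fun h g hg => h g (by omega)⟩

variable {k : Type u} [Field k]

theorem piece_ne_bot {R : Type u} [CommRing R] [Algebra k R] (𝒜 : ℤ → Submodule k R) [GradedAlgebra 𝒜]
    [Algebra.FiniteType k R] (hposR : ∀ n : ℤ, n < 0 → 𝒜 n = ⊥) (h0R : 𝒜 0 = Submodule.span k {(1 : R)})
    (hstd : Ideal.span (⋃ n ∈ Set.Ioi (0 : ℤ), (𝒜 n : Set R)) = Ideal.span ((𝒜 1 : Submodule k R) : Set R))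
    {r : ℕ} (hr : ringKrullDim R = r) (h1 : 1 ≤ r) (n : ℕ) : 𝒜 (n : ℤ) ≠ ⊥ := by
  obtain ⟨D, hD, h⟩ := HomNN.exists_normalization 𝒜 hposR h0R r hr
  obtain ⟨f, hf, hinj, -⟩ := h D hD dvd_rfl
  have hs : (GrSyz.irrel 𝒜).toIdeal ≤ Ideal.span ((𝒜 1 : Submodule k R) : Set R) := by
    rw [← hstd]
    refine Ideal.span_le.2 ?_
    rintro x ⟨m, hm, hx⟩
    exact Ideal.subset_span (Set.mem_iUnion₂.2 ⟨m, hm, hx⟩)
  obtain ⟨y, hy, hfree⟩ := SegDim.exists_free_succ 𝒜 (addPieces 𝒜) hD h1 f hf hs (g := 0) (x := (1 : R))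
    (SetLike.one_mem_graded 𝒜)
    (fun p hp => hinj ((show MvPolynomial.aeval f p = 0 by rwa [smul_eq_mul, mul_one] at hp).trans (map_zero _).symm)) n
  rw [zero_add] at hy
  intro hbot
  have hy0 : y = 0 := by
    have h' : y ∈ 𝒜 (n : ℤ) := hy
    rwa [hbot, Submodule.mem_bot] at h'
  exact one_ne_zero (hfree 1 (by rw [hy0, smul_zero]))

variable {R S T : Type u} [CommRing R] [CommRing S] [CommRing T] [Algebra k R] [Algebra k S]
  [Algebra k T] {𝒜 : ℤ → Submodule k R} [GradedAlgebra 𝒜] {ℬ : ℤ → Submodule k S} [GradedAlgebra ℬ]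
  {𝒯 : ℤ → Submodule k T} [GradedAlgebra 𝒯] {ψ : T →ₐ[k] R ⊗[k] S}

/-- Convert a resolution of the ring. -/
def resAdd {R : Type u} [CommRing R] [Algebra k R] {𝒜 : ℤ → Submodule k R} [GradedAlgebra 𝒜]
    (I : GrLC.StarInjRes 𝒜 𝒜) : GrLC.StarInjRes 𝒜 (addPieces 𝒜) :=
  { X := I.X, d := I.d, ε := I.ε, d_grHom := I.d_grHom, ε_grHom := fun g x hx => I.ε_grHom g x hx,
    ε_injective := I.ε_injective, exact_zero := I.exact_zero, exact_succ := I.exact_succ, starInj := I.starInj }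

theorem isCMRing_segre_iff [Algebra.FiniteType k R] [Algebra.FiniteType k S]
    [LocCoh.IsCohenMacaulayRing R] [LocCoh.IsCohenMacaulayRing S]
    (hposR : ∀ n : ℤ, n < 0 → 𝒜 n = ⊥) (h0R : 𝒜 0 = Submodule.span k {(1 : R)})
    (hposS : ∀ n : ℤ, n < 0 → ℬ n = ⊥) (h0S : ℬ 0 = Submodule.span k {(1 : S)})
    (hT : GrSeg.IsSegreRing 𝒜 ℬ 𝒯 ψ) (EM : GrLC.StarInjRes 𝒜 (addPieces 𝒜))
    (EN : GrLC.StarInjRes ℬ (addPieces ℬ)) {r s : ℕ} (hr : ringKrullDim R = r) (hs : ringKrullDim S = s)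
    (h1r : 1 ≤ r) (h1s : 1 ≤ s) :
    LocCoh.IsCohenMacaulayRing T ↔
      (2 ≤ r → ∀ d : ℤ, 𝒜 d = ⊥ ∨ EN.Hcomp (GrSyz.irrel ℬ) s d = ⊥) ∧
        (2 ≤ s → ∀ d : ℤ, EM.Hcomp (GrSyz.irrel 𝒜) r d = ⊥ ∨ ℬ d = ⊥) := by
  haveI : Nontrivial R := by
    by_contra h
    haveI := not_nontrivial_iff_subsingleton.1 h
    rw [ringKrullDim_eq_bot_of_subsingleton] at hr
    exact WithBot.coe_ne_bot hr.symm
  haveI : Nontrivial S := by
    by_contra h
    haveI := not_nontrivial_iff_subsingleton.1 h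
    rw [ringKrullDim_eq_bot_of_subsingleton] at hs
    exact WithBot.coe_ne_bot hs.symm
  haveI : IsNoetherianRing R := Algebra.FiniteType.isNoetherianRing k R
  haveI : IsNoetherianRing S := Algebra.FiniteType.isNoetherianRing k S
  haveI : IsNoetherianRing T := isNoetherianRing_segre 𝒜 ℬ 𝒯 ψ hT
  have hdimT := Groth.Agent.S18647.result k R 𝒜 hposR h0R S ℬ hposS h0S T 𝒯 ψ hT.1 hT.2 r s hr hs h1r h1s
  have hbR : ∀ d, addPieces 𝒜 d = ⊥ ↔ 𝒜 d = ⊥ := fun d => by
    rw [AddSubgroup.eq_bot_iff_forall, Submodule.eq_bot_iff]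
    exact Iff.rfl
  have hbS : ∀ d, addPieces ℬ d = ⊥ ↔ ℬ d = ⊥ := fun d => by
    rw [AddSubgroup.eq_bot_iff_forall, Submodule.eq_bot_iff]
    exact Iff.rfl
  rw [cmRing_iff T, isCM_segre_iff (addPieces 𝒜) (addPieces ℬ) (addPieces 𝒯) hposR h0R hposS h0S hT EM EN
    ψ.toLinearMap (isSegreMod_self 𝒜 ℬ 𝒯 ψ hT) h1r h1s ((Module.supportDim_self_eq_ringKrullDim (R := R)).trans hr)
    ((Module.supportDim_self_eq_ringKrullDim (R := S)).trans hs) ((Module.supportDim_self_eq_ringKrullDim (R := T)).trans hdimT)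
    ((cmRing_iff R).1 inferInstance) ((cmRing_iff S).1 inferInstance)]
  simp only [hbR, hbS]

end Groth.Agent.GrLib8.Seg
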