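import Groth.Agent.GrLib8.SegGorRows
import Groth.Agent.GrLib8.CanonPair
import Mathlib.LinearAlgebra.Contraction

/-!
# The *canonical module of a Segre product
-/

set_option autoImplicit false
set_option linter.unusedSectionVars false
set_option linter.style.haveILetI false
set_option maxHeartbeats 1600000

universe u

open DirectSum
open scoped TensorProduct

namespace Groth.Agent.GrLib8.Seg

variable {k : Type u} [Field k]

section One

variable {R : Type u} [CommRing R] [Nontrivial R] [Algebra k R] [Algebra.FiniteType k R] {𝒜 : ℤ → Submodule k R}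
  [GradedAlgebra 𝒜] (h0 : 𝒜 0 = Submodule.span k {(1 : R)}) {I : GrLC.StarInjRes 𝒜 𝒜}
  {C : Type u} [AddCommGroup C] [Module R C] [Module k C] [IsScalarTower k R C] {𝒞 : ℤ → AddSubgroup C}
  [Decomposition 𝒞] [SetLike.GradedSMul 𝒜 𝒞]

/-- The scalars as the degree-zero part. -/
noncomputable def scalarEquiv : k ≃+* GrLC.deg0 𝒜 := RingEquiv.ofBijective (iota 𝒜) (iota_bijective 𝒜 h0)

theorem scalarEquiv_coe (c : k) : ((scalarEquiv (𝒜 := 𝒜) h0 c : GrLC.deg0 𝒜) : R) = algebraMap k R c := rfl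

include h0 in
/-- A perfect pairing, with values in the ground field. -/
theorem exists_kpair {r : ℕ} {B : C →+ I.H (GrSyz.irrel 𝒜) r →+ GrLC.deg0 𝒜}
    (P : Canon.GPair 𝒜 𝒞 (I.Hgr (GrSyz.irrel 𝒜) r) B) :
    ∃ β : C →ₗ[k] (HR I r).carrier →ₗ[k] k,
      (∀ (t : R) c (y : (HR I r).carrier), β (t • c) y = β c (t • y)) ∧
      (∀ n, ∀ c ∈ 𝒞 n, ∀ d, d ≠ -n → ∀ y ∈ HP I r d, β c y = 0) ∧
      (∀ n, ∀ c ∈ 𝒞 n, (∀ y ∈ HP I r (-n), β c y = 0) → c = 0) ∧
      (∀ n, ∀ f : HP I r (-n) →ₗ[k] k, ∃ c ∈ 𝒞 n, ∀ y : HP I r (-n), β c y.1 = f y) := by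
  classical
  haveI := Algebra.FiniteType.isNoetherianRing k R
  let e := scalarEquiv (𝒜 := 𝒜) h0
  have hk : ∀ (a : k) (c : C) (y : I.H (GrSyz.irrel 𝒜) r), B c (algebraMap k R a • y) = e a * B c y :=
    fun a c y => P.scal (e a) c y
  let β : C →ₗ[k] (HR I r).carrier →ₗ[k] k := LinearMap.mk₂ k (fun c y => e.symm (B c y))
    (fun c c' y => by rw [map_add, AddMonoidHom.add_apply, map_add])
    (fun a c y => by
      show e.symm (B (a • c) y) = a * e.symm (B c y)
      rw [← algebraMap_smul R a c, P.smul]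
      exact (congrArg e.symm (hk a c y)).trans (by rw [map_mul, e.symm_apply_apply]))
    (fun c y y' => by
      show e.symm (B c (y + y')) = _
      exact (congrArg e.symm (map_add (B c) y y')).trans (map_add e.symm _ _))
    (fun a c y => by
      show e.symm (B c (algebraMap k R a • y)) = a * e.symm (B c y)
      exact (congrArg e.symm (hk a c y)).trans (by rw [map_mul, e.symm_apply_apply]))
  refine ⟨β, fun t c y => congrArg e.symm (P.smul t c y), fun n c hc d hd y hy => ?_, fun n c hc h => ?_, fun n f => ?_⟩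
  · exact (congrArg e.symm (P.vanish n c hc d hd y hy)).trans (map_zero _)
  · exact P.eq_zero n c hc fun y hy => e.symm.injective ((h y hy).trans (map_zero _).symm)
  · let g : I.H (GrSyz.irrel 𝒜) r → GrLC.deg0 𝒜 := fun y =>
      if hy : y ∈ I.Hgr (GrSyz.irrel 𝒜) r (-n) then e (f ⟨y, hy⟩) else 0
    have hg : ∀ y (hy : y ∈ I.Hgr (GrSyz.irrel 𝒜) r (-n)), g y = e (f ⟨y, hy⟩) := fun y hy => dif_pos hy
    obtain ⟨c, hc, hcv⟩ := P.exists_eq n g
      (fun y hy y' hy' => by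
        rw [hg y hy, hg y' hy', hg _ (add_mem hy hy'), ← map_add, ← map_add]
        rfl)
      (fun a y hy => by
        obtain ⟨a, rfl⟩ := e.surjective a
        have hay : algebraMap k R a • y ∈ I.Hgr (GrSyz.irrel 𝒜) r (-n) := by
          have h := GorSocle.smul_mem_Hgr I (SetLike.algebraMap_mem_graded 𝒜 a) hy
          rwa [zero_add] at h
        show g (algebraMap k R a • y) = _
        rw [hg _ hay, hg y hy, ← map_mul, ← smul_eq_mul, ← map_smul]
        rfl)
    refine ⟨c, hc, fun y => ?_⟩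
    show e.symm (B c y.1) = f y
    rw [hcv y.1 y.2, hg y.1 y.2, e.symm_apply_apply]

end One

section Two

variable {R S T : Type u} [CommRing R] [CommRing S] [CommRing T] [Algebra k R] [Algebra k S] [Algebra k T]
  [Algebra.FiniteType k R] [Algebra.FiniteType k S]
  {𝒜 : ℤ → Submodule k R} [GradedAlgebra 𝒜] {ℬ : ℤ → Submodule k S} [GradedAlgebra ℬ]
  {𝒯 : ℤ → Submodule k T} [GradedAlgebra 𝒯] {ψ : T →ₐ[k] R ⊗[k] S}
  (hT : GrSeg.IsSegreRing 𝒜 ℬ 𝒯 ψ) (hposR : ∀ n : ℤ, n < 0 → 𝒜 n = ⊥) (h0R : 𝒜 0 = Submodule.span k {(1 : R)})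
  (hposS : ∀ n : ℤ, n < 0 → ℬ n = ⊥) (h0S : ℬ 0 = Submodule.span k {(1 : S)})
  {I : GrLC.StarInjRes 𝒜 𝒜} {J : GrLC.StarInjRes ℬ ℬ} {r s : ℕ}
  (hr : ringKrullDim R = r) (hs : ringKrullDim S = s) (h2r : 2 ≤ r) (h2s : 2 ≤ s)

include hT hposR h0R hposS h0S hr hs h2r h2s in
/-- The Segre product of *canonical modules is a *canonical module. -/
theorem isStarCanonical_segre {IT : GrLC.StarInjRes 𝒯 𝒯}
    {ER : Type u} [AddCommGroup ER] [Module R ER] {𝓔R : ℤ → AddSubgroup ER} [Decomposition 𝓔R]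
    [SetLike.GradedSMul 𝒜 𝓔R] {eR : (R ⧸ (GrSyz.irrel 𝒜).toIdeal) →ₗ[R] ER}
    (heR : GrLC.IsStarInjHull 𝒜 (GrLC.quotGr 𝒜 (GrSyz.irrel 𝒜)) 𝓔R eR)
    {CR : Type u} [AddCommGroup CR] [Module R CR] [Module k CR] [IsScalarTower k R CR] {𝒞R : ℤ → AddSubgroup CR}
    [Decomposition 𝒞R] [SetLike.GradedSMul 𝒜 𝒞R] (hCR : GrLC.IsStarCanonical 𝒜 𝒞R 𝓔R (GrSyz.irrel 𝒜) r I)
    {ES : Type u} [AddCommGroup ES] [Module S ES] {𝓔S : ℤ → AddSubgroup ES} [Decomposition 𝓔S]
    [SetLike.GradedSMul ℬ 𝓔S] {eS : (S ⧸ (GrSyz.irrel ℬ).toIdeal) →ₗ[S] ES}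
    (heS : GrLC.IsStarInjHull ℬ (GrLC.quotGr ℬ (GrSyz.irrel ℬ)) 𝓔S eS)
    {CS : Type u} [AddCommGroup CS] [Module S CS] [Module k CS] [IsScalarTower k S CS] {𝒞S : ℤ → AddSubgroup CS}
    [Decomposition 𝒞S] [SetLike.GradedSMul ℬ 𝒞S] (hCS : GrLC.IsStarCanonical ℬ 𝒞S 𝓔S (GrSyz.irrel ℬ) s J)
    {ET : Type u} [AddCommGroup ET] [Module T ET] {𝓔T : ℤ → AddSubgroup ET} [Decomposition 𝓔T]
    [SetLike.GradedSMul 𝒯 𝓔T] {eT : (T ⧸ (GrSyz.irrel 𝒯).toIdeal) →ₗ[T] ET}
    (heT : GrLC.IsStarInjHull 𝒯 (GrLC.quotGr 𝒯 (GrSyz.irrel 𝒯)) 𝓔T eT)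
    {Q : Type u} [AddCommGroup Q] [Module T Q] [Module k Q] [IsScalarTower k T Q] {𝒬 : ℤ → AddSubgroup Q}
    [Decomposition 𝒬] [SetLike.GradedSMul 𝒯 𝒬] {φ : Q →ₗ[k] CR ⊗[k] CS}
    (hP : GrSeg.IsSegreMod ψ 𝒞R 𝒞S 𝒬 φ) :
    GrLC.IsStarCanonical 𝒯 𝒬 𝓔T (GrSyz.irrel 𝒯) (r + s - 1) IT := by
  classical
  haveI := nontrivial_of_dim hr
  haveI := nontrivial_of_dim hs
  obtain ⟨hposT, h0T, hft, hdim, Φ, D⟩ := setup hT hposR h0R hposS h0S I J IT hr hs h2r h2s
  haveI := nontrivial_of_dim hdim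
  haveI := hft
  haveI := Algebra.FiniteType.isNoetherianRing k T
  haveI := Algebra.FiniteType.isNoetherianRing k R
  haveI := Algebra.FiniteType.isNoetherianRing k S
  haveI := isMaximal_irrel' hposT h0T
  haveI := isMaximal_irrel' hposR h0R
  haveI := isMaximal_irrel' hposS h0S
  obtain ⟨B₁, P₁⟩ := Canon.exists_gpair (nonneg_of_eq_bot 𝒜 hposR) irrel_eq_span (isField_deg0' h0R) heR hCR
  obtain ⟨B₂, P₂⟩ := Canon.exists_gpair (nonneg_of_eq_bot ℬ hposS) irrel_eq_span (isField_deg0' h0S) heS hCS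
  obtain ⟨β₁, hs₁, hv₁, hz₁, he₁⟩ := exists_kpair h0R P₁
  obtain ⟨β₂, hs₂, hv₂, hz₂, he₂⟩ := exists_kpair h0S P₂
  let V := (HR I r).carrier
  let W := (HR J s).carrier
  let Bk : CR ⊗[k] CS →ₗ[k] Module.Dual k (V ⊗[k] W) :=
    TensorProduct.dualDistrib k V W ∘ₗ TensorProduct.map β₁ β₂
  have hBk : ∀ (c : CR) (d : CS) (x : V) (y : W), Bk (c ⊗ₜ[k] d) (x ⊗ₜ[k] y) = β₁ c x * β₂ d y := fun c d x y => by
    simp only [Bk, LinearMap.comp_apply, TensorProduct.map_tmul, TensorProduct.dualDistrib_apply]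
  have hact : ∀ (v : R ⊗[k] S) (z : CR ⊗[k] CS) (w : V ⊗[k] W),
      Bk (GrSeg.act k R S CR CS v z) w = Bk z (GrSeg.act k R S V W v w) := by
    intro v z w
    induction v using TensorProduct.induction_on with
    | zero => simp
    | add a b ha hb => simp only [map_add, LinearMap.add_apply, ha, hb]
    | tmul a b =>
      induction z using TensorProduct.induction_on with
      | zero => simp
      | add c c' hc hc' => simp only [map_add, LinearMap.add_apply, hc, hc']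
      | tmul c d =>
        induction w using TensorProduct.induction_on with
        | zero => simp
        | add x x' hx hx' => simp only [map_add, hx, hx']
        | tmul x y => rw [GrSeg.act_tmul, GrSeg.act_tmul, hBk, hBk, hs₁, hs₂]
  let e := scalarEquiv (𝒜 := 𝒯) h0T
  let BQ : Q →+ IT.H (GrSyz.irrel 𝒯) (r + s - 1) →+ GrLC.deg0 𝒯 := AddMonoidHom.mk'
    (fun p => e.toAddMonoidHom.comp ((Bk (φ p)).toAddMonoidHom.comp Φ))
    fun p p' => AddMonoidHom.ext fun y => by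
      show e (Bk (φ (p + p')) (Φ y)) = e (Bk (φ p) (Φ y)) + e (Bk (φ p') (Φ y))
      rw [map_add, map_add, LinearMap.add_apply, map_add]
  have hBQ : ∀ p y, BQ p y = e (Bk (φ p) (Φ y)) := fun _ _ => rfl
  refine Canon.isStarCanonical_of_gpair (nonneg_of_eq_bot 𝒯 hposT) irrel_eq_span (isField_deg0' h0T) heT (B := BQ)
    ⟨fun t p y => ?_, fun a p y => ?_, fun n p hp d hd y hy => ?_, fun n p hp h => ?_, fun n g hga hgs => ?_⟩
  · rw [hBQ, hBQ, hP.map_smul, D.smul, hact]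
  · obtain ⟨a, rfl⟩ := e.surjective a
    rw [hBQ, hBQ, show ((e a : GrLC.deg0 𝒯) : T) = algebraMap k T a from rfl, D.map_k, map_smul, smul_eq_mul, map_mul]
  · have h1 := D.mem_piece hy
    have h2 : φ p ∈ GrSeg.segrePiece k 𝒞R 𝒞S n := (hP.image_piece n).le ⟨p, hp, rfl⟩
    rw [hBQ]
    refine (congrArg e ?_).trans (map_zero e)
    generalize Φ y = w at h1 ⊢
    generalize φ p = z at h2 ⊢
    induction h2 using Submodule.span_induction with
    | mem z hz =>
      obtain ⟨c, hc, d', hd', rfl⟩ := hz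
      induction h1 using Submodule.span_induction with
      | mem w hw =>
        obtain ⟨x, hx, y', hy', rfl⟩ := hw
        rw [hBk, hv₁ n c hc d hd x hx, zero_mul]
      | zero => rw [map_zero]
      | add a b _ _ ha hb => rw [map_add, ha, hb, add_zero]
      | smul a b _ hb => rw [map_smul, hb, smul_zero]
    | zero => rw [map_zero, LinearMap.zero_apply]
    | add a b _ _ ha hb => rw [map_add, LinearMap.add_apply, ha, hb, add_zero]
    | smul a b _ hb => rw [map_smul, LinearMap.smul_apply, hb, smul_zero]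
  all_goals
    haveI : Module.Finite k (HP I r (-n)) := finite_HP hposR h0R I r (-n)
    haveI : Module.Finite k (HP J s (-n)) := finite_HP hposS h0S J s (-n)
    let ιC : pieceK 𝒜 𝒞R n ⊗[k] pieceK ℬ 𝒞S n →ₗ[k] CR ⊗[k] CS :=
      TensorProduct.map (pieceK 𝒜 𝒞R n).subtype (pieceK ℬ 𝒞S n).subtype
    have hιC : LinearMap.range ιC = GrSeg.segrePiece k 𝒞R 𝒞S n := by
      refine le_antisymm ?_ (Submodule.span_le.2 ?_)
      · rintro _ ⟨w, rfl⟩
        induction w using TensorProduct.induction_on with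
        | zero => rw [map_zero]; exact zero_mem _
        | add a b ha hb => rw [map_add]; exact add_mem ha hb
        | tmul a b => exact Submodule.subset_span ⟨a, a.2, b, b.2, TensorProduct.map_tmul _ _ _ _⟩
      · rintro _ ⟨x, hx, y, hy, rfl⟩
        exact ⟨(⟨x, hx⟩ : pieceK 𝒜 𝒞R n) ⊗ₜ[k] (⟨y, hy⟩ : pieceK ℬ 𝒞S n), TensorProduct.map_tmul _ _ _ _⟩
    let L₁ : pieceK 𝒜 𝒞R n →ₗ[k] Module.Dual k (HP I r (-n)) :=
      (HP I r (-n)).subtype.dualMap ∘ₗ β₁ ∘ₗ (pieceK 𝒜 𝒞R n).subtype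
    let L₂ : pieceK ℬ 𝒞S n →ₗ[k] Module.Dual k (HP J s (-n)) :=
      (HP J s (-n)).subtype.dualMap ∘ₗ β₂ ∘ₗ (pieceK ℬ 𝒞S n).subtype
    have hL₁ : Function.Bijective L₁ := ⟨(injective_iff_map_eq_zero L₁).2 fun c hc =>
        Subtype.ext (hz₁ n c.1 c.2 fun y hy => LinearMap.congr_fun hc ⟨y, hy⟩),
      fun f => by
        obtain ⟨c, hc, hcv⟩ := he₁ n f
        exact ⟨⟨c, hc⟩, LinearMap.ext hcv⟩⟩
    have hL₂ : Function.Bijective L₂ := ⟨(injective_iff_map_eq_zero L₂).2 fun c hc =>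
        Subtype.ext (hz₂ n c.1 c.2 fun y hy => LinearMap.congr_fun hc ⟨y, hy⟩),
      fun f => by
        obtain ⟨c, hc, hcv⟩ := he₂ n f
        exact ⟨⟨c, hc⟩, LinearMap.ext hcv⟩⟩
    let M := (TensorProduct.congr (LinearEquiv.ofBijective L₁ hL₁) (LinearEquiv.ofBijective L₂ hL₂)).trans
      (TensorProduct.dualDistribEquiv k (HP I r (-n)) (HP J s (-n)))
    have hM : ∀ z w, M z w = Bk (ιC z) (pieceTensor (HR I r) (HR J s) (-n) w) := by
      intro z w
      induction z using TensorProduct.induction_on with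
      | zero => simp
      | add a b ha hb => simp only [map_add, LinearMap.add_apply, ha, hb]
      | tmul c d =>
        induction w using TensorProduct.induction_on with
        | zero => simp
        | add a b ha hb => simp only [map_add, ha, hb]
        | tmul x y =>
          rw [pieceTensor, TensorProduct.map_tmul, TensorProduct.map_tmul, hBk]
          rfl
  · obtain ⟨z, hz⟩ := hιC.ge ((hP.image_piece n).le ⟨p, hp, rfl⟩)
    have hz0 : z = 0 := M.injective (LinearMap.ext fun w => by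
      rw [hM, map_zero, LinearMap.zero_apply, hz]
      obtain ⟨y, hy, hye⟩ := D.exists_pre ((range_pieceTensor (HR I r) (HR J s) (-n)).le ⟨w, rfl⟩)
      rw [← hye]
      exact e.injective ((h y hy).trans (map_zero e).symm))
    refine hP.injective ?_
    rw [← hz, hz0, map_zero, map_zero]
  · choose pre hpre hpree using fun w => D.exists_pre ((range_pieceTensor (HR I r) (HR J s) (-n)).le ⟨w, rfl⟩)
    let f : Module.Dual k (HP I r (-n) ⊗[k] HP J s (-n)) :=
      { toFun := fun w => e.symm (g (pre w))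
        map_add' := fun w w' => by
          have h1 : pre (w + w') = pre w + pre w' := D.inj (by rw [map_add Φ, hpree, hpree, hpree, map_add])
          rw [h1, hga _ (hpre w) _ (hpre w'), map_add]
        map_smul' := fun a w => by
          have h1 : pre (a • w) = algebraMap k T a • pre w := D.inj (by rw [D.map_k, hpree, hpree, map_smul])
          rw [h1, show algebraMap k T a = ((e a : GrLC.deg0 𝒯) : T) from rfl, hgs _ _ (hpre w), map_mul,
            e.symm_apply_apply]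
          rfl }
    obtain ⟨z, hz⟩ := M.surjective f
    obtain ⟨p, hp, hpe⟩ := (hP.image_piece n).ge (hιC.le ⟨z, rfl⟩)
    refine ⟨p, hp, fun y hy => ?_⟩
    obtain ⟨w, hw⟩ := (range_pieceTensor (HR I r) (HR J s) (-n)).ge (D.mem_piece hy)
    have hyw : pre w = y := D.inj ((hpree w).trans hw)
    rw [hBQ, hpe, ← hw, ← hM, hz]
    show e (e.symm (g (pre w))) = g y
    rw [e.apply_symm_apply, hyw]

end Two

end Groth.Agent.GrLib8.Seg
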