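import Groth.Agent.GrLib8.SegDim
import Groth.Agent.GrLib8.GrCMAss
import Groth.Agent.GrLib8.GrCMField
import Groth.Agent.LC.TopDim
import Mathlib.RingTheory.HopkinsLevitzki

/-!
# Parameters of graded modules, for dimensions of Segre products
-/

set_option autoImplicit false
set_option linter.unusedSectionVars false
set_option linter.style.haveILetI false

universe u

open DirectSum
open scoped TensorProduct

namespace Groth.Agent.GrLib8.SegDim

variable {k : Type u} [Field k] {R : Type u} [CommRing R] [Algebra k R] (𝒜 : ℤ → Submodule k R) [GradedAlgebra 𝒜]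
  (hpos : ∀ n : ℤ, n < 0 → 𝒜 n = ⊥) (h0 : 𝒜 0 = Submodule.span k {(1 : R)})
variable {M : Type u} [AddCommGroup M] [Module R M] (ℳ : ℤ → AddSubgroup M) [Decomposition ℳ]
  [SetLike.GradedSMul 𝒜 ℳ] [Module.Finite R M]

include hpos h0 ℳ in
theorem exists_mod_params [Algebra.FiniteType k R] (r : ℕ) (hr : Module.supportDim R M = r) :
    ∃ D₀ : ℕ, 0 < D₀ ∧ ∀ D : ℕ, 0 < D → D₀ ∣ D → ∃ f : Fin r → R, (∀ j, f j ∈ 𝒜 (D : ℤ)) ∧
      Function.Injective ((Ideal.Quotient.mkₐ k (Module.annihilator R M)).comp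
        (MvPolynomial.aeval f : MvPolynomial (Fin r) k →ₐ[k] R)) ∧
      ((Ideal.Quotient.mkₐ k (Module.annihilator R M)).comp
        (MvPolynomial.aeval f : MvPolynomial (Fin r) k →ₐ[k] R)).toRingHom.Finite :=
  HomNN.exists_normalization_mod 𝒜 hpos h0 _ (annihilator_homogeneous 𝒜 ℳ) r
    ((Module.supportDim_eq_ringKrullDim_quotient_annihilator (R := R) (M := M)).symm.trans hr)

omit [Module.Finite R M] in
theorem faithful {r : ℕ} (f : Fin r → R)
    (hf : Function.Injective ((Ideal.Quotient.mkₐ k (Module.annihilator R M)).comp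
      (MvPolynomial.aeval f : MvPolynomial (Fin r) k →ₐ[k] R)))
    (p : MvPolynomial (Fin r) k) (hp : ∀ m : M, MvPolynomial.aeval f p • m = 0) : p = 0 :=
  hf (((Ideal.Quotient.eq_zero_iff_mem).2 (Module.mem_annihilator.2 hp) :
    (Ideal.Quotient.mkₐ k (Module.annihilator R M)).comp (MvPolynomial.aeval f) p = 0).trans (map_zero _).symm)

include hpos h0 ℳ in
theorem free_of_isCM [IsNoetherianRing R] [Nontrivial R] {r : ℕ} (hr : Module.supportDim R M = r)
    (hcm : ∀ (q : Ideal R) [q.IsPrime], Subsingleton (LocalizedModule q.primeCompl M) ∨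
      LocCoh.IsCohenMacaulayModule (Localization.AtPrime q) (LocalizedModule q.primeCompl M))
    (f : Fin r → R)
    (hf : ((Ideal.Quotient.mkₐ k (Module.annihilator R M)).comp
      (MvPolynomial.aeval f : MvPolynomial (Fin r) k →ₐ[k] R)).toRingHom.Finite)
    {x : M} (hx : x ≠ 0) (p : MvPolynomial (Fin r) k) (hp : MvPolynomial.aeval f p • x = 0) : p = 0 := by
  haveI : SetLike.GradedSMul (addPieces 𝒜) ℳ :=
    ⟨fun _ _ _ _ ha hx => SetLike.GradedSMul.smul_mem (A := 𝒜) (B := ℳ) ha hx⟩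
  have hdim := GrCM.le_ringKrullDim_quot (addPieces 𝒜) ℳ (addPieces_eq_bot 𝒜 hpos)
    (isStarLocal_irrel_add 𝒜 hpos h0) r hr hcm hx
  by_contra hp0
  let I := Module.annihilator R M
  let J : Ideal R := LinearMap.ker (LinearMap.toSpanSingleton R M x)
  have hIJ : I ≤ J := fun a ha => LinearMap.mem_ker.2 (Module.mem_annihilator.1 ha x)
  let φ : MvPolynomial (Fin r) k →+* R ⧸ J :=
    (Ideal.Quotient.factor hIJ).comp ((Ideal.Quotient.mkₐ k I).comp (MvPolynomial.aeval f)).toRingHom
  have hφ : φ.Finite := RingHom.Finite.comp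
    (RingHom.Finite.of_surjective _ (Ideal.Quotient.factor_surjective hIJ)) hf
  have hpφ : p ∈ RingHom.ker φ :=
    (Ideal.Quotient.eq_zero_iff_mem (I := J)).2 (LinearMap.mem_ker.2 hp)
  let A := MvPolynomial (Fin r) k ⧸ RingHom.ker φ
  letI : Algebra A (R ⧸ J) := (RingHom.kerLift φ).toAlgebra
  haveI : FaithfulSMul A (R ⧸ J) :=
    (faithfulSMul_iff_algebraMap_injective _ _).2 (RingHom.kerLift_injective _)
  haveI : Algebra.IsIntegral A (R ⧸ J) := ⟨fun y => by
    obtain ⟨q, hq, hq0⟩ := hφ.to_isIntegral y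
    refine ⟨q.map (Ideal.Quotient.mk (RingHom.ker φ)), hq.map _, ?_⟩
    rw [Polynomial.eval₂_map]
    exact hq0⟩
  have hA : (r : WithBot ℕ∞) ≤ ringKrullDim A :=
    hdim.trans (VarDim.ringKrullDim_eq_of_isIntegral (R := A) (S := R ⧸ J)).le
  have h1 : ringKrullDim A ≤ ringKrullDim (MvPolynomial (Fin r) k ⧸ Ideal.span {p}) :=
    ringKrullDim_le_of_surjective (Ideal.Quotient.factor ((Ideal.span_singleton_le_iff_mem _).2 hpφ))
      (Ideal.Quotient.factor_surjective _)
  have h2 := ringKrullDim_quotient_succ_le_of_nonZeroDivisor (mem_nonZeroDivisors_of_ne_zero hp0)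
  rw [MvPolynomial.ringKrullDim_of_isNoetherianRing, ringKrullDim_eq_zero_of_field, zero_add, Nat.card_fin] at h2
  have h3 : (r : WithBot ℕ∞) + 1 ≤ r := le_trans (add_le_add_left (hA.trans h1) 1) h2
  have h4 : ((r + 1 : ℕ) : WithBot ℕ∞) ≤ (r : ℕ) := by exact_mod_cast h3
  rw [Nat.cast_le] at h4
  omega

omit [Module.Finite R M] in
theorem one_le_of_not_isArtinian [IsNoetherianRing R] [Module.Finite R M] {d : ℕ}
    (hd : Module.supportDim R M = d) (hA : ¬ IsArtinian R M) : 1 ≤ d := by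
  by_contra h
  obtain rfl : d = 0 := by omega
  let I := Module.annihilator R M
  haveI : Ring.KrullDimLE 0 (R ⧸ I) := (Ring.krullDimLE_iff (n := 0) (R := R ⧸ I)).2
    (((Module.supportDim_eq_ringKrullDim_quotient_annihilator (R := R) (M := M)).symm.trans hd).le)
  haveI : IsArtinianRing (R ⧸ I) := isArtinianRing_iff_krullDimLE_zero.2 inferInstance
  exact hA (LC.isArtinian_of_kill I M fun a ha z => Module.mem_annihilator.1 ha z)

end Groth.Agent.GrLib8.SegDim
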