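import Groth.Agent.GrLib8.SegCMRing
import Groth.Agent.GrLib8.SegDimRows
import Groth.Agent.GrLib8.FilterInj
import Groth.Agent.GrLib8.MinCover
import Mathlib.RingTheory.PrincipalIdealDomain
import Mathlib.RingTheory.Polynomial.Basic

/-!
# Standard graded Cohen-Macaulay algebras of dimension one with negative a-invariant
-/

set_option autoImplicit false
set_option linter.unusedSectionVars false
set_option linter.style.haveILetI false

universe u

open DirectSum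

namespace Groth.Agent.GrLib8.DimOne

variable {k : Type u} [Field k] {R : Type u} [CommRing R] [Algebra k R] (𝒜 : ℤ → Submodule k R) [GradedAlgebra 𝒜]

local notation "RR" => GrLC.GMod.of 𝒜 R (addPieces 𝒜)

variable [IsNoetherianRing R]

theorem exists_div (hpos : ∀ n : ℤ, n < 0 → 𝒜 n = ⊥) (h0 : 𝒜 0 = Submodule.span k {(1 : R)})
    (hd : ringKrullDim R ≤ 1) {z : R} {e : ℤ} (he : 0 < e) (hz : z ∈ 𝒜 e) (hreg : IsSMulRegular R z)
    (E : GrLC.StarInjRes 𝒜 (addPieces 𝒜))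
    (hH : ∀ g, 0 ≤ g → E.Hcomp (GrSyz.irrel 𝒜) 1 g = ⊥) {g : ℤ} (hg : e ≤ g) {y : R} (hy : y ∈ 𝒜 g) :
    ∃ w ∈ 𝒜 (g - e), z * w = y := by
  classical
  haveI : Module.Finite R (RR).carrier := inferInstanceAs (Module.Finite R R)
  have hregX : IsSMulRegular (RR).carrier z := hreg
  obtain ⟨Y, π, _, hμ, hπg, hinj, hπ, hex, -⟩ := exists_regular_seq (X := RR) hz hregX
  have hI : (Ideal.span {z}).IsHomogeneous 𝒜 :=
    Ideal.homogeneous_span 𝒜 _ fun w hw => ⟨e, Set.mem_singleton_iff.1 hw ▸ hz⟩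
  have hdimz : ringKrullDim (R ⧸ Ideal.span {z}) ≤ (0 : ℕ) := by
    have hz' : z ∈ nonZeroDivisors R :=
      mem_nonZeroDivisors_iff_right.2 fun w hw => hreg.right_eq_zero_of_smul (by rwa [smul_eq_mul, mul_comm])
    have h2 := (ringKrullDim_quotient_succ_le_of_nonZeroDivisor hz').trans hd
    generalize ringKrullDim (R ⧸ Ideal.span {z}) = a at h2 ⊢
    induction a with
    | bot => exact bot_le
    | coe a =>
      rw [← WithBot.coe_one, ← WithBot.coe_add, WithBot.coe_le_coe] at h2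
      rw [show ((0 : ℕ) : WithBot ℕ∞) = ((0 : ℕ∞) : WithBot ℕ∞) from rfl, WithBot.coe_le_coe]
      induction a using ENat.recTopCoe with
      | top => simp at h2
      | coe a =>
        have h3 : a + 1 ≤ 1 := by exact_mod_cast h2
        have h4 : a = 0 := by omega
        exact le_of_eq (by exact_mod_cast h4)
  obtain ⟨f₀, d₀, -, hrad⟩ := HomNN.exists_params 𝒜 hpos h0 0 _ hI hdimz
  have hrad' : (GrSyz.irrel 𝒜).toIdeal ≤ (Ideal.span {z}).radical :=
    hrad.trans (Ideal.radical_mono (sup_le le_rfl (Ideal.span_le.2 (by rintro _ ⟨j, -⟩; exact j.elim0))))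
  obtain ⟨N, hN⟩ := Ideal.exists_pow_le_of_le_radical_of_fg hrad' (IsNoetherian.noetherian _)
  let EY : GrLC.StarInjRes 𝒜 Y.gr := starRes Y.gr
  let E' : GrLC.StarInjRes 𝒜 (RR).gr := E
  obtain ⟨-, hles⟩ := exists_les _ π hμ hπg hinj hπ hex E' E' EY (GrSyz.irrel 𝒜)
  obtain ⟨δ, hδ, -, e2, -⟩ := hles 0
  obtain ⟨εY, hεY⟩ := exists_H0_equiv EY (GrSyz.irrel 𝒜)
  obtain ⟨εX, hεX⟩ := exists_H0_equiv E' (GrSyz.irrel 𝒜)
  have hπy : π y ∈ GrLC.gam (GrSyz.irrel 𝒜).toIdeal Y.carrier := ⟨N, fun r hr => by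
    rw [← map_smul]
    refine (hex _).2 ?_
    obtain ⟨c, hc⟩ := Ideal.mem_span_singleton'.1 (hN hr)
    refine ⟨c * y, ?_⟩
    show z * (c * y) = r * y
    rw [← hc]; ring⟩
  have hyg : π y ∈ Y.gr g := by
    have h := hπg g y hy
    rwa [add_zero] at h
  have hδ0 : δ (εY ⟨π y, hπy⟩) = 0 :=
    (Hcomp_eq_bot_iff E' _ 1 _).1 (hH _ (by omega)) _ (hδ g _ ((hεY g ⟨π y, hπy⟩).1 hyg))
  obtain ⟨w, hw⟩ := (e2 _).1 hδ0
  have hgam0 : ∀ v : R, v ∈ GrLC.gam (GrSyz.irrel 𝒜).toIdeal (RR).carrier → v = 0 := by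
    rintro v ⟨n, hn⟩
    have h := hn (z ^ n) (Ideal.pow_mem_pow (mem_irrel_of_pos 𝒜 he hz) n)
    exact (hreg.pow n).right_eq_zero_of_smul h
  obtain ⟨v, rfl⟩ := εX.surjective w
  have hv : v = 0 := Subtype.ext (hgam0 v.1 v.2)
  rw [hv, map_zero, map_zero] at hw
  have hπ0 : π y = 0 := congrArg Subtype.val (εY.injective (hw.symm.trans (map_zero εY).symm))
  obtain ⟨w, hw⟩ := (hex _).1 hπ0
  obtain ⟨w', hw', hwe⟩ := exists_preimage_mem (ℳ := (RR).gr) (𝒩 := (RR).gr) _ hμ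
    (show (y : (RR).carrier) ∈ (RR).gr g from hy) ⟨w, hw⟩
  exact ⟨w', hw', hwe⟩

theorem vanish_of_principal (hpos : ∀ n : ℤ, n < 0 → 𝒜 n = ⊥) {z : R} (hz : z ∈ 𝒜 1) (hreg : IsSMulRegular R z)
    (hdiv : ∀ g : ℤ, 1 ≤ g → ∀ y ∈ 𝒜 g, ∃ w, z * w = y) (E : GrLC.StarInjRes 𝒜 (addPieces 𝒜)) (g : ℤ) (hg : 0 ≤ g) :
    E.Hcomp (GrSyz.irrel 𝒜) 1 g = ⊥ := by
  classical
  haveI : Module.Finite R (RR).carrier := inferInstanceAs (Module.Finite R R)
  have hregX : IsSMulRegular (RR).carrier z := hreg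
  obtain ⟨Y, π, _, hμ, hπg, hinj, hπ, hex, hlift⟩ := exists_regular_seq (X := RR) hz hregX
  refine hVan_of_filter (X := RR) hz (mem_irrel_of_pos 𝒜 one_pos hz) π hπ hπg (LinearMap.exact_iff.1 hex) ?_ 0 0
    (fun g' hg' => hVan_zero_of fun m _ hm => ?_) g hg E
  · intro t
    refine ⟨0, fun r _ => ?_⟩
    have ht : t = 0 := Subtype.ext (hregX.right_eq_zero_of_smul ((Submodule.mem_torsionBy_iff _ _).1 t.2))
    rw [ht, smul_zero]
  · obtain ⟨y, hy, rfl⟩ := hlift g' m hm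
    obtain ⟨w, hw⟩ := hdiv g' (by omega) y hy
    exact (hex _).2 ⟨w, hw⟩

theorem exists_gen (hpos : ∀ n : ℤ, n < 0 → 𝒜 n = ⊥) (h0 : 𝒜 0 = Submodule.span k {(1 : R)})
    (hstd : Ideal.span (⋃ n ∈ Set.Ioi (0 : ℤ), (𝒜 n : Set R)) = Ideal.span ((𝒜 1 : Submodule k R) : Set R))
    (hr : ringKrullDim R = 1) (e : R ≃ₐ[k] Polynomial k) :
    ∃ z ∈ 𝒜 1, IsSMulRegular R z ∧ ∀ g : ℤ, 1 ≤ g → ∀ y ∈ 𝒜 g, ∃ w, z * w = y := by
  classical
  haveI : IsDomain R := e.toMulEquiv.isDomain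
  haveI : IsPrincipalIdealRing R :=
    IsPrincipalIdealRing.of_surjective e.symm.toRingEquiv.toRingHom e.symm.surjective
  have hle : (GrSyz.irrel 𝒜).toIdeal ≤ Ideal.span ((𝒜 1 : Submodule k R) : Set R) := by
    rw [← hstd]
    refine Ideal.span_le.2 ?_
    rintro x ⟨m, hm, hx⟩
    exact Ideal.subset_span (Set.mem_iUnion₂.2 ⟨m, hm, hx⟩)
  obtain ⟨G, hG⟩ := (IsPrincipalIdealRing.principal (GrSyz.irrel 𝒜).toIdeal).1
  have hG1 : ∀ y ∈ 𝒜 1, ∃ c : R, c ∈ 𝒜 0 ∧ y = c * (decompose 𝒜 G 1 : R) := by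
    intro y hy
    have hy' := mem_irrel_of_pos 𝒜 one_pos hy
    rw [hG, Submodule.mem_span_singleton] at hy'
    obtain ⟨c, hc⟩ := hy'
    refine ⟨(decompose 𝒜 c 0 : R), SetLike.coe_mem _, ?_⟩
    rw [smul_eq_mul] at hc
    have h1 : (decompose 𝒜 (c * G) 1 : R) = y := by rw [hc, decompose_of_mem_same 𝒜 hy]
    rw [← h1]
    conv_lhs => rw [← sum_support_decompose 𝒜 c, Finset.sum_mul, decompose_sum, DFinsupp.finsetSum_apply,
      AddSubmonoidClass.coe_finsetSum]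
    refine (Finset.sum_eq_single (0 : ℤ) (fun i _ hne => ?_) fun hn => ?_).trans ?_
    · rcases lt_trichotomy i 0 with hi | hi | hi
      · rw [Seg.nonneg_of_eq_bot 𝒜 hpos i hi _ (SetLike.coe_mem _), zero_mul, decompose_zero]; rfl
      · exact absurd hi hne
      · have hd : (decompose 𝒜 ((decompose 𝒜 c i : R) * G) 1 : R) =
            (decompose 𝒜 c i : R) * (decompose 𝒜 G (1 - i) : R) := by
          have := DirectSum.coe_decompose_mul_add_of_left_mem 𝒜 (i := i) (j := 1 - i) (b := G)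
            (SetLike.coe_mem (decompose 𝒜 c i))
          rwa [add_sub_cancel] at this
        rw [hd]
        have hG0 : (decompose 𝒜 G (1 - i) : R) = 0 := by
          rcases eq_or_ne i 1 with rfl | hne1
          · have hGi : G ∈ (GrSyz.irrel 𝒜).toIdeal := by rw [hG]; exact Submodule.mem_span_singleton_self G
            rw [sub_self]
            exact decompose_zero_of_mem_irrel 𝒜 (Seg.nonneg_of_eq_bot 𝒜 hpos) hGi
          · exact Seg.nonneg_of_eq_bot 𝒜 hpos _ (by omega) _ (SetLike.coe_mem _)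
        rw [hG0, mul_zero]
    · rw [DFinsupp.notMem_support_iff.1 hn, ZeroMemClass.coe_zero, zero_mul, decompose_zero]; rfl
    · have := DirectSum.coe_decompose_mul_add_of_left_mem 𝒜 (i := (0 : ℤ)) (j := 1) (b := G)
        (SetLike.coe_mem (decompose 𝒜 c 0))
      rwa [zero_add] at this
  let z : R := (decompose 𝒜 G 1 : R)
  have hspan : (GrSyz.irrel 𝒜).toIdeal ≤ Ideal.span {z} := by
    refine hle.trans (Ideal.span_le.2 fun y hy => ?_)
    obtain ⟨c, -, rfl⟩ := hG1 y hy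
    exact Ideal.mem_span_singleton'.2 ⟨c, rfl⟩
  refine ⟨z, SetLike.coe_mem _, ?_, fun g hg y hy => ?_⟩
  · have hz0 : z ≠ 0 := by
      intro hz0
      obtain ⟨f, d, hfd, hrad⟩ := HomNN.exists_params 𝒜 hpos h0 1 ⊥ (Ideal.IsHomogeneous.bot 𝒜)
        (((ringKrullDim_eq_of_ringEquiv (RingEquiv.quotientBot R)).trans hr).le.trans (by simp))
      have hirr : (GrSyz.irrel 𝒜).toIdeal = ⊥ := by
        refine le_bot_iff.1 (hspan.trans ?_)
        rw [hz0, Ideal.span_singleton_eq_bot.2 rfl]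
      -- `R` would be `k`
      have hsurj : Function.Surjective (algebraMap k R) := fun a => by
        obtain ⟨c, hc⟩ := eq_algebraMap_of_mem_zero 𝒜 h0 (SetLike.coe_mem (decompose 𝒜 a 0))
        refine ⟨c, hc.symm.trans ?_⟩
        conv_rhs => rw [← sum_support_decompose 𝒜 a]
        refine (Finset.sum_eq_single (f := fun i => (decompose 𝒜 a i : R)) 0 (fun i _ hi => ?_) fun hn => ?_).symm
        · rcases lt_or_gt_of_ne hi with hi | hi
          · exact Seg.nonneg_of_eq_bot 𝒜 hpos i hi _ (SetLike.coe_mem _)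
          · exact (Submodule.mem_bot R).1 (hirr.le (mem_irrel_of_pos 𝒜 hi (SetLike.coe_mem _)))
        · rw [DFinsupp.notMem_support_iff.1 hn, ZeroMemClass.coe_zero]
      have h := ringKrullDim_le_of_surjective (algebraMap k R) hsurj
      rw [hr, ringKrullDim_eq_zero_of_field] at h
      exact absurd h (by norm_num)
    exact (isSMulRegular_iff_right_eq_zero_of_smul).2 fun w hw => (mul_eq_zero.1 hw).resolve_left hz0
  · obtain ⟨w, hw⟩ := Ideal.mem_span_singleton'.1 (hspan (mem_irrel_of_pos 𝒜 (by omega) hy))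
    exact ⟨w, by rw [mul_comm]; exact hw⟩

theorem nonempty_polynomial_of_vanish [Algebra.FiniteType k R] [LocCoh.IsCohenMacaulayRing R]
    (hpos : ∀ n : ℤ, n < 0 → 𝒜 n = ⊥) (h0 : 𝒜 0 = Submodule.span k {(1 : R)})
    (hstd : Ideal.span (⋃ n ∈ Set.Ioi (0 : ℤ), (𝒜 n : Set R)) = Ideal.span ((𝒜 1 : Submodule k R) : Set R))
    (hr : ringKrullDim R = 1) (E : GrLC.StarInjRes 𝒜 (addPieces 𝒜))
    (hH : ∀ g, 0 ≤ g → E.Hcomp (GrSyz.irrel 𝒜) 1 g = ⊥) : Nonempty (R ≃ₐ[k] Polynomial k) := by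
  classical
  haveI : Nontrivial R := by
    by_contra h
    haveI := not_nontrivial_iff_subsingleton.1 h
    rw [ringKrullDim_eq_bot_of_subsingleton] at hr
    exact WithBot.coe_ne_bot hr.symm
  have hr1 : ringKrullDim R = ((1 : ℕ) : WithBot ℕ∞) := by rw [hr, Nat.cast_one]
  have hrM : Module.supportDim R R = ((1 : ℕ) : WithBot ℕ∞) := (Module.supportDim_self_eq_ringKrullDim (R := R)).trans hr1
  obtain ⟨D, hD, h⟩ := SegDim.exists_mod_params 𝒜 hpos h0 (addPieces 𝒜) 1 hrM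
  obtain ⟨f, hf, -, hffin⟩ := h D hD dvd_rfl
  have hfree := fun (x : R) (hx : x ≠ 0) => SegDim.free_of_isCM 𝒜 hpos h0 (addPieces 𝒜) hrM
    ((Seg.cmRing_iff R).1 inferInstance) f hffin hx
  have hfreg : IsSMulRegular R (f 0) := (isSMulRegular_iff_right_eq_zero_of_smul).2 fun w hw => by
    by_contra hw0
    exact MvPolynomial.X_ne_zero (0 : Fin 1) (hfree w hw0 (MvPolynomial.X 0) (by rwa [MvPolynomial.aeval_X]))
  have hdiv := fun g (hg : (D : ℤ) ≤ g) y (hy : y ∈ 𝒜 g) =>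
    exists_div 𝒜 hpos h0 hr.le (by exact_mod_cast hD) (hf 0) hfreg E hH hg hy
  obtain ⟨z, hz, hzD⟩ : ∃ z ∈ 𝒜 1, z ^ D ≠ 0 := by
    by_contra hc
    push Not at hc
    have hnil : (GrSyz.irrel 𝒜).toIdeal ≤ nilradical R := by
      refine (Ideal.span_le.2 ?_).trans (le_refl _)
      rintro x ⟨m, hm, hx⟩
      have h1 : x ∈ Ideal.span ((𝒜 1 : Submodule k R) : Set R) :=
        hstd ▸ Ideal.subset_span (Set.mem_iUnion₂.2 ⟨m, hm, hx⟩)
      exact (Ideal.span_le.2 fun y hy => mem_nilradical.2 ⟨D, hc y hy⟩) h1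
    obtain ⟨n, hn⟩ := mem_nilradical.1 (hnil (mem_irrel_of_pos 𝒜 (by exact_mod_cast hD : (0 : ℤ) < D) (hf 0)))
    exact one_ne_zero ((hfreg.pow n).right_eq_zero_of_smul (show f 0 ^ n • (1 : R) = 0 by rw [hn, zero_smul]))
  have hzreg : IsSMulRegular R z := by
    obtain ⟨w, hw, hwe⟩ := hdiv D le_rfl (z ^ D) (by
      have := SetLike.pow_mem_graded (A := 𝒜) D hz
      rwa [nsmul_eq_mul, mul_one] at this)
    rw [sub_self] at hw
    obtain ⟨c, hc⟩ := eq_algebraMap_of_mem_zero 𝒜 h0 hw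
    have hc0 : c ≠ 0 := fun h => hzD (by rw [← hwe, hc, h, map_zero, mul_zero])
    refine (isSMulRegular_iff_right_eq_zero_of_smul).2 fun v hv => ?_
    have hzv : z ^ D * v = 0 := by
      rw [← Nat.sub_add_cancel hD, pow_succ, mul_assoc, show z * v = 0 from hv, mul_zero]
    rw [← hwe, hc, mul_assoc] at hzv
    have h2 : algebraMap k R c * v = 0 := hfreg.right_eq_zero_of_smul hzv
    have h3 := congrArg (fun t => algebraMap k R c⁻¹ * t) h2
    simpa [← mul_assoc, ← map_mul, inv_mul_cancel₀ hc0] using h3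
  let φ : Polynomial k →ₐ[k] R := Polynomial.aeval z
  have hsurj : Function.Surjective φ := by
    have key : ∀ (n : ℕ) (y : R), y ∈ 𝒜 (n : ℤ) → ∃ p, φ p = y := by
      intro n
      induction n with
      | zero =>
        intro y hy
        obtain ⟨c, hc⟩ := eq_algebraMap_of_mem_zero 𝒜 h0 (show y ∈ 𝒜 0 by simpa using hy)
        exact ⟨Polynomial.C c, by rw [hc]; exact φ.commutes c⟩
      | succ n ih =>
        intro y hy
        obtain ⟨w, hw, rfl⟩ := exists_div 𝒜 hpos h0 hr.le one_pos hz hzreg E hH (g := ((n + 1 : ℕ) : ℤ))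
          (by omega) hy
        obtain ⟨p, hp⟩ := ih w (by rwa [Nat.cast_succ, add_sub_cancel_right] at hw)
        exact ⟨Polynomial.X * p, by rw [map_mul, hp, show φ Polynomial.X = z from Polynomial.aeval_X z]⟩
    intro y
    have : ∀ i : ℤ, ∃ p, φ p = (decompose 𝒜 y i : R) := by
      intro i
      rcases lt_or_ge i 0 with hi | hi
      · exact ⟨0, by rw [map_zero, Seg.nonneg_of_eq_bot 𝒜 hpos i hi _ (SetLike.coe_mem _)]⟩
      · lift i to ℕ using hi
        exact key i _ (SetLike.coe_mem _)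
    choose p hp using this
    exact ⟨∑ i ∈ (decompose 𝒜 y).support, p i, by rw [map_sum]; simp only [hp]; exact sum_support_decompose 𝒜 y⟩
  refine ⟨(AlgEquiv.ofBijective φ ⟨(injective_iff_map_eq_zero φ).2 fun p hp => ?_, hsurj⟩).symm⟩
  by_contra hp0
  have h1 : ringKrullDim R ≤ ringKrullDim (Polynomial k ⧸ Ideal.span {p}) :=
    ringKrullDim_le_of_surjective (Ideal.Quotient.lift (Ideal.span {p}) φ.toRingHom fun a ha => by
      obtain ⟨c, rfl⟩ := Ideal.mem_span_singleton'.1 ha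
      show φ (c * p) = 0
      rw [map_mul, hp, mul_zero]) (fun y => by
      obtain ⟨a, ha⟩ := hsurj y
      exact ⟨Ideal.Quotient.mk _ a, ha⟩)
  have h2 := ringKrullDim_quotient_succ_le_of_nonZeroDivisor (mem_nonZeroDivisors_of_ne_zero hp0)
  rw [Polynomial.ringKrullDim_of_isNoetherianRing, ringKrullDim_eq_zero_of_field, zero_add] at h2
  have h3 : ((1 : ℕ) : WithBot ℕ∞) + 1 ≤ ((1 : ℕ) : WithBot ℕ∞) := by
    rw [← hr1]; exact (add_le_add_left h1 1).trans (h2.trans (le_of_eq hr.symm))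
  have h4 : ((1 + 1 : ℕ) : WithBot ℕ∞) ≤ ((1 : ℕ) : WithBot ℕ∞) := by exact_mod_cast h3
  rw [Nat.cast_le] at h4
  omega

end Groth.Agent.GrLib8.DimOne
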