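import Groth.Agent.GrLib8.SegGor

/-!
# Gorenstein Segre products: criteria, type, canonical pieces
-/

set_option autoImplicit false
set_option linter.unusedSectionVars false
set_option linter.style.haveILetI false
set_option maxHeartbeats 1600000

universe u

open DirectSum
open scoped TensorProduct

namespace Groth.Agent.GrLib8.Seg

variable {k : Type u} [Field k] {R S T : Type u} [CommRing R] [CommRing S] [CommRing T]
  [Algebra k R] [Algebra k S] [Algebra k T] [Algebra.FiniteType k R] [Algebra.FiniteType k S]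
  {𝒜 : ℤ → Submodule k R} [GradedAlgebra 𝒜] {ℬ : ℤ → Submodule k S} [GradedAlgebra ℬ]
  {𝒯 : ℤ → Submodule k T} [GradedAlgebra 𝒯] {ψ : T →ₐ[k] R ⊗[k] S}
  (hT : GrSeg.IsSegreRing 𝒜 ℬ 𝒯 ψ) (hposR : ∀ n : ℤ, n < 0 → 𝒜 n = ⊥) (h0R : 𝒜 0 = Submodule.span k {(1 : R)})
  (hposS : ∀ n : ℤ, n < 0 → ℬ n = ⊥) (h0S : ℬ 0 = Submodule.span k {(1 : S)})

include hT hposR in
theorem segre_pos : ∀ n : ℤ, n < 0 → 𝒯 n = ⊥ := fun n hn => (Submodule.eq_bot_iff _).2 fun t ht => hT.1 (by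
  have h : ψ t ∈ GrSeg.segrePiece k 𝒜 ℬ n := (hT.2 n).le ⟨t, ht, rfl⟩
  rw [map_zero]
  generalize ψ t = w at h ⊢
  induction h using Submodule.span_induction with
  | mem u hu =>
    obtain ⟨a, ha, b, hb, rfl⟩ := hu
    have ha' : a ∈ 𝒜 n := ha
    rw [hposR n hn, Submodule.mem_bot] at ha'
    rw [ha', TensorProduct.zero_tmul]
  | zero => rfl
  | add a b _ _ ha hb => rw [ha, hb, add_zero]
  | smul c a _ ha => rw [ha, smul_zero])

theorem nontrivial_of_dim {A : Type u} [CommRing A] {n : ℕ} (h : ringKrullDim A = n) : Nontrivial A := by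
  by_contra hc
  haveI := not_nontrivial_iff_subsingleton.1 hc
  rw [ringKrullDim_eq_bot_of_subsingleton] at h
  exact WithBot.coe_ne_bot h.symm

/-- A Noetherian nonnegatively graded algebra with `k` in degree zero is of finite type. -/
theorem finiteType_of_noetherian {A : Type u} [CommRing A] [Algebra k A] [IsNoetherianRing A] (𝒟 : ℤ → Submodule k A)
    [GradedAlgebra 𝒟] (hpos : ∀ n : ℤ, n < 0 → 𝒟 n = ⊥) (h0 : 𝒟 0 = Submodule.span k {(1 : A)}) :
    Algebra.FiniteType k A := by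
  classical
  obtain ⟨F, hF, hspan⟩ := (Submodule.fg_span_iff_fg_span_finset_subset (R := A)
    (⋃ n ∈ Set.Ioi (0 : ℤ), (𝒟 n : Set A))).1 (IsNoetherian.noetherian _)
  let B := Algebra.adjoin k (F : Set A)
  suffices h : ∀ (n : ℕ), ∀ a ∈ 𝒟 (n : ℤ), a ∈ B by
    refine ⟨⟨F, eq_top_iff.2 fun a _ => ?_⟩⟩
    rw [← sum_support_decompose 𝒟 a]
    refine Subalgebra.sum_mem _ fun i _ => ?_
    rcases lt_or_ge i 0 with hi | hi
    · rw [nonneg_of_eq_bot 𝒟 hpos i hi _ (SetLike.coe_mem _)]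
      exact zero_mem _
    · lift i to ℕ using hi
      exact h i _ (SetLike.coe_mem _)
  intro n
  induction n using Nat.strong_induction_on with
  | _ n ih =>
    intro a ha
    rcases Nat.eq_zero_or_pos n with rfl | hn
    · obtain ⟨c, rfl⟩ := eq_algebraMap_of_mem_zero 𝒟 h0 (by simpa using ha)
      exact B.algebraMap_mem c
    have hmem : a ∈ Submodule.span A (F : Set A) :=
      hspan.le (Submodule.subset_span (Set.mem_biUnion (show (n : ℤ) ∈ Set.Ioi (0 : ℤ) by simpa using hn) ha))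
    have key : ∀ z ∈ Submodule.span A (F : Set A), ∀ r : A, (decompose 𝒟 (r * z) (n : ℤ) : A) ∈ B := by
      intro z hz
      induction hz using Submodule.span_induction with
      | mem f hf =>
        intro r
        obtain ⟨i, hi, hfi⟩ := Set.mem_iUnion₂.1 (hF hf)
        rw [show ((n : ℤ)) = ((n : ℤ) - i) + i by ring, coe_decompose_mul_add_of_right_mem 𝒟 hfi]
        refine mul_mem ?_ (Algebra.subset_adjoin hf)
        rcases lt_or_ge ((n : ℤ) - i) 0 with h' | h'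
        · rw [nonneg_of_eq_bot 𝒟 hpos _ h' _ (SetLike.coe_mem _)]
          exact zero_mem _
        · obtain ⟨j, hj⟩ : ∃ j : ℕ, (j : ℤ) = (n : ℤ) - i := ⟨((n : ℤ) - i).toNat, Int.toNat_of_nonneg h'⟩
          rw [← hj]
          exact ih j (by have : (0 : ℤ) < i := hi; omega) _ (SetLike.coe_mem _)
      | zero => intro r; simp
      | add x y _ _ hx hy =>
        intro r
        rw [mul_add, decompose_add, DirectSum.add_apply, AddMemClass.coe_add]
        exact add_mem (hx r) (hy r)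
      | smul c x _ hx =>
        intro r
        rw [smul_eq_mul, ← mul_assoc]
        exact hx _
    have h := key a hmem 1
    rwa [one_mul, decompose_of_mem_same 𝒟 ha] at h

/-- Everything the rows need. -/
structure Setup (I : GrLC.StarInjRes 𝒜 𝒜) (J : GrLC.StarInjRes ℬ ℬ) (IT : GrLC.StarInjRes 𝒯 𝒯) (r s : ℕ) : Prop where
  posT : ∀ n : ℤ, n < 0 → 𝒯 n = ⊥
  zeroT : 𝒯 0 = Submodule.span k {(1 : T)}
  ft : Algebra.FiniteType k T
  dim : ringKrullDim T = ((r + s - 1 : ℕ) : WithBot ℕ∞)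
  data : ∃ Φ, TopData (ψ := ψ) I J IT r s (r + s - 1) Φ

include hT hposR h0R hposS h0S in
theorem setup (I : GrLC.StarInjRes 𝒜 𝒜) (J : GrLC.StarInjRes ℬ ℬ) (IT : GrLC.StarInjRes 𝒯 𝒯) {r s : ℕ}
    (hr : ringKrullDim R = r) (hs : ringKrullDim S = s) (h2r : 2 ≤ r) (h2s : 2 ≤ s) :
    Setup (ψ := ψ) I J IT r s := by
  haveI := nontrivial_of_dim hr
  haveI := nontrivial_of_dim hs
  have hdim := Groth.Agent.S18647.result k R 𝒜 hposR h0R S ℬ hposS h0S T 𝒯 ψ hT.1 hT.2 r s hr hs (by omega) (by omega)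
  haveI := nontrivial_of_dim hdim
  have h0T := segre_deg_zero hT h0R h0S
  have hposT := segre_pos hT hposR
  refine ⟨hposT, h0T, ?_, hdim, ?_⟩
  · haveI := isNoetherianRing_segre 𝒜 ℬ 𝒯 ψ hT
    exact finiteType_of_noetherian 𝒯 hposT h0T
  · obtain ⟨p, rfl⟩ : ∃ p, r = p + 2 := ⟨r - 2, by omega⟩
    obtain ⟨q, rfl⟩ : ∃ q, s = q + 2 := ⟨s - 2, by omega⟩
    rw [show p + 2 + (q + 2) - 1 = p + q + 1 + 2 by omega]
    exact exists_topData hT hposR h0R hposS h0S hposT h0T I J IT p q hr hs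

variable {I : GrLC.StarInjRes 𝒜 𝒜} {J : GrLC.StarInjRes ℬ ℬ} {r s : ℕ}
  (hr : ringKrullDim R = r) (hs : ringKrullDim S = s) (h2r : 2 ≤ r) (h2s : 2 ≤ s)

include hT hposR h0R hposS h0S hr hs h2r h2s in
/-- A Cohen-Macaulay Segre product of Gorenstein rings with equal `a`-invariants is Gorenstein. -/
theorem gorenstein_segre_of_eq [LocCoh.IsGorensteinRing R] [LocCoh.IsGorensteinRing S] [LocCoh.IsCohenMacaulayRing T]
    (haeq : GrLC.endDeg (I.Hgr (GrSyz.irrel 𝒜) r) = GrLC.endDeg (J.Hgr (GrSyz.irrel ℬ) s)) :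
    LocCoh.IsGorensteinRing T := by
  classical
  haveI := nontrivial_of_dim hr
  haveI := nontrivial_of_dim hs
  let IT := starRes (𝒜 := 𝒯) 𝒯
  obtain ⟨hposT, h0T, hft, hdim, Φ, D⟩ := setup hT hposR h0R hposS h0S I J IT hr hs h2r h2s
  haveI := nontrivial_of_dim hdim
  haveI := hft
  haveI := Algebra.FiniteType.isNoetherianRing k T
  obtain ⟨a, ha, hvI, hessI, honeI, -⟩ := exists_socle' hposR h0R I hr
  obtain ⟨b, hb, hvJ, hessJ, honeJ, -⟩ := exists_socle' hposS h0S J hs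
  rw [ha, hb] at haeq
  obtain rfl : a = b := WithTop.coe_eq_coe.1 (WithBot.coe_eq_coe.1 haeq)
  refine gorenstein_of_simpleSoc hposT h0T IT hdim (D.simpleSoc hposT h0T (fun y hy =>
    soc_le_of_homogeneous hposT a (fun d hd w hw hws => ?_) hy) honeI honeJ)
  rcases lt_or_gt_of_ne hd with h | h
  · refine D.eq_zero_of_soc hT (i := a - d) (by omega) (fun x hx hax => ?_) (fun y hy hby => ?_) hw hws
    · by_contra hx0
      obtain ⟨t, ht, htx⟩ := hessI d x hx hx0
      exact htx (hax t ht)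
    · by_contra hy0
      obtain ⟨t, ht, hty⟩ := hessJ d y hy hy0
      exact hty (hby t ht)
  · exact (AddSubgroup.eq_bot_iff_forall _).1 (D.Hgr_eq_bot (Or.inl (hvI d h))) w hw

include hposR in
/-- Degree one detects nonvanishing below the socle. -/
theorem exists_one_smul {M : Type u} [AddCommGroup M] [Module R M]
    (hstd : Ideal.span (⋃ n ∈ Set.Ioi (0 : ℤ), (𝒜 n : Set R)) = Ideal.span ((𝒜 1 : Submodule k R) : Set R))
    {i : ℤ} (hi : 0 < i) {t : R} (ht : t ∈ 𝒜 i) {x : M} (htx : t • x ≠ 0) (h : ∀ a ∈ 𝒜 1, a • x = 0) : False := by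
  refine htx ?_
  have hmem : t ∈ Ideal.span ((𝒜 1 : Submodule k R) : Set R) := hstd.le (Ideal.subset_span (Set.mem_biUnion hi ht))
  refine (Submodule.mem_annihilator_span_singleton x t).1 (Ideal.span_le.2 (fun a ha => ?_) hmem)
  exact (Submodule.mem_annihilator_span_singleton x a).2 (h a ha)

include hT hposR h0R hposS h0S hr hs h2r h2s in
/-- The type of a Cohen-Macaulay Segre product of standard Gorenstein rings. -/
theorem bassNum_segre [LocCoh.IsGorensteinRing R] [LocCoh.IsGorensteinRing S] [LocCoh.IsCohenMacaulayRing T]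
    (hstdR : Ideal.span (⋃ n ∈ Set.Ioi (0 : ℤ), (𝒜 n : Set R)) = Ideal.span ((𝒜 1 : Submodule k R) : Set R))
    (hstdS : Ideal.span (⋃ n ∈ Set.Ioi (0 : ℤ), (ℬ n : Set S)) = Ideal.span ((ℬ 1 : Submodule k S) : Set S))
    (a b : ℤ) (ha : GrLC.endDeg (I.Hgr (GrSyz.irrel 𝒜) r) = ((a : WithTop ℤ) : WithBot (WithTop ℤ)))
    (hb : GrLC.endDeg (J.Hgr (GrSyz.irrel ℬ) s) = ((b : WithTop ℤ) : WithBot (WithTop ℤ))) (hab : b ≤ a)
    [(GrSyz.irrel 𝒯).toIdeal.IsMaximal] :
    GrLC.bassNum (GrSyz.irrel 𝒯).toIdeal T (r + s - 1) = (Module.finrank k (𝒜 (a - b)) : ℕ∞) := by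
  classical
  haveI := nontrivial_of_dim hr
  haveI := nontrivial_of_dim hs
  let IT := starRes (𝒜 := 𝒯) 𝒯
  obtain ⟨hposT, h0T, hft, hdim, Φ, D⟩ := setup hT hposR h0R hposS h0S I J IT hr hs h2r h2s
  haveI := nontrivial_of_dim hdim
  haveI := hft
  haveI := Algebra.FiniteType.isNoetherianRing k T
  haveI := Algebra.FiniteType.isNoetherianRing k R
  haveI := Algebra.FiniteType.isNoetherianRing k S
  obtain ⟨a', ha', hvI, hessI, -, hfI⟩ := exists_socle' hposR h0R I hr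
  obtain ⟨b', hb', hvJ, hessJ, honeJ, -⟩ := exists_socle' hposS h0S J hs
  rw [ha] at ha'
  rw [hb] at hb'
  obtain rfl : a = a' := WithTop.coe_eq_coe.1 (WithBot.coe_eq_coe.1 ha')
  obtain rfl : b = b' := WithTop.coe_eq_coe.1 (WithBot.coe_eq_coe.1 hb')
  let Soc := LocCoh.torsionBy (GrSyz.irrel 𝒯).toIdeal (IT.H (GrSyz.irrel 𝒯) (r + s - 1))
  let U := GrSeg.segrePiece k (HR I r).gr (HR J s).gr b
  have hle : ∀ y ∈ Soc, y ∈ IT.Hgr (GrSyz.irrel 𝒯) (r + s - 1) b := fun y hy =>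
    soc_le_of_homogeneous hposT b (fun d hd w hw hws => by
      rcases lt_or_gt_of_ne hd with h | h
      · refine D.eq_zero_of_soc hT (i := 1) one_pos (fun x hx hax => ?_) (fun y hy hby => ?_) hw hws
        · by_contra hx0
          obtain ⟨t, ht, htx⟩ := hessI d x hx hx0
          exact exists_one_smul hposR hstdR (by omega : 0 < a - d) ht htx hax
        · by_contra hy0
          obtain ⟨t, ht, hty⟩ := hessJ d y hy hy0
          exact exists_one_smul hposS hstdS (by omega : 0 < b - d) ht hty hby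
      · exact (AddSubgroup.eq_bot_iff_forall _).1 (D.Hgr_eq_bot (Or.inr (hvJ d h))) w hw) hy
  let f : Soc →+ U := AddMonoidHom.mk' (fun y => ⟨Φ y.1, D.mem_piece (hle y.1 y.2)⟩)
    fun y y' => Subtype.ext (map_add Φ y.1 y'.1)
  have hf : Function.Bijective f := by
    refine ⟨fun y y' h => Subtype.ext (D.inj (congrArg Subtype.val h)), fun v => ?_⟩
    obtain ⟨y, hy, he⟩ := D.exists_pre v.2
    exact ⟨⟨y, D.mem_soc_of_top hposT (fun g hg => Or.inr (hvJ g hg)) hy⟩, Subtype.ext he⟩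
  let e := AddEquiv.ofBijective f hf
  have hk : ∀ (c : k) (y : Soc), e (algebraMap k T c • y) = c • e y := fun c y => Subtype.ext (D.map_k c y.1)
  have hlen : Module.length T Soc = Module.length k U := by
    refine VeroGor.length_eq_of_addEquiv e (fun t y => ?_) (fun c v => ⟨algebraMap k T c, ?_⟩)
    · obtain ⟨c, hc⟩ := exists_scalar hposT h0T t y.2
      exact ⟨c, by rw [show t • y = algebraMap k T c • y from Subtype.ext hc, hk]⟩
    · refine e.injective ?_
      rw [e.apply_symm_apply, hk, e.apply_symm_apply]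
  obtain ⟨h⟩ := nonempty_H_equiv 𝒯 IT (GrSyz.irrel 𝒯) (r + s - 1)
  haveI : Module.Finite k U := by
    haveI := finite_HP hposR h0R I r b
    haveI := finite_HP hposS h0S J s b
    rw [show U = LinearMap.range (pieceTensor (HR I r) (HR J s) b) from (range_pieceTensor _ _ b).symm]
    exact Module.Finite.range _
  rw [VeroGor.bassNum_eq_length_soc (GrSyz.irrel 𝒯).toIdeal (r + s - 1)
    (fun i hi => subsingleton_H_of_ne (𝒜 := addPieces 𝒯) (m := GrSyz.irrel (addPieces 𝒯))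
      (addPieces_eq_bot 𝒯 hposT) (isStarLocal_irrel_add 𝒯 hposT h0T) hdim hi.ne) h,
    hlen, Module.length_eq_finrank, finrank_segrePiece, show Module.finrank k (pieceK ℬ (HR J s).gr b) = 1 from honeJ,
    show Module.finrank k (pieceK 𝒜 (HR I r).gr b) = _ from hfI b, mul_one]

include hT hposR h0R hposS h0S hr hs h2r h2s in
/-- A Gorenstein Segre product of standard Cohen-Macaulay rings. -/
theorem gorenstein_factors [LocCoh.IsCohenMacaulayRing R] [LocCoh.IsCohenMacaulayRing S] [LocCoh.IsGorensteinRing T]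
    (hstdR : Ideal.span (⋃ n ∈ Set.Ioi (0 : ℤ), (𝒜 n : Set R)) = Ideal.span ((𝒜 1 : Submodule k R) : Set R))
    (hstdS : Ideal.span (⋃ n ∈ Set.Ioi (0 : ℤ), (ℬ n : Set S)) = Ideal.span ((ℬ 1 : Submodule k S) : Set S)) :
    LocCoh.IsGorensteinRing R ∧ LocCoh.IsGorensteinRing S ∧
      GrLC.endDeg (I.Hgr (GrSyz.irrel 𝒜) r) = GrLC.endDeg (J.Hgr (GrSyz.irrel ℬ) s) ∧
      GrLC.endDeg (I.Hgr (GrSyz.irrel 𝒜) r) < 0 := by
  classical
  haveI := nontrivial_of_dim hr
  haveI := nontrivial_of_dim hs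
  let IT := starRes (𝒜 := 𝒯) 𝒯
  obtain ⟨hposT, h0T, hft, hdim, Φ, D⟩ := setup hT hposR h0R hposS h0S I J IT hr hs h2r h2s
  haveI := nontrivial_of_dim hdim
  haveI := hft
  haveI := Algebra.FiniteType.isNoetherianRing k T
  haveI := Algebra.FiniteType.isNoetherianRing k R
  haveI := Algebra.FiniteType.isNoetherianRing k S
  haveI := isMaximal_irrel' hposT h0T
  haveI := isMaximal_irrel' hposR h0R
  haveI := isMaximal_irrel' hposS h0S
  haveI := LC.Liaison.isCohenMacaulayRing_of_gorenstein T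
  haveI : ∀ d, Module.Finite k (HP I r d) := finite_HP hposR h0R I r
  haveI : ∀ d, Module.Finite k (HP J s d) := finite_HP hposS h0S J s
  have hsimple := GorSocle.simpleSoc IT (height_irrel' hposT h0T hdim)
    (LocCoh.IsGorensteinRing.isGorensteinLocalRing_localization (A := T) (GrSyz.irrel 𝒯).toIdeal)
  obtain ⟨a, ha, hvI, hgI, htI⟩ := exists_growth hposR h0R I hr h2r hstdR
  obtain ⟨b, hb, hvJ, hgJ, htJ⟩ := exists_growth hposS h0S J hs h2s hstdS
  obtain rfl : a = b := by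
    rcases lt_trichotomy a b with h | h | h
    · have h1 := D.finrank_mul_le_one hposT h0T hsimple (d := a) (fun g hg => Or.inl (hvI g hg))
      have := Nat.mul_le_mul htI (hgJ a h)
      omega
    · exact h
    · have h1 := D.finrank_mul_le_one hposT h0T hsimple (d := b) (fun g hg => Or.inr (hvJ g hg))
      have := Nat.mul_le_mul (hgI b h) htJ
      omega
  have h1 := D.finrank_mul_le_one hposT h0T hsimple (d := a) (fun g hg => Or.inl (hvI g hg))
  have honeI : Module.finrank k (HP I r a) = 1 := by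
    have := Nat.mul_le_mul (le_refl (Module.finrank k (HP I r a))) htJ
    omega
  have honeJ : Module.finrank k (HP J s a) = 1 := by
    rw [honeI, one_mul] at h1
    omega
  obtain ⟨xa, hxa, hxa0⟩ := exists_ne_zero_of_finrank (HP I r a) htI
  obtain ⟨ya, hya, hya0⟩ := exists_ne_zero_of_finrank (HP J s a) htJ
  have hRsoc : ∀ d, d ≠ a → ∀ x ∈ HP I r d, (∀ i, 0 < i → ∀ α ∈ 𝒜 i, α • x = 0) → x = 0 := by
    intro d hd x hx hann
    by_contra hx0
    rcases lt_or_gt_of_ne hd with h | h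
    · obtain ⟨y, hy, hy0⟩ := exists_ne_zero_of_finrank (HP J s d) (le_trans (by omega) (hgJ d h))
      exact hd (D.eq_of_tmul_soc hT hposT h0T hsimple (fun g hg => Or.inl (hvI g hg)) hxa hxa0 hya hya0 hx hx0 hy hy0
        fun i hi α hα β _ => by rw [hann i hi α hα, TensorProduct.zero_tmul])
    · exact hx0 ((AddSubgroup.eq_bot_iff_forall _).1 (hvI d h) x hx)
  have hSsoc : ∀ d, d ≠ a → ∀ y ∈ HP J s d, (∀ i, 0 < i → ∀ β ∈ ℬ i, β • y = 0) → y = 0 := by
    intro d hd y hy hann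
    by_contra hy0
    rcases lt_or_gt_of_ne hd with h | h
    · obtain ⟨x, hx, hx0⟩ := exists_ne_zero_of_finrank (HP I r d) (le_trans (by omega) (hgI d h))
      exact hd (D.eq_of_tmul_soc hT hposT h0T hsimple (fun g hg => Or.inl (hvI g hg)) hxa hxa0 hya hya0 hx hx0 hy hy0
        fun i hi α _ β hβ => by rw [hann i hi β hβ, TensorProduct.tmul_zero])
    · exact hy0 ((AddSubgroup.eq_bot_iff_forall _).1 (hvJ d h) y hy)
  refine ⟨gorenstein_of_simpleSoc hposR h0R I hr (simpleSoc_of_line hposR I hRsoc honeI),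
    gorenstein_of_simpleSoc hposS h0S J hs (simpleSoc_of_line hposS J hSsoc honeJ), ha.trans hb.symm, ?_⟩
  have hcm := (isCMRing_segre_iff hposR h0R hposS h0S hT (resAdd I) (resAdd J) hr hs (by omega) (by omega)).1 inferInstance
  rw [ha, show (0 : WithBot (WithTop ℤ)) = (((0 : ℤ) : WithTop ℤ) : WithBot (WithTop ℤ)) from rfl, WithBot.coe_lt_coe,
    WithTop.coe_lt_coe]
  by_contra hneg
  lift a to ℕ using not_lt.1 hneg with n
  rcases hcm.1 h2r (n : ℤ) with h | h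
  · exact piece_ne_bot 𝒜 hposR h0R hstdR hr (by omega) n h
  · exact hya0 ((Submodule.eq_bot_iff _).1 h ya hya)

include hT hposR h0R hposS h0S hr hs h2r h2s in
/-- The pieces of the *canonical module of a Segre product. -/
theorem finrank_canonical_segre {IT : GrLC.StarInjRes 𝒯 𝒯}
    {ER : Type u} [AddCommGroup ER] [Module R ER] {𝓔R : ℤ → AddSubgroup ER} [Decomposition 𝓔R]
    [SetLike.GradedSMul 𝒜 𝓔R] {eR : (R ⧸ (GrSyz.irrel 𝒜).toIdeal) →ₗ[R] ER}
    (heR : GrLC.IsStarInjHull 𝒜 (GrLC.quotGr 𝒜 (GrSyz.irrel 𝒜)) 𝓔R eR)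
    {CR : Type u} [AddCommGroup CR] [Module R CR] {𝒞R : ℤ → AddSubgroup CR} [Decomposition 𝒞R]
    [SetLike.GradedSMul 𝒜 𝒞R] (hCR : GrLC.IsStarCanonical 𝒜 𝒞R 𝓔R (GrSyz.irrel 𝒜) r I)
    {ES : Type u} [AddCommGroup ES] [Module S ES] {𝓔S : ℤ → AddSubgroup ES} [Decomposition 𝓔S]
    [SetLike.GradedSMul ℬ 𝓔S] {eS : (S ⧸ (GrSyz.irrel ℬ).toIdeal) →ₗ[S] ES}
    (heS : GrLC.IsStarInjHull ℬ (GrLC.quotGr ℬ (GrSyz.irrel ℬ)) 𝓔S eS)
    {CS : Type u} [AddCommGroup CS] [Module S CS] {𝒞S : ℤ → AddSubgroup CS} [Decomposition 𝒞S]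
    [SetLike.GradedSMul ℬ 𝒞S] (hCS : GrLC.IsStarCanonical ℬ 𝒞S 𝓔S (GrSyz.irrel ℬ) s J)
    {ET : Type u} [AddCommGroup ET] [Module T ET] {𝓔T : ℤ → AddSubgroup ET} [Decomposition 𝓔T]
    [SetLike.GradedSMul 𝒯 𝓔T] {eT : (T ⧸ (GrSyz.irrel 𝒯).toIdeal) →ₗ[T] ET}
    (heT : GrLC.IsStarInjHull 𝒯 (GrLC.quotGr 𝒯 (GrSyz.irrel 𝒯)) 𝓔T eT)
    {CT : Type u} [AddCommGroup CT] [Module T CT] {𝒞T : ℤ → AddSubgroup CT} [Decomposition 𝒞T]
    [SetLike.GradedSMul 𝒯 𝒞T] (hCT : GrLC.IsStarCanonical 𝒯 𝒞T 𝓔T (GrSyz.irrel 𝒯) (r + s - 1) IT) (n : ℤ) :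
    Module.finrank (GrLC.deg0 𝒯) (GrLC.comp 𝒯 𝒞T n) =
      Module.finrank (GrLC.deg0 𝒜) (GrLC.comp 𝒜 𝒞R n) * Module.finrank (GrLC.deg0 ℬ) (GrLC.comp ℬ 𝒞S n) := by
  classical
  haveI := nontrivial_of_dim hr
  haveI := nontrivial_of_dim hs
  obtain ⟨hposT, h0T, hft, hdim, Φ, D⟩ := setup hT hposR h0R hposS h0S I J IT hr hs h2r h2s
  haveI := nontrivial_of_dim hdim
  haveI := hft
  haveI := Algebra.FiniteType.isNoetherianRing k T
  haveI := Algebra.FiniteType.isNoetherianRing k R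
  haveI := Algebra.FiniteType.isNoetherianRing k S
  haveI := isMaximal_irrel' hposT h0T
  haveI := isMaximal_irrel' hposR h0R
  haveI := isMaximal_irrel' hposS h0S
  haveI := hCT.1
  haveI := hCR.1
  haveI := hCS.1
  have hR := Canon.finrank_comp_eq (nonneg_of_eq_bot 𝒜 hposR) irrel_eq_span (isField_deg0' h0R) heR hCR
    (isInjectiveHull_of_isStarInjHull_maximal (GrSyz.irrel 𝒜) 𝓔R eR heR).isInjective (-n)
  have hS := Canon.finrank_comp_eq (nonneg_of_eq_bot ℬ hposS) irrel_eq_span (isField_deg0' h0S) heS hCS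
    (isInjectiveHull_of_isStarInjHull_maximal (GrSyz.irrel ℬ) 𝓔S eS heS).isInjective (-n)
  have hTn := Canon.finrank_comp_eq (nonneg_of_eq_bot 𝒯 hposT) irrel_eq_span (isField_deg0' h0T) heT hCT
    (isInjectiveHull_of_isStarInjHull_maximal (GrSyz.irrel 𝒯) 𝓔T eT heT).isInjective (-n)
  rw [neg_neg] at hR hS hTn
  rw [← hR, ← hS, ← hTn, ← finrank_transfer h0R (hpEquiv I r (-n)) (hpEquiv_smul I r (-n)),
    ← finrank_transfer h0S (hpEquiv J s (-n)) (hpEquiv_smul J s (-n)),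
    ← finrank_transfer h0T (hpEquiv IT (r + s - 1) (-n)) (hpEquiv_smul IT (r + s - 1) (-n)),
    ← finrank_segrePiece (HR I r) (HR J s) (-n)]
  let f : HP IT (r + s - 1) (-n) →ₗ[k] GrSeg.segrePiece k (HR I r).gr (HR J s).gr (-n) :=
    { toFun := fun y => ⟨Φ y.1, D.mem_piece y.2⟩
      map_add' := fun y y' => Subtype.ext (map_add Φ y.1 y'.1)
      map_smul' := fun c y => Subtype.ext (D.map_k c y.1) }
  refine (LinearEquiv.ofBijective f ⟨fun y y' h => Subtype.ext (D.inj (congrArg Subtype.val h)), fun v => ?_⟩).finrank_eq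
  obtain ⟨y, hy, he⟩ := D.exists_pre v.2
  exact ⟨⟨y, hy⟩, Subtype.ext he⟩

end Groth.Agent.GrLib8.Seg
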