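import Groth.Agent.GrLib8.SegDimOne
import Groth.Agent.GrLib8.SegGorRows
import Groth.Agent.LC.GorRing
import Groth.Agent.S18654

/-!
# Gorenstein Segre products of one-dimensional standard algebras
-/

set_option autoImplicit false
set_option linter.unusedSectionVars false
set_option linter.style.haveILetI false
set_option maxHeartbeats 1600000

universe u

open DirectSum
open scoped TensorProduct

namespace Groth.Agent.GrLib8.DimOne

variable {k : Type u} [Field k]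

section One

variable {R : Type u} [CommRing R] [Nontrivial R] [Algebra k R] [Algebra.FiniteType k R] {𝒜 : ℤ → Submodule k R}
  [GradedAlgebra 𝒜] (hpos : ∀ n : ℤ, n < 0 → 𝒜 n = ⊥) (h0 : 𝒜 0 = Submodule.span k {(1 : R)})
  (hr : ringKrullDim R = 1)

local notation "RR" => GrLC.GMod.of 𝒜 R (addPieces 𝒜)

include hpos h0 hr in
theorem irrel_le_radical {z : R} {e : ℤ} (hz : z ∈ 𝒜 e) (hreg : IsSMulRegular R z) :
    (GrSyz.irrel 𝒜).toIdeal ≤ (Ideal.span {z}).radical := by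
  classical
  haveI := Algebra.FiniteType.isNoetherianRing k R
  have hI : (Ideal.span {z}).IsHomogeneous 𝒜 :=
    Ideal.homogeneous_span 𝒜 _ fun w hw => ⟨e, Set.mem_singleton_iff.1 hw ▸ hz⟩
  have hdimz : ringKrullDim (R ⧸ Ideal.span {z}) ≤ (0 : ℕ) := by
    have hz' : z ∈ nonZeroDivisors R :=
      mem_nonZeroDivisors_iff_right.2 fun w hw => hreg.right_eq_zero_of_smul (by rwa [smul_eq_mul, mul_comm])
    have h2 := (ringKrullDim_quotient_succ_le_of_nonZeroDivisor hz').trans hr.le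
    generalize ringKrullDim (R ⧸ Ideal.span {z}) = a at h2 ⊢
    induction a with
    | bot => exact bot_le
    | coe a =>
      rw [← WithBot.coe_one, ← WithBot.coe_add, WithBot.coe_le_coe] at h2
      rw [show ((0 : ℕ) : WithBot ℕ∞) = ((0 : ℕ∞) : WithBot ℕ∞) from rfl, WithBot.coe_le_coe]
      induction a using ENat.recTopCoe with
      | top => simp at h2
      | coe a =>
        have h3 : a + 1 ≤ 1 := by exact_mod_cast h2
        have h4 : a = 0 := by omega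
        exact le_of_eq (by exact_mod_cast h4)
  obtain ⟨f₀, d₀, -, hrad⟩ := HomNN.exists_params 𝒜 hpos h0 0 _ hI hdimz
  exact hrad.trans (Ideal.radical_mono (sup_le le_rfl (Ideal.span_le.2 (by rintro _ ⟨j, -⟩; exact j.elim0))))

include hpos h0 hr in
/-- The quotient by a regular form sits inside the first local cohomology. -/
theorem exists_L (I : GrLC.StarInjRes 𝒜 𝒜) {z : R} {e : ℤ} (he : 0 < e) (hz : z ∈ 𝒜 e) (hreg : IsSMulRegular R z) :
    ∃ L : R →ₗ[R] I.H (GrSyz.irrel 𝒜) 1, ∀ y, L y = 0 ↔ ∃ w, z * w = y := by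
  classical
  haveI := Algebra.FiniteType.isNoetherianRing k R
  haveI : Module.Finite R (RR).carrier := inferInstanceAs (Module.Finite R R)
  have hregX : IsSMulRegular (RR).carrier z := hreg
  obtain ⟨Y, π, _, hμ, hπg, hinj, hπ, hex, -⟩ := exists_regular_seq (X := RR) hz hregX
  obtain ⟨N, hN⟩ := Ideal.exists_pow_le_of_le_radical_of_fg (irrel_le_radical hpos h0 hr hz hreg)
    (IsNoetherian.noetherian _)
  let EY : GrLC.StarInjRes 𝒜 Y.gr := starRes Y.gr
  let E' : GrLC.StarInjRes 𝒜 (RR).gr := Seg.resAdd I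
  obtain ⟨-, hles⟩ := exists_les _ π hμ hπg hinj hπ hex E' E' EY (GrSyz.irrel 𝒜)
  obtain ⟨δ, -, -, e2, -⟩ := hles 0
  obtain ⟨εY, -⟩ := exists_H0_equiv EY (GrSyz.irrel 𝒜)
  obtain ⟨εX, -⟩ := exists_H0_equiv E' (GrSyz.irrel 𝒜)
  have hgam : ∀ y, π y ∈ GrLC.gam (GrSyz.irrel 𝒜).toIdeal Y.carrier := fun y => ⟨N, fun r hr => by
    rw [← map_smul]
    refine (hex _).2 ?_
    obtain ⟨c, hc⟩ := Ideal.mem_span_singleton'.1 (hN hr)
    refine ⟨(show R from c * (show R from y)), ?_⟩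
    show z * (c * (show R from y)) = r * (show R from y)
    rw [← hc]; ring⟩
  have hgam0 : ∀ v : R, v ∈ GrLC.gam (GrSyz.irrel 𝒜).toIdeal (RR).carrier → v = 0 := by
    rintro v ⟨n, hn⟩
    have h := hn (z ^ n) (Ideal.pow_mem_pow (mem_irrel_of_pos 𝒜 he hz) n)
    exact (hreg.pow n).right_eq_zero_of_smul h
  refine ⟨δ ∘ₗ εY.toLinearMap ∘ₗ LinearMap.codRestrict (GrLC.gam (GrSyz.irrel 𝒜).toIdeal Y.carrier) π hgam,
    fun y => ⟨fun hy => ?_, fun hy => ?_⟩⟩
  · obtain ⟨w, hw⟩ := (e2 _).1 (show δ (εY ⟨π y, hgam y⟩) = 0 from hy)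
    obtain ⟨v, rfl⟩ := εX.surjective w
    rw [show v = 0 from Subtype.ext (hgam0 v.1 v.2), map_zero, map_zero] at hw
    obtain ⟨w', hw'⟩ := (hex _).1 (show π y = 0 from congrArg Subtype.val (εY.injective (hw.symm.trans (map_zero εY).symm)))
    exact ⟨w', hw'⟩
  · obtain ⟨w, rfl⟩ := hy
    have h0' : π (z * w) = 0 := (hex _).2 ⟨w, rfl⟩
    show δ (εY ⟨π (z * w), hgam _⟩) = 0
    rw [show (⟨π (z * w), hgam _⟩ : GrLC.gam (GrSyz.irrel 𝒜).toIdeal Y.carrier) = 0 from Subtype.ext h0', map_zero, map_zero]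

include hpos h0 hr in
theorem exists_regular_form [LocCoh.IsCohenMacaulayRing R] :
    ∃ D₀ : ℕ, 0 < D₀ ∧ ∀ D : ℕ, 0 < D → D₀ ∣ D → ∃ z ∈ 𝒜 (D : ℤ), IsSMulRegular R z := by
  haveI := Algebra.FiniteType.isNoetherianRing k R
  have hrM : Module.supportDim R R = ((1 : ℕ) : WithBot ℕ∞) :=
    (Module.supportDim_self_eq_ringKrullDim (R := R)).trans (by rw [hr, Nat.cast_one])
  obtain ⟨D₀, hD₀, h⟩ := SegDim.exists_mod_params 𝒜 hpos h0 (addPieces 𝒜) 1 hrM
  refine ⟨D₀, hD₀, fun D hD hdvd => ?_⟩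
  obtain ⟨f, hf, -, hfin⟩ := h D hD hdvd
  refine ⟨f 0, hf 0, (isSMulRegular_iff_right_eq_zero_of_smul).2 fun w hw => ?_⟩
  by_contra hw0
  exact MvPolynomial.X_ne_zero (0 : Fin 1) (SegDim.free_of_isCM 𝒜 hpos h0 (addPieces 𝒜) hrM
    ((Seg.cmRing_iff R).1 inferInstance) f hfin hw0 (MvPolynomial.X 0) (by rwa [MvPolynomial.aeval_X]))

include hpos h0 in
theorem finite_piece (n : ℤ) : Module.Finite k (𝒜 n) := by
  haveI : Module.Finite k (pieceK 𝒜 (addPieces 𝒜) n) := GrLib8.finite_pieceK 𝒜 (addPieces 𝒜) hpos h0 n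
  exact Module.Finite.equiv
    (show pieceK 𝒜 (addPieces 𝒜) n ≃ₗ[k] 𝒜 n from
      { toFun := fun v => ⟨v.1, v.2⟩, invFun := fun v => ⟨v.1, v.2⟩, left_inv := fun _ => rfl
        right_inv := fun _ => rfl, map_add' := fun _ _ => rfl, map_smul' := fun _ _ => rfl })

include hpos h0 hr in
theorem finrank_mono [LocCoh.IsCohenMacaulayRing R]
    (hstd : Ideal.span (⋃ n ∈ Set.Ioi (0 : ℤ), (𝒜 n : Set R)) = Ideal.span ((𝒜 1 : Submodule k R) : Set R))
    (n : ℤ) (j : ℕ) : Module.finrank k (𝒜 n) ≤ Module.finrank k (𝒜 (n + j)) := by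
  induction j with
  | zero => exact le_of_eq (by rw [Nat.cast_zero, add_zero])
  | succ j ih =>
    refine ih.trans ?_
    have h := Groth.Agent.S18654.result R (addPieces 𝒜) (addPieces_eq_bot 𝒜 hpos) (isField_deg0_add 𝒜 h0) hstd hr.ge (n + j)
    let i : k →+* GrLC.deg0 (addPieces 𝒜) :=
      (algebraMap k R).codRestrict (GrLC.deg0 (addPieces 𝒜)) fun c => SetLike.algebraMap_mem_graded 𝒜 c
    have hi : Function.Bijective i := ⟨i.injective, fun w => by
      obtain ⟨c, hc⟩ := eq_algebraMap_of_mem_zero 𝒜 h0 w.2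
      exact ⟨c, Subtype.ext hc.symm⟩⟩
    have key : ∀ d, Module.finrank (GrLC.deg0 (addPieces 𝒜)) (GrLC.comp (addPieces 𝒜) (addPieces 𝒜) d) =
        Module.finrank k (𝒜 d) := fun d => by
      unfold Module.finrank
      rw [rank_eq_of_equiv_equiv i (show 𝒜 d ≃+ GrLC.comp (addPieces 𝒜) (addPieces 𝒜) d from
        { toFun := fun v => ⟨v.1, v.2⟩, invFun := fun v => ⟨v.1, v.2⟩, left_inv := fun _ => rfl
          right_inv := fun _ => rfl, map_add' := fun _ _ => rfl }) hi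
        (fun c v => Subtype.ext (Algebra.smul_def c v.1))]
    rw [key, key] at h
    rwa [show n + ((j + 1 : ℕ) : ℤ) = n + j + 1 by push_cast; ring]

/-- Multiplication by a form fills the target degree. -/
def Fills (z : R) (D n : ℤ) : Prop := ∀ y ∈ 𝒜 (n + D), ∃ w ∈ 𝒜 n, z * w = y

variable (hstd : Ideal.span (⋃ n ∈ Set.Ioi (0 : ℤ), (𝒜 n : Set R)) = Ideal.span ((𝒜 1 : Submodule k R) : Set R))

include hstd in
theorem fills_succ {z : R} {D n : ℤ} (hn : 0 ≤ n) (hD : 0 ≤ D) (h : Fills (𝒜 := 𝒜) z D n) : Fills (𝒜 := 𝒜) z D (n + 1) := by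
  intro y hy
  have h1 := StdMul.succ_le 𝒜 hstd (n + D) (by omega) (x := y) (by rwa [add_right_comm] at hy)
  refine AddSubgroup.closure_induction (p := fun y _ => ∃ w ∈ 𝒜 (n + 1), z * w = y) ?_ ⟨0, zero_mem _, mul_zero z⟩
    (fun a b _ _ ⟨a', ha, e1⟩ ⟨b', hb, e2⟩ => ⟨a' + b', add_mem ha hb, by rw [mul_add, e1, e2]⟩)
    (fun a _ ⟨a', ha, e1⟩ => ⟨-a', neg_mem ha, by rw [mul_neg, e1]⟩) h1
  rintro _ ⟨u, hu, v, hv, rfl⟩
  obtain ⟨w, hw, rfl⟩ := h u hu
  exact ⟨w * v, SetLike.mul_mem_graded hw hv, (mul_assoc z w v).symm⟩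

include hstd in
theorem fills_of_le {z : R} {D n n' : ℤ} (hn : 0 ≤ n) (hD : 0 ≤ D) (h : Fills (𝒜 := 𝒜) z D n) (hle : n ≤ n') :
    Fills (𝒜 := 𝒜) z D n' := by
  obtain ⟨j, rfl⟩ : ∃ j : ℕ, n' = n + j := ⟨(n' - n).toNat, by omega⟩
  clear hle
  induction j with
  | zero => simpa using h
  | succ j ih =>
    rw [show n + ((j + 1 : ℕ) : ℤ) = n + j + 1 by push_cast; ring]
    exact fills_succ hstd (by omega) hD ih

include hpos h0 hr hstd in
theorem exists_fills {z : R} {D : ℤ} (hD : 0 < D) (hz : z ∈ 𝒜 D) (hreg : IsSMulRegular R z) :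
    ∃ N : ℤ, 0 ≤ N ∧ Fills (𝒜 := 𝒜) z D N := by
  classical
  haveI := Algebra.FiniteType.isNoetherianRing k R
  obtain ⟨N, hN⟩ := Ideal.exists_pow_le_of_le_radical_of_fg (irrel_le_radical hpos h0 hr hz hreg)
    (IsNoetherian.noetherian _)
  have hpow : ∀ j : ℕ, ∀ y ∈ 𝒜 (j : ℤ), y ∈ (GrSyz.irrel 𝒜).toIdeal ^ j := by
    intro j
    induction j with
    | zero => intro y _; rw [pow_zero, Ideal.one_eq_top]; trivial
    | succ j ih =>
      intro y hy
      have h1 := StdMul.succ_le 𝒜 hstd (j : ℤ) (by omega) (x := y) (by exact_mod_cast hy)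
      refine AddSubgroup.closure_induction (p := fun y _ => y ∈ (GrSyz.irrel 𝒜).toIdeal ^ (j + 1)) ?_ (zero_mem _)
        (fun a b _ _ => add_mem) (fun a _ => neg_mem) h1
      rintro _ ⟨u, hu, v, hv, rfl⟩
      rw [pow_succ]
      exact Ideal.mul_mem_mul (ih u hu) (mem_irrel_of_pos 𝒜 one_pos hv)
  refine ⟨N, by omega, fun y hy => ?_⟩
  obtain ⟨j, hj⟩ : ∃ j : ℕ, ((j : ℤ)) = (N : ℤ) + D := ⟨((N : ℤ) + D).toNat, by omega⟩
  have hmem : y ∈ Ideal.span {z} :=
    hN (Ideal.pow_le_pow_right (by omega) (hpow j y (hj ▸ hy)))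
  obtain ⟨c, hc⟩ := Ideal.mem_span_singleton'.1 hmem
  refine ⟨(decompose 𝒜 c N : R), SetLike.coe_mem _, ?_⟩
  have h2 := decompose_of_mem_same 𝒜 hy
  rw [← hc, coe_decompose_mul_add_of_right_mem 𝒜 hz] at h2
  rw [mul_comm]
  exact h2.trans hc

include hpos h0 hr hstd in
/-- If the quotient is trivial in the degree of the form, the algebra is a polynomial ring. -/
theorem exists_gen_of_fills [LocCoh.IsCohenMacaulayRing R] {z : R} {D : ℕ} (hD : 0 < D) (hz : z ∈ 𝒜 (D : ℤ))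
    (hreg : IsSMulRegular R z) (h : Fills (𝒜 := 𝒜) z D 0) :
    ∃ x ∈ 𝒜 1, ∀ n : ℕ, x ^ n ≠ 0 ∧ ∀ y ∈ 𝒜 (n : ℤ), ∃ c : k, c • x ^ n = y := by
  classical
  haveI : ∀ n, Module.Finite k (𝒜 n) := finite_piece hpos h0
  have hone : Module.finrank k (𝒜 (0 : ℤ)) = 1 := by
    refine finrank_eq_one ⟨1, SetLike.one_mem_graded 𝒜⟩ (fun h' => one_ne_zero (congrArg Subtype.val h')) fun y => ?_
    obtain ⟨c, hc⟩ := eq_algebraMap_of_mem_zero 𝒜 h0 y.2
    exact ⟨c, Subtype.ext (by rw [hc, Algebra.algebraMap_eq_smul_one]; rfl)⟩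
  have hle : ∀ n : ℕ, Module.finrank k (𝒜 (n : ℤ)) ≤ 1 := by
    intro n
    induction n using Nat.strong_induction_on with
    | _ n ih =>
      rcases lt_or_ge n D with hn | hn
      · have h1 := finrank_mono hpos h0 hr hstd (n : ℤ) (D - n)
        rw [show (n : ℤ) + ((D - n : ℕ) : ℤ) = 0 + D by omega] at h1
        refine h1.trans ((LinearMap.finrank_le_finrank_of_injective (f :=
          (show 𝒜 ((0 : ℤ) + D) →ₗ[k] 𝒜 ((0 : ℤ) + D) from LinearMap.id)) Function.injective_id).trans ?_)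
        let μ : 𝒜 (0 : ℤ) →ₗ[k] 𝒜 ((0 : ℤ) + D) := LinearMap.codRestrict _
          ((LinearMap.mulLeft k z) ∘ₗ (𝒜 (0 : ℤ)).subtype) fun w => by
            rw [zero_add]
            have := SetLike.mul_mem_graded (A := 𝒜) hz w.2
            rwa [add_zero] at this
        have hμ : Function.Surjective μ := fun y => by
          obtain ⟨w, hw, e⟩ := h y.1 y.2
          exact ⟨⟨w, hw⟩, Subtype.ext e⟩
        exact (LinearMap.finrank_le_finrank_of_surjective hμ).trans hone.le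
      · obtain ⟨j, rfl⟩ : ∃ j, n = j + D := ⟨n - D, by omega⟩
        let μ : 𝒜 (j : ℤ) →ₗ[k] 𝒜 ((j + D : ℕ) : ℤ) := LinearMap.codRestrict _
          ((LinearMap.mulLeft k z) ∘ₗ (𝒜 (j : ℤ)).subtype) fun w => by
            push_cast
            rw [add_comm]
            exact SetLike.mul_mem_graded (A := 𝒜) hz w.2
        have hμ : Function.Surjective μ := fun y => by
          obtain ⟨w, hw, e⟩ := fills_of_le hstd le_rfl (by omega) h (by omega : (0 : ℤ) ≤ j) y.1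
            (by have := y.2; push_cast at this; exact this)
          exact ⟨⟨w, hw⟩, Subtype.ext e⟩
        exact (LinearMap.finrank_le_finrank_of_surjective hμ).trans (ih j (by omega))
  have hge : ∀ n : ℕ, 1 ≤ Module.finrank k (𝒜 (n : ℤ)) := fun n => by
    have h1 := finrank_mono hpos h0 hr hstd 0 n
    rwa [hone, zero_add] at h1
  obtain ⟨x, hx, hx0⟩ := Seg.exists_ne_zero_of_finrank (𝒜 1) (hge 1)
  have key : ∀ n : ℕ, ∀ y ∈ 𝒜 (n : ℤ), ∃ c : k, c • x ^ n = y := by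
    intro n
    induction n with
    | zero =>
      intro y hy
      obtain ⟨c, hc⟩ := eq_algebraMap_of_mem_zero 𝒜 h0 (show y ∈ 𝒜 0 by simpa using hy)
      exact ⟨c, by rw [pow_zero, hc, Algebra.algebraMap_eq_smul_one]⟩
    | succ n ih =>
      intro y hy
      have h1 := StdMul.succ_le 𝒜 hstd (n : ℤ) (by omega) (x := y) (by exact_mod_cast hy)
      refine AddSubgroup.closure_induction (p := fun y _ => ∃ c : k, c • x ^ (n + 1) = y) ?_ ⟨0, zero_smul _ _⟩
        (fun a b _ _ ⟨ca, ea⟩ ⟨cb, eb⟩ => ⟨ca + cb, by rw [add_smul, ea, eb]⟩)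
        (fun a _ ⟨ca, ea⟩ => ⟨-ca, by rw [neg_smul, ea]⟩) h1
      rintro _ ⟨u, hu, v, hv, rfl⟩
      obtain ⟨cu, rfl⟩ := ih u hu
      obtain ⟨cv, hcv⟩ := exists_smul_eq_of_finrank_eq_one (le_antisymm (hle 1) (hge 1))
        (show (⟨x, hx⟩ : 𝒜 ((1 : ℕ) : ℤ)) ≠ 0 from fun h' => hx0 (congrArg Subtype.val h')) ⟨v, hv⟩
      have hcv' : cv • x = v := congrArg Subtype.val hcv
      exact ⟨cu * cv, by rw [← hcv', pow_succ, smul_mul_smul_comm]⟩
  refine ⟨x, hx, fun n => ⟨fun hn => ?_, key n⟩⟩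
  obtain ⟨y, hy, hy0⟩ := Seg.exists_ne_zero_of_finrank (𝒜 (n : ℤ)) (hge n)
  obtain ⟨c, hc⟩ := key n y hy
  exact hy0 (by rw [← hc, hn, smul_zero])

include hpos in
/-- A polynomial ring, from a generator of all pieces. -/
theorem nonempty_polynomial_of_gen {x : R} (hx : x ∈ 𝒜 1)
    (h : ∀ n : ℕ, x ^ n ≠ 0 ∧ ∀ y ∈ 𝒜 (n : ℤ), ∃ c : k, c • x ^ n = y) :
    ∃ e : R ≃ₐ[k] Polynomial k, e x = Polynomial.X := by
  classical
  have hxn : ∀ n : ℕ, x ^ n ∈ 𝒜 (n : ℤ) := fun n => by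
    have := SetLike.pow_mem_graded (A := 𝒜) n hx
    rwa [nsmul_eq_mul, mul_one] at this
  let φ : Polynomial k →ₐ[k] R := Polynomial.aeval x
  have hbij : Function.Bijective φ := by
    refine ⟨(injective_iff_map_eq_zero φ).2 fun p hp => Polynomial.ext fun n => ?_, fun y => ?_⟩
    · have h1 := congrArg (fun v => (decompose 𝒜 v (n : ℤ) : R)) hp
      simp only [φ, Polynomial.aeval_eq_sum_range] at h1
      rw [decompose_sum, DFinsupp.finsetSum_apply, AddSubmonoidClass.coe_finsetSum, decompose_zero,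
        DirectSum.zero_apply, ZeroMemClass.coe_zero] at h1
      rw [Finset.sum_eq_single n (fun i _ hi => decompose_of_mem_ne 𝒜 (Submodule.smul_mem _ _ (hxn i))
          (by exact_mod_cast hi)) (fun hn => by
          rw [Polynomial.coeff_eq_zero_of_natDegree_lt (by simpa using hn), zero_smul]; simp),
        decompose_of_mem_same 𝒜 (Submodule.smul_mem _ _ (hxn n))] at h1
      rw [Polynomial.coeff_zero]
      exact (smul_eq_zero.1 h1).resolve_right (h n).1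
    · induction y using DirectSum.Decomposition.inductionOn 𝒜 with
      | zero => exact ⟨0, map_zero φ⟩
      | add a b ha hb =>
        obtain ⟨p, rfl⟩ := ha
        obtain ⟨q, rfl⟩ := hb
        exact ⟨p + q, map_add φ p q⟩
      | @homogeneous i y =>
        rcases lt_or_ge i 0 with hi | hi
        · exact ⟨0, by rw [map_zero, Seg.nonneg_of_eq_bot 𝒜 hpos i hi _ y.2]⟩
        · lift i to ℕ using hi
          obtain ⟨c, hc⟩ := (h i).2 _ y.2
          exact ⟨c • Polynomial.X ^ i, by rw [map_smul, map_pow, show φ Polynomial.X = x from Polynomial.aeval_X x, hc]⟩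
  refine ⟨(AlgEquiv.ofBijective φ hbij).symm, ?_⟩
  rw [AlgEquiv.symm_apply_eq]
  exact (Polynomial.aeval_X x).symm

end One

section Two

variable {R S T : Type u} [CommRing R] [CommRing S] [CommRing T] [Algebra k R] [Algebra k S] [Algebra k T]
  [Algebra.FiniteType k R] [Algebra.FiniteType k S]
  {𝒜 : ℤ → Submodule k R} [GradedAlgebra 𝒜] {ℬ : ℤ → Submodule k S} [GradedAlgebra ℬ]
  {𝒯 : ℤ → Submodule k T} [GradedAlgebra 𝒯] {ψ : T →ₐ[k] R ⊗[k] S}
  (hT : GrSeg.IsSegreRing 𝒜 ℬ 𝒯 ψ) (hposR : ∀ n : ℤ, n < 0 → 𝒜 n = ⊥) (h0R : 𝒜 0 = Submodule.span k {(1 : R)})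
  (hposS : ∀ n : ℤ, n < 0 → ℬ n = ⊥) (h0S : ℬ 0 = Submodule.span k {(1 : S)})
  (hstdR : Ideal.span (⋃ n ∈ Set.Ioi (0 : ℤ), (𝒜 n : Set R)) = Ideal.span ((𝒜 1 : Submodule k R) : Set R))
  (hstdS : Ideal.span (⋃ n ∈ Set.Ioi (0 : ℤ), (ℬ n : Set S)) = Ideal.span ((ℬ 1 : Submodule k S) : Set S))

include hT in
theorem finrank_segre_piece (n : ℤ) :
    Module.finrank k (𝒯 n) = Module.finrank k (𝒜 n) * Module.finrank k (ℬ n) := by
  rw [← Module.finrank_tensorProduct, (Submodule.equivMapOfInjective ψ.toLinearMap hT.1 (𝒯 n)).finrank_eq,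
    ← LinearMap.finrank_range_of_inj (TensorProduct.map_injective_of_flat_flat (𝒜 n).subtype (ℬ n).subtype
      Subtype.val_injective Subtype.val_injective)]
  refine congrArg (fun W : Submodule k (R ⊗[k] S) => Module.finrank k W) ((hT.2 n).trans ?_)
  refine le_antisymm (Submodule.span_le.2 ?_) ?_
  · rintro _ ⟨a, ha, b, hb, rfl⟩
    exact ⟨(⟨a, ha⟩ : 𝒜 n) ⊗ₜ[k] (⟨b, hb⟩ : ℬ n), TensorProduct.map_tmul _ _ _ _⟩
  · rintro _ ⟨w, rfl⟩
    induction w using TensorProduct.induction_on with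
    | zero => rw [map_zero]; exact zero_mem _
    | add a b ha hb => rw [map_add]; exact add_mem ha hb
    | tmul a b => exact Submodule.subset_span ⟨a, a.2, b, b.2, TensorProduct.map_tmul _ _ _ _⟩

include hT hposR in
/-- With a polynomial ring as second factor the Segre product is the first factor. -/
theorem nonempty_ringEquiv_of_gen [Nontrivial S] {x : S} (hx : x ∈ ℬ 1) (hposS : ∀ n : ℤ, n < 0 → ℬ n = ⊥)
    (h : ∀ n : ℕ, x ^ n ≠ 0 ∧ ∀ y ∈ ℬ (n : ℤ), ∃ c : k, c • x ^ n = y) : Nonempty (T ≃+* R) := by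
  classical
  have hposT := Seg.segre_pos hT hposR
  obtain ⟨e, he⟩ := nonempty_polynomial_of_gen hposS hx h
  let ε : S →ₐ[k] k := (Polynomial.aeval (1 : k)).comp e.toAlgHom
  let π : R ⊗[k] S →ₐ[k] R := Algebra.TensorProduct.lift (AlgHom.id k R) ((Algebra.ofId k R).comp ε) fun _ _ => Commute.all _ _
  have hπ : ∀ (n : ℕ) (a : R), π (a ⊗ₜ[k] (x ^ n)) = a := fun n a => by
    simp [π, ε, he]
  have hform : ∀ (n : ℕ) (t : T), t ∈ 𝒯 (n : ℤ) → ∃ a ∈ 𝒜 (n : ℤ), ψ t = a ⊗ₜ[k] (x ^ n) := by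
    intro n t ht
    have hmem : ψ t ∈ GrSeg.segrePiece k 𝒜 ℬ (n : ℤ) := (hT.2 _).le ⟨t, ht, rfl⟩
    generalize ψ t = w at hmem ⊢
    induction hmem using Submodule.span_induction with
    | mem w hw =>
      obtain ⟨a, ha, b, hb, rfl⟩ := hw
      obtain ⟨c, rfl⟩ := (h n).2 b hb
      exact ⟨c • a, Submodule.smul_mem _ c ha, by rw [TensorProduct.tmul_smul, TensorProduct.smul_tmul']⟩
    | zero => exact ⟨0, zero_mem _, (TensorProduct.zero_tmul _ _).symm⟩
    | add v v' _ _ hv hv' =>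
      obtain ⟨a, ha, rfl⟩ := hv
      obtain ⟨a', ha', rfl⟩ := hv'
      exact ⟨a + a', add_mem ha ha', (TensorProduct.add_tmul _ _ _).symm⟩
    | smul c v _ hv =>
      obtain ⟨a, ha, rfl⟩ := hv
      exact ⟨c • a, Submodule.smul_mem _ c ha, TensorProduct.smul_tmul' _ _ _⟩
  have hdeg : ∀ (i : ℤ) (t : T), t ∈ 𝒯 i → π (ψ t) ∈ 𝒜 i ∧ (π (ψ t) = 0 → t = 0) := by
    intro i t ht
    rcases lt_or_ge i 0 with hi | hi
    · rw [Seg.nonneg_of_eq_bot 𝒯 hposT i hi t ht, map_zero, map_zero]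
      exact ⟨zero_mem _, fun _ => rfl⟩
    · lift i to ℕ using hi
      obtain ⟨a, ha, e⟩ := hform i t ht
      rw [e, hπ]
      exact ⟨ha, fun h' => hT.1 (by rw [e, h', TensorProduct.zero_tmul, map_zero])⟩
  refine ⟨RingEquiv.ofBijective (π.comp ψ).toRingHom ⟨(injective_iff_map_eq_zero _).2 fun t ht => ?_, fun a => ?_⟩⟩
  · rw [← sum_support_decompose 𝒯 t]
    refine Finset.sum_eq_zero fun i hi => (hdeg i _ (SetLike.coe_mem _)).2 ?_
    have h1 := congrArg (fun v => (decompose 𝒜 v i : R)) ht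
    change (decompose 𝒜 (π (ψ t)) i : R) = (decompose 𝒜 (0 : R) i : R) at h1
    rw [← sum_support_decompose 𝒯 t, map_sum, map_sum, decompose_sum, DFinsupp.finsetSum_apply,
      AddSubmonoidClass.coe_finsetSum, decompose_zero, DirectSum.zero_apply, ZeroMemClass.coe_zero,
      Finset.sum_eq_single i (fun j _ hj => decompose_of_mem_ne 𝒜 (hdeg j _ (SetLike.coe_mem _)).1 hj)
        (fun h' => absurd hi h'), decompose_of_mem_same 𝒜 (hdeg i _ (SetLike.coe_mem _)).1] at h1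
    exact h1
  · induction a using DirectSum.Decomposition.inductionOn 𝒜 with
    | zero => exact ⟨0, map_zero _⟩
    | add a b ha hb =>
      obtain ⟨t, rfl⟩ := ha
      obtain ⟨t', rfl⟩ := hb
      exact ⟨t + t', map_add _ _ _⟩
    | @homogeneous i a =>
      rcases lt_or_ge i 0 with hi | hi
      · exact ⟨0, by rw [map_zero, Seg.nonneg_of_eq_bot 𝒜 hposR i hi _ a.2]⟩
      · lift i to ℕ using hi
        have hxi : x ^ i ∈ ℬ (i : ℤ) := by
          have := SetLike.pow_mem_graded (A := ℬ) i hx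
          rwa [nsmul_eq_mul, mul_one] at this
        obtain ⟨t, -, ht⟩ := (hT.2 (i : ℤ)).ge (Submodule.subset_span ⟨a.1, a.2, x ^ i, hxi, rfl⟩)
        refine ⟨t, ?_⟩
        show π (ψ t) = a
        rw [show ψ t = (a : R) ⊗ₜ[k] (x ^ i) from ht, hπ]

include hT hposR h0R hposS h0S hstdR hstdS in
/-- A Gorenstein Segre product of one-dimensional standard Cohen-Macaulay algebras. -/
theorem gorenstein_dim_one [LocCoh.IsCohenMacaulayRing R] [LocCoh.IsCohenMacaulayRing S] [LocCoh.IsGorensteinRing T]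
    (hr : ringKrullDim R = 1) (hs : ringKrullDim S = 1) (hR : IsEmpty (R ≃ₐ[k] Polynomial k)) :
    Nonempty (S ≃ₐ[k] Polynomial k) ∧ LocCoh.IsGorensteinRing R := by
  classical
  haveI := Seg.nontrivial_of_dim (n := 1) (A := R) (by rw [hr, Nat.cast_one])
  haveI := Seg.nontrivial_of_dim (n := 1) (A := S) (by rw [hs, Nat.cast_one])
  have hdim := Groth.Agent.S18647.result k R 𝒜 hposR h0R S ℬ hposS h0S T 𝒯 ψ hT.1 hT.2 1 1
    (by rw [hr, Nat.cast_one]) (by rw [hs, Nat.cast_one]) le_rfl le_rfl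
  haveI := Seg.nontrivial_of_dim hdim
  have hposT := Seg.segre_pos hT hposR
  have h0T := Seg.segre_deg_zero hT h0R h0S
  haveI : IsNoetherianRing T := Seg.isNoetherianRing_segre 𝒜 ℬ 𝒯 ψ hT
  haveI := Seg.finiteType_of_noetherian 𝒯 hposT h0T
  obtain ⟨D₁, hD₁, hreg₁⟩ := exists_regular_form hposR h0R hr
  obtain ⟨D₂, hD₂, hreg₂⟩ := exists_regular_form hposS h0S hs
  have hD : 0 < D₁ * D₂ := Nat.mul_pos hD₁ hD₂
  obtain ⟨f, hf, hfr⟩ := hreg₁ _ hD (dvd_mul_right _ _)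
  obtain ⟨g, hg, hgr⟩ := hreg₂ _ hD (dvd_mul_left _ _)
  generalize hDdef : D₁ * D₂ = D at hD hf hg
  by_cases hS0 : Fills (𝒜 := ℬ) g D 0
  · obtain ⟨x, hx, hgen⟩ := exists_gen_of_fills hposS h0S hs hstdS hD hg hgr hS0
    obtain ⟨e, -⟩ := nonempty_polynomial_of_gen hposS hx hgen
    obtain ⟨E⟩ := nonempty_ringEquiv_of_gen hT hposR hx hposS hgen
    exact ⟨⟨e⟩, LC.gorensteinRing_of_ringEquiv E inferInstance⟩
  exfalso
  have hR0 : ¬ Fills (𝒜 := 𝒜) f D 0 := fun h => by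
    obtain ⟨x, hx, hgen⟩ := exists_gen_of_fills hposR h0R hr hstdR hD hf hfr h
    obtain ⟨e, -⟩ := nonempty_polynomial_of_gen hposR hx hgen
    exact hR.false e
  -- the last degree where one of the two forms does not fill
  obtain ⟨n, hn, hfill⟩ : ∃ n : ℕ, ¬ (Fills (𝒜 := 𝒜) f D n ∧ Fills (𝒜 := ℬ) g D n) ∧
      ∀ n' : ℤ, (n : ℤ) < n' → Fills (𝒜 := 𝒜) f D n' ∧ Fills (𝒜 := ℬ) g D n' := by
    obtain ⟨N₁, hN₁, hF₁⟩ := exists_fills hposR h0R hr hstdR (by exact_mod_cast hD) hf hfr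
    obtain ⟨N₂, hN₂, hF₂⟩ := exists_fills hposS h0S hs hstdS (by exact_mod_cast hD) hg hgr
    have hP : ∃ j : ℕ, Fills (𝒜 := 𝒜) f D j ∧ Fills (𝒜 := ℬ) g D j :=
      ⟨(max N₁ N₂).toNat, fills_of_le hstdR hN₁ (by omega) hF₁ (by omega), fills_of_le hstdS hN₂ (by omega) hF₂ (by omega)⟩
    have hpos : 0 < Nat.find hP := by
      rcases Nat.eq_zero_or_pos (Nat.find hP) with h | h
      · have := Nat.find_spec hP
        rw [h] at this
        exact absurd (by simpa using this.1) hR0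
      · exact h
    refine ⟨Nat.find hP - 1, Nat.find_min hP (by omega), fun n' hn' => ?_⟩
    exact ⟨fills_of_le hstdR (by omega) (by omega) (Nat.find_spec hP).1 (by omega),
      fills_of_le hstdS (by omega) (by omega) (Nat.find_spec hP).2 (by omega)⟩
  -- the form on the product
  obtain ⟨t, ht, htψ⟩ := (hT.2 (D : ℤ)).ge (Submodule.subset_span ⟨f, hf, g, hg, rfl⟩)
  have htψ' : ψ t = f ⊗ₜ[k] g := htψ
  have htreg : IsSMulRegular T t := by
    refine (isSMulRegular_iff_right_eq_zero_of_smul).2 fun w hw => hT.1 ?_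
    have hinj := TensorProduct.map_injective_of_flat_flat (LinearMap.mulLeft k f) (LinearMap.mulLeft k g) hfr hgr
    have hmul : ∀ v, TensorProduct.map (LinearMap.mulLeft k f) (LinearMap.mulLeft k g) v = (f ⊗ₜ[k] g) * v := fun v => by
      induction v using TensorProduct.induction_on with
      | zero => simp
      | add a b ha hb => rw [map_add, ha, hb, mul_add]
      | tmul a b => simp
    refine (hinj (a₂ := 0) ?_).trans (map_zero ψ).symm
    rw [hmul, map_zero, ← htψ', ← map_mul]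
    exact (congrArg ψ hw).trans (map_zero ψ)
  let IT := starRes (𝒜 := 𝒯) 𝒯
  have hr1 : ringKrullDim T = 1 := by rw [hdim]; rfl
  obtain ⟨L, hL⟩ := exists_L hposT h0T hr1 IT (e := (D : ℤ)) (by exact_mod_cast hD) ht htreg
  haveI := Seg.isMaximal_irrel' hposT h0T
  have hsimple := GorSocle.simpleSoc IT (Seg.height_irrel' hposT h0T (by rw [hr1, Nat.cast_one] : ringKrullDim T = (1 : ℕ)))
    (LocCoh.IsGorensteinRing.isGorensteinLocalRing_localization (A := T) (GrSyz.irrel 𝒯).toIdeal)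
  -- the whole top degree maps into the socle
  have hsoc : ∀ u ∈ 𝒯 ((n : ℤ) + D), L u ∈ LocCoh.torsionBy (GrSyz.irrel 𝒯).toIdeal (IT.H (GrSyz.irrel 𝒯) 1) := by
    intro u hu
    refine Seg.mem_soc_of_pos hposT (d := 0) fun i hi t' ht' => ?_
    rw [← map_smul, smul_eq_mul, hL]
    obtain ⟨hF, hG⟩ := hfill ((n : ℤ) + i) (by omega)
    have hmem : ψ (t' * u) ∈ GrSeg.segrePiece k 𝒜 ℬ ((n : ℤ) + i + D) :=
      (hT.2 _).le ⟨t' * u, by rw [show (n : ℤ) + i + D = i + (n + D) by ring]; exact SetLike.mul_mem_graded ht' hu, rfl⟩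
    suffices key : ∀ v ∈ GrSeg.segrePiece k 𝒜 ℬ ((n : ℤ) + i + D), ∃ w, ψ (t * w) = v by
      obtain ⟨w, hw⟩ := key _ hmem
      exact ⟨w, hT.1 hw⟩
    intro v hv
    induction hv using Submodule.span_induction with
    | mem v hv =>
      obtain ⟨a, ha, b, hb, rfl⟩ := hv
      obtain ⟨a', ha', rfl⟩ := hF a ha
      obtain ⟨b', hb', rfl⟩ := hG b hb
      obtain ⟨w, -, hw⟩ := (hT.2 _).ge (Submodule.subset_span ⟨a', ha', b', hb', rfl⟩)
      exact ⟨w, by rw [map_mul, htψ', show ψ w = a' ⊗ₜ[k] b' from hw, Algebra.TensorProduct.tmul_mul_tmul]⟩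
    | zero => exact ⟨0, by rw [mul_zero, map_zero]⟩
    | add a b _ _ ha hb =>
      obtain ⟨wa, ea⟩ := ha
      obtain ⟨wb, eb⟩ := hb
      exact ⟨wa + wb, by rw [mul_add, map_add, ea, eb]⟩
    | smul c a _ ha =>
      obtain ⟨w, e⟩ := ha
      exact ⟨c • w, by rw [mul_smul_comm, map_smul, e]⟩
  haveI : ∀ j, Module.Finite k (𝒯 j) := finite_piece hposT h0T
  haveI : ∀ j, Module.Finite k (𝒜 j) := finite_piece hposR h0R
  haveI : ∀ j, Module.Finite k (ℬ j) := finite_piece hposS h0S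
  let Lk : 𝒯 ((n : ℤ) + D) →ₗ[k] (Seg.HR IT 1).carrier :=
    (show T →ₗ[k] (Seg.HR IT 1).carrier from
      { toFun := fun u => L u
        map_add' := fun a b => map_add L a b
        map_smul' := fun c a => (congrArg L (Algebra.smul_def c a)).trans (map_smul L (algebraMap k T c) a) }) ∘ₗ
      (𝒯 ((n : ℤ) + D)).subtype
  have hrange : Module.finrank k (LinearMap.range Lk) ≤ 1 := by
    by_cases hall : ∀ u, Lk u = 0
    · rw [show Lk = 0 from LinearMap.ext hall, LinearMap.range_zero, finrank_bot]; omega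
    push Not at hall
    obtain ⟨u, hu⟩ := hall
    refine finrank_le_one (⟨Lk u, u, rfl⟩ : LinearMap.range Lk) ?_
    rintro ⟨_, u', rfl⟩
    obtain ⟨c, hc⟩ := Submodule.mem_span_singleton.1 (hsimple _ (hsoc u.1 u.2) hu (hsoc u'.1 u'.2))
    obtain ⟨c', hc'⟩ := Seg.exists_scalar hposT h0T c (hsoc u.1 u.2)
    exact ⟨c', Subtype.ext (hc'.symm.trans hc)⟩
  have hker : Module.finrank k (LinearMap.ker Lk) ≤ Module.finrank k (𝒯 (n : ℤ)) := by
    let μ : 𝒯 (n : ℤ) →ₗ[k] 𝒯 ((n : ℤ) + D) := LinearMap.codRestrict _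
      ((LinearMap.mulLeft k t) ∘ₗ (𝒯 (n : ℤ)).subtype) fun w => by
        rw [add_comm]
        exact SetLike.mul_mem_graded (A := 𝒯) ht w.2
    refine (Submodule.finrank_mono (show LinearMap.ker Lk ≤ LinearMap.range μ from fun u hu => ?_)).trans
      (LinearMap.finrank_range_le μ)
    obtain ⟨w, hw⟩ := (hL u.1).1 (LinearMap.mem_ker.1 hu)
    refine ⟨⟨(decompose 𝒯 w n : T), SetLike.coe_mem _⟩, Subtype.ext ?_⟩
    show t * (decompose 𝒯 w n : T) = u.1
    have h2 := decompose_of_mem_same 𝒯 u.2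
    rw [← hw, add_comm, coe_decompose_mul_add_of_left_mem 𝒯 ht] at h2
    exact h2.trans hw
  have hcount : Module.finrank k (𝒯 ((n : ℤ) + D)) ≤ Module.finrank k (𝒯 (n : ℤ)) + 1 := by
    have := Lk.finrank_range_add_finrank_ker
    omega
  rw [finrank_segre_piece hT, finrank_segre_piece hT] at hcount
  -- dimension growth
  have key : ∀ {A : Type u} [CommRing A] [Nontrivial A] [Algebra k A] [Algebra.FiniteType k A]
      [LocCoh.IsCohenMacaulayRing A] {𝒢 : ℤ → Submodule k A} [GradedAlgebra 𝒢] (_ : ∀ n : ℤ, n < 0 → 𝒢 n = ⊥)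
      (_ : 𝒢 0 = Submodule.span k {(1 : A)}) (_ : ringKrullDim A = 1)
      (_ : Ideal.span (⋃ n ∈ Set.Ioi (0 : ℤ), (𝒢 n : Set A)) = Ideal.span ((𝒢 1 : Submodule k A) : Set A))
      {z : A} (_ : z ∈ 𝒢 (D : ℤ)) (_ : IsSMulRegular A z),
      Module.finrank k (𝒢 (n : ℤ)) ≤ Module.finrank k (𝒢 ((n : ℤ) + D)) ∧
        (¬ Fills (𝒜 := 𝒢) z D n → Module.finrank k (𝒢 (n : ℤ)) < Module.finrank k (𝒢 ((n : ℤ) + D))) ∧
        (¬ Fills (𝒜 := 𝒢) z D 0 → 2 ≤ Module.finrank k (𝒢 ((n : ℤ) + D))) := by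
    intro A _ _ _ _ _ 𝒢 _ hp hz0 hdimA hstd z hz hreg
    haveI : ∀ j, Module.Finite k (𝒢 j) := finite_piece hp hz0
    have main : ∀ j : ℤ, ∃ μ : 𝒢 j →ₗ[k] 𝒢 (j + D), Function.Injective μ ∧ (Function.Surjective μ → Fills (𝒜 := 𝒢) z D j) := by
      intro j
      let μ : 𝒢 j →ₗ[k] 𝒢 (j + D) := LinearMap.codRestrict _
        ((LinearMap.mulLeft k z) ∘ₗ (𝒢 j).subtype) fun w => by
          rw [add_comm]
          exact SetLike.mul_mem_graded (A := 𝒢) hz w.2
      refine ⟨μ, fun a b h => Subtype.ext (hreg (congrArg Subtype.val h)), fun hs y hy => ?_⟩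
      obtain ⟨w, hw⟩ := hs ⟨y, hy⟩
      exact ⟨w.1, w.2, congrArg Subtype.val hw⟩
    have lt_of : ∀ j : ℤ, ¬ Fills (𝒜 := 𝒢) z D j → Module.finrank k (𝒢 j) < Module.finrank k (𝒢 (j + D)) := by
      intro j hj
      obtain ⟨μ, hμ, hμs⟩ := main j
      refine lt_of_le_of_ne (LinearMap.finrank_le_finrank_of_injective hμ) fun he => hj (hμs ?_)
      exact (LinearMap.injective_iff_surjective_of_finrank_eq_finrank he).1 hμ
    refine ⟨?_, lt_of n, fun h0' => ?_⟩
    · obtain ⟨μ, hμ, -⟩ := main n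
      exact LinearMap.finrank_le_finrank_of_injective hμ
    · have h1 := lt_of 0 h0'
      have h2 := finrank_mono hp hz0 hdimA hstd ((0 : ℤ) + D) n
      rw [show (0 : ℤ) + D + n = n + D by ring] at h2
      have h3 : 1 ≤ Module.finrank k (𝒢 (0 : ℤ)) := by
        haveI : Nontrivial (𝒢 (0 : ℤ)) :=
          nontrivial_of_ne ⟨1, SetLike.one_mem_graded 𝒢⟩ 0 fun h => one_ne_zero (congrArg Subtype.val h)
        exact Module.finrank_pos
      omega
  obtain ⟨hR1, hR2, hR3⟩ := key hposR h0R hr hstdR hf hfr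
  obtain ⟨hS1, hS2, hS3⟩ := key hposS h0S hs hstdS hg hgr
  have hR3' := hR3 hR0
  have hS3' := hS3 hS0
  rcases not_and_or.1 hn with h | h
  · have := hR2 h
    nlinarith
  · have := hS2 h
    nlinarith

end Two

end Groth.Agent.GrLib8.DimOne
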