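import Groth.Agent.GrLib8.VeroMap
import Groth.Agent.GrLib8.StdMul
import Groth.Agent.GrLib8.InjDim
import Groth.Agent.LC.ExtHom
import Groth.Agent.LC.Liaison

/-!
# Gorenstein Veronese subrings and their type
-/

set_option autoImplicit false
set_option linter.unusedSectionVars false
set_option linter.style.haveILetI false
set_option maxHeartbeats 1600000

universe u v w x

open DirectSum CategoryTheory

namespace Groth.Agent.GrLib8.VeroGor

/-- Length through an additive equivalence preserving the submodules. -/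
theorem length_eq_of_addEquiv {A : Type u} {B : Type v} [CommRing A] [CommRing B] {X : Type w} {Y : Type x}
    [AddCommGroup X] [Module A X] [AddCommGroup Y] [Module B Y] (e : X ≃+ Y)
    (h1 : ∀ (a : A) x, ∃ b : B, e (a • x) = b • e x) (h2 : ∀ (b : B) y, ∃ a : A, e.symm (b • y) = a • e.symm y) :
    Module.length A X = Module.length B Y := by
  refine WithBot.coe_injective ?_
  rw [Module.coe_length, Module.coe_length]
  refine Order.krullDim_eq_of_orderIso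
    { toFun := fun N => ⟨N.toAddSubgroup.toAddSubmonoid.map e.toAddMonoidHom, ?_⟩
      invFun := fun N => ⟨N.toAddSubgroup.toAddSubmonoid.map e.symm.toAddMonoidHom, ?_⟩
      left_inv := fun N => ?_
      right_inv := fun N => ?_
      map_rel_iff' := ?_ }
  · rintro b _ ⟨x, hx, rfl⟩
    obtain ⟨a, ha⟩ := h2 b (e x)
    rw [e.symm_apply_apply] at ha
    exact ⟨a • x, N.smul_mem a hx, (congrArg e ha).symm.trans (e.apply_symm_apply _)⟩
  · rintro a _ ⟨y, hy, rfl⟩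
    obtain ⟨b, hb⟩ := h1 a (e.symm y)
    rw [e.apply_symm_apply] at hb
    exact ⟨b • y, N.smul_mem b hy, (congrArg e.symm hb).symm.trans (e.symm_apply_apply _)⟩
  · ext x
    constructor
    · rintro ⟨_, ⟨z, hz, rfl⟩, rfl⟩
      simpa using hz
    · exact fun hx => ⟨e x, ⟨x, hx, rfl⟩, e.symm_apply_apply x⟩
  · ext x
    constructor
    · rintro ⟨_, ⟨z, hz, rfl⟩, rfl⟩
      simpa using hz
    · exact fun hx => ⟨e.symm x, ⟨x, hx, rfl⟩, e.apply_symm_apply x⟩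
  · intro N P
    constructor
    · intro h x hx
      obtain ⟨z, hz, hzx⟩ := h (show e x ∈ _ from ⟨x, hx, rfl⟩)
      rwa [← e.injective hzx]
    · rintro h _ ⟨x, hx, rfl⟩
      exact ⟨x, h hx, rfl⟩

/-- The Bass number at a maximal ideal as the length of a socle. -/
theorem bassNum_eq_length_soc {R : Type u} [CommRing R] [IsNoetherianRing R] (J : Ideal R) [J.IsMaximal] (n : ℕ)
    (hlow : ∀ i < n, Subsingleton (LocCoh.H J i R)) {H : Type u} [AddCommGroup H] [Module R H]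
    (h : H ≃ₗ[R] LocCoh.H J n R) :
    GrLC.bassNum J R n = Module.length R (LocCoh.torsionBy J H) := by
  classical
  let A := Localization.AtPrime J
  let S := J.primeCompl
  have hJF : LocCoh.IsPowerTorsion J (R ⧸ J) := fun z => ⟨1, fun r hr => by
    rw [pow_one] at hr
    obtain ⟨z, rfl⟩ := Ideal.Quotient.mk_surjective z
    exact Ideal.Quotient.eq_zero_iff_mem.2 (J.mul_mem_right z hr)⟩
  obtain ⟨E⟩ := LC.nonempty_ext_linearEquiv_hom (I := J) (n := n) (M := ModuleCat.of R R)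
    (LC.prevVanish_of_H (fun i hi => hlow i hi)) (R ⧸ J) hJF
  let T := LocCoh.torsionBy J H
  have hone : ∀ z : R ⧸ J, ∃ r : R, z = r • (Ideal.Quotient.mk J 1) := fun z => by
    obtain ⟨r, rfl⟩ := Ideal.Quotient.mk_surjective z
    exact ⟨r, by rw [← Ideal.Quotient.mk_eq_mk, ← Ideal.Quotient.mk_eq_mk, ← Submodule.Quotient.mk_smul, smul_eq_mul, mul_one]⟩
  let G₁ : Abelian.Ext (ModuleCat.of R (R ⧸ J)) (ModuleCat.of R R) n →ₗ[R] T :=
    LinearMap.codRestrict T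
      (h.symm.toLinearMap ∘ₗ (LinearMap.applyₗ (Ideal.Quotient.mk J 1)) ∘ₗ E.toLinearMap) fun z => mem_soc_iff.2 fun a ha => by
        show a • h.symm (E z (Ideal.Quotient.mk J 1)) = 0
        rw [← map_smul, ← map_smul]
        have : a • (Ideal.Quotient.mk J 1) = 0 := Ideal.Quotient.eq_zero_iff_mem.2 (J.mul_mem_right 1 ha)
        rw [this, map_zero, map_zero]
  have hG : Function.Bijective G₁ := by
    refine ⟨(injective_iff_map_eq_zero G₁).2 fun z hz => E.map_eq_zero_iff.1 (LinearMap.ext fun x => ?_), fun t => ?_⟩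
    · obtain ⟨r, rfl⟩ := hone x
      rw [map_smul, show E z (Ideal.Quotient.mk J 1) = 0 from
        h.symm.map_eq_zero_iff.1 (congrArg Subtype.val hz), smul_zero]
      rfl
    · have ht : ∀ a ∈ J, a • h (t : H) = 0 := fun a ha => by rw [← map_smul, mem_soc_iff.1 t.2 a ha, map_zero]
      refine ⟨E.symm (Submodule.liftQ J (LinearMap.toSpanSingleton R _ (h (t : H))) fun a ha => ht a ha), Subtype.ext ?_⟩
      show h.symm (E (E.symm _) (Ideal.Quotient.mk J 1)) = (t : H)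
      rw [E.apply_symm_apply, ← Ideal.Quotient.mk_eq_mk, Submodule.liftQ_apply, LinearMap.toSpanSingleton_apply,
        one_smul, h.symm_apply_apply]
  let G := LinearEquiv.ofBijective G₁ hG
  have hT : ∀ (t : T) (a : R), a ∈ J → a • t = 0 := fun t a ha => Subtype.ext (mem_soc_iff.1 t.2 a ha)
  have hTt : LocCoh.IsPowerTorsion J T := fun t => ⟨1, fun a ha => hT t a (by rwa [pow_one] at ha)⟩
  let L := LinearEquiv.ofBijective _ (bijective_mk_of_torsion J hTt)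
  rw [bass_eq_length]
  have e2 := (IsLocalizedModule.mapEquiv S (LocalizedModule.mkLinearMap S _) (LocalizedModule.mkLinearMap S T)
    (Localization.AtPrime J) G).length_eq
  rw [e2]
  refine length_eq_of_addEquiv L.symm.toAddEquiv (fun a z => ?_) fun r t => ⟨algebraMap R A r, ?_⟩
  · obtain ⟨⟨r, s⟩, hrs⟩ := IsLocalization.surj S a
    obtain ⟨t, i, hi, hti⟩ := ‹J.IsMaximal›.exists_inv s.2
    refine ⟨t * r, L.injective ?_⟩
    show L (L.symm (a • z)) = L ((t * r) • L.symm z)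
    rw [L.apply_symm_apply, map_smul, L.apply_symm_apply]
    have hiz : i • z = 0 := by
      obtain ⟨t', rfl⟩ := L.surjective z
      rw [← map_smul, hT t' i hi, map_zero]
    have : (1 : R) • (a • z) = (t * r) • z := by
      conv_lhs => rw [← hti, add_smul]
      rw [smul_comm i a z, hiz, smul_zero, add_zero, mul_smul, mul_smul,
        ← algebraMap_smul A (s : R) (a • z), ← mul_smul, mul_comm, hrs, algebraMap_smul]
    rwa [one_smul] at this
  · show L (r • t) = algebraMap R A r • L t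
    rw [map_smul, algebraMap_smul]

section Top

variable {R : Type u} [CommRing R] {𝒜 : ℤ → AddSubgroup R} [GradedRing 𝒜]

local instance gradedSMul_Hgr [IsNoetherianRing R] (I : GrLC.StarInjRes 𝒜 𝒜) (m : HomogeneousIdeal 𝒜) (n : ℕ) :
    SetLike.GradedSMul 𝒜 (I.Hgr m n) :=
  ⟨fun {_ _ _ _} hr hy => by rw [vadd_eq_add]; exact GorSocle.smul_mem_Hgr I hr hy⟩

/-- The data of the socle of the top cohomology of a Gorenstein graded ring. -/
structure Socle (I : GrLC.StarInjRes 𝒜 𝒜) (m : HomogeneousIdeal 𝒜) (n : ℕ) (a : ℤ) (s : I.H m n) : Prop where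
  mem : s ∈ I.Hgr m n a
  ne : s ≠ 0
  ess : ∀ g, ∀ y ∈ I.Hgr m n g, y ≠ 0 → ∃ r ∈ 𝒜 (a - g), r • y ≠ 0
  top : ∀ y ∈ I.Hgr m n a, ∃ c ∈ 𝒜 0, c • s = y
  faith : ∀ g, ∀ r ∈ 𝒜 g, r ≠ 0 → ∃ y ∈ I.Hgr m n (a - g), r • y ≠ 0
  vanish : ∀ g, a < g → I.Hgr m n g = ⊥

theorem exists_socle [LocCoh.IsGorensteinRing R] (hpos : ∀ n : ℤ, n < 0 → 𝒜 n = ⊥) (h0 : IsField (GrLC.deg0 𝒜))
    {m : HomogeneousIdeal 𝒜} (hm : GrLC.IsStarLocal 𝒜 m)
    (hmsp : m.toIdeal = Ideal.span (⋃ n ∈ Set.Ioi (0 : ℤ), (𝒜 n : Set R))) {n : ℕ} (hn : ringKrullDim R = n)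
    (I : GrLC.StarInjRes 𝒜 𝒜) (a : ℤ) (ha : GrLC.endDeg (I.Hgr m n) = ((a : WithTop ℤ) : WithBot (WithTop ℤ))) :
    ∃ s, Socle I m n a s := by
  classical
  haveI := isMaximal_of_isStarLocal hpos hm
  letI := (isInternal_Hgr 𝒜 I m n).chooseDecomposition
  have hd : m.toIdeal.height = n :=
    WithBot.coe_injective ((height_eq_ringKrullDim_of_isStarLocal hpos hm).trans hn)
  have hG := LocCoh.IsGorensteinRing.isGorensteinLocalRing_localization (A := R) m.toIdeal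
  have hnz : ∃ g, I.Hgr m n g ≠ ⊥ := by
    by_contra h
    push Not at h
    have h1 : GrLC.endDeg (I.Hgr m n) ≤ (((a - 1 : ℤ) : WithTop ℤ) : WithBot (WithTop ℤ)) :=
      (endDeg_le_iff _ _).2 fun g _ => h g
    rw [ha] at h1
    have := WithTop.coe_le_coe.1 (WithBot.coe_le_coe.1 h1)
    omega
  obtain ⟨b, s, hs, hs0, hb, hess, -, -⟩ := GorSocle.socle_degree (I := I) (fun g hg r hr => by
    rw [hpos g hg] at hr; exact hr) (GorSocle.isPowerTorsion_H n I) (GorSocle.simpleSoc I hd hG)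
    (fun g hg r hr => hmsp.ge (Ideal.subset_span (Set.mem_biUnion hg hr))) hnz
  rw [ha] at hb
  obtain rfl : a = b := WithTop.coe_eq_coe.1 (WithBot.coe_eq_coe.1 hb)
  refine ⟨s, hs, hs0, fun g y hy hy0 => ?_, fun y hy => ?_, fun g r hr hr0 => ?_, fun g hg => (endDeg_le_iff _ a).1 ha.le g hg⟩
  · obtain ⟨r, hr, _, h1, -⟩ := hess g y hy hy0
    exact ⟨r, hr, h1⟩
  · rcases eq_or_ne y 0 with rfl | hy0
    · exact ⟨0, zero_mem _, zero_smul _ _⟩
    obtain ⟨r, hr, r₀, h1, h2⟩ := hess a y hy hy0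
    rw [sub_self] at hr
    have h3 : r • y = (decompose 𝒜 r₀ 0 : R) • s := by
      have h := GorSocle.decompose_smul_Hgr I hs r₀ a
      rw [← h2, sub_self, decompose_of_mem_same _ (by simpa using GorSocle.smul_mem_Hgr I hr hy)] at h
      exact h
    obtain ⟨t, ht⟩ := h0.mul_inv_cancel (a := ⟨r, hr⟩) fun h => h1 (by
      rw [show r = 0 from congrArg Subtype.val h, zero_smul])
    refine ⟨(t : R) * (decompose 𝒜 r₀ 0 : R), ?_, ?_⟩
    · simpa using SetLike.mul_mem_graded (A := 𝒜) t.2 (SetLike.coe_mem (decompose 𝒜 r₀ 0))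
    · rw [mul_smul, ← h3, ← mul_smul, show (t : R) * r = 1 from (mul_comm _ _).trans (congrArg Subtype.val ht), one_smul]
  · obtain ⟨y, hy⟩ := GorSocle.faithful I hm hd hG hr hr0
    obtain ⟨d, hd'⟩ : ∃ d, r • (decompose (I.Hgr m n) y d : I.H m n) ≠ 0 := by
      by_contra h
      push Not at h
      refine hy ?_
      rw [← sum_support_decompose (I.Hgr m n) y, Finset.smul_sum]
      exact Finset.sum_eq_zero fun d _ => h d
    obtain ⟨r', hr', _, h1, -⟩ := hess (g + d) _ (GorSocle.smul_mem_Hgr I hr (SetLike.coe_mem _)) hd'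
    refine ⟨r' • (decompose (I.Hgr m n) y d : I.H m n), ?_, by rwa [smul_comm]⟩
    rw [show a - g = a - (g + d) + d by ring]
    exact GorSocle.smul_mem_Hgr I hr' (SetLike.coe_mem _)

/-- The perfect pairing of a piece with the opposite piece of the cohomology. -/
theorem finrank_eq [IsNoetherianRing R] (hpos : ∀ n : ℤ, n < 0 → 𝒜 n = ⊥) (h0 : IsField (GrLC.deg0 𝒜))
    {m : HomogeneousIdeal 𝒜} {n : ℕ} {I : GrLC.StarInjRes 𝒜 𝒜} {a : ℤ} {s : I.H m n} (S : Socle I m n a s) (ρ : ℤ) :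
    Module.Finite (GrLC.deg0 𝒜) (GrLC.comp 𝒜 (I.Hgr m n) (a - ρ)) ∧
      Module.finrank (GrLC.deg0 𝒜) (GrLC.comp 𝒜 (I.Hgr m n) (a - ρ)) = Module.finrank (GrLC.deg0 𝒜) (GrLC.comp 𝒜 𝒜 ρ) := by
  classical
  letI := h0.toField
  let k := GrLC.deg0 𝒜
  let U := GrLC.comp 𝒜 𝒜 ρ
  let V := GrLC.comp 𝒜 (I.Hgr m n) (a - ρ)
  let W := GrLC.comp 𝒜 (I.Hgr m n) a
  haveI : Module.Finite k U := finite_comp 𝒜 (nonneg_of_bot hpos) 𝒜 ρ
  let L : k →ₗ[k] W := LinearMap.toSpanSingleton k W ⟨s, S.mem⟩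
  have hL : Function.Bijective L := by
    refine ⟨(injective_iff_map_eq_zero L).2 fun c hc => ?_, fun y => ?_⟩
    · by_contra hne
      obtain ⟨t, ht⟩ := h0.mul_inv_cancel hne
      refine S.ne (congrArg Subtype.val (show (⟨s, S.mem⟩ : W) = 0 from ?_))
      rw [← one_smul k (⟨s, S.mem⟩ : W), ← ht, mul_comm, mul_smul, show c • (⟨s, S.mem⟩ : W) = 0 from hc, smul_zero]
    · obtain ⟨c, hc, hcs⟩ := S.top _ y.2
      exact ⟨⟨c, hc⟩, Subtype.ext hcs⟩
  let eW := LinearEquiv.ofBijective L hL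
  haveI : Module.Finite k W := Module.Finite.equiv eW
  have hmem : ∀ (r : U) (y : V), (r : R) • (y : I.H m n) ∈ W := fun r y => by
    have := GorSocle.smul_mem_Hgr I r.2 y.2
    rwa [show ρ + (a - ρ) = a by ring] at this
  let P : U →ₗ[k] V →ₗ[k] W := LinearMap.mk₂ k (fun r y => ⟨(r : R) • (y : I.H m n), hmem r y⟩)
    (fun r r' y => Subtype.ext (add_smul _ _ _))
    (fun c r y => Subtype.ext (mul_smul (c : R) _ _))
    (fun r y y' => Subtype.ext (smul_add _ _ _))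
    (fun c r y => Subtype.ext (smul_comm _ (c : R) _))
  have hP : Function.Injective P := (injective_iff_map_eq_zero P).2 fun r hr => by
    by_contra hr0
    obtain ⟨y, hy, hry⟩ := S.faith ρ r r.2 fun h => hr0 (Subtype.ext h)
    exact hry (congrArg Subtype.val (LinearMap.congr_fun hr ⟨y, hy⟩))
  have hP' : Function.Injective P.flip := (injective_iff_map_eq_zero P.flip).2 fun y hy => by
    by_contra hy0
    obtain ⟨r, hr, hry⟩ := S.ess (a - ρ) y y.2 fun h => hy0 (Subtype.ext h)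
    rw [show a - (a - ρ) = ρ by ring] at hr
    exact hry (congrArg Subtype.val (LinearMap.congr_fun hy ⟨r, hr⟩))
  haveI : Module.Finite k V := Module.Finite.of_injective P.flip hP'
  have h1 := LinearMap.finrank_le_finrank_of_injective hP
  have h2 := LinearMap.finrank_le_finrank_of_injective hP'
  have hW : Module.finrank k W = 1 := eW.finrank_eq.symm.trans (Module.finrank_self k)
  rw [Module.finrank_linearMap, hW, mul_one] at h1 h2
  exact ⟨inferInstance, le_antisymm h2 h1⟩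

/-- Positive-degree pieces of a standard graded ring of positive depth are at least two-dimensional. -/
theorem two_le_finrank [LocCoh.IsCohenMacaulayRing R] (hpos : ∀ n : ℤ, n < 0 → 𝒜 n = ⊥) (h0 : IsField (GrLC.deg0 𝒜))
    {m : HomogeneousIdeal 𝒜} (hm : GrLC.IsStarLocal 𝒜 m)
    (hmsp : m.toIdeal = Ideal.span (⋃ n ∈ Set.Ioi (0 : ℤ), (𝒜 n : Set R)))
    (hstd : Ideal.span (⋃ n ∈ Set.Ioi (0 : ℤ), (𝒜 n : Set R)) = Ideal.span ((𝒜 1 : AddSubgroup R) : Set R))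
    (hR1 : 2 ≤ Module.finrank (GrLC.deg0 𝒜) (GrLC.comp 𝒜 𝒜 1))
    {n : ℕ} (hn : ringKrullDim R = n) (h1 : 1 ≤ n) (ρ : ℤ) (hρ : 1 ≤ ρ) :
    2 ≤ Module.finrank (GrLC.deg0 𝒜) (GrLC.comp 𝒜 𝒜 ρ) := by
  classical
  letI := h0.toField
  let k := GrLC.deg0 𝒜
  obtain ⟨r, rfl⟩ : ∃ r : ℕ, ρ = ((r + 1 : ℕ) : ℤ) := ⟨(ρ - 1).toNat, by omega⟩
  haveI := isMaximal_of_isStarLocal hpos hm
  haveI : ∀ g, Module.Finite k (GrLC.comp 𝒜 𝒜 g) := fun g => finite_comp 𝒜 (nonneg_of_bot hpos) 𝒜 g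
  by_contra hlt
  obtain ⟨w, hw⟩ := finrank_le_one_iff.1
    (show Module.finrank (GrLC.deg0 𝒜) (GrLC.comp 𝒜 𝒜 ((r + 1 : ℕ) : ℤ)) ≤ 1 by omega)
  have hmS : m.toIdeal = Ideal.span ((𝒜 1 : AddSubgroup R) : Set R) := hmsp.trans hstd
  obtain ⟨x, hx, hx0⟩ : ∃ x ∈ 𝒜 1, x ^ (r + 1) ≠ 0 := by
    by_contra h
    push Not at h
    have hd : m.toIdeal.height = n :=
      WithBot.coe_injective ((height_eq_ringKrullDim_of_isStarLocal hpos hm).trans hn)
    have hmin : m.toIdeal ∈ minimalPrimes R := by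
      refine ⟨⟨inferInstance, bot_le⟩, fun Q hQ _ => ?_⟩
      haveI := hQ.1
      rw [hmS, Ideal.span_le]
      exact fun z hz => hQ.1.mem_of_pow_mem (r + 1) (by rw [h z hz]; exact zero_mem _)
    rw [Ideal.height_eq_zero_iff.2 hmin] at hd
    have : n = 0 := by exact_mod_cast hd.symm
    omega
  have hpow : x ^ (r + 1) ∈ 𝒜 ((r + 1 : ℕ) : ℤ) := by simpa using SetLike.pow_mem_graded (r + 1) hx
  obtain ⟨α, hα⟩ := hw ⟨_, hpow⟩
  have hα0 : α ≠ 0 := fun h => hx0 (by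
    rw [h, zero_smul] at hα
    exact (congrArg Subtype.val hα).symm)
  have hspan : ∀ z ∈ 𝒜 ((r + 1 : ℕ) : ℤ), ∃ c : k, (c : R) * x ^ (r + 1) = z := fun z hz => by
    obtain ⟨β, hβ⟩ := hw ⟨z, hz⟩
    refine ⟨β * α⁻¹, congrArg Subtype.val (show (β * α⁻¹) • (⟨_, hpow⟩ : GrLC.comp 𝒜 𝒜 ((r + 1 : ℕ) : ℤ)) = ⟨z, hz⟩ from ?_)⟩
    rw [← hα, ← mul_smul, mul_assoc, inv_mul_cancel₀ hα0, mul_one, hβ]
  have hmp : ∀ j : ℕ, m.toIdeal ^ j ≤ Ideal.span (𝒜 (j : ℤ) : Set R) := by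
    intro j
    induction j with
    | zero =>
      intro z _
      have h1' : (1 : R) ∈ Ideal.span (𝒜 ((0 : ℕ) : ℤ) : Set R) :=
        Ideal.subset_span (by exact_mod_cast SetLike.one_mem_graded 𝒜)
      simpa using Ideal.mul_mem_left _ z h1'
    | succ j ih =>
      rw [pow_succ]
      refine (Ideal.mul_mono ih hmS.le).trans ?_
      rw [Ideal.span_mul_span', Ideal.span_le]
      rintro _ ⟨b, hb, c, hc, rfl⟩
      exact Ideal.subset_span (by push_cast; exact SetLike.mul_mem_graded hb hc)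
  have hone : ∀ u ∈ 𝒜 1, ∃ c : k, (c : R) * x = u := by
    intro u hu
    obtain ⟨c, hc⟩ := hspan (x ^ r * u) (by simpa using SetLike.mul_mem_graded (SetLike.pow_mem_graded r hx) hu)
    refine ⟨c, ?_⟩
    have h3 : x ^ (r + 1) * (u - c * x) = 0 := by
      rw [pow_succ] at hc ⊢
      linear_combination (-x) * hc
    have htor : u - c * x ∈ DRing.torsionSub m.toIdeal R := ⟨r + 1, fun z hz => by
      have hz' := hmp (r + 1) hz
      clear hz
      induction hz' using Submodule.span_induction with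
      | mem z hz =>
        obtain ⟨d, rfl⟩ := hspan z hz
        rw [smul_eq_mul, mul_assoc, h3, mul_zero]
      | zero => exact zero_smul _ _
      | add p q _ _ hp hq => rw [add_smul, hp, hq, add_zero]
      | smul p q _ hq => simp only [smul_eq_mul] at hq ⊢; rw [mul_assoc, hq, mul_zero]⟩
    haveI := subsingleton_H_of_ne hpos hm hn (i := 0) (by omega)
    have h4 := (LC.H0Equiv m.toIdeal (ModuleCat.of R R)).symm.injective
      (Subsingleton.elim ((LC.H0Equiv m.toIdeal (ModuleCat.of R R)).symm ⟨_, htor⟩) ((LC.H0Equiv m.toIdeal (ModuleCat.of R R)).symm 0))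
    exact (sub_eq_zero.1 (congrArg Subtype.val h4)).symm
  have : Module.finrank (GrLC.deg0 𝒜) (GrLC.comp 𝒜 𝒜 1) ≤ 1 := finrank_le_one (R := k) (⟨x, hx⟩ : GrLC.comp 𝒜 𝒜 1) fun u => by
    obtain ⟨c, hc⟩ := hone u u.2
    exact ⟨c, Subtype.ext hc⟩
  omega

end Top

section Vero

attribute [local instance] gradedSMul_Hgr

variable {R : Type u} [CommRing R] [IsNoetherianRing R] {𝒜 : ℤ → AddSubgroup R} [GradedRing 𝒜]
  {R' : Type u} [CommRing R'] [IsNoetherianRing R'] {𝒜' : ℤ → AddSubgroup R'} [GradedRing 𝒜']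
  {m : HomogeneousIdeal 𝒜} {m' : HomogeneousIdeal 𝒜'} {n : ℕ} {I : GrLC.StarInjRes 𝒜 𝒜}
  {I' : GrLC.StarInjRes 𝒜' 𝒜'} {a : ℤ} {s : I.H m n}
variable (q : ℕ) (φ : R' →+* R) (hdeg : ∀ j : ℤ, (𝒜' j).map (φ : R' →+ R) = 𝒜 (j * q))
variable (hm'sp : m'.toIdeal = Ideal.span (⋃ j ∈ Set.Ioi (0 : ℤ), (𝒜' j : Set R')))
variable (ι : I'.H m' n →+ I.H m n) (hι : Function.Injective ι) (hιs : ∀ (r : R') x, ι (r • x) = φ r • ι x)
  (hιg : ∀ j, (I'.Hgr m' n j).map ι = I.Hgr m n (j * q))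

include hdeg hm'sp hιs in
theorem smul_eq_zero_of_soc {y : I'.H m' n} (hy : y ∈ LocCoh.torsionBy m'.toIdeal (I'.H m' n)) {l : ℤ} (hl : 0 < l)
    {r : R} (hr : r ∈ 𝒜 (l * q)) : r • ι y = 0 := by
  obtain ⟨r', hr', rfl⟩ := (hdeg l).ge hr
  show φ r' • ι y = 0
  rw [← hιs, mem_soc_iff.1 hy r' (hm'sp.ge (Ideal.subset_span (Set.mem_biUnion hl hr'))), map_zero]

include hdeg hm'sp hι hιs hιg in
theorem mem_soc_of_top (hvan : ∀ g, a < g → I.Hgr m n g = ⊥) {j : ℤ} (hj : a < (j + 1) * q) {y : I'.H m' n}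
    (hy : y ∈ I'.Hgr m' n j) : y ∈ LocCoh.torsionBy m'.toIdeal (I'.H m' n) := by
  refine mem_soc_iff.2 fun b hb => ?_
  have hle : m'.toIdeal ≤ (R' ∙ y).annihilator := by
    rw [hm'sp, Ideal.span_le]
    intro z hz
    obtain ⟨l, hl, hz⟩ := Set.mem_iUnion₂.1 hz
    refine (Submodule.mem_annihilator_span_singleton y z).2 (hι ?_)
    have hl1 : (1 : ℤ) ≤ l := hl
    have h1 := (hιg (l + j)).le (AddSubgroup.mem_map_of_mem ι (GorSocle.smul_mem_Hgr I' hz hy))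
    rw [hvan ((l + j) * q) (hj.trans_le (mul_le_mul_of_nonneg_right (by omega) (Nat.cast_nonneg q))), AddSubgroup.mem_bot] at h1
    rw [h1, map_zero]
  exact (Submodule.mem_annihilator_span_singleton y b).1 (hle hb)

/-- A socle concentrated in one degree. -/
theorem soc_le (j₀ : ℤ) (h : ∀ j, ∀ y ∈ I'.Hgr m' n j, y ∈ LocCoh.torsionBy m'.toIdeal (I'.H m' n) → y ≠ 0 → j = j₀)
    {y : I'.H m' n} (hy : y ∈ LocCoh.torsionBy m'.toIdeal (I'.H m' n)) : y ∈ I'.Hgr m' n j₀ := by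
  classical
  letI := (isInternal_Hgr 𝒜' I' m' n).chooseDecomposition
  rw [← sum_support_decompose (I'.Hgr m' n) y]
  refine AddSubgroup.sum_mem _ fun d hd => ?_
  obtain rfl := h d _ (SetLike.coe_mem _) (GorSocle.isHomogeneous_soc I' hy d) fun h0 =>
    (DFinsupp.mem_support_iff.1 hd) (Subtype.ext h0)
  exact SetLike.coe_mem _

include hdeg hm'sp hιs hιg hι in
theorem soc_degree_of_dvd (hpos : ∀ n : ℤ, n < 0 → 𝒜 n = ⊥) (hq : 0 < q) (S : Socle I m n a s) {j₀ : ℤ}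
    (hj₀ : a = j₀ * q) {y : I'.H m' n} (hy : y ∈ LocCoh.torsionBy m'.toIdeal (I'.H m' n)) : y ∈ I'.Hgr m' n j₀ := by
  refine soc_le j₀ (fun j z hz hzs hz0 => ?_) hy
  have hq' : (0 : ℤ) < q := by exact_mod_cast hq
  obtain ⟨r, hr, hrz⟩ := S.ess (j * q) (ι z) ((hιg j).le (AddSubgroup.mem_map_of_mem ι hz))
    fun h => hz0 (hι (h.trans (map_zero ι).symm))
  rw [hj₀, ← sub_mul] at hr
  rcases lt_trichotomy (j₀ - j) 0 with h | h | h
  · rw [hpos _ (mul_neg_of_neg_of_pos h hq'), AddSubgroup.mem_bot] at hr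
    exact absurd (by rw [hr, zero_smul]) hrz
  · omega
  · exact absurd (smul_eq_zero_of_soc q φ hdeg hm'sp ι hιs hzs h hr) hrz

include hdeg hm'sp hιs hιg hι in
theorem simpleSoc_of_dvd (hpos : ∀ n : ℤ, n < 0 → 𝒜 n = ⊥) (h0 : IsField (GrLC.deg0 𝒜)) (hq : 0 < q)
    (S : Socle I m n a s) {j₀ : ℤ} (hj₀ : a = j₀ * q) : SimpleSoc m'.toIdeal (I'.H m' n) := by
  intro y hy hy0 y' hy'
  have key : ∀ z ∈ LocCoh.torsionBy m'.toIdeal (I'.H m' n), ∃ c ∈ 𝒜 0, c • s = ι z := fun z hz => by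
    have h1 := (hιg j₀).le (AddSubgroup.mem_map_of_mem ι
      (soc_degree_of_dvd q φ hdeg hm'sp ι hι hιs hιg hpos hq S hj₀ hz))
    rw [← hj₀] at h1
    exact S.top _ h1
  obtain ⟨c, hc, hcy⟩ := key y hy
  obtain ⟨c', hc', hcy'⟩ := key y' hy'
  obtain ⟨t, ht⟩ := h0.mul_inv_cancel (a := ⟨c, hc⟩) fun h => hy0 (hι (by
    rw [map_zero, ← hcy, show c = 0 from congrArg Subtype.val h, zero_smul]))
  obtain ⟨e, -, he⟩ := (hdeg 0).ge (show c' * (t : R) ∈ 𝒜 (0 * q) by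
    simpa using SetLike.mul_mem_graded (A := 𝒜) hc' t.2)
  refine Submodule.mem_span_singleton.2 ⟨e, hι ?_⟩
  rw [hιs, show φ e = c' * (t : R) from he, ← hcy, ← hcy', ← mul_smul, mul_assoc, mul_comm (t : R) c,
    show c * (t : R) = 1 from congrArg Subtype.val ht, mul_one]

include hdeg hm'sp hι hιs hιg in
theorem finrank_le_one_of_simpleSoc (hs' : SimpleSoc m'.toIdeal (I'.H m' n)) (h0 : IsField (GrLC.deg0 𝒜))
    (hvan : ∀ g, a < g → I.Hgr m n g = ⊥) {j₀ ρ : ℤ} (hj₀ : a - ρ = j₀ * q) (hρ : ρ < q) :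
    Module.finrank (GrLC.deg0 𝒜) (GrLC.comp 𝒜 (I.Hgr m n) (a - ρ)) ≤ 1 := by
  classical
  letI := h0.toField
  letI := (isInternal_Hgr 𝒜' I' m' n).chooseDecomposition
  let V := GrLC.comp 𝒜 (I.Hgr m n) (a - ρ)
  have hlt : a < (j₀ + 1) * q := by rw [add_mul, one_mul, ← hj₀]; omega
  by_cases hne : ∃ v : V, v ≠ 0
  · obtain ⟨v, hv⟩ := hne
    obtain ⟨y, hy, hyv⟩ := (hιg j₀).ge (show (v : I.H m n) ∈ I.Hgr m n (j₀ * q) from hj₀ ▸ v.2)
    refine finrank_le_one v fun w => ?_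
    obtain ⟨y', hy', hyw⟩ := (hιg j₀).ge (show (w : I.H m n) ∈ I.Hgr m n (j₀ * q) from hj₀ ▸ w.2)
    obtain ⟨c, hc⟩ := Submodule.mem_span_singleton.1 (hs' y (mem_soc_of_top q φ hdeg hm'sp ι hι hιs hιg hvan hlt hy)
      (fun h => hv (Subtype.ext (by rw [← hyv, h, map_zero]; rfl)))
      (mem_soc_of_top q φ hdeg hm'sp ι hι hιs hιg hvan hlt hy'))
    have h := GorSocle.decompose_smul_Hgr I' hy c j₀
    rw [hc, decompose_of_mem_same _ hy', sub_self] at h
    refine ⟨⟨φ (decompose 𝒜' c 0 : R'), ?_⟩, Subtype.ext ?_⟩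
    · have := (hdeg 0).le (AddSubgroup.mem_map_of_mem (φ : R' →+ R) (SetLike.coe_mem (decompose 𝒜' c 0)))
      rwa [zero_mul] at this
    · show φ _ • (v : I.H m n) = w
      rw [← hyv, ← hyw, ← hιs, ← h]
  · push Not at hne
    haveI : Subsingleton V := subsingleton_of_forall_eq 0 hne
    rw [Module.finrank_zero_of_subsingleton]
    omega

include hdeg hm'sp hιs hιg hι in
theorem soc_degree_of_std (hpos : ∀ n : ℤ, n < 0 → 𝒜 n = ⊥)
    (hstd : Ideal.span (⋃ n ∈ Set.Ioi (0 : ℤ), (𝒜 n : Set R)) = Ideal.span ((𝒜 1 : AddSubgroup R) : Set R))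
    (hq : 0 < q) (S : Socle I m n a s) {j₀ ρ : ℤ} (hρ0 : 0 ≤ ρ) (hρq : ρ < q) (hj₀ : a - ρ = j₀ * q)
    {y : I'.H m' n} (hy : y ∈ LocCoh.torsionBy m'.toIdeal (I'.H m' n)) : y ∈ I'.Hgr m' n j₀ := by
  classical
  refine soc_le j₀ (fun j z hz hzs hz0 => ?_) hy
  have hq' : (0 : ℤ) < q := by exact_mod_cast hq
  obtain ⟨r, hr, hrz⟩ := S.ess (j * q) (ι z) ((hιg j).le (AddSubgroup.mem_map_of_mem ι hz))
    fun h => hz0 (hι (h.trans (map_zero ι).symm))
  rw [show a - j * q = ρ + (j₀ - j) * q by rw [sub_mul, ← hj₀]; ring] at hr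
  rcases lt_trichotomy (j₀ - j) 0 with h | h | h
  · have h1 : (j₀ - j) * q ≤ (-1) * (q : ℤ) := mul_le_mul_of_nonneg_right (by omega) hq'.le
    rw [hpos _ (by omega), AddSubgroup.mem_bot] at hr
    exact absurd (by rw [hr, zero_smul]) hrz
  · omega
  · obtain ⟨N, hN⟩ : ∃ N : ℕ, (j₀ - j) * q = (N : ℤ) := ⟨_, (Int.toNat_of_nonneg (by positivity)).symm⟩
    rw [hN] at hr
    refine absurd ?_ hrz
    refine AddSubgroup.closure_induction (p := fun r _ => r • ι z = 0) ?_ (zero_smul _ _)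
      (fun b c _ _ hb hc => by rw [add_smul, hb, hc, add_zero]) (fun b _ hb => by rw [neg_smul, hb, neg_zero])
      (StdMul.add_le 𝒜 hstd ρ hρ0 N hr)
    rintro _ ⟨b, -, c, hc, rfl⟩
    rw [← hN] at hc
    rw [mul_smul, smul_eq_zero_of_soc q φ hdeg hm'sp ι hιs hzs h hc, smul_zero]

include hdeg hm'sp hιs hιg hι in
theorem length_soc_eq (hpos : ∀ n : ℤ, n < 0 → 𝒜 n = ⊥) (h0 : IsField (GrLC.deg0 𝒜))
    (hstd : Ideal.span (⋃ n ∈ Set.Ioi (0 : ℤ), (𝒜 n : Set R)) = Ideal.span ((𝒜 1 : AddSubgroup R) : Set R))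
    (hq : 0 < q) (S : Socle I m n a s) {j₀ ρ : ℤ} (hρ0 : 0 ≤ ρ) (hρq : ρ < q) (hj₀ : a - ρ = j₀ * q) :
    Module.length R' (LocCoh.torsionBy m'.toIdeal (I'.H m' n)) =
      Module.length (GrLC.deg0 𝒜) (GrLC.comp 𝒜 (I.Hgr m n) (a - ρ)) := by
  classical
  letI := (isInternal_Hgr 𝒜' I' m' n).chooseDecomposition
  have hlt : a < (j₀ + 1) * q := by rw [add_mul, one_mul, ← hj₀]; omega
  let T := LocCoh.torsionBy m'.toIdeal (I'.H m' n)
  let V := GrLC.comp 𝒜 (I.Hgr m n) (a - ρ)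
  have hdeg' : ∀ t : T, (t : I'.H m' n) ∈ I'.Hgr m' n j₀ := fun t =>
    soc_degree_of_std q φ hdeg hm'sp ι hι hιs hιg hpos hstd hq S hρ0 hρq hj₀ t.2
  let e0 : T →+ V := AddMonoidHom.mk' (fun t => ⟨ι t, by
    show ι _ ∈ I.Hgr m n (a - ρ)
    rw [hj₀]
    exact (hιg j₀).le (AddSubgroup.mem_map_of_mem ι (hdeg' t))⟩) fun t t' => Subtype.ext (map_add ι _ _)
  have he0 : Function.Bijective e0 := by
    refine ⟨fun t t' h => Subtype.ext (hι (congrArg Subtype.val h)), fun v => ?_⟩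
    obtain ⟨y, hy, hyv⟩ := (hιg j₀).ge (show (v : I.H m n) ∈ I.Hgr m n (j₀ * q) from hj₀ ▸ v.2)
    exact ⟨⟨y, mem_soc_of_top q φ hdeg hm'sp ι hι hιs hιg S.vanish hlt hy⟩, Subtype.ext hyv⟩
  refine length_eq_of_addEquiv (AddEquiv.ofBijective e0 he0) (fun b t => ⟨⟨φ (decompose 𝒜' b 0 : R'), ?_⟩, Subtype.ext ?_⟩)
    fun c v => ?_
  · have := (hdeg 0).le (AddSubgroup.mem_map_of_mem (φ : R' →+ R) (SetLike.coe_mem (decompose 𝒜' b 0)))
    rwa [zero_mul] at this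
  · show ι (b • (t : I'.H m' n)) = φ (decompose 𝒜' b 0 : R') • ι (t : I'.H m' n)
    have h := GorSocle.decompose_smul_Hgr I' (hdeg' t) b j₀
    rw [sub_self, decompose_of_mem_same _ (show b • (t : I'.H m' n) ∈ I'.Hgr m' n j₀ from hdeg' (b • t))] at h
    rw [← hιs, ← h]
  · obtain ⟨c', -, hc⟩ := (hdeg 0).ge (show (c : R) ∈ 𝒜 (0 * q) by rw [zero_mul]; exact c.2)
    refine ⟨c', (AddEquiv.ofBijective e0 he0).injective ?_⟩
    rw [AddEquiv.apply_symm_apply]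
    refine Subtype.ext ?_
    obtain ⟨t, rfl⟩ := (AddEquiv.ofBijective e0 he0).surjective v
    rw [AddEquiv.symm_apply_apply]
    show (c : R) • ι (t : I'.H m' n) = ι (c' • (t : I'.H m' n))
    rw [hιs, show φ c' = c from hc]

end Vero

end Groth.Agent.GrLib8.VeroGor
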