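import Groth.Agent.GrLib8.SegTopH
import Groth.Agent.GrLib8.SegCMRing
import Groth.Agent.GrLib8.CanonSetup
import Groth.Agent.GrLib8.VeroGor
import Groth.Agent.GrLib8.GrCMField
import Groth.Agent.S18647

/-!
# Gorenstein Segre products
-/

set_option autoImplicit false
set_option linter.unusedSectionVars false
set_option linter.style.haveILetI false
set_option maxHeartbeats 1600000

universe u

open DirectSum
open scoped TensorProduct

namespace Groth.Agent.GrLib8.Seg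

variable {k : Type u} [Field k]

section Tensor

theorem exists_ne_zero_of_finrank {V : Type u} [AddCommGroup V] [Module k V] (p : Submodule k V)
    (h : 1 ≤ Module.finrank k p) : ∃ x ∈ p, x ≠ 0 := by
  refine (Submodule.ne_bot_iff p).1 fun hp => ?_
  rw [hp, finrank_bot] at h
  omega

variable {V V' W : Type u} [AddCommGroup V] [Module k V] [AddCommGroup V'] [Module k V'] [AddCommGroup W] [Module k W]

/-- A jointly injective family stays so after tensoring over a field. -/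
theorem eq_zero_of_rTensor {ι : Type*} (f : ι → V →ₗ[k] V') (hf : ∀ x, (∀ a, f a x = 0) → x = 0)
    (v : V ⊗[k] W) (h : ∀ a, (f a).rTensor W v = 0) : v = 0 := by
  classical
  let b := Module.Basis.ofVectorSpace k W
  let e := TensorProduct.equivFinsuppOfBasisRight (M := V) b
  let e' := TensorProduct.equivFinsuppOfBasisRight (M := V') b
  have key : ∀ a (w : V ⊗[k] W) i, e' ((f a).rTensor W w) i = f a (e w i) := fun a w i => by
    induction w using TensorProduct.induction_on with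
    | zero => simp
    | add x y hx hy => simp [map_add, hx, hy]
    | tmul x y =>
      rw [LinearMap.rTensor_tmul, TensorProduct.equivFinsuppOfBasisRight_apply_tmul_apply,
        TensorProduct.equivFinsuppOfBasisRight_apply_tmul_apply, map_smul]
  refine e.injective (Finsupp.ext fun i => ?_)
  rw [map_zero, Finsupp.zero_apply]
  exact hf _ fun a => by rw [← key, h a, map_zero, Finsupp.zero_apply]

/-- Two jointly injective families stay so after tensoring over a field. -/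
theorem eq_zero_of_map {W' : Type u} [AddCommGroup W'] [Module k W'] {ι κ : Type*} (f : ι → V →ₗ[k] V')
    (g : κ → W →ₗ[k] W') (hf : ∀ x, (∀ a, f a x = 0) → x = 0) (hg : ∀ y, (∀ b, g b y = 0) → y = 0)
    (v : V ⊗[k] W) (h : ∀ a b, TensorProduct.map (f a) (g b) v = 0) : v = 0 := by
  refine eq_zero_of_rTensor f hf v fun a => ?_
  refine (TensorProduct.comm k V' W).map_eq_zero_iff.1 (eq_zero_of_rTensor g hg _ fun b => ?_)
  have key : ∀ w : V ⊗[k] W, (g b).rTensor V' (TensorProduct.comm k V' W ((f a).rTensor W w)) =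
      TensorProduct.comm k V' W' (TensorProduct.map (f a) (g b) w) := fun w => by
    induction w using TensorProduct.induction_on with
    | zero => simp
    | add x y hx hy => simp only [map_add, hx, hy]
    | tmul x y => simp
  rw [key, h a b, map_zero]

theorem tmul_ne_zero {x : V} {y : W} (hx : x ≠ 0) (hy : y ≠ 0) : x ⊗ₜ[k] y ≠ 0 := fun h => by
  have hinj := TensorProduct.map_injective_of_flat_flat (LinearMap.toSpanSingleton k V x) (LinearMap.toSpanSingleton k W y)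
    (smul_left_injective k hx) (smul_left_injective k hy)
  have h1 : (1 : k) ⊗ₜ[k] (1 : k) = 0 := hinj (by
    rw [TensorProduct.map_tmul, map_zero, LinearMap.toSpanSingleton_apply, LinearMap.toSpanSingleton_apply, one_smul,
      one_smul, h])
  have h2 := congrArg (TensorProduct.lid k k) h1
  simp at h2

end Tensor

section One

variable {R : Type u} [CommRing R] [Nontrivial R] [Algebra k R] [Algebra.FiniteType k R] {𝒜 : ℤ → Submodule k R}
  [GradedAlgebra 𝒜] (hpos : ∀ n : ℤ, n < 0 → 𝒜 n = ⊥) (h0 : 𝒜 0 = Submodule.span k {(1 : R)})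
  (I : GrLC.StarInjRes 𝒜 𝒜)

/-- The local cohomology of a graded algebra as a graded module. -/
noncomputable abbrev HR (n : ℕ) : GrLC.GMod.{u} 𝒜 :=
  HGM (Z := GrLC.GMod.of 𝒜 R (addPieces 𝒜)) (resAdd I) n

/-- A piece of it. -/
noncomputable abbrev HP (n : ℕ) (d : ℤ) : Submodule k (HR I n).carrier := pieceK 𝒜 (HR I n).gr d

include hpos h0 in
theorem isMaximal_irrel' : (GrSyz.irrel 𝒜).toIdeal.IsMaximal :=
  isMaximal_of_isStarLocal (addPieces_eq_bot 𝒜 hpos) (isStarLocal_irrel_add 𝒜 hpos h0)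

theorem decompose_addPieces (r : R) (i : ℤ) : (decompose (addPieces 𝒜) r i : R) = (decompose 𝒜 r i : R) := by
  induction r using DirectSum.Decomposition.inductionOn 𝒜 with
  | zero => simp
  | add a b ha hb => simp only [decompose_add, DirectSum.add_apply, AddMemClass.coe_add, ha, hb]
  | @homogeneous j r =>
    rcases eq_or_ne j i with rfl | hne
    · rw [decompose_of_mem_same 𝒜 r.2, decompose_of_mem_same (addPieces 𝒜) (show (r : R) ∈ addPieces 𝒜 j from r.2)]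
    · rw [decompose_of_mem_ne 𝒜 r.2 hne, decompose_of_mem_ne (addPieces 𝒜) (show (r : R) ∈ addPieces 𝒜 j from r.2) hne]

/-- Homogeneous ideals do not see the vector space structure of the pieces. -/
noncomputable def addIdeal : HomogeneousIdeal 𝒜 ≃o HomogeneousIdeal (addPieces 𝒜) where
  toFun n := ⟨n.toIdeal, fun i r hr => (decompose_addPieces (𝒜 := 𝒜) r i).symm ▸ n.isHomogeneous i hr⟩
  invFun n := ⟨n.toIdeal, fun i r hr => decompose_addPieces (𝒜 := 𝒜) r i ▸ n.isHomogeneous i hr⟩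
  left_inv _ := rfl
  right_inv _ := rfl
  map_rel_iff' := Iff.rfl

include hpos h0 in
theorem isStarLocal_irrel' : GrLC.IsStarLocal 𝒜 (GrSyz.irrel 𝒜) := by
  obtain ⟨h1, h2⟩ := isStarLocal_irrel_add 𝒜 hpos h0
  exact ⟨(addIdeal (𝒜 := 𝒜)).isCoatom_iff _ |>.1 h1, fun n hn => (addIdeal (𝒜 := 𝒜)).injective (h2 _ ((addIdeal.isCoatom_iff n).2 hn))⟩

include h0 in
theorem isField_deg0' : IsField (GrLC.deg0 𝒜) :=
  MulEquiv.isField (Field.toIsField k) (RingEquiv.ofBijective (iota 𝒜) (iota_bijective 𝒜 h0)).symm.toMulEquiv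

omit [Algebra.FiniteType k R] [Nontrivial R] in
theorem irrel_eq_span : (GrSyz.irrel 𝒜).toIdeal = Ideal.span (⋃ n ∈ Set.Ioi (0 : ℤ), (𝒜 n : Set R)) :=
  irrel_toIdeal_eq (𝒜 := addPieces 𝒜)

include hpos h0 in
theorem height_irrel' {r : ℕ} (hr : ringKrullDim R = r) : (GrSyz.irrel 𝒜).toIdeal.height = r := by
  haveI := Algebra.FiniteType.isNoetherianRing k R
  exact WithBot.coe_injective
    ((height_eq_ringKrullDim_of_isStarLocal (addPieces_eq_bot 𝒜 hpos) (isStarLocal_irrel_add 𝒜 hpos h0)).trans hr)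

include hpos h0 in
/-- A Cohen-Macaulay graded algebra whose socle is simple is Gorenstein. -/
theorem gorenstein_of_simpleSoc [LocCoh.IsCohenMacaulayRing R] {r : ℕ} (hr : ringKrullDim R = r)
    (hs : SimpleSoc (GrSyz.irrel 𝒜).toIdeal (I.H (GrSyz.irrel 𝒜) r)) : LocCoh.IsGorensteinRing R := by
  haveI := Algebra.FiniteType.isNoetherianRing k R
  haveI := isMaximal_irrel' hpos h0
  let J := (GrSyz.irrel 𝒜).toIdeal
  haveI : IsNoetherianRing (Localization.AtPrime J) :=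
    IsLocalization.isNoetherianRing J.primeCompl (Localization.AtPrime J) inferInstance
  haveI : (GrSyz.irrel (addPieces 𝒜)).toIdeal.IsMaximal := isMaximal_irrel' hpos h0
  have hG : LocCoh.IsGorensteinLocalRing (Localization.AtPrime J) := by
    refine GorSocle.gorensteinLocal I (height_irrel' hpos h0 hr) (fun i hi => ?_) hs
    haveI := LocCoh.IsCohenMacaulayRing.isCohenMacaulayLocalRing_localization (R := R) J
    refine (LC.le_idealDepth_iff_H (IsLocalRing.maximalIdeal (Localization.AtPrime J))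
      (Localization.AtPrime J) r).1 ?_ i hi
    refine WithBot.coe_le_coe.1 (le_of_eq (Eq.symm ?_))
    exact LocCoh.IsCohenMacaulayLocalRing.supportDim_eq_depth.symm.trans
      ((Module.supportDim_self_eq_ringKrullDim _).trans (GorSocle.ringKrullDim_atMax_eq (height_irrel' hpos h0 hr)))
  exact gorensteinRing_of_atMax (addPieces_eq_bot 𝒜 hpos) (isStarLocal_irrel_add 𝒜 hpos h0) hr hG

theorem mem_HP {n : ℕ} {d : ℤ} {x : (HR I n).carrier} :
    x ∈ HP I n d ↔ (x : I.H (GrSyz.irrel 𝒜) n) ∈ I.Hgr (GrSyz.irrel 𝒜) n d := Iff.rfl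

/-- The pieces of local cohomology, with scalars in degree zero. -/
noncomputable def hpEquiv (n : ℕ) (d : ℤ) : HP I n d ≃+ I.Hcomp (GrSyz.irrel 𝒜) n d :=
  { toFun := fun v => ⟨v.1, v.2⟩, invFun := fun v => ⟨v.1, v.2⟩, left_inv := fun _ => rfl, right_inv := fun _ => rfl,
    map_add' := fun _ _ => rfl }

theorem hpEquiv_smul (n : ℕ) (d : ℤ) (c : k) (v : HP I n d) : hpEquiv I n d (c • v) = iota 𝒜 c • hpEquiv I n d v :=
  Subtype.ext (algebraMap_smul R c v.1).symm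

include hpos h0 in
theorem finite_HP (n : ℕ) (d : ℤ) : Module.Finite k (HP I n d) := by
  haveI := Algebra.FiniteType.isNoetherianRing k R
  haveI : Module.Finite R (GrLC.GMod.of 𝒜 R (addPieces 𝒜)).carrier := inferInstanceAs (Module.Finite R R)
  exact finite_transfer h0 (hpEquiv I n d) (hpEquiv_smul I n d)
    (finite_Hcomp (nonneg_of_eq_bot 𝒜 hpos) h0 (X := GrLC.GMod.of 𝒜 R (addPieces 𝒜)) (resAdd I) n d)

include hpos h0 in
/-- The socle data of the top cohomology of a Gorenstein graded algebra. -/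
theorem exists_socle' [LocCoh.IsGorensteinRing R] {r : ℕ} (hr : ringKrullDim R = r) :
    ∃ a : ℤ, GrLC.endDeg (I.Hgr (GrSyz.irrel 𝒜) r) = ((a : WithTop ℤ) : WithBot (WithTop ℤ)) ∧
      (∀ d, a < d → I.Hgr (GrSyz.irrel 𝒜) r d = ⊥) ∧
      (∀ d, ∀ x ∈ HP I r d, x ≠ 0 → ∃ t ∈ 𝒜 (a - d), t • x ≠ 0) ∧
      Module.finrank k (HP I r a) = 1 ∧
      ∀ d, Module.finrank k (HP I r d) = Module.finrank k (𝒜 (a - d)) := by
  classical
  haveI := Algebra.FiniteType.isNoetherianRing k R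
  haveI := isMaximal_irrel' hpos h0
  have hp := nonneg_of_eq_bot 𝒜 hpos
  have hd := height_irrel' hpos h0 hr
  have hG := LocCoh.IsGorensteinRing.isGorensteinLocalRing_localization (A := R) (GrSyz.irrel 𝒜).toIdeal
  obtain ⟨a, ha⟩ := Canon.exists_endDeg (I := I) hp irrel_eq_span (isField_deg0' h0) hd
  have hnz : ∃ g, I.Hgr (GrSyz.irrel 𝒜) r g ≠ ⊥ := by
    by_contra h
    push Not at h
    have h1 : GrLC.endDeg (I.Hgr (GrSyz.irrel 𝒜) r) ≤ (((a - 1 : ℤ) : WithTop ℤ) : WithBot (WithTop ℤ)) :=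
      (endDeg_le_iff _ _).2 fun g _ => h g
    rw [ha] at h1
    have := WithTop.coe_le_coe.1 (WithBot.coe_le_coe.1 h1)
    omega
  letI := (isInternal_Hgr 𝒜 I (GrSyz.irrel 𝒜) r).chooseDecomposition
  obtain ⟨b, s, hs, hs0, hb, hess, -, -⟩ := GorSocle.socle_degree (I := I) hp (GorSocle.isPowerTorsion_H r I)
    (GorSocle.simpleSoc I hd hG) (fun g hg t ht => irrel_eq_span.ge (Ideal.subset_span (Set.mem_biUnion hg ht))) hnz
  rw [ha] at hb
  obtain rfl : a = b := WithTop.coe_eq_coe.1 (WithBot.coe_eq_coe.1 hb)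
  haveI : ∀ d, Module.Finite k (HP I r d) := finite_HP hpos h0 I r
  have key : ∀ y : I.H (GrSyz.irrel 𝒜) r, y ∈ I.Hgr (GrSyz.irrel 𝒜) r a → y ≠ 0 →
      ∃ c : k, algebraMap k R c • s = y := by
    intro y hy hy0
    obtain ⟨t, ht, t₀, h1, h2⟩ := hess a y hy hy0
    rw [sub_self] at ht
    obtain ⟨c, rfl⟩ := eq_algebraMap_of_mem_zero 𝒜 h0 ht
    have hc0 : c ≠ 0 := fun h => h1 (by rw [h, map_zero, zero_smul])
    obtain ⟨c', hc'⟩ := eq_algebraMap_of_mem_zero 𝒜 h0 (SetLike.coe_mem (decompose 𝒜 t₀ 0))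
    refine ⟨c⁻¹ * c', ?_⟩
    have hcy : algebraMap k R c • y ∈ I.Hgr (GrSyz.irrel 𝒜) r a := by
      have h := GorSocle.smul_mem_Hgr I (SetLike.algebraMap_mem_graded 𝒜 c) hy
      rwa [zero_add] at h
    have h3 := GorSocle.decompose_smul_Hgr I hs t₀ a
    rw [← h2, sub_self, decompose_of_mem_same _ hcy, hc'] at h3
    rw [map_mul, mul_smul, ← h3, ← mul_smul, ← map_mul, inv_mul_cancel₀ hc0, map_one, one_smul]
  have hline : ∀ y : HP I r a, ∃ c : k, c • (⟨s, hs⟩ : HP I r a) = y := by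
    intro y
    rcases eq_or_ne y 0 with rfl | hy0
    · exact ⟨0, zero_smul _ _⟩
    obtain ⟨c, hc⟩ := key y.1 y.2 fun h => hy0 (Subtype.ext h)
    exact ⟨c, Subtype.ext hc⟩
  have hone : Module.finrank k (HP I r a) = 1 := finrank_eq_one ⟨s, hs⟩ (fun h => hs0 (congrArg Subtype.val h)) hline
  refine ⟨a, ha, (endDeg_le_iff _ a).1 ha.le, fun d x hx hx0 => ?_, hone, fun d => ?_⟩
  · obtain ⟨t, ht, _, h1, -⟩ := hess d x hx hx0
    exact ⟨t, ht, h1⟩
  let W := HP I r a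
  haveI : Module.Finite k (pieceK 𝒜 (addPieces 𝒜) (a - d)) :=
    GrLib8.finite_pieceK 𝒜 (addPieces 𝒜) hpos h0 (a - d)
  haveI : Module.Finite k (𝒜 (a - d)) := Module.Finite.equiv
    (show pieceK 𝒜 (addPieces 𝒜) (a - d) ≃ₗ[k] 𝒜 (a - d) from
      { toFun := fun v => ⟨v.1, v.2⟩, invFun := fun v => ⟨v.1, v.2⟩, left_inv := fun _ => rfl
        right_inv := fun _ => rfl, map_add' := fun _ _ => rfl, map_smul' := fun _ _ => rfl })
  have hmem : ∀ (t : 𝒜 (a - d)) (y : HP I r d), (t : R) • y.1 ∈ W := fun t y => by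
    have := GorSocle.smul_mem_Hgr I t.2 y.2
    rwa [sub_add_cancel] at this
  let P : 𝒜 (a - d) →ₗ[k] HP I r d →ₗ[k] W := LinearMap.mk₂ k (fun t y => ⟨(t : R) • y.1, hmem t y⟩)
    (fun t t' y => Subtype.ext (add_smul _ _ _))
    (fun c t y => Subtype.ext (smul_assoc c (t : R) y.1))
    (fun t y y' => Subtype.ext (smul_add _ _ _))
    (fun c t y => Subtype.ext (smul_comm (t : R) c y.1))
  have hP : Function.Injective P := (injective_iff_map_eq_zero P).2 fun t ht => by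
    by_contra ht0
    obtain ⟨y, hy⟩ := GorSocle.faithful I (isStarLocal_irrel' hpos h0) hd hG t.2 fun h => ht0 (Subtype.ext h)
    obtain ⟨g, hg⟩ : ∃ g, (t : R) • (decompose (I.Hgr (GrSyz.irrel 𝒜) r) y g : I.H (GrSyz.irrel 𝒜) r) ≠ 0 := by
      by_contra h
      push Not at h
      refine hy ?_
      rw [← sum_support_decompose (I.Hgr (GrSyz.irrel 𝒜) r) y, Finset.smul_sum]
      exact Finset.sum_eq_zero fun i _ => h i
    obtain ⟨t', ht', _, h1, -⟩ := hess _ _ (GorSocle.smul_mem_Hgr I t.2 (SetLike.coe_mem _)) hg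
    have hy' := GorSocle.smul_mem_Hgr I ht' (SetLike.coe_mem (decompose (I.Hgr (GrSyz.irrel 𝒜) r) y g))
    rw [show a - (a - d + g) + g = d by ring] at hy'
    refine h1 ?_
    rw [smul_comm]
    exact congrArg Subtype.val (LinearMap.congr_fun ht ⟨_, hy'⟩)
  have hP' : Function.Injective P.flip := (injective_iff_map_eq_zero P.flip).2 fun y hy => by
    by_contra hy0
    obtain ⟨t, ht, _, hty, -⟩ := hess d y.1 y.2 fun h => hy0 (Subtype.ext h)
    exact hty (congrArg Subtype.val (LinearMap.congr_fun hy ⟨t, ht⟩))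
  have h1 := LinearMap.finrank_le_finrank_of_injective hP
  have h2 := LinearMap.finrank_le_finrank_of_injective hP'
  rw [Module.finrank_linearMap, show Module.finrank k W = 1 from hone, mul_one] at h1 h2
  exact le_antisymm h2 h1

include hpos h0 in
/-- The pieces of the top cohomology of a standard graded Cohen-Macaulay algebra. -/
theorem exists_growth [LocCoh.IsCohenMacaulayRing R] {r : ℕ} (hr : ringKrullDim R = r) (h2 : 2 ≤ r)
    (hstd : Ideal.span (⋃ n ∈ Set.Ioi (0 : ℤ), (𝒜 n : Set R)) = Ideal.span ((𝒜 1 : Submodule k R) : Set R)) :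
    ∃ a : ℤ, GrLC.endDeg (I.Hgr (GrSyz.irrel 𝒜) r) = ((a : WithTop ℤ) : WithBot (WithTop ℤ)) ∧
      (∀ d, a < d → I.Hgr (GrSyz.irrel 𝒜) r d = ⊥) ∧ (∀ d, d < a → 2 ≤ Module.finrank k (HP I r d)) ∧
      1 ≤ Module.finrank k (HP I r a) := by
  classical
  haveI := Algebra.FiniteType.isNoetherianRing k R
  haveI := isMaximal_irrel' hpos h0
  have hp := nonneg_of_eq_bot 𝒜 hpos
  have hF := isField_deg0' h0
  have hd := height_irrel' hpos h0 hr
  obtain ⟨E, _, _, 𝓔, _, _, e, he⟩ := Canon.exists_hull_residue (𝒜 := 𝒜) (m := GrSyz.irrel 𝒜)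
  obtain ⟨C, _, _, 𝒞, _, _, hC⟩ := Canon.exists_starCanonical hp irrel_eq_span hF r I he
  obtain ⟨a, ha⟩ := Canon.exists_endDeg (I := I) hp irrel_eq_span hF hd
  haveI := hC.1
  have hdual : ∀ d, Module.finrank k (HP I r d) = Module.finrank (GrLC.deg0 𝒜) (GrLC.comp 𝒜 𝒞 (-d)) := fun d =>
    (finrank_transfer h0 (hpEquiv I r d) (hpEquiv_smul I r d)).trans (Canon.finrank_comp_eq hp irrel_eq_span hF he hC
      (isInjectiveHull_of_isStarInjHull_maximal (GrSyz.irrel 𝒜) 𝓔 e he).isInjective d)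
  refine ⟨a, ha, (endDeg_le_iff _ a).1 ha.le, fun d hda => ?_, ?_⟩
  · rw [hdual]
    exact Canon.two_le_finrank' hp hF (isStarLocal_irrel' hpos h0) irrel_eq_span hstd
      (GorSocle.ringKrullDim_atMax_eq hd) h2 he hC a ha (-d) (by omega)
  · obtain ⟨c, hc, hc0⟩ := Canon.exists_ne_zero_piece' hp hF irrel_eq_span he hC a ha
    rw [hdual]
    letI := hF.toField
    haveI := hC.1
    haveI : Module.Finite (GrLC.deg0 𝒜) (GrLC.comp 𝒜 𝒞 (-a)) := finite_comp 𝒜 hp 𝒞 (-a)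
    haveI : Nontrivial (GrLC.comp 𝒜 𝒞 (-a)) := nontrivial_of_ne ⟨c, hc⟩ 0 fun h => hc0 (congrArg Subtype.val h)
    exact Module.finrank_pos

include hpos in
/-- A socle of homogeneous elements in a line is simple. -/
theorem simpleSoc_of_line {r : ℕ} {a : ℤ}
    (h : ∀ d, d ≠ a → ∀ x ∈ HP I r d, (∀ i, 0 < i → ∀ α ∈ 𝒜 i, α • x = 0) → x = 0)
    (hone : Module.finrank k (HP I r a) = 1) :
    SimpleSoc (GrSyz.irrel 𝒜).toIdeal (I.H (GrSyz.irrel 𝒜) r) := by
  classical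
  haveI := Algebra.FiniteType.isNoetherianRing k R
  letI := (isInternal_Hgr 𝒜 I (GrSyz.irrel 𝒜) r).chooseDecomposition
  have hle : ∀ y ∈ LocCoh.torsionBy (GrSyz.irrel 𝒜).toIdeal (I.H (GrSyz.irrel 𝒜) r),
      y ∈ I.Hgr (GrSyz.irrel 𝒜) r a := fun y hy => by
    rw [← sum_support_decompose (I.Hgr (GrSyz.irrel 𝒜) r) y]
    refine AddSubgroup.sum_mem _ fun d _ => ?_
    rcases eq_or_ne d a with rfl | hd
    · exact SetLike.coe_mem _
    · have h0 : (decompose (I.Hgr (GrSyz.irrel 𝒜) r) y d : I.H (GrSyz.irrel 𝒜) r) = 0 :=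
        h d hd _ (SetLike.coe_mem _) fun i hi α hα =>
          mem_soc_iff.1 (GorSocle.isHomogeneous_soc I hy d) α (mem_irrel_of_pos (𝒜 := 𝒜) hi hα)
      rw [h0]
      exact zero_mem _
  intro y hy hy0 y' hy'
  obtain ⟨c, hc⟩ := exists_smul_eq_of_finrank_eq_one hone
    (show (⟨y, hle y hy⟩ : HP I r a) ≠ 0 from fun h0 => hy0 (congrArg Subtype.val h0)) ⟨y', hle y' hy'⟩
  exact Submodule.mem_span_singleton.2 ⟨algebraMap k R c, congrArg Subtype.val hc⟩

end One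

section Two

variable {R S T : Type u} [CommRing R] [CommRing S] [CommRing T] [Nontrivial R] [Nontrivial S] [Nontrivial T]
  [Algebra k R] [Algebra k S] [Algebra k T] [Algebra.FiniteType k R] [Algebra.FiniteType k S]
  {𝒜 : ℤ → Submodule k R} [GradedAlgebra 𝒜] {ℬ : ℤ → Submodule k S} [GradedAlgebra ℬ]
  {𝒯 : ℤ → Submodule k T} [GradedAlgebra 𝒯] {ψ : T →ₐ[k] R ⊗[k] S}
  (hT : GrSeg.IsSegreRing 𝒜 ℬ 𝒯 ψ) (hposR : ∀ n : ℤ, n < 0 → 𝒜 n = ⊥) (h0R : 𝒜 0 = Submodule.span k {(1 : R)})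
  (hposS : ∀ n : ℤ, n < 0 → ℬ n = ⊥) (h0S : ℬ 0 = Submodule.span k {(1 : S)})
  (hposT : ∀ n : ℤ, n < 0 → 𝒯 n = ⊥) (h0T : 𝒯 0 = Submodule.span k {(1 : T)})
  (I : GrLC.StarInjRes 𝒜 𝒜) (J : GrLC.StarInjRes ℬ ℬ) (IT : GrLC.StarInjRes 𝒯 𝒯)

/-- The comparison of the top cohomology with the Segre product of top cohomologies. -/
structure TopData (r s N : ℕ)
    (Φ : IT.H (GrSyz.irrel 𝒯) N →+ (HR I r).carrier ⊗[k] (HR J s).carrier) : Prop where
  inj : Function.Injective Φ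
  image : ∀ d : ℤ, Φ '' (IT.Hgr (GrSyz.irrel 𝒯) N d : Set _) =
    (GrSeg.segrePiece k (HR I r).gr (HR J s).gr d : Set _)
  smul : ∀ (t : T) x, Φ (t • x) = GrSeg.act k R S (HR I r).carrier (HR J s).carrier (ψ t) (Φ x)

include hT hposR h0R hposS h0S hposT h0T in
theorem exists_topData (p q : ℕ) (hr : ringKrullDim R = (p + 2 : ℕ)) (hs : ringKrullDim S = (q + 2 : ℕ)) :
    ∃ Φ, TopData (ψ := ψ) I J IT (p + 2) (q + 2) (p + q + 1 + 2) Φ := by
  classical
  haveI := Algebra.FiniteType.isNoetherianRing k R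
  haveI := Algebra.FiniteType.isNoetherianRing k S
  haveI : IsNoetherianRing T := isNoetherianRing_segre 𝒜 ℬ 𝒯 ψ hT
  let X := GrLC.GMod.of 𝒜 R (addPieces 𝒜)
  let Y := GrLC.GMod.of ℬ S (addPieces ℬ)
  haveI : Module.Finite R X.carrier := inferInstanceAs (Module.Finite R R)
  haveI : Module.Finite S Y.carrier := inferInstanceAs (Module.Finite S S)
  obtain ⟨e, he, heb, -⟩ := exists_to_sq (addPieces 𝒜) (addPieces ℬ) (𝒬 := addPieces 𝒯) hT.2 ψ.toLinearMap
    (isSegreMod_self 𝒜 ℬ 𝒯 ψ hT)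
  obtain ⟨Φ, h1, h2, h3⟩ := exists_top_equiv hT.2 (nonneg_of_eq_bot 𝒜 hposR) (nonneg_of_eq_bot ℬ hposS)
    (nonneg_of_eq_bot 𝒯 hposT) (X := X) (Y := Y) (resAdd I) (resAdd J) h0R h0S h0T p q
    (fun i hi => by
      obtain ⟨h⟩ := nonempty_H_equiv 𝒜 I (GrSyz.irrel 𝒜) i
      haveI := LC.cdLE_of_ringKrullDim_le (GrSyz.irrel 𝒜).toIdeal hr.le R i hi
      exact h.toEquiv.subsingleton)
    (fun i hi => by
      obtain ⟨h⟩ := nonempty_H_equiv ℬ J (GrSyz.irrel ℬ) i
      haveI := LC.cdLE_of_ringKrullDim_le (GrSyz.irrel ℬ).toIdeal hs.le S i hi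
      exact h.toEquiv.subsingleton) e he heb (resAdd IT)
  exact ⟨Φ, h1, h2, h3⟩

variable {r s N : ℕ} {Φ : IT.H (GrSyz.irrel 𝒯) N →+ (HR I r).carrier ⊗[k] (HR J s).carrier}
  (D : TopData (ψ := ψ) I J IT r s N Φ)

variable {I J IT}

include D in
theorem TopData.mem_piece {d : ℤ} {y : IT.H (GrSyz.irrel 𝒯) N} (hy : y ∈ IT.Hgr (GrSyz.irrel 𝒯) N d) :
    Φ y ∈ GrSeg.segrePiece k (HR I r).gr (HR J s).gr d := (D.image d).le ⟨y, hy, rfl⟩

include D in
theorem TopData.exists_pre {d : ℤ} {v : (HR I r).carrier ⊗[k] (HR J s).carrier}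
    (hv : v ∈ GrSeg.segrePiece k (HR I r).gr (HR J s).gr d) : ∃ y ∈ IT.Hgr (GrSyz.irrel 𝒯) N d, Φ y = v :=
  (D.image d).ge hv

include D in
theorem TopData.map_k (c : k) (y : IT.H (GrSyz.irrel 𝒯) N) : Φ (algebraMap k T c • y) = c • Φ y := by
  rw [D.smul, AlgHom.commutes, Algebra.algebraMap_eq_smul_one, map_smul, LinearMap.smul_apply,
    Algebra.TensorProduct.one_def]
  congr 1
  generalize Φ y = v
  induction v using TensorProduct.induction_on with
  | zero => rw [map_zero]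
  | add a b ha hb => rw [map_add, ha, hb]
  | tmul a b => rw [GrSeg.act_tmul, one_smul, one_smul]

theorem segrePiece_eq_bot {d : ℤ} (h : I.Hgr (GrSyz.irrel 𝒜) r d = ⊥ ∨ J.Hgr (GrSyz.irrel ℬ) s d = ⊥) :
    GrSeg.segrePiece k (HR I r).gr (HR J s).gr d = ⊥ := by
  rw [Submodule.eq_bot_iff]
  intro v hv
  induction hv using Submodule.span_induction with
  | mem v hv =>
    obtain ⟨x, hx, y, hy, rfl⟩ := hv
    rcases h with h | h
    · rw [show x = 0 from (AddSubgroup.eq_bot_iff_forall _).1 h x hx, TensorProduct.zero_tmul]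
    · rw [show y = 0 from (AddSubgroup.eq_bot_iff_forall _).1 h y hy, TensorProduct.tmul_zero]
  | zero => rfl
  | add a b _ _ ha hb => rw [ha, hb, add_zero]
  | smul c a _ ha => rw [ha, smul_zero]

include D in
theorem TopData.Hgr_eq_bot {d : ℤ} (h : I.Hgr (GrSyz.irrel 𝒜) r d = ⊥ ∨ J.Hgr (GrSyz.irrel ℬ) s d = ⊥) :
    IT.Hgr (GrSyz.irrel 𝒯) N d = ⊥ :=
  (AddSubgroup.eq_bot_iff_forall _).2 fun y hy => D.inj (by
    have h1 := D.mem_piece hy
    rw [segrePiece_eq_bot h, Submodule.mem_bot] at h1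
    rw [h1, map_zero])

include hposT in
theorem mem_soc_of_pos [IsNoetherianRing T] {d : ℤ} {y : IT.H (GrSyz.irrel 𝒯) N}
    (h : ∀ i : ℤ, 0 < i → ∀ t ∈ 𝒯 i, t • y = 0) :
    y ∈ LocCoh.torsionBy (GrSyz.irrel 𝒯).toIdeal (IT.H (GrSyz.irrel 𝒯) N) := by
  refine mem_soc_iff.2 fun t ht => ?_
  rw [irrel_eq_span] at ht
  induction ht using Submodule.span_induction with
  | mem t ht =>
    obtain ⟨i, hi, hti⟩ := Set.mem_iUnion₂.1 ht
    exact h i hi t hti
  | zero => rw [zero_smul]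
  | add a b _ _ ha hb => rw [add_smul, ha, hb, add_zero]
  | smul c a _ ha => rw [smul_eq_mul, mul_smul, ha, smul_zero]

include D hposT in
theorem TopData.mem_soc_of_top [IsNoetherianRing T] {d : ℤ}
    (h : ∀ g, d < g → I.Hgr (GrSyz.irrel 𝒜) r g = ⊥ ∨ J.Hgr (GrSyz.irrel ℬ) s g = ⊥)
    {y : IT.H (GrSyz.irrel 𝒯) N} (hy : y ∈ IT.Hgr (GrSyz.irrel 𝒯) N d) :
    y ∈ LocCoh.torsionBy (GrSyz.irrel 𝒯).toIdeal (IT.H (GrSyz.irrel 𝒯) N) :=
  mem_soc_of_pos hposT (d := d) fun i hi t ht => (AddSubgroup.eq_bot_iff_forall _).1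
    (D.Hgr_eq_bot (h (i + d) (by omega))) _ (GorSocle.smul_mem_Hgr IT ht hy)

include hT D in
/-- A homogeneous socle element vanishes in degrees where the factors are nondegenerate. -/
theorem TopData.eq_zero_of_soc {d i : ℤ} (hi : 0 < i)
    (hx : ∀ x ∈ HP I r d, (∀ a ∈ 𝒜 i, a • x = 0) → x = 0)
    (hy : ∀ y ∈ HP J s d, (∀ b ∈ ℬ i, b • y = 0) → y = 0)
    {w : IT.H (GrSyz.irrel 𝒯) N} (hw : w ∈ IT.Hgr (GrSyz.irrel 𝒯) N d)
    (hsoc : w ∈ LocCoh.torsionBy (GrSyz.irrel 𝒯).toIdeal (IT.H (GrSyz.irrel 𝒯) N)) : w = 0 := by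
  obtain ⟨v, hv⟩ := (range_pieceTensor (HR I r) (HR J s) d).ge (D.mem_piece hw)
  let f : 𝒜 i → HP I r d →ₗ[k] (HR I r).carrier := fun a =>
    ((LinearMap.lsmul R (HR I r).carrier (a : R)).restrictScalars k) ∘ₗ (HP I r d).subtype
  let g : ℬ i → HP J s d →ₗ[k] (HR J s).carrier := fun b =>
    ((LinearMap.lsmul S (HR J s).carrier (b : S)).restrictScalars k) ∘ₗ (HP J s d).subtype
  have h0 : v = 0 := eq_zero_of_map f g (fun x h => Subtype.ext (hx x.1 x.2 fun a ha => h ⟨a, ha⟩))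
    (fun y h => Subtype.ext (hy y.1 y.2 fun b hb => h ⟨b, hb⟩)) v fun a b => by
      obtain ⟨t, ht, htψ⟩ := (hT.2 i).ge (Submodule.subset_span ⟨a.1, a.2, b.1, b.2, rfl⟩)
      have h1 := D.smul t w
      rw [mem_soc_iff.1 hsoc t (mem_irrel_of_pos (𝒜 := 𝒯) hi ht), map_zero] at h1
      rw [show ψ t = a.1 ⊗ₜ[k] b.1 from htψ, ← hv] at h1
      refine Eq.trans ?_ h1.symm
      clear hv h1
      induction v using TensorProduct.induction_on with
      | zero => simp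
      | add x y hx hy => simp only [map_add, hx, hy]
      | tmul x y =>
        rw [TensorProduct.map_tmul, pieceTensor, TensorProduct.map_tmul, GrSeg.act_tmul]
        rfl
  refine D.inj ?_
  rw [← hv, h0, map_zero, map_zero]

include hposT in
theorem soc_le_of_homogeneous [IsNoetherianRing T] (a : ℤ)
    (h : ∀ d, d ≠ a → ∀ y ∈ IT.Hgr (GrSyz.irrel 𝒯) N d,
      y ∈ LocCoh.torsionBy (GrSyz.irrel 𝒯).toIdeal (IT.H (GrSyz.irrel 𝒯) N) → y = 0)
    {y : IT.H (GrSyz.irrel 𝒯) N} (hy : y ∈ LocCoh.torsionBy (GrSyz.irrel 𝒯).toIdeal (IT.H (GrSyz.irrel 𝒯) N)) :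
    y ∈ IT.Hgr (GrSyz.irrel 𝒯) N a := by
  classical
  letI := (isInternal_Hgr 𝒯 IT (GrSyz.irrel 𝒯) N).chooseDecomposition
  rw [← sum_support_decompose (IT.Hgr (GrSyz.irrel 𝒯) N) y]
  refine AddSubgroup.sum_mem _ fun d _ => ?_
  rcases eq_or_ne d a with rfl | hd
  · exact SetLike.coe_mem _
  · rw [h d hd _ (SetLike.coe_mem _) (GorSocle.isHomogeneous_soc IT hy d)]
    exact zero_mem _

include hposT h0T in
theorem exists_scalar [IsNoetherianRing T] (t : T) {y : IT.H (GrSyz.irrel 𝒯) N}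
    (hy : y ∈ LocCoh.torsionBy (GrSyz.irrel 𝒯).toIdeal (IT.H (GrSyz.irrel 𝒯) N)) :
    ∃ c : k, t • y = algebraMap k T c • y := by
  obtain ⟨c, hc⟩ := eq_algebraMap_of_mem_zero 𝒯 h0T (SetLike.coe_mem (decompose 𝒯 t 0))
  refine ⟨c, ?_⟩
  have h := Canon.sub_decompose_zero_mem (𝒜 := 𝒯) (m := GrSyz.irrel 𝒯) (nonneg_of_eq_bot 𝒯 hposT) irrel_eq_span t
  have h1 := mem_soc_iff.1 hy _ h
  rwa [hc, sub_smul, sub_eq_zero] at h1

include D hposT h0T in
/-- A socle concentrated in a line is simple. -/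
theorem TopData.simpleSoc [IsNoetherianRing T] {a : ℤ}
    (h : ∀ y ∈ LocCoh.torsionBy (GrSyz.irrel 𝒯).toIdeal (IT.H (GrSyz.irrel 𝒯) N), y ∈ IT.Hgr (GrSyz.irrel 𝒯) N a)
    (hI : Module.finrank k (HP I r a) = 1) (hJ : Module.finrank k (HP J s a) = 1) :
    SimpleSoc (GrSyz.irrel 𝒯).toIdeal (IT.H (GrSyz.irrel 𝒯) N) := by
  intro y hy hy0 y' hy'
  let U := GrSeg.segrePiece k (HR I r).gr (HR J s).gr a
  haveI := Algebra.FiniteType.isNoetherianRing k R
  haveI := Algebra.FiniteType.isNoetherianRing k S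
  have hU : Module.finrank k U = 1 := by rw [finrank_segrePiece, hI, hJ]
  obtain ⟨c, hc⟩ := exists_smul_eq_of_finrank_eq_one hU
    (show (⟨Φ y, D.mem_piece (h y hy)⟩ : U) ≠ 0 from fun h0 => hy0 (D.inj (by
      rw [map_zero]; exact congrArg Subtype.val h0))) ⟨Φ y', D.mem_piece (h y' hy')⟩
  refine Submodule.mem_span_singleton.2 ⟨algebraMap k T c, D.inj ?_⟩
  rw [D.map_k]
  exact congrArg Subtype.val hc

include D hposT h0T in
/-- A simple socle bounds the top piece. -/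
theorem TopData.finrank_mul_le_one [IsNoetherianRing T]
    (hs : SimpleSoc (GrSyz.irrel 𝒯).toIdeal (IT.H (GrSyz.irrel 𝒯) N)) {d : ℤ}
    (h : ∀ g, d < g → I.Hgr (GrSyz.irrel 𝒜) r g = ⊥ ∨ J.Hgr (GrSyz.irrel ℬ) s g = ⊥) :
    Module.finrank k (HP I r d) * Module.finrank k (HP J s d) ≤ 1 := by
  let U := GrSeg.segrePiece k (HR I r).gr (HR J s).gr d
  haveI := Algebra.FiniteType.isNoetherianRing k R
  haveI := Algebra.FiniteType.isNoetherianRing k S
  rw [← finrank_segrePiece (HR I r) (HR J s) d]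
  rcases eq_or_ne U ⊥ with hU | hU
  · rw [show GrSeg.segrePiece k (HR I r).gr (HR J s).gr d = ⊥ from hU, finrank_bot]; omega
  obtain ⟨v, hv, hv0⟩ := (Submodule.ne_bot_iff _).1 hU
  obtain ⟨y, hy, rfl⟩ := D.exists_pre hv
  refine finrank_le_one (⟨Φ y, hv⟩ : U) fun v' => ?_
  obtain ⟨y', hy', he⟩ := D.exists_pre v'.2
  have hys := D.mem_soc_of_top hposT h hy
  obtain ⟨t, ht⟩ := Submodule.mem_span_singleton.1
    (hs y hys (fun h0 => hv0 (by rw [h0, map_zero])) (D.mem_soc_of_top hposT h hy'))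
  obtain ⟨c, hc⟩ := exists_scalar hposT h0T t hys
  refine ⟨c, Subtype.ext ?_⟩
  show c • Φ y = v'.1
  rw [← D.map_k, ← hc, ht, he]

include hT D hposT h0T in
/-- With a simple socle, a socle tensor lies in the top degree. -/
theorem TopData.eq_of_tmul_soc [IsNoetherianRing T]
    (hs : SimpleSoc (GrSyz.irrel 𝒯).toIdeal (IT.H (GrSyz.irrel 𝒯) N)) {a d : ℤ}
    (htop : ∀ g, a < g → I.Hgr (GrSyz.irrel 𝒜) r g = ⊥ ∨ J.Hgr (GrSyz.irrel ℬ) s g = ⊥)
    {xa : (HR I r).carrier} (hxa : xa ∈ HP I r a) (hxa0 : xa ≠ 0)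
    {ya : (HR J s).carrier} (hya : ya ∈ HP J s a) (hya0 : ya ≠ 0)
    {x : (HR I r).carrier} (hx : x ∈ HP I r d) (hx0 : x ≠ 0) {y : (HR J s).carrier} (hy : y ∈ HP J s d) (hy0 : y ≠ 0)
    (hsoc : ∀ i : ℤ, 0 < i → ∀ α ∈ 𝒜 i, ∀ β ∈ ℬ i, (α • x) ⊗ₜ[k] (β • y) = (0 : (HR I r).carrier ⊗[k] (HR J s).carrier)) :
    d = a := by
  classical
  obtain ⟨w, hw, hwe⟩ := D.exists_pre (tmul_mem_segrePiece (HR I r) (HR J s) hx hy)
  obtain ⟨z, hz, hze⟩ := D.exists_pre (tmul_mem_segrePiece (HR I r) (HR J s) hxa hya)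
  have hws : w ∈ LocCoh.torsionBy (GrSyz.irrel 𝒯).toIdeal (IT.H (GrSyz.irrel 𝒯) N) := by
    refine mem_soc_of_pos hposT (d := d) fun i hi t ht => D.inj ?_
    rw [D.smul, hwe, map_zero]
    have hmem : ψ t ∈ GrSeg.segrePiece k 𝒜 ℬ i := (hT.2 i).le ⟨t, ht, rfl⟩
    generalize ψ t = u at hmem ⊢
    induction hmem using Submodule.span_induction with
    | mem u hu =>
      obtain ⟨α, hα, β, hβ, rfl⟩ := hu
      rw [GrSeg.act_tmul]
      exact hsoc i hi α hα β hβ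
    | zero => rw [map_zero, LinearMap.zero_apply]
    | add u u' _ _ hu hu' => rw [map_add, LinearMap.add_apply, hu, hu', add_zero]
    | smul c u _ hu => rw [map_smul, LinearMap.smul_apply, hu, smul_zero]
  have hw0 : w ≠ 0 := fun h => tmul_ne_zero hx0 hy0 (by rw [← hwe, h, map_zero])
  have hz0 : z ≠ 0 := fun h => tmul_ne_zero hxa0 hya0 (by rw [← hze, h, map_zero])
  have hzs := D.mem_soc_of_top hposT htop hz
  obtain ⟨t, ht⟩ := Submodule.mem_span_singleton.1 (hs z hzs hz0 hws)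
  obtain ⟨c, hc⟩ := exists_scalar hposT h0T t hzs
  letI := (isInternal_Hgr 𝒯 IT (GrSyz.irrel 𝒯) N).chooseDecomposition
  have hwa : w ∈ IT.Hgr (GrSyz.irrel 𝒯) N a := by
    rw [← ht, hc]
    simpa using GorSocle.smul_mem_Hgr IT (SetLike.algebraMap_mem_graded 𝒯 c) hz
  by_contra hne
  exact hw0 ((decompose_of_mem_same _ hw).symm.trans (decompose_of_mem_ne _ hwa (Ne.symm hne)))

end Two

end Groth.Agent.GrLib8.Seg
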