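import Groth.Agent.GrLib8.SegBridge
import Groth.Agent.GrLib8.AcycRes

/-!
# Local cohomology of a Segre product with a factor on which a homogeneous element is bijective
-/

set_option autoImplicit false
set_option linter.unusedSectionVars false
set_option linter.style.haveILetI false
set_option maxHeartbeats 1600000

universe u

open DirectSum
open scoped TensorProduct

namespace Groth.Agent.GrLib8.Seg

variable {k : Type u} [Field k] {R S T : Type u} [CommRing R] [CommRing S] [CommRing T] [Algebra k R] [Algebra k S]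
  [Algebra k T] {𝒜 : ℤ → Submodule k R} [GradedAlgebra 𝒜] {ℬ : ℤ → Submodule k S} [GradedAlgebra ℬ]
  {𝒯 : ℤ → Submodule k T} [GradedAlgebra 𝒯] {ψ : T →ₐ[k] R ⊗[k] S}

section Left

variable {X X' X'' : GrLC.GMod.{u} 𝒜} (Y : GrLC.GMod.{u} ℬ)

/-- The map on a tensor product induced on the left factor. -/
noncomputable abbrev tm (f : X.carrier →ₗ[R] X'.carrier) :
    X.carrier ⊗[k] Y.carrier →ₗ[k] X'.carrier ⊗[k] Y.carrier :=
  tmap f (LinearMap.id : Y.carrier →ₗ[S] Y.carrier)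

theorem tm_exact {f : X.carrier →ₗ[R] X'.carrier} {g : X'.carrier →ₗ[R] X''.carrier} (h : Function.Exact f g) :
    Function.Exact (tm Y f) (tm Y g) :=
  Module.Flat.rTensor_exact (R := k) (M := Y.carrier) (f := f.restrictScalars k) (g := g.restrictScalars k) h

theorem tm_injective {f : X.carrier →ₗ[R] X'.carrier} (h : Function.Injective f) : Function.Injective (tm Y f) :=
  Module.Flat.rTensor_preserves_injective_linearMap (R := k) (M := Y.carrier) (f.restrictScalars k) h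

theorem tm_comp (f : X.carrier →ₗ[R] X'.carrier) (g : X'.carrier →ₗ[R] X''.carrier) (z : X.carrier ⊗[k] Y.carrier) :
    tm Y g (tm Y f z) = tm Y (g ∘ₗ f) z := by
  induction z using TensorProduct.induction_on with
  | zero => simp
  | add a b ha hb => simp only [map_add, ha, hb]
  | tmul a b => rfl

/-- The projection to a bidegree. -/
noncomputable def pr (X : GrLC.GMod.{u} 𝒜) (n : ℤ) : X.carrier ⊗[k] Y.carrier →ₗ[k] X.carrier ⊗[k] Y.carrier :=
  TensorProduct.map (cmp 𝒜 X.gr n) (cmp ℬ Y.gr n)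

theorem pr_mem (n : ℤ) (z : X.carrier ⊗[k] Y.carrier) : pr Y X n z ∈ GrSeg.segrePiece k X.gr Y.gr n := by
  induction z using TensorProduct.induction_on with
  | zero => rw [map_zero]; exact zero_mem _
  | add a b ha hb => rw [map_add]; exact add_mem ha hb
  | tmul a b =>
    exact tmul_mem_segrePiece X Y (SetLike.coe_mem (decompose X.gr a n)) (SetLike.coe_mem (decompose Y.gr b n))

theorem pr_of_mem (n m : ℤ) {z : X.carrier ⊗[k] Y.carrier} (hz : z ∈ GrSeg.segrePiece k X.gr Y.gr m) :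
    pr Y X n z = if m = n then z else 0 := by
  induction hz using Submodule.span_induction with
  | mem w hw =>
    obtain ⟨x, hx, y, hy, rfl⟩ := hw
    show (decompose X.gr x n : X.carrier) ⊗ₜ[k] (decompose Y.gr y n : Y.carrier) = _
    rcases eq_or_ne m n with rfl | h
    · rw [if_pos rfl, decompose_of_mem_same X.gr hx, decompose_of_mem_same Y.gr hy]
    · rw [if_neg h, decompose_of_mem_ne X.gr hx h, TensorProduct.zero_tmul]
  | zero => simp
  | add a b _ _ ha hb => rw [map_add, ha, hb]; split_ifs <;> simp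
  | smul c a _ ha => rw [map_smul, ha]; split_ifs <;> simp

theorem pr_tm {f : X.carrier →ₗ[R] X'.carrier} (hf : GrLC.IsGrHom X.gr X'.gr f) (n : ℤ)
    (z : X.carrier ⊗[k] Y.carrier) : pr Y X' n (tm Y f z) = tm Y f (pr Y X n z) := by
  induction z using TensorProduct.induction_on with
  | zero => simp
  | add a b ha hb => simp only [map_add, ha, hb]
  | tmul a b =>
    show (decompose X'.gr (f a) n : X'.carrier) ⊗ₜ[k] (decompose Y.gr b n : Y.carrier) =
      f (decompose X.gr a n : X.carrier) ⊗ₜ[k] (decompose Y.gr b n : Y.carrier)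
    exact congrArg (· ⊗ₜ[k] (decompose Y.gr b n : Y.carrier))
      (map_decompose X.gr X'.gr f.toAddMonoidHom hf a n).symm

theorem exists_pre {f : X.carrier →ₗ[R] X'.carrier} (hf : GrLC.IsGrHom X.gr X'.gr f) {n : ℤ}
    {z : X'.carrier ⊗[k] Y.carrier} (hz : z ∈ GrSeg.segrePiece k X'.gr Y.gr n) (hr : ∃ u, tm Y f u = z) :
    ∃ u ∈ GrSeg.segrePiece k X.gr Y.gr n, tm Y f u = z := by
  obtain ⟨u, rfl⟩ := hr
  refine ⟨pr Y X n u, pr_mem Y n u, ?_⟩
  rw [← pr_tm Y hf, pr_of_mem Y n n hz, if_pos rfl]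

theorem sum_pr {z : X.carrier ⊗[k] Y.carrier} (hz : z ∈ diagPart X Y) :
    ∃ s : Finset ℤ, ∀ t, s ⊆ t → ∑ n ∈ t, pr Y X n z = z := by
  classical
  refine Submodule.iSup_induction _ (motive := fun z => ∃ s : Finset ℤ, ∀ t, s ⊆ t → ∑ n ∈ t, pr Y X n z = z) hz
    (fun m z hz => ⟨{m}, fun t ht => ?_⟩) ⟨∅, fun t _ => by simp⟩ fun a b ⟨sa, ha⟩ ⟨sb, hb⟩ => ⟨sa ∪ sb, fun t ht => by
      simp only [map_add, Finset.sum_add_distrib, ha t (Finset.union_subset_left ht), hb t (Finset.union_subset_right ht)]⟩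
  rw [Finset.sum_congr rfl fun n _ => pr_of_mem Y n m hz, Finset.sum_ite_eq t m]
  exact if_pos (ht (Finset.mem_singleton_self m))

theorem exists_pre_diag {f : X.carrier →ₗ[R] X'.carrier} (hf : GrLC.IsGrHom X.gr X'.gr f)
    {z : X'.carrier ⊗[k] Y.carrier} (hz : z ∈ diagPart X' Y) (hr : ∃ u, tm Y f u = z) :
    ∃ u ∈ diagPart X Y, tm Y f u = z := by
  classical
  obtain ⟨u, rfl⟩ := hr
  obtain ⟨s, hs⟩ := sum_pr Y hz
  refine ⟨∑ n ∈ s, pr Y X n u, Submodule.sum_mem _ fun n _ => Submodule.mem_iSup_of_mem n (pr_mem Y n u), ?_⟩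
  rw [map_sum]
  simp only [← pr_tm Y hf]
  exact hs s subset_rfl

end Left

section Complex

variable [IsNoetherianRing R] [IsNoetherianRing S] [IsNoetherianRing T]
variable (hT : ∀ n : ℤ, (𝒯 n).map ψ.toLinearMap = GrSeg.segrePiece k 𝒜 ℬ n)
variable (hpR : ∀ n < 0, ∀ r ∈ 𝒜 n, r = 0) (hpS : ∀ n < 0, ∀ r ∈ ℬ n, r = 0) (hpT : ∀ n < 0, ∀ r ∈ 𝒯 n, r = 0)
variable {X : GrLC.GMod.{u} 𝒜} (Y : GrLC.GMod.{u} ℬ) (EM : GrLC.StarInjRes 𝒜 X.gr)
variable {y : S} {e' : ℤ} (he' : 0 < e') (hy : y ∈ ℬ e') (hyb : Function.Bijective fun m : Y.carrier => y • m)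

/-- The differential of the one-sided complex. -/
noncomputable def dS (n : ℕ) : (sq (EM.X n) Y hT).carrier →ₗ[T] (sq (EM.X (n + 1)) Y hT).carrier :=
  sqMap hT (EM.d n) LinearMap.id (EM.d_grHom n) (fun _ _ h => h)

theorem sqVal_dS (n : ℕ) (z : (sq (EM.X n) Y hT).carrier) :
    sqVal (EM.X (n + 1)) Y hT (dS hT Y EM n z) = tm Y (EM.d n) (sqVal (EM.X n) Y hT z) := rfl

theorem exact_succ_S (n : ℕ) : LinearMap.ker (dS hT Y EM (n + 1)) = LinearMap.range (dS hT Y EM n) := by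
  have hx : Function.Exact (EM.d n) (EM.d (n + 1)) := LinearMap.exact_iff.2 (EM.exact_succ n)
  ext z
  constructor
  · intro hz
    have h0 : tm Y (EM.d (n + 1)) (sqVal _ Y hT z) = 0 := congrArg (sqVal _ Y hT) (LinearMap.mem_ker.1 hz)
    obtain ⟨u, hu, hue⟩ := exists_pre_diag Y (EM.d_grHom n) (sqVal_mem _ Y hT z) ((tm_exact Y hx _).1 h0)
    obtain ⟨v, hv⟩ := exists_sqVal _ Y hT hu
    exact ⟨v, sqVal_injective _ Y hT ((sqVal_dS hT Y EM n v).trans (by rw [hv, hue]))⟩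
  · rintro ⟨v, rfl⟩
    refine LinearMap.mem_ker.2 (sqVal_injective _ Y hT ?_)
    show tm Y (EM.d (n + 1)) (tm Y (EM.d n) (sqVal _ Y hT v)) = 0
    exact (tm_exact Y hx _).2 ⟨_, rfl⟩

theorem exact_zero_S : LinearMap.ker (dS hT Y EM 0) =
    LinearMap.range (sqMap hT EM.ε (LinearMap.id : Y.carrier →ₗ[S] Y.carrier) EM.ε_grHom fun _ _ h => h) := by
  have hx : Function.Exact EM.ε (EM.d 0) := LinearMap.exact_iff.2 EM.exact_zero
  ext z
  constructor
  · intro hz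
    have h0 : tm Y (EM.d 0) (sqVal _ Y hT z) = 0 := congrArg (sqVal _ Y hT) (LinearMap.mem_ker.1 hz)
    obtain ⟨u, hu, hue⟩ := exists_pre_diag Y EM.ε_grHom (sqVal_mem _ Y hT z) ((tm_exact Y hx _).1 h0)
    obtain ⟨v, hv⟩ := exists_sqVal _ Y hT hu
    refine ⟨v, sqVal_injective _ Y hT ?_⟩
    show tm Y EM.ε (sqVal _ Y hT v) = sqVal _ Y hT z
    rw [hv, hue]
  · rintro ⟨v, rfl⟩
    refine LinearMap.mem_ker.2 (sqVal_injective _ Y hT ?_)
    show tm Y (EM.d 0) (tm Y EM.ε (sqVal _ Y hT v)) = 0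
    exact (tm_exact Y hx _).2 ⟨_, rfl⟩

theorem sqMap_id_injective {X X' : GrLC.GMod.{u} 𝒜} (f : X.carrier →ₗ[R] X'.carrier)
    (hf : GrLC.IsGrHom X.gr X'.gr f) (hi : Function.Injective f) :
    Function.Injective (sqMap hT f (LinearMap.id : Y.carrier →ₗ[S] Y.carrier) hf fun _ _ h => h) := fun a b h =>
  sqVal_injective X Y hT (tm_injective Y hi (congrArg (sqVal X' Y hT) h))

/-- The one-sided acyclic resolution. -/
noncomputable def oneARes {P : GrLC.GMod.{u} 𝒯} (e : P.carrier →ₗ[T] (sq X Y hT).carrier)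
    (he : GrLC.IsGrHom P.gr (sq X Y hT).gr e) (heb : Function.Bijective e) : ARes (GrSyz.irrel 𝒯) P where
  A n := sq (EM.X n) Y hT
  d := dS hT Y EM
  ε := sqMap hT EM.ε LinearMap.id EM.ε_grHom (fun _ _ h => h) ∘ₗ e
  d_grHom n := sqMap_grHom hT _ _ (EM.d_grHom n) (fun _ _ h => h)
  ε_grHom := fun g z hz => sqMap_grHom hT _ _ EM.ε_grHom (fun _ _ h => h) g _ (he g z hz)
  ε_injective := (sqMap_id_injective hT Y EM.ε EM.ε_grHom EM.ε_injective).comp heb.1
  exact_zero := by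
    rw [LinearMap.range_comp_of_range_eq_top _ (LinearMap.range_eq_top.2 heb.2)]
    exact exact_zero_S hT Y EM
  exact_succ := exact_succ_S hT Y EM
  acyc n i g := hVan_sq_bij hT hpR hpS hpT _ (EM.starInj n) he' hy hyb i g

/-- The torsion of a term. -/
noncomputable def gmT (n : ℕ) : GrLC.GMod.{u} 𝒜 :=
  subGMod 𝒜 (EM.X n).gr (GrLC.gam (GrSyz.irrel 𝒜).toIdeal (EM.X n).carrier) (isHomogeneous_gam (EM.X n).gr _)

/-- The cocycles of a term. -/
noncomputable def gmC (n : ℕ) : GrLC.GMod.{u} 𝒜 :=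
  subGMod 𝒜 (EM.X n).gr (EM.cocyc (GrSyz.irrel 𝒜) n)
    (isHomogeneous_inf (EM.X n).gr (isHomogeneous_gam (EM.X n).gr _)
      (isHomogeneous_ker (EM.X n).gr (EM.X (n + 1)).gr (EM.d_grHom n)))

/-- The inclusion of the torsion. -/
noncomputable def inT (n : ℕ) : (gmT EM n).carrier →ₗ[R] (EM.X n).carrier :=
  (GrLC.gam (GrSyz.irrel 𝒜).toIdeal (EM.X n).carrier).subtype

/-- The inclusion of the cocycles. -/
noncomputable def inC (n : ℕ) : (gmC EM n).carrier →ₗ[R] (EM.X n).carrier :=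
  (EM.cocyc (GrSyz.irrel 𝒜) n).subtype

theorem inC_grHom (n : ℕ) : GrLC.IsGrHom (gmC EM n).gr (EM.X n).gr (inC EM n) := fun _ _ h => h

theorem inT_grHom (n : ℕ) : GrLC.IsGrHom (gmT EM n).gr (EM.X n).gr (inT EM n) := fun _ _ h => h

theorem inC_injective (n : ℕ) : Function.Injective (inC EM n) := Subtype.val_injective

include hpR hpS hpT he' hy hyb in
theorem mem_gam_one_iff (n : ℕ) (z : (sq (EM.X n) Y hT).carrier) :
    z ∈ GrLC.gam (GrSyz.irrel 𝒯).toIdeal (sq (EM.X n) Y hT).carrier ↔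
      ∃ u, tm Y (inT EM n) u = sqVal _ Y hT z := by
  have hgamY : ∀ m ∈ GrLC.gam (GrSyz.irrel ℬ).toIdeal Y.carrier, m = 0 := by
    rintro m ⟨K, hK⟩
    exact (bijective_pow hyb K).1 ((hK _ (Ideal.pow_mem_pow (mem_irrel_of_pos ℬ he' hy) K)).trans (smul_zero _).symm)
  have hbY : Function.Injective (barMap Y) := (injective_iff_map_eq_zero _).2 fun m hm =>
    hgamY m ((Submodule.Quotient.mk_eq_zero _).1 hm)
  have hx : Function.Exact (inT EM n) (barMap (EM.X n)) := LinearMap.exact_subtype_mkQ _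
  rw [mem_gam_sq_iff hT hpR hpS hpT]
  have hsplit : ∀ w : (EM.X n).carrier ⊗[k] Y.carrier, tmap (barMap (EM.X n)) (barMap Y) w =
      ((barMap Y).restrictScalars k).lTensor (bar (EM.X n)).carrier (tm Y (barMap (EM.X n)) w) := by
    intro w
    induction w using TensorProduct.induction_on with
    | zero => simp
    | add a b ha hb => simp only [map_add, ha, hb]
    | tmul a b => rfl
  rw [hsplit]
  have hli := Module.Flat.lTensor_preserves_injective_linearMap (R := k) (M := (bar (EM.X n)).carrier)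
    ((barMap Y).restrictScalars k) hbY
  constructor
  · intro h
    exact (tm_exact Y hx _).1 (hli (h.trans (map_zero _).symm))
  · intro h
    rw [(tm_exact Y hx _).2 h, map_zero]

include hpR hpS hpT he' hy hyb in
theorem mem_cocyc_one_iff (n : ℕ) (z : (sq (EM.X n) Y hT).carrier) :
    z ∈ GrLC.gam (GrSyz.irrel 𝒯).toIdeal (sq (EM.X n) Y hT).carrier ⊓ LinearMap.ker (dS hT Y EM n) ↔
      ∃ u, tm Y (inC EM n) u = sqVal _ Y hT z := by
  let j : (gmC EM n).carrier →ₗ[R] (gmT EM n).carrier :=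
    Submodule.inclusion (inf_le_left : EM.cocyc (GrSyz.irrel 𝒜) n ≤ _)
  have hj : Function.Exact j (EM.d n ∘ₗ inT EM n) := by
    intro x
    refine ⟨fun h => ⟨⟨x.1, Submodule.mem_inf.2 ⟨x.2, LinearMap.mem_ker.2 h⟩⟩, rfl⟩, ?_⟩
    rintro ⟨c, rfl⟩
    exact LinearMap.mem_ker.1 (Submodule.mem_inf.1 c.2).2
  have hjc : inT EM n ∘ₗ j = inC EM n := rfl
  rw [Submodule.mem_inf, mem_gam_one_iff hT hpR hpS hpT Y EM he' hy hyb]
  constructor
  · rintro ⟨⟨u, hu⟩, hz⟩
    have h0 : tm Y (EM.d n) (sqVal _ Y hT z) = 0 := congrArg (sqVal _ Y hT) (LinearMap.mem_ker.1 hz)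
    rw [← hu, tm_comp] at h0
    obtain ⟨v, hv⟩ := (tm_exact Y hj _).1 h0
    exact ⟨v, by rw [← hjc, ← tm_comp, hv, hu]⟩
  · rintro ⟨v, hv⟩
    rw [← hjc, ← tm_comp] at hv
    refine ⟨⟨_, hv⟩, LinearMap.mem_ker.2 (sqVal_injective _ Y hT ?_)⟩
    show tm Y (EM.d n) (sqVal _ Y hT z) = 0
    rw [← hv, tm_comp]
    exact (tm_exact Y hj _).2 ⟨v, rfl⟩

end Complex

section Presented

variable [IsNoetherianRing R] [IsNoetherianRing S] [IsNoetherianRing T]
variable {M N P : Type u} [AddCommGroup M] [Module R M] [Module k M] [IsScalarTower k R M]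
  [AddCommGroup N] [Module S N] [Module k N] [IsScalarTower k S N]
  [AddCommGroup P] [Module T P] [Module k P] [IsScalarTower k T P]
  (ℳ : ℤ → AddSubgroup M) [Decomposition ℳ] [SetLike.GradedSMul 𝒜 ℳ]
  (𝒩 : ℤ → AddSubgroup N) [Decomposition 𝒩] [SetLike.GradedSMul ℬ 𝒩]
  (𝒬 : ℤ → AddSubgroup P) [Decomposition 𝒬] [SetLike.GradedSMul 𝒯 𝒬]

/-- Local cohomology commutes with a Segre product by a periodic module. -/
theorem exists_isSegreMod_H (hT : GrSeg.IsSegreRing 𝒜 ℬ 𝒯 ψ) (hpR : ∀ n < 0, ∀ r ∈ 𝒜 n, r = 0)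
    (hpS : ∀ n < 0, ∀ r ∈ ℬ n, r = 0) (EM : GrLC.StarInjRes 𝒜 ℳ) {y : S} {e' : ℤ} (he' : 0 < e') (hy : y ∈ ℬ e')
    (hyb : Function.Bijective fun m : N => y • m) (φ : P →ₗ[k] M ⊗[k] N) (hP : GrSeg.IsSegreMod ψ ℳ 𝒩 𝒬 φ)
    (EP : GrLC.StarInjRes 𝒯 𝒬) (q : ℕ) (H : Type u) [AddCommGroup H] [Module R H] [Module k H] [IsScalarTower k R H]
    (π : EM.cocyc (GrSyz.irrel 𝒜) q →ₗ[R] H)
    (hπk : ∀ x : EM.cocyc (GrSyz.irrel 𝒜) q, π x = 0 ↔ (x : (EM.X q).carrier) ∈ EM.cobdy (GrSyz.irrel 𝒜) q)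
    (ℋ : ℤ → AddSubgroup H)
    (hℋ : ∀ n v, v ∈ ℋ n ↔ ∃ x : EM.cocyc (GrSyz.irrel 𝒜) q, (x : (EM.X q).carrier) ∈ (EM.X q).gr n ∧ π x = v)
    [Decomposition (EP.Hgr (GrSyz.irrel 𝒯) q)] :
    ∃ Φ : EP.H (GrSyz.irrel 𝒯) q →+ H ⊗[k] N, Function.Injective Φ ∧
      (∀ n : ℤ, Φ '' (EP.Hgr (GrSyz.irrel 𝒯) q n : Set (EP.H (GrSyz.irrel 𝒯) q)) =
        (GrSeg.segrePiece k ℋ 𝒩 n : Set (H ⊗[k] N))) ∧
      ∀ (t : T) x, Φ (t • x) = GrSeg.act k R S H N (ψ t) (Φ x) := by
  classical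
  have hpT := segre_nonneg hT hpR
  let X := GrLC.GMod.of 𝒜 M ℳ
  let Y := GrLC.GMod.of ℬ N 𝒩
  let EM' : GrLC.StarInjRes 𝒜 X.gr := EM
  obtain ⟨e, he, heb, -⟩ := exists_to_sq ℳ 𝒩 𝒬 hT.2 φ hP
  have hyb' : Function.Bijective fun m : Y.carrier => y • m := hyb
  let r := oneARes hT.2 hpR hpS hpT Y EM' he' hy hyb' e he heb
  obtain ⟨Ψ, hΨs, hΨk, hΨg, -⟩ := r.exists_psi q (M := GrLC.GMod.of 𝒯 P 𝒬) EP
  let tq : (gmC EM' q).carrier →ₗ[k] H :=
    { toFun := fun x => π x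
      map_add' := fun a b => map_add π a b
      map_smul' := fun c x => (map_smul π (algebraMap k R c) x).trans (algebraMap_smul R c _) }
  let L : (gmC EM' q).carrier ⊗[k] Y.carrier →ₗ[k] H ⊗[k] N :=
    ((toCarrier ℬ 𝒩).symm.toLinearMap.lTensor H) ∘ₗ tq.rTensor Y.carrier
  have hLact : ∀ (v : R ⊗[k] S) (w : (gmC EM' q).carrier ⊗[k] Y.carrier),
      L (GrSeg.act k R S (gmC EM' q).carrier Y.carrier v w) = GrSeg.act k R S H N v (L w) := by
    intro v w
    induction v using TensorProduct.induction_on with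
    | zero => simp
    | add a b ha hb => simp only [map_add, LinearMap.add_apply, ha, hb]
    | tmul a b =>
      induction w using TensorProduct.induction_on with
      | zero => simp
      | add x y hx hy => simp only [map_add, hx, hy]
      | tmul x y =>
        rw [GrSeg.act_tmul]
        show tq (a • x) ⊗ₜ[k] ((toCarrier ℬ 𝒩).symm (b • y)) =
          GrSeg.act k R S H N (a ⊗ₜ[k] b) (tq x ⊗ₜ[k] ((toCarrier ℬ 𝒩).symm y))
        rw [GrSeg.act_tmul]
        exact congrArg₂ (fun u v => u ⊗ₜ[k] v) (map_smul π a x) rfl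
  have hLker : ∀ w, L w = 0 ↔ tq.rTensor Y.carrier w = 0 := fun w =>
    ⟨fun h => Module.Flat.lTensor_preserves_injective_linearMap (R := k) (M := H) _
      (toCarrier ℬ 𝒩).symm.injective (h.trans (map_zero _).symm),
      fun h => by show ((toCarrier ℬ 𝒩).symm.toLinearMap.lTensor H) _ = 0; rw [h, map_zero]⟩
  have hLpiece : ∀ n, ∀ w ∈ GrSeg.segrePiece k (gmC EM' q).gr Y.gr n,
      L w ∈ GrSeg.segrePiece k ℋ 𝒩 n := by
    intro n w hw
    induction hw using Submodule.span_induction with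
    | mem w hw =>
      obtain ⟨a, ha, b, hb, rfl⟩ := hw
      exact Submodule.subset_span ⟨tq a, (hℋ n _).2 ⟨a, ha, rfl⟩, (toCarrier ℬ 𝒩).symm b, hb, rfl⟩
    | zero => rw [map_zero]; exact zero_mem _
    | add a b _ _ ha hb => rw [map_add]; exact add_mem ha hb
    | smul c a _ ha => rw [map_smul]; exact Submodule.smul_mem _ c ha
  have hsub := fun z : r.cocyc q => (mem_cocyc_one_iff hT.2 hpR hpS hpT Y EM' he' hy hyb' q z.1).1 z.2
  choose w hw using hsub
  have hinj := tm_injective Y (inC_injective EM' q)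
  have hwa : ∀ a b, w (a + b) = w a + w b := fun a b => hinj (by
    rw [map_add, hw, hw, hw]; rfl)
  have hws : ∀ (t : T) z, w (t • z) = GrSeg.act k R S (gmC EM' q).carrier Y.carrier (ψ t) (w z) := fun t z => hinj (by
    rw [hw]
    refine (sqVal_smul (EM'.X q) Y hT.2 t z.1).trans ?_
    rw [← hw z]
    exact (tmap_act (inC EM' q) LinearMap.id (ψ t) (w z)).symm)
  let Ω : r.cocyc q →+ H ⊗[k] N := AddMonoidHom.mk' (fun z => L (w z)) fun a b => by rw [hwa, map_add]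
  have hΩker : ∀ z : r.cocyc q, (z : (r.A q).carrier) ∈ r.cobdy q ↔ Ω z = 0 := by
    intro z
    show _ ↔ L (w z) = 0
    rw [hLker]
    clear hΨk hΨg hΨs
    cases q with
    | zero =>
      have htq : Function.Injective tq := (injective_iff_map_eq_zero tq).2 fun x hx =>
        Subtype.ext ((hπk x).1 hx)
      have htq' := Module.Flat.rTensor_preserves_injective_linearMap (R := k) (M := Y.carrier) tq htq
      constructor
      · intro h
        have hz0 : z.1 = 0 := (Submodule.mem_bot T).1 h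
        have h1 : w z = 0 := hinj (by rw [hw, map_zero, hz0]; rfl)
        rw [h1, map_zero]
      · intro h
        refine (Submodule.mem_bot T).2 (sqVal_injective _ Y hT.2 ?_)
        rw [← hw z, show w z = 0 from htq' (h.trans (map_zero _).symm), map_zero]
        rfl
    | succ p =>
      let dG : (gmT EM' p).carrier →ₗ[R] (gmC EM' (p + 1)).carrier :=
        (EM'.d p ∘ₗ inT EM' p).codRestrict (EM'.cocyc (GrSyz.irrel 𝒜) (p + 1)) fun x =>
          Submodule.mem_inf.2 ⟨map_gam (EM'.d p) x.2, LinearMap.mem_ker.2 (range_d_le_ker (E := EM') p _)⟩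
      have hdG : GrLC.IsGrHom (gmT EM' p).gr (gmC EM' (p + 1)).gr dG := fun g x hx => EM'.d_grHom p g _ hx
      have hex : Function.Exact (dG.restrictScalars k) tq := by
        intro x
        refine (hπk x).trans ⟨?_, ?_⟩
        · rintro ⟨v, hv, hvx⟩
          exact ⟨⟨v, hv⟩, Subtype.ext hvx⟩
        · rintro ⟨v, rfl⟩
          exact ⟨v.1, v.2, rfl⟩
      have hexT := Module.Flat.rTensor_exact (R := k) (M := Y.carrier) hex
      have hcomp : ∀ u, tm Y (inC EM' (p + 1)) (tm Y dG u) = tm Y (EM'.d p) (tm Y (inT EM' p) u) := fun u => by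
        rw [tm_comp, tm_comp]; rfl
      constructor
      · rintro ⟨v, hv, hvz⟩
        obtain ⟨u, hu⟩ := (mem_gam_one_iff hT.2 hpR hpS hpT Y EM' he' hy hyb' p v).1 hv
        refine (hexT _).2 ⟨u, hinj ?_⟩
        show tm Y (inC EM' (p + 1)) (tm Y dG u) = _
        rw [hw, hcomp, hu]
        exact congrArg (sqVal _ Y hT.2) hvz
      · intro h
        obtain ⟨u, hu⟩ := (hexT _).1 h
        obtain ⟨u₂, hu₂, hue₂⟩ : ∃ u₂ ∈ diagPart (gmT EM' p) Y,
            tm Y (EM'.d p ∘ₗ inT EM' p) u₂ = sqVal (EM'.X (p + 1)) Y hT.2 z.1 :=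
          exists_pre_diag Y (X := gmT EM' p) (f := EM'.d p ∘ₗ inT EM' p) (fun g x hx => EM'.d_grHom p g _ hx) (sqVal_mem (EM'.X (p + 1)) Y hT.2 z.1)
            ⟨u, by rw [← tm_comp, ← hcomp, ← hw z]; exact congrArg _ hu⟩
        obtain ⟨v, hv⟩ := exists_sqVal (EM'.X p) Y hT.2 (tmap_mem_diagPart (g := LinearMap.id) (inT_grHom EM' p) (fun _ _ h => h) hu₂)
        refine ⟨v, (mem_gam_one_iff hT.2 hpR hpS hpT Y EM' he' hy hyb' p v).2 ⟨u₂, hv.symm⟩,
          sqVal_injective _ Y hT.2 ?_⟩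
        refine (sqVal_dS hT.2 Y EM' p v).trans ?_
        rw [hv, ← hue₂]
        exact tm_comp Y _ _ u₂
  have hwd : ∀ z z' : r.cocyc q, Ψ z = Ψ z' → Ω z = Ω z' := fun z z' h => by
    rw [← sub_eq_zero, ← map_sub, ← hΩker, ← hΨk, map_sub, sub_eq_zero]
    exact h
  choose pre hpre using hΨs
  have hΩs : ∀ (t : T) z, Ω (t • z) = GrSeg.act k R S H N (ψ t) (Ω z) := fun t z => by
    show L (w (t • z)) = _
    rw [hws, hLact]
    rfl
  let φ' : EP.H (GrSyz.irrel 𝒯) q →+ H ⊗[k] N :=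
    AddMonoidHom.mk' (fun x => Ω (pre x)) fun a b => by
      rw [← map_add]
      exact hwd _ _ ((hpre _).trans (by rw [map_add, hpre, hpre]; rfl))
  have hφ' : ∀ z, φ' (Ψ z) = Ω z := fun z => hwd _ _ (hpre _)
  refine ⟨φ', (injective_iff_map_eq_zero φ').2 fun x hx => ?_, fun n => ?_, fun t x => ?_⟩
  · exact (hpre x).symm.trans ((hΨk _).2 ((hΩker _).2 hx))
  · refine Set.Subset.antisymm ?_ fun v hv => ?_
    · rintro _ ⟨x, hx, rfl⟩
      obtain ⟨z, hz, hzx⟩ := exists_sub_preimage (r.A q).gr (EP.Hgr (GrSyz.irrel 𝒯) q) (P := r.cocyc q)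
        (fun g x hx => ⟨isHomogeneous_gam (r.A q).gr _ g (Submodule.mem_inf.1 hx).1,
          isHomogeneous_ker (r.A q).gr (r.A (q + 1)).gr (r.d_grHom q) g (Submodule.mem_inf.1 hx).2⟩)
        (f := Ψ) (fun g z hz => hΨg g z hz) (y := x) (d := n) hx ⟨pre x, hpre x⟩
      refine Eq.mpr (congrArg (· ∈ (GrSeg.segrePiece k ℋ 𝒩 n : Set (H ⊗[k] N))) ((congrArg φ' hzx.symm).trans (hφ' z))) ?_
      obtain ⟨u, hu, hue⟩ := exists_pre Y (inC_grHom EM' q) ((mem_sq_gr (EM'.X q) Y hT.2 z.1).1 hz) ⟨w z, hw z⟩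
      show L (w z) ∈ _
      rw [← hinj (hue.trans (hw z).symm)]
      exact hLpiece n u hu
    · induction hv using Submodule.span_induction with
      | mem v hv =>
        obtain ⟨x, hx, b, hb, rfl⟩ := hv
        obtain ⟨c, hc, rfl⟩ := (hℋ n x).1 hx
        let b' : Y.carrier := toCarrier ℬ 𝒩 b
        obtain ⟨zA, hzA⟩ := exists_sqVal (EM'.X q) Y hT.2 (w := inC EM' q c ⊗ₜ[k] b')
          (Submodule.mem_iSup_of_mem n (tmul_mem_segrePiece (EM'.X q) Y hc hb))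
        have hzc : zA ∈ r.cocyc q :=
          (mem_cocyc_one_iff hT.2 hpR hpS hpT Y EM' he' hy hyb' q zA).2 ⟨c ⊗ₜ[k] b', hzA.symm⟩
        refine ⟨Ψ ⟨zA, hzc⟩, hΨg n _ ((mem_sq_gr (EM'.X q) Y hT.2 zA).2 (by
          rw [hzA]; exact tmul_mem_segrePiece (EM'.X q) Y hc hb)), ?_⟩
        refine (hφ' _).trans ?_
        show L (w ⟨zA, hzc⟩) = _
        rw [hinj (show tm Y (inC EM' q) (w ⟨zA, hzc⟩) = tm Y (inC EM' q) (c ⊗ₜ[k] b') from (hw _).trans hzA)]
        exact congrArg₂ (fun u v => u ⊗ₜ[k] v) rfl ((toCarrier ℬ 𝒩).symm_apply_apply b)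
      | zero => exact ⟨0, zero_mem _, map_zero φ'⟩
      | add a b _ _ ha hb =>
        obtain ⟨x, hx, rfl⟩ := ha
        obtain ⟨x', hx', rfl⟩ := hb
        exact ⟨x + x', add_mem hx hx', map_add φ' x x'⟩
      | smul c a _ ha =>
        obtain ⟨x, ⟨zc, hzc, rfl⟩, rfl⟩ := ha
        refine ⟨algebraMap k T c • EP.toH (GrSyz.irrel 𝒯) q zc, ⟨algebraMap k T c • zc, smul_mem_gr_zero (EP.X q) c hzc,
          map_smul _ _ _⟩, ?_⟩
        show Ω (pre _) = c • Ω (pre _)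
        rw [hwd (pre (algebraMap k T c • EP.toH (GrSyz.irrel 𝒯) q zc)) (algebraMap k T c • pre (EP.toH (GrSyz.irrel 𝒯) q zc))
          ((hpre _).trans (by rw [map_smul, hpre]; rfl)), hΩs, AlgHom.commutes, Algebra.algebraMap_eq_smul_one, map_smul,
          LinearMap.smul_apply]
        congr 1
        rw [← actHom_apply, map_one]
        rfl
  · show Ω (pre (t • x)) = _
    rw [hwd (pre (t • x)) (t • pre x) ((hpre _).trans (by rw [map_smul, hpre]; rfl)), hΩs]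
    rfl
where
  smul_mem_gr_zero (Z : GrLC.GMod.{u} 𝒯) {g : ℤ} (c : k) {z : Z.carrier} (hz : z ∈ Z.gr g) :
      algebraMap k T c • z ∈ Z.gr g := by
    have h := SetLike.GradedSMul.smul_mem (B := Z.gr) (SetLike.algebraMap_mem_graded 𝒯 c) hz
    rwa [vadd_eq_add, zero_add] at h

end Presented

end Groth.Agent.GrLib8.Seg
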