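import Groth.Agent.GrLib8.SegTotal
import Groth.Agent.GrLib8.PieceProp
import Groth.Agent.GrLib8.EventVan

/-!
# The Künneth formula for graded local cohomology of Segre products
-/

set_option autoImplicit false
set_option linter.unusedSectionVars false

universe u

open DirectSum
open scoped TensorProduct

namespace Groth.Agent.GrLib8.Seg

variable {k : Type u} [Field k]

set_option maxHeartbeats 1600000

section SubPreimage

variable {A : Type u} [CommRing A] {M N : Type u} [AddCommGroup M] [Module A M] [AddCommGroup N] [Module A N]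
  (ℳ : ℤ → AddSubgroup M) [Decomposition ℳ] (𝒩 : ℤ → AddSubgroup N) [Decomposition 𝒩]

/-- A homogeneous preimage under a map from a homogeneous submodule. -/
theorem exists_sub_preimage {P : Submodule A M} (hP : ∀ g x, x ∈ P → (decompose ℳ x g : M) ∈ P) (f : P →ₗ[A] N)
    (hf : ∀ g (z : P), (z : M) ∈ ℳ g → f z ∈ 𝒩 g) {y : N} {d : ℤ} (hy : y ∈ 𝒩 d) (hr : ∃ z, f z = y) :
    ∃ w : P, (w : M) ∈ ℳ d ∧ f w = y := by
  classical
  obtain ⟨z, rfl⟩ := hr
  let c : ℤ → P := fun g => ⟨(decompose ℳ z.1 g : M), hP g _ z.2⟩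
  refine ⟨c d, SetLike.coe_mem _, ?_⟩
  have hz : z = ∑ g ∈ (decompose ℳ z.1).support, c g := Subtype.ext (by
    rw [AddSubmonoidClass.coe_finsetSum]; exact (sum_support_decompose ℳ z.1).symm)
  have h1 : (decompose 𝒩 (f z) d : N) = f (c d) := by
    rw [(congrArg f hz).trans (map_sum f c _), decompose_sum, DFinsupp.finsetSum_apply, AddSubmonoidClass.coe_finsetSum]
    refine (Finset.sum_eq_single d (fun g _ hne => decompose_of_mem_ne _ (hf g (c g) (SetLike.coe_mem _)) hne)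
      fun hn => ?_).trans (decompose_of_mem_same _ (hf d (c d) (SetLike.coe_mem _)))
    have h3 : c d = 0 := Subtype.ext (by
      show (decompose ℳ z.1 d : M) = 0
      rw [DFinsupp.notMem_support_iff.1 hn, ZeroMemClass.coe_zero])
    rw [h3, map_zero, decompose_zero, DirectSum.zero_apply, ZeroMemClass.coe_zero]
  rw [← h1, decompose_of_mem_same _ hy]

end SubPreimage

section Scalars

variable {R₀ : Type u} [CommRing R₀] [Algebra k R₀] (𝒞 : ℤ → Submodule k R₀) [GradedAlgebra 𝒞]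

/-- The scalars in degree zero. -/
noncomputable def iota : k →+* GrLC.deg0 𝒞 :=
  (algebraMap k R₀).codRestrict (GrLC.deg0 𝒞) fun c => SetLike.algebraMap_mem_graded 𝒞 c

theorem iota_bijective [Nontrivial R₀] (h0 : 𝒞 0 = Submodule.span k {(1 : R₀)}) : Function.Bijective (iota 𝒞) := by
  refine ⟨(iota 𝒞).injective, fun z => ?_⟩
  obtain ⟨c, hc⟩ := eq_algebraMap_of_mem_zero 𝒞 h0 z.2
  exact ⟨c, Subtype.ext hc.symm⟩

variable {𝒞}

theorem finrank_transfer [Nontrivial R₀] (h0 : 𝒞 0 = Submodule.span k {(1 : R₀)}) {V W : Type u} [AddCommGroup V]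
    [Module k V] [AddCommGroup W] [Module (GrLC.deg0 𝒞) W] (j : V ≃+ W)
    (hj : ∀ (c : k) (v : V), j (c • v) = iota 𝒞 c • j v) :
    Module.finrank k V = Module.finrank (GrLC.deg0 𝒞) W := by
  unfold Module.finrank
  rw [rank_eq_of_equiv_equiv (iota 𝒞) j (iota_bijective 𝒞 h0) hj]

theorem finite_transfer [Nontrivial R₀] (h0 : 𝒞 0 = Submodule.span k {(1 : R₀)}) {V W : Type u} [AddCommGroup V]
    [Module k V] [AddCommGroup W] [Module (GrLC.deg0 𝒞) W] (j : V ≃+ W)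
    (hj : ∀ (c : k) (v : V), j (c • v) = iota 𝒞 c • j v) (hW : Module.Finite (GrLC.deg0 𝒞) W) :
    Module.Finite k V := by
  obtain ⟨s, hs⟩ := hW.fg_top
  classical
  refine ⟨⟨s.image j.symm, eq_top_iff.2 fun v _ => ?_⟩⟩
  suffices key : ∀ w ∈ Submodule.span (GrLC.deg0 𝒞) (s : Set W), j.symm w ∈ Submodule.span k (↑(s.image j.symm) : Set V) by
    have := key (j v) (hs.ge Submodule.mem_top)
    rwa [j.symm_apply_apply] at this
  intro w hw
  induction hw using Submodule.span_induction with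
  | mem w hw => exact Submodule.subset_span (Finset.mem_coe.2 (Finset.mem_image_of_mem _ hw))
  | zero => rw [map_zero]; exact zero_mem _
  | add a b _ _ ha hb => rw [map_add]; exact add_mem ha hb
  | smul r a _ ha =>
    obtain ⟨c, rfl⟩ := (iota_bijective 𝒞 h0).2 r
    have : j.symm (iota 𝒞 c • a) = c • j.symm a := by
      apply j.injective
      rw [hj, j.apply_symm_apply, j.apply_symm_apply]
    rw [this]
    exact Submodule.smul_mem _ c ha

/-- Reading a piece of local cohomology off a complex of vector spaces. -/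
theorem exists_piece_addEquiv {M : GrLC.GMod.{u} 𝒞} (E : GrLC.StarInjRes 𝒞 M.gr) (a : HomogeneousIdeal 𝒞) (d : ℤ)
    (A : ℕ → GrLC.GMod.{u} 𝒞) (dA : ∀ n, (A n).carrier →ₗ[R₀] (A (n + 1)).carrier)
    (hdA : ∀ n, GrLC.IsGrHom (A n).gr (A (n + 1)).gr (dA n))
    (cob : ∀ n, Submodule R₀ (A n).carrier) (hcob0 : cob 0 = ⊥)
    (hcob : ∀ n, cob (n + 1) = (GrLC.gam a.toIdeal (A n).carrier).map (dA n))
    (q : ℕ) (Ψ : (GrLC.gam a.toIdeal (A q).carrier ⊓ LinearMap.ker (dA q) : Submodule R₀ (A q).carrier) →ₗ[R₀] E.H a q)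
    (hΨs : Function.Surjective Ψ) (hΨk : ∀ z, Ψ z = 0 ↔ (z : (A q).carrier) ∈ cob q)
    (hΨg : ∀ g, ∀ z : (GrLC.gam a.toIdeal (A q).carrier ⊓ LinearMap.ker (dA q) : Submodule R₀ (A q).carrier),
      (z : (A q).carrier) ∈ (A q).gr g → Ψ z ∈ E.Hgr a q g)
    (K : KVec.Cx.{u} k) (e : ∀ n, K.V n →ₗ[k] (A n).carrier) (hei : ∀ n, Function.Injective (e n))
    (hem : ∀ n v, e n v ∈ GrLC.gam a.toIdeal (A n).carrier ∧ e n v ∈ (A n).gr d)
    (hes : ∀ n x, x ∈ GrLC.gam a.toIdeal (A n).carrier → x ∈ (A n).gr d → ∃ v, e n v = x)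
    (hec : ∀ n v, dA n (e n v) = e (n + 1) (K.d n v)) :
    ∃ j : K.H q ≃+ E.Hcomp a q d, ∀ (c : k) (x : K.H q), j (c • x) = iota 𝒞 c • j x := by
  classical
  let f : K.Z q →+ E.Hcomp a q d :=
    { toFun := fun z => ⟨Ψ ⟨e q z.1, (hem q z.1).1, LinearMap.mem_ker.2 ((hec q z.1).trans (by
          rw [show K.d q z.1 = 0 from z.2, map_zero]))⟩, hΨg d _ (hem q z.1).2⟩
      map_zero' := Subtype.ext (by
        refine (congrArg Ψ (Subtype.ext ?_)).trans (map_zero Ψ)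
        exact map_zero (e q))
      map_add' := fun x y => Subtype.ext (by
        refine (congrArg Ψ (Subtype.ext ?_)).trans (map_add Ψ _ _)
        exact map_add (e q) x.1 y.1) }
  have hfs : Function.Surjective f := by
    intro y
    obtain ⟨z, hz⟩ := hΨs y.1
    letI := (isInternal_Hgr M.gr E a q).chooseDecomposition
    obtain ⟨w, hw, hwe⟩ := exists_sub_preimage (M := (A q).carrier) (N := E.H a q) (A q).gr (E.Hgr a q)
      (P := GrLC.gam a.toIdeal (A q).carrier ⊓ LinearMap.ker (dA q))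
      (fun g x hx => ⟨isHomogeneous_gam (A q).gr a g hx.1, isHomogeneous_ker (A q).gr (A (q + 1)).gr (hdA q) g hx.2⟩)
      (f := Ψ) (fun g z hz => hΨg g z hz) (y := y.1) (d := d) y.2 ⟨z, hz⟩
    have hmem : (w : (A q).carrier) ∈ GrLC.gam a.toIdeal (A q).carrier ∧ (w : (A q).carrier) ∈ LinearMap.ker (dA q) :=
      Submodule.mem_inf.1 w.2
    obtain ⟨v, hv⟩ := hes q (w : (A q).carrier) hmem.1 hw
    have hvz : v ∈ K.Z q := by
      refine hei (q + 1) ?_
      rw [← hec, hv, map_zero]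
      exact LinearMap.mem_ker.1 hmem.2
    refine ⟨⟨v, hvz⟩, Subtype.ext ?_⟩
    exact (congrArg Ψ (Subtype.ext hv)).trans hwe
  have hfk : ∀ z : K.Z q, f z = 0 ↔ (z : K.V q) ∈ K.B q := by
    intro z
    have h1 : f z = 0 ↔ e q z.1 ∈ cob q :=
      ⟨fun h => (hΨk _).1 (congrArg Subtype.val h), fun h => Subtype.ext ((hΨk _).2 h)⟩
    rw [h1]
    cases q with
    | zero =>
      rw [hcob0, Submodule.mem_bot]
      exact ⟨fun h => hei 0 (h.trans (map_zero _).symm), fun h => by rw [show z.1 = 0 from h, map_zero]⟩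
    | succ m =>
      rw [hcob]
      constructor
      · rintro ⟨x, hx, hxe⟩
        have hxd : (decompose (A m).gr x d : (A m).carrier) ∈ GrLC.gam a.toIdeal (A m).carrier :=
          isHomogeneous_gam (A m).gr a d hx
        obtain ⟨v, hv⟩ := hes m _ hxd (SetLike.coe_mem _)
        refine ⟨v, hei (m + 1) ?_⟩
        rw [← hec, hv]
        have h2 := map_decompose (A m).gr (A (m + 1)).gr (dA m).toAddMonoidHom (hdA m) x d
        rw [show (dA m).toAddMonoidHom x = e (m + 1) z.1 from hxe,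
          decompose_of_mem_same (A (m + 1)).gr (hem (m + 1) z.1).2] at h2
        exact h2
      · rintro ⟨v, hv⟩
        exact ⟨e m v, (hem m v).1, by rw [hec, hv]⟩
  have hsmul : ∀ (c : k) (z : K.Z q), f (c • z) = iota 𝒞 c • f z := fun c z => Subtype.ext (by
    show Ψ _ = algebraMap k R₀ c • Ψ _
    rw [← map_smul]
    refine congrArg Ψ (Subtype.ext ?_)
    show e q (c • z.1) = algebraMap k R₀ c • e q z.1
    rw [map_smul]
    rfl)
  letI : Module k (E.Hcomp a q d) := Module.compHom _ (iota 𝒞)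
  let g : K.Z q →ₗ[k] E.Hcomp a q d := { toFun := f, map_add' := map_add f, map_smul' := hsmul }
  have hker : (K.B q).comap (K.Z q).subtype ≤ LinearMap.ker g := fun z hz => (hfk z).2 hz
  let g' : K.H q →ₗ[k] E.Hcomp a q d := ((K.B q).comap (K.Z q).subtype).liftQ g hker
  have hbij : Function.Bijective g' := by
    constructor
    · rw [injective_iff_map_eq_zero]
      intro y hy
      obtain ⟨z, rfl⟩ := Submodule.mkQ_surjective _ y
      exact (K.toH_eq_zero z).2 ((hfk z).1 hy)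
    · intro y
      obtain ⟨z, hz⟩ := hfs y
      exact ⟨K.toH q z, hz⟩
  exact ⟨(LinearEquiv.ofBijective g' hbij).toAddEquiv, fun c x => map_smul g' c x⟩

end Scalars

section Bar

variable {R₀ : Type u} [CommRing R₀] [Algebra k R₀] {𝒞 : ℤ → Submodule k R₀} [GradedAlgebra 𝒞]
  {Z : GrLC.GMod.{u} 𝒞} (E : GrLC.StarInjRes 𝒞 Z.gr) (d : ℤ)

/-- The differential of the torsion-free quotient complex. -/
noncomputable def barD (n : ℕ) : (bar (E.X n)).carrier →ₗ[R₀] (bar (E.X (n + 1))).carrier :=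
  (GrLC.gam (GrSyz.irrel 𝒞).toIdeal (E.X n).carrier).mapQ _ (E.d n) fun _ hx => map_gam (E.d n) hx

theorem barD_barMap (n : ℕ) (x : (E.X n).carrier) : barD E n (barMap (E.X n) x) = barMap (E.X (n + 1)) (E.d n x) := rfl

theorem barD_grHom (n : ℕ) : GrLC.IsGrHom (bar (E.X n)).gr (bar (E.X (n + 1))).gr (barD E n) := by
  rintro g _ ⟨x, hx, rfl⟩
  exact ⟨E.d n x, E.d_grHom n g x hx, rfl⟩

/-- A degree of the torsion-free quotient complex. -/
noncomputable def barCx : KVec.Cx.{u} k where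
  V n := pieceK 𝒞 (bar (E.X n)).gr d
  d n := ((barD E n).restrictScalars k).restrict fun x hx => barD_grHom E n d x hx
  d_d n x := by
    refine Subtype.ext ?_
    show barD E (n + 1) (barD E n x.1) = 0
    obtain ⟨y, hy⟩ := Submodule.mkQ_surjective (GrLC.gam (GrSyz.irrel 𝒞).toIdeal (E.X n).carrier) x.1
    rw [← hy]
    show barMap (E.X (n + 2)) (E.d (n + 1) (E.d n y)) = 0
    rw [LinearMap.mem_ker.1 ((E.exact_succ n).ge ⟨y, rfl⟩), map_zero]

/-- Forgetting the degree. -/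
noncomputable def barVal (n : ℕ) : (barCx E d).V n →ₗ[k] (bar (E.X n)).carrier :=
  (pieceK 𝒞 (bar (E.X n)).gr d).subtype

theorem barVal_injective (n : ℕ) : Function.Injective (barVal E d n) := Subtype.val_injective

/-- The projection of complexes. -/
noncomputable def barHom : KVec.Hom (pieceCx E d) (barCx E d) where
  f n := ((barMap (E.X n)).restrictScalars k).restrict fun x hx => barMap_grHom (E.X n) d x hx
  comm n x := Subtype.ext (barD_barMap E n x.1)

theorem barVal_barHom (n : ℕ) :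
    barVal E d n ∘ₗ (barHom E d).f n = (barMap (E.X n)).restrictScalars k ∘ₗ cxVal E d n := rfl

theorem barHom_surjective (n : ℕ) : Function.Surjective ((barHom E d).f n) := by
  intro y
  obtain ⟨x, hx, hxy⟩ := y.2
  exact ⟨⟨x, hx⟩, Subtype.ext hxy⟩

theorem barHom_eq_zero (n : ℕ) (x : (pieceCx E d).V n) :
    (barHom E d).f n x = 0 ↔ cxVal E d n x ∈ GrLC.gam (GrSyz.irrel 𝒞).toIdeal (E.X n).carrier :=
  ⟨fun h => (Submodule.Quotient.mk_eq_zero _).1 (congrArg (barVal E d n) h),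
    fun h => Subtype.ext ((Submodule.Quotient.mk_eq_zero _).2 h)⟩

theorem barHom_inj [IsNoetherianRing R₀] (h : E.Hcomp (GrSyz.irrel 𝒞) 0 d = ⊥) :
    ∀ z ∈ (pieceCx E d).Z 0, (barHom E d).f 0 z = 0 → z = 0 := fun z hz h0 => by
  have hd : E.d 0 z.1 = 0 := congrArg Subtype.val (show (pieceCx E d).d 0 z = 0 from hz)
  have hmem : E.toH (GrSyz.irrel 𝒞) 0 ⟨z.1, (barHom_eq_zero E d 0 z).1 h0, hd⟩ ∈ E.Hcomp (GrSyz.irrel 𝒞) 0 d :=
    ⟨⟨z.1, (barHom_eq_zero E d 0 z).1 h0, hd⟩, z.2, rfl⟩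
  rw [h, Submodule.mem_bot, toH_eq_zero] at hmem
  exact Subtype.ext hmem

theorem exists_kerBar_equiv (q : ℕ) :
    ∃ j : (KVec.kerCx (barHom E d)).H q ≃+ E.Hcomp (GrSyz.irrel 𝒞) q d,
      ∀ (c : k) x, j (c • x) = iota 𝒞 c • j x := by
  refine exists_piece_addEquiv E (GrSyz.irrel 𝒞) d E.X E.d E.d_grHom (E.cobdy (GrSyz.irrel 𝒞)) rfl (fun n => rfl) q
    (E.toH (GrSyz.irrel 𝒞) q) (toH_surj E _ q) (fun z => toH_eq_zero E _ q z) (fun g z hz => ⟨z, hz, rfl⟩)
    (KVec.kerCx (barHom E d)) (fun n => cxVal E d n ∘ₗ (LinearMap.ker ((barHom E d).f n)).subtype)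
    (fun n => fun a b h => Subtype.ext (Subtype.ext h))
    (fun n v => ⟨(barHom_eq_zero E d n v.1).1 v.2, v.1.2⟩)
    (fun n x hx hxd => ⟨⟨⟨x, hxd⟩, (barHom_eq_zero E d n ⟨x, hxd⟩).2 hx⟩, rfl⟩) (fun n v => rfl)

theorem finite_Z_zero (hfin : Module.Finite k (pieceK 𝒞 Z.gr d)) : Module.Finite k ((pieceCx E d).Z 0) := by
  haveI := hfin
  let ε' : pieceK 𝒞 Z.gr d →ₗ[k] (pieceCx E d).Z 0 :=
    LinearMap.codRestrict _ ((E.ε.restrictScalars k).restrict fun x hx => E.ε_grHom d x hx) fun x =>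
      Subtype.ext (LinearMap.mem_ker.1 (E.exact_zero.ge ⟨x.1, rfl⟩))
  refine Module.Finite.of_surjective ε' fun x => ?_
  obtain ⟨w, hw⟩ := pieceCx_Z_zero E d x
  exact ⟨w, Subtype.ext (Subtype.ext hw)⟩

theorem finrank_Z_zero : Module.finrank k ((pieceCx E d).Z 0) = Module.finrank k (pieceK 𝒞 Z.gr d) := by
  let ε' : pieceK 𝒞 Z.gr d →ₗ[k] (pieceCx E d).Z 0 :=
    LinearMap.codRestrict _ ((E.ε.restrictScalars k).restrict fun x hx => E.ε_grHom d x hx) fun x =>
      Subtype.ext (LinearMap.mem_ker.1 (E.exact_zero.ge ⟨x.1, rfl⟩))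
  refine (LinearEquiv.ofBijective ε' ⟨fun a b hab => Subtype.ext (E.ε_injective ?_), fun x => ?_⟩).finrank_eq.symm
  · exact congrArg (fun z => (z.1.1 : (E.X 0).carrier)) hab
  · obtain ⟨w, hw⟩ := pieceCx_Z_zero E d x
    exact ⟨w, Subtype.ext (Subtype.ext hw)⟩

end Bar

section Finite

variable {R₀ : Type u} [CommRing R₀] [IsNoetherianRing R₀] [Algebra k R₀] {𝒞 : ℤ → Submodule k R₀} [GradedAlgebra 𝒞]

/-- Pieces of local cohomology of finite modules are finite. -/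
theorem finite_Hcomp [Nontrivial R₀] (hpos : ∀ n < 0, ∀ r ∈ 𝒞 n, r = 0) (h0 : 𝒞 0 = Submodule.span k {(1 : R₀)})
    {X : GrLC.GMod.{u} 𝒞} [Module.Finite R₀ X.carrier] (E : GrLC.StarInjRes 𝒞 X.gr) (i : ℕ) (g : ℤ) :
    Module.Finite (GrLC.deg0 𝒞) (E.Hcomp (GrSyz.irrel 𝒞) i g) := by
  have hsurj := (iota_bijective 𝒞 h0).2
  haveI : IsNoetherianRing (GrLC.deg0 𝒞) := isNoetherianRing_of_surjective k _ (iota 𝒞) hsurj
  let Φ : ∀ (A : Type u) [AddCommGroup A] [Module (GrLC.deg0 𝒞) A], Prop := fun A _ _ => Module.Finite (GrLC.deg0 𝒞) A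
  have hΦ : MidClosed Φ := by
    refine ⟨fun A B C _ _ _ _ _ _ f g hfg hA hC => ?_, fun A _ _ hA => ?_⟩
    · haveI : Module.Finite (GrLC.deg0 𝒞) A := hA
      haveI : Module.Finite (GrLC.deg0 𝒞) C := hC
      haveI : IsNoetherian (GrLC.deg0 𝒞) C := isNoetherian_of_isNoetherianRing_of_finite _ _
      haveI : Module.Finite (GrLC.deg0 𝒞) (LinearMap.ker g) := by
        rw [hfg.linearMap_ker_eq]; exact Module.Finite.range f
      haveI : Module.Finite (GrLC.deg0 𝒞) (B ⧸ LinearMap.ker g) :=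
        Module.Finite.equiv g.quotKerEquivRange.symm
      exact Module.Finite.of_submodule_quotient (LinearMap.ker g)
    · haveI := hA
      exact (inferInstance : Module.Finite (GrLC.deg0 𝒞) A)
  have hH0 : ∀ (X : GrLC.GMod.{u} 𝒞) [Module.Finite R₀ X.carrier] (g : ℤ), HP (GrSyz.irrel 𝒞) Φ X 0 g := by
    intro X _ g E
    obtain ⟨ι₀, hι, -⟩ := exists_H0_piece (a := GrSyz.irrel 𝒞) E g
    haveI := finite_comp 𝒞 hpos X.gr g
    haveI : IsNoetherian (GrLC.deg0 𝒞) (GrLC.comp 𝒞 X.gr g) := isNoetherian_of_isNoetherianRing_of_finite _ _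
    exact Module.Finite.of_injective ι₀ hι
  refine hp_all hpos hΦ le_rfl hH0 ?_ i X g E
  intro Y _ hY i g
  cases i with
  | zero => exact hH0 Y g
  | succ i => exact hp_of_hVan hΦ (hVan_of_torsion hY i g)

end Finite

section Main

variable {R S T : Type u} [CommRing R] [CommRing S] [CommRing T] [Algebra k R] [Algebra k S]
  [Algebra k T] {𝒜 : ℤ → Submodule k R} [GradedAlgebra 𝒜] {ℬ : ℤ → Submodule k S} [GradedAlgebra ℬ]
  {𝒯 : ℤ → Submodule k T} [GradedAlgebra 𝒯] {ψ : T →ₐ[k] R ⊗[k] S}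
variable [IsNoetherianRing R] [IsNoetherianRing S] [IsNoetherianRing T] [Nontrivial R] [Nontrivial S] [Nontrivial T]
variable (hT : ∀ n : ℤ, (𝒯 n).map ψ.toLinearMap = GrSeg.segrePiece k 𝒜 ℬ n)
variable (hpR : ∀ n < 0, ∀ r ∈ 𝒜 n, r = 0) (hpS : ∀ n < 0, ∀ r ∈ ℬ n, r = 0) (hpT : ∀ n < 0, ∀ r ∈ 𝒯 n, r = 0)
variable {X : GrLC.GMod.{u} 𝒜} {Y : GrLC.GMod.{u} ℬ} (EM : GrLC.StarInjRes 𝒜 X.gr) (EN : GrLC.StarInjRes ℬ Y.gr)

include hpR hpS hpT in
theorem emb_mem_gam_iff (d : ℤ) (n : ℕ) (f : KVec.TotV (pieceCx EM d) (pieceCx EN d) n) :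
    emb hT EM EN d n f ∈ GrLC.gam (GrSyz.irrel 𝒯).toIdeal (totT hT EM EN n).carrier ↔
      (KVec.totMap (barHom EM d) (barHom EN d)).f n f = 0 := by
  classical
  have h1 : ∀ x : KVec.Idx n, evT hT EM EN x (emb hT EM EN d n f) ∈
      GrLC.gam (GrSyz.irrel 𝒯).toIdeal (sq (EM.X x.1.1) (EN.X x.1.2) hT).carrier ↔
        TensorProduct.map ((barHom EM d).f x.1.1) ((barHom EN d).f x.1.2) (f x) = 0 := by
    intro x
    rw [mem_gam_sq_iff hT hpR hpS hpT, sqVal_evT_emb]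
    have h2 : ∀ v, tmap (barMap (EM.X x.1.1)) (barMap (EN.X x.1.2)) (pT EM EN d x.1.1 x.1.2 v) =
        TensorProduct.map (barVal EM d x.1.1) (barVal EN d x.1.2)
          (TensorProduct.map ((barHom EM d).f x.1.1) ((barHom EN d).f x.1.2) v) := fun v => by
      unfold pT tmap
      rw [KVec.map_map', KVec.map_map', barVal_barHom, barVal_barHom]
    rw [h2]
    exact ⟨fun h => (injective_iff_map_eq_zero _).1 (TensorProduct.map_injective_of_flat_flat _ _
      (barVal_injective EM d _) (barVal_injective EN d _)) _ h, fun h => by rw [h, map_zero]⟩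
  constructor
  · intro h
    funext x
    exact (h1 x).1 (map_gam _ h)
  · intro h
    have h3 : ∀ x : KVec.Idx n, evT hT EM EN x (emb hT EM EN d n f) ∈
        GrLC.gam (GrSyz.irrel 𝒯).toIdeal (sq (EM.X x.1.1) (EN.X x.1.2) hT).carrier := fun x => (h1 x).2 (congrFun h x)
    choose κ hκ using h3
    exact ⟨Finset.univ.sup κ, fun r hr => totT_ext hT EM EN fun x => by
      rw [map_smul, map_zero, hκ x r (Ideal.pow_le_pow_right (Finset.le_sup (f := κ) (Finset.mem_univ x)) hr)]⟩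

include hT hpR hpS hpT in
/-- The Künneth formula, degree by degree. -/
theorem finrank_Hcomp_segre (h0R : 𝒜 0 = Submodule.span k {(1 : R)}) (h0S : ℬ 0 = Submodule.span k {(1 : S)})
    (h0T : 𝒯 0 = Submodule.span k {(1 : T)}) [Module.Finite R X.carrier] [Module.Finite S Y.carrier] {d : ℤ}
    (hM : EM.Hcomp (GrSyz.irrel 𝒜) 0 d = ⊥) (hN : EN.Hcomp (GrSyz.irrel ℬ) 0 d = ⊥)
    (hfX : Module.Finite k (pieceK 𝒜 X.gr d)) (hfY : Module.Finite k (pieceK ℬ Y.gr d))
    {P : GrLC.GMod.{u} 𝒯} (e : P.carrier →ₗ[T] (sq X Y hT).carrier)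
    (he : GrLC.IsGrHom P.gr (sq X Y hT).gr e) (heb : Function.Bijective e) (EP : GrLC.StarInjRes 𝒯 P.gr) (q : ℕ) :
    Module.finrank (GrLC.deg0 𝒯) (EP.Hcomp (GrSyz.irrel 𝒯) q d) =
      Module.finrank k (pieceK 𝒜 X.gr d) * Module.finrank (GrLC.deg0 ℬ) (EN.Hcomp (GrSyz.irrel ℬ) q d) +
      Module.finrank (GrLC.deg0 𝒜) (EM.Hcomp (GrSyz.irrel 𝒜) q d) * Module.finrank k (pieceK ℬ Y.gr d) +
      (Finset.range (q + 2)).sum fun i => Module.finrank (GrLC.deg0 𝒜) (EM.Hcomp (GrSyz.irrel 𝒜) i d) *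
        Module.finrank (GrLC.deg0 ℬ) (EN.Hcomp (GrSyz.irrel ℬ) (q + 1 - i) d) := by
  classical
  haveI hA : ∀ n, Module.Finite k ((KVec.kerCx (barHom EM d)).H n) := fun n => by
    obtain ⟨j, hj⟩ := exists_kerBar_equiv EM d n
    exact finite_transfer h0R j hj (finite_Hcomp hpR h0R EM n d)
  haveI hB : ∀ n, Module.Finite k ((KVec.kerCx (barHom EN d)).H n) := fun n => by
    obtain ⟨j, hj⟩ := exists_kerBar_equiv EN d n
    exact finite_transfer h0S j hj (finite_Hcomp hpS h0S EN n d)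
  have ha : ∀ n, Module.finrank k ((KVec.kerCx (barHom EM d)).H n) =
      Module.finrank (GrLC.deg0 𝒜) (EM.Hcomp (GrSyz.irrel 𝒜) n d) := fun n => by
    obtain ⟨j, hj⟩ := exists_kerBar_equiv EM d n
    exact finrank_transfer h0R j hj
  have hb : ∀ n, Module.finrank k ((KVec.kerCx (barHom EN d)).H n) =
      Module.finrank (GrLC.deg0 ℬ) (EN.Hcomp (GrSyz.irrel ℬ) n d) := fun n => by
    obtain ⟨j, hj⟩ := exists_kerBar_equiv EN d n
    exact finrank_transfer h0S j hj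
  haveI := finite_Z_zero EM d hfX
  haveI := finite_Z_zero EN d hfY
  let r := totARes hT EM EN hpR hpS hpT e he heb
  obtain ⟨Ψ, hΨs, hΨk, hΨg, -⟩ := r.exists_psi q EP
  let φψ := KVec.totMap (barHom EM d) (barHom EN d)
  have hE : ∃ j : (KVec.kerCx φψ).H q ≃+ EP.Hcomp (GrSyz.irrel 𝒯) q d,
      ∀ (c : k) x, j (c • x) = iota 𝒯 c • j x := by
    refine exists_piece_addEquiv EP (GrSyz.irrel 𝒯) d r.A r.d r.d_grHom r.cobdy rfl (fun n => rfl) q Ψ hΨs hΨk hΨg
      (KVec.kerCx φψ) (fun n => emb hT EM EN d n ∘ₗ (LinearMap.ker (φψ.f n)).subtype)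
      (fun n => (emb_injective hT EM EN d n).comp Subtype.val_injective)
      (fun n v => ⟨(emb_mem_gam_iff hT hpR hpS hpT EM EN d n v.1).2 v.2, emb_mem hT EM EN d n v.1⟩)
      (fun n x hx hxd => ?_) (fun n v => dT_emb hT EM EN d n v.1)
    obtain ⟨f, hf⟩ := exists_emb hT EM EN d n x hxd
    exact ⟨⟨f, (emb_mem_gam_iff hT hpR hpS hpT EM EN d n f).1 (hf.symm ▸ hx)⟩, hf⟩
  obtain ⟨j, hj⟩ := hE
  rw [← finrank_transfer h0T j hj,
    KVec.finrank_ker_totMap (barHom EM d) (barHom EN d) (barHom_surjective EM d) (barHom_surjective EN d)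
      (pieceCx_exact EM d) (pieceCx_exact EN d) (barHom_inj EM d hM) (barHom_inj EN d hN) q,
    finrank_Z_zero EM d, finrank_Z_zero EN d]
  simp only [ha, hb]

end Main

end Groth.Agent.GrLib8.Seg
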