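import Groth.Agent.GrLib8.SegreRing
import Groth.Agent.GrLib8.Grading
import Groth.Agent.GrLib8.LesTools

/-!
# The Segre product of two bundled graded modules, as a bundled graded module
-/

set_option autoImplicit false
set_option linter.unusedSectionVars false

universe u

open DirectSum
open scoped TensorProduct

namespace Groth.Agent.GrLib8.Seg

variable {k : Type u} [Field k] {R S T : Type u} [CommRing R] [CommRing S] [CommRing T] [Algebra k R] [Algebra k S]
  [Algebra k T] {𝒜 : ℤ → Submodule k R} [GradedAlgebra 𝒜] {ℬ : ℤ → Submodule k S} [GradedAlgebra ℬ]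
  (𝒯 : ℤ → Submodule k T) [GradedAlgebra 𝒯] (ψ : T →ₐ[k] R ⊗[k] S)

/-- A graded module over a graded algebra is a vector space. -/
noncomputable instance kMod (X : GrLC.GMod.{u} 𝒜) : Module k X.carrier :=
  Module.compHom X.carrier (algebraMap k R)

instance kTower (X : GrLC.GMod.{u} 𝒜) : IsScalarTower k R X.carrier :=
  ⟨fun c r x => by rw [Algebra.smul_def, mul_smul]; rfl⟩

/-- The tensor product, to carry the action of `T`. -/
@[nolint unusedArguments]
def TP (_ψ : T →ₐ[k] R ⊗[k] S) (X : GrLC.GMod.{u} 𝒜) (Y : GrLC.GMod.{u} ℬ) : Type u :=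
  X.carrier ⊗[k] Y.carrier

variable {X : GrLC.GMod.{u} 𝒜} {Y : GrLC.GMod.{u} ℬ}

noncomputable instance : AddCommGroup (TP ψ X Y) := inferInstanceAs (AddCommGroup (X.carrier ⊗[k] Y.carrier))

noncomputable instance : Module k (TP ψ X Y) := inferInstanceAs (Module k (X.carrier ⊗[k] Y.carrier))

noncomputable instance : Module T (TP ψ X Y) :=
  letI := modRS (k := k) (R := R) (S := S) (M := X.carrier) (N := Y.carrier)
  Module.compHom (X.carrier ⊗[k] Y.carrier) ψ.toRingHom

theorem TP_smul_def (t : T) (z : TP ψ X Y) : t • z = GrSeg.act k R S X.carrier Y.carrier (ψ t) z :=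
  actHom_apply (ψ t) z

instance : IsScalarTower k T (TP ψ X Y) :=
  ⟨fun c t z => by rw [TP_smul_def, TP_smul_def, map_smul, map_smul, LinearMap.smul_apply]; rfl⟩

variable (X Y)

/-- The diagonal part. -/
noncomputable def diagPart : Submodule k (X.carrier ⊗[k] Y.carrier) := ⨆ n : ℤ, GrSeg.segrePiece k X.gr Y.gr n

theorem tmul_mem_segrePiece {n : ℤ} {x : X.carrier} {y : Y.carrier} (hx : x ∈ X.gr n) (hy : y ∈ Y.gr n) :
    x ⊗ₜ[k] y ∈ GrSeg.segrePiece k X.gr Y.gr n :=
  Submodule.subset_span ⟨x, hx, y, hy, rfl⟩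

variable {𝒯 ψ} in
theorem act_mem_segrePiece (hT : ∀ n : ℤ, (𝒯 n).map ψ.toLinearMap = GrSeg.segrePiece k 𝒜 ℬ n) {i n : ℤ} {t : T}
    (ht : t ∈ 𝒯 i) {z : X.carrier ⊗[k] Y.carrier} (hz : z ∈ GrSeg.segrePiece k X.gr Y.gr n) :
    GrSeg.act k R S X.carrier Y.carrier (ψ t) z ∈ GrSeg.segrePiece k X.gr Y.gr (i + n) := by
  have hmem : ψ t ∈ GrSeg.segrePiece k 𝒜 ℬ i := (hT i).le ⟨t, ht, rfl⟩
  generalize ψ t = v at hmem ⊢
  induction hmem using Submodule.span_induction with
  | mem w hw =>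
    obtain ⟨a, ha, b, hb, rfl⟩ := hw
    induction hz using Submodule.span_induction with
    | mem w hw =>
      obtain ⟨x, hx, y, hy, rfl⟩ := hw
      rw [GrSeg.act_tmul]
      exact tmul_mem_segrePiece X Y (SetLike.GradedSMul.smul_mem (B := X.gr) ha hx)
        (SetLike.GradedSMul.smul_mem (B := Y.gr) hb hy)
    | zero => rw [map_zero]; exact zero_mem _
    | add a b _ _ ha hb => rw [map_add]; exact add_mem ha hb
    | smul c a _ ha => rw [map_smul]; exact Submodule.smul_mem _ c ha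
  | zero => rw [map_zero, LinearMap.zero_apply]; exact zero_mem _
  | add a b _ _ ha hb => rw [map_add, LinearMap.add_apply]; exact add_mem ha hb
  | smul c a _ ha => rw [map_smul, LinearMap.smul_apply]; exact Submodule.smul_mem _ c ha

variable {𝒯 ψ} (hT : ∀ n : ℤ, (𝒯 n).map ψ.toLinearMap = GrSeg.segrePiece k 𝒜 ℬ n)

include hT in
/-- The Segre product inside the tensor product. -/
noncomputable def sqSub : Submodule T (TP ψ X Y) where
  carrier := (diagPart X Y : Set (X.carrier ⊗[k] Y.carrier))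
  zero_mem' := (diagPart X Y).zero_mem
  add_mem' := (diagPart X Y).add_mem
  smul_mem' t z hz := by
    classical
    rw [TP_smul_def]
    show GrSeg.act k R S X.carrier Y.carrier (ψ t) z ∈ diagPart X Y
    induction t using DirectSum.Decomposition.inductionOn 𝒯 with
    | zero => rw [map_zero, map_zero, LinearMap.zero_apply]; exact zero_mem _
    | add a b ha hb => rw [map_add, map_add, LinearMap.add_apply]; exact add_mem ha hb
    | homogeneous t =>
      rename_i i
      refine Submodule.iSup_induction (fun n => GrSeg.segrePiece k X.gr Y.gr n)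
        (motive := fun z => GrSeg.act k R S X.carrier Y.carrier (ψ (t : T)) z ∈ diagPart X Y) hz
        (fun n x hx => ?_) ?_ fun a b ha hb => ?_
      · exact Submodule.mem_iSup_of_mem (i + n) (act_mem_segrePiece X Y hT t.2 hx)
      · rw [map_zero]; exact zero_mem _
      · rw [map_add]; exact add_mem ha hb

include hT in
/-- The pieces of the Segre product. -/
noncomputable def sqPieces (n : ℤ) : AddSubgroup (sqSub X Y hT) :=
  (GrSeg.segrePiece k X.gr Y.gr n).toAddSubgroup.comap (sqSub X Y hT).subtype.toAddMonoidHom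

theorem segrePiece_indep : GIndep fun n : ℤ => (GrSeg.segrePiece k X.gr Y.gr n).toAddSubgroup := by
  classical
  intro s c hc hsum g hg
  let P : X.carrier ⊗[k] Y.carrier →ₗ[k] X.carrier ⊗[k] Y.carrier := (cmp 𝒜 X.gr g).rTensor Y.carrier
  have hP : ∀ i, ∀ z ∈ GrSeg.segrePiece k X.gr Y.gr i, P z = if i = g then z else 0 := by
    intro i z hz
    induction hz using Submodule.span_induction with
    | mem w hw =>
      obtain ⟨x, hx, y, hy, rfl⟩ := hw
      show ((decompose X.gr x g : X.carrier) ⊗ₜ[k] y) = _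
      rcases eq_or_ne i g with rfl | hne
      · rw [if_pos rfl, decompose_of_mem_same X.gr hx]
      · rw [if_neg hne, decompose_of_mem_ne X.gr hx hne, TensorProduct.zero_tmul]
    | zero => simp
    | add a b _ _ ha hb => rw [map_add, ha, hb]; split_ifs <;> simp
    | smul r a _ ha => rw [map_smul, ha]; split_ifs <;> simp
  have h := congrArg P hsum
  rw [map_sum, map_zero, Finset.sum_congr rfl fun i hi => hP i _ (hc i hi), Finset.sum_ite_eq' s g c, if_pos hg] at h
  exact h

theorem mem_iSup_segrePieces {z : X.carrier ⊗[k] Y.carrier} (hz : z ∈ diagPart X Y) :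
    z ∈ ⨆ n : ℤ, (GrSeg.segrePiece k X.gr Y.gr n).toAddSubgroup :=
  Submodule.iSup_induction _ (motive := fun z => z ∈ ⨆ n : ℤ, (GrSeg.segrePiece k X.gr Y.gr n).toAddSubgroup) hz
    (fun n _ hx => AddSubgroup.mem_iSup_of_mem n hx) (zero_mem _) fun _ _ ha hb => add_mem ha hb

include hT in
theorem sqPieces_span (z : sqSub X Y hT) : z ∈ ⨆ n, sqPieces X Y hT n := by
  obtain ⟨z, hz⟩ := z
  have key : ∀ w, w ∈ (⨆ n : ℤ, (GrSeg.segrePiece k X.gr Y.gr n).toAddSubgroup) →
      ∃ h : w ∈ diagPart X Y, (⟨w, h⟩ : sqSub X Y hT) ∈ ⨆ n, sqPieces X Y hT n := by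
    intro w hw
    refine AddSubgroup.iSup_induction _ (C := fun w => ∃ h : w ∈ diagPart X Y, (⟨w, h⟩ : sqSub X Y hT) ∈ ⨆ n, sqPieces X Y hT n) hw (fun n w hw => ?_) ?_ (fun a b ha hb => ?_)
    · exact ⟨Submodule.mem_iSup_of_mem n hw, AddSubgroup.mem_iSup_of_mem n hw⟩
    · exact ⟨zero_mem _, zero_mem _⟩
    · obtain ⟨ha1, ha2⟩ := ha
      obtain ⟨hb1, hb2⟩ := hb
      exact ⟨add_mem ha1 hb1, add_mem ha2 hb2⟩
  exact (key z (mem_iSup_segrePieces X Y hz)).2

include hT in
/-- The Segre product of two graded modules. -/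
noncomputable def sq : GrLC.GMod.{u} 𝒯 :=
  gmodOf 𝒯 (sqSub X Y hT) (sqPieces X Y hT) (sqPieces_span X Y hT)
    (fun s c hc hsum g hg => Subtype.ext (segrePiece_indep X Y s (fun i => (c i).1) hc
      ((AddSubmonoidClass.coe_finsetSum c s).symm.trans (congrArg Subtype.val hsum)) g hg))
    fun {i g a x} ha hx => by
      show GrSeg.segrePiece k X.gr Y.gr (i + g) |>.carrier (a • x.1)
      rw [TP_smul_def]
      exact act_mem_segrePiece X Y hT ha hx

/-- The underlying tensor. -/
noncomputable abbrev sqVal (z : (sq X Y hT).carrier) : X.carrier ⊗[k] Y.carrier := Subtype.val (p := fun w => w ∈ sqSub X Y hT) z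

theorem mem_sq_gr {n : ℤ} (z : (sq X Y hT).carrier) :
    z ∈ (sq X Y hT).gr n ↔ sqVal X Y hT z ∈ GrSeg.segrePiece k X.gr Y.gr n := Iff.rfl

theorem sqVal_injective : Function.Injective (sqVal X Y hT) := Subtype.val_injective

theorem sqVal_smul (t : T) (z : (sq X Y hT).carrier) :
    sqVal X Y hT (t • z) = GrSeg.act k R S X.carrier Y.carrier (ψ t) (sqVal X Y hT z) := TP_smul_def ψ t _

theorem sqVal_mem (z : (sq X Y hT).carrier) : sqVal X Y hT z ∈ diagPart X Y := z.2

theorem exists_sqVal {w : X.carrier ⊗[k] Y.carrier} (hw : w ∈ diagPart X Y) :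
    ∃ z : (sq X Y hT).carrier, sqVal X Y hT z = w := ⟨⟨w, hw⟩, rfl⟩

variable {X Y}
variable {X' : GrLC.GMod.{u} 𝒜} {Y' : GrLC.GMod.{u} ℬ}

/-- A homogeneous linear map as a `k`-linear map. -/
noncomputable abbrev kl {X X' : GrLC.GMod.{u} 𝒜} (f : X.carrier →ₗ[R] X'.carrier) : X.carrier →ₗ[k] X'.carrier :=
  f.restrictScalars k

/-- The map on tensor products. -/
noncomputable abbrev tmap (f : X.carrier →ₗ[R] X'.carrier) (g : Y.carrier →ₗ[S] Y'.carrier) :
    X.carrier ⊗[k] Y.carrier →ₗ[k] X'.carrier ⊗[k] Y'.carrier :=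
  TensorProduct.map (f.restrictScalars k) (g.restrictScalars k)

theorem tmap_act (f : X.carrier →ₗ[R] X'.carrier) (g : Y.carrier →ₗ[S] Y'.carrier) (v : R ⊗[k] S)
    (z : X.carrier ⊗[k] Y.carrier) :
    tmap f g (GrSeg.act k R S X.carrier Y.carrier v z) = GrSeg.act k R S X'.carrier Y'.carrier v (tmap f g z) := by
  induction v using TensorProduct.induction_on with
  | zero => simp
  | add a b ha hb => simp only [map_add, LinearMap.add_apply, ha, hb]
  | tmul a b =>
    induction z using TensorProduct.induction_on with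
    | zero => simp
    | add x y hx hy => simp only [map_add, hx, hy]
    | tmul x y =>
      rw [GrSeg.act_tmul, TensorProduct.map_tmul, TensorProduct.map_tmul, GrSeg.act_tmul]
      exact congrArg₂ (fun u v => u ⊗ₜ[k] v) (map_smul f a x) (map_smul g b y)

theorem tmap_mem_segrePiece {f : X.carrier →ₗ[R] X'.carrier} {g : Y.carrier →ₗ[S] Y'.carrier}
    (hf : GrLC.IsGrHom X.gr X'.gr f) (hg : GrLC.IsGrHom Y.gr Y'.gr g) {n : ℤ} {z : X.carrier ⊗[k] Y.carrier}
    (hz : z ∈ GrSeg.segrePiece k X.gr Y.gr n) : tmap f g z ∈ GrSeg.segrePiece k X'.gr Y'.gr n := by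
  induction hz using Submodule.span_induction with
  | mem w hw =>
    obtain ⟨x, hx, y, hy, rfl⟩ := hw
    exact tmul_mem_segrePiece X' Y' (hf n x hx) (hg n y hy)
  | zero => rw [map_zero]; exact zero_mem _
  | add a b _ _ ha hb => rw [map_add]; exact add_mem ha hb
  | smul c a _ ha => rw [map_smul]; exact Submodule.smul_mem _ c ha

theorem tmap_mem_diagPart {f : X.carrier →ₗ[R] X'.carrier} {g : Y.carrier →ₗ[S] Y'.carrier}
    (hf : GrLC.IsGrHom X.gr X'.gr f) (hg : GrLC.IsGrHom Y.gr Y'.gr g) {z : X.carrier ⊗[k] Y.carrier}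
    (hz : z ∈ diagPart X Y) : tmap f g z ∈ diagPart X' Y' :=
  Submodule.iSup_induction _ (motive := fun z => tmap f g z ∈ diagPart X' Y') hz
    (fun n _ hx => Submodule.mem_iSup_of_mem n (tmap_mem_segrePiece hf hg hx)) (by rw [map_zero]; exact zero_mem _)
    fun a b ha hb => by rw [map_add]; exact add_mem ha hb

/-- The map of Segre products. -/
noncomputable def sqMap (f : X.carrier →ₗ[R] X'.carrier) (g : Y.carrier →ₗ[S] Y'.carrier)
    (hf : GrLC.IsGrHom X.gr X'.gr f) (hg : GrLC.IsGrHom Y.gr Y'.gr g) :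
    (sq X Y hT).carrier →ₗ[T] (sq X' Y' hT).carrier where
  toFun z := ⟨tmap f g (sqVal X Y hT z), tmap_mem_diagPart hf hg (sqVal_mem X Y hT z)⟩
  map_add' a b := Subtype.ext (map_add (tmap f g) _ _)
  map_smul' t a := Subtype.ext (((congrArg (tmap f g) (sqVal_smul X Y hT t a)).trans (tmap_act f g _ _)).trans
    (TP_smul_def ψ t _).symm)

theorem sqVal_sqMap (f : X.carrier →ₗ[R] X'.carrier) (g : Y.carrier →ₗ[S] Y'.carrier)
    (hf : GrLC.IsGrHom X.gr X'.gr f) (hg : GrLC.IsGrHom Y.gr Y'.gr g) (z : (sq X Y hT).carrier) :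
    sqVal X' Y' hT (sqMap hT f g hf hg z) = tmap f g (sqVal X Y hT z) := rfl

theorem sqMap_grHom (f : X.carrier →ₗ[R] X'.carrier) (g : Y.carrier →ₗ[S] Y'.carrier)
    (hf : GrLC.IsGrHom X.gr X'.gr f) (hg : GrLC.IsGrHom Y.gr Y'.gr g) :
    GrLC.IsGrHom (sq X Y hT).gr (sq X' Y' hT).gr (sqMap hT f g hf hg) := fun _ z hz =>
  tmap_mem_segrePiece hf hg ((mem_sq_gr X Y hT z).1 hz)

variable (X Y)

/-- The pieces of `X ⊗ Y` in bidegree `(n, n)`. -/
noncomputable def pieceTensor (n : ℤ) :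
    pieceK 𝒜 X.gr n ⊗[k] pieceK ℬ Y.gr n →ₗ[k] X.carrier ⊗[k] Y.carrier :=
  TensorProduct.map (pieceK 𝒜 X.gr n).subtype (pieceK ℬ Y.gr n).subtype

theorem pieceTensor_injective (n : ℤ) : Function.Injective (pieceTensor X Y n) :=
  TensorProduct.map_injective_of_flat_flat _ _ Subtype.val_injective Subtype.val_injective

theorem range_pieceTensor (n : ℤ) : LinearMap.range (pieceTensor X Y n) = GrSeg.segrePiece k X.gr Y.gr n := by
  refine le_antisymm ?_ (Submodule.span_le.2 ?_)
  · rintro _ ⟨w, rfl⟩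
    induction w using TensorProduct.induction_on with
    | zero => rw [map_zero]; exact zero_mem _
    | add a b ha hb => rw [map_add]; exact add_mem ha hb
    | tmul a b =>
      rw [pieceTensor, TensorProduct.map_tmul]
      exact tmul_mem_segrePiece X Y a.2 b.2
  · rintro _ ⟨x, hx, y, hy, rfl⟩
    exact ⟨(⟨x, hx⟩ : pieceK 𝒜 X.gr n) ⊗ₜ[k] (⟨y, hy⟩ : pieceK ℬ Y.gr n), TensorProduct.map_tmul _ _ _ _⟩

end Groth.Agent.GrLib8.Seg
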