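import Groth.Agent.GrLib8.SegCMRing
import Groth.Agent.GrLib8.RegStd
import Groth.Agent.S19754
import Groth.Agent.PlLib.CMFinite

/-!
# Segre products of shifted polynomial rings
-/

set_option autoImplicit false
set_option linter.unusedSectionVars false
set_option linter.style.haveILetI false
set_option maxHeartbeats 1600000

universe u

open DirectSum
open scoped TensorProduct

namespace Groth.Agent.GrLib8.Seg

section Top

variable (k : Type u) [Field k] (n : ℕ)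

local notation "𝕊" => GrSyz.stdGr k (Fin n)

theorem stdGr_zero_eq : 𝕊 0 = Submodule.span k {(1 : MvPolynomial (Fin n) k)} := by
  refine le_antisymm (fun p hp => ?_) (Submodule.span_le.2 (Set.singleton_subset_iff.2 (SetLike.one_mem_graded 𝕊)))
  refine Submodule.mem_span_singleton.2 ⟨p.coeff 0, ?_⟩
  rw [Algebra.smul_def, mul_one]
  exact (eq_C_of_stdGr_zero k (Fin n) p hp).symm

theorem stdGr_neg : ∀ m : ℤ, m < 0 → 𝕊 m = ⊥ := fun m hm =>
  (Submodule.eq_bot_iff _).2 fun p hp => stdGr_nonneg k (Fin n) m hm p hp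

theorem stdGr_eq_bot_iff (hn : 1 ≤ n) (m : ℤ) : 𝕊 m = ⊥ ↔ m < 0 := by
  refine ⟨fun h => ?_, stdGr_neg k n m⟩
  by_contra hm
  obtain ⟨e, rfl⟩ : ∃ e : ℕ, m = e := ⟨m.toNat, by omega⟩
  have hx : (MvPolynomial.X (⟨0, hn⟩ : Fin n) : MvPolynomial (Fin n) k) ^ e ∈ 𝕊 (e : ℤ) := by
    have h1 : (MvPolynomial.X (⟨0, hn⟩ : Fin n) : MvPolynomial (Fin n) k) ∈ 𝕊 1 :=
      MvPolynomial.isWeightedHomogeneous_X k (fun _ : Fin n => (1 : ℤ)) _
    simpa using SetLike.pow_mem_graded e h1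
  rw [h, Submodule.mem_bot] at hx
  exact pow_ne_zero e (MvPolynomial.X_ne_zero _) hx

theorem supportDim_mvPolynomial :
    Module.supportDim (MvPolynomial (Fin n) k) (MvPolynomial (Fin n) k) = (n : WithBot ℕ∞) := by
  rw [Module.supportDim_self_eq_ringKrullDim, MvPolynomial.ringKrullDim_of_isNoetherianRing,
    ringKrullDim_eq_zero_of_field, zero_add]
  simp

theorem cm_mvPolynomial : ∀ (q : Ideal (MvPolynomial (Fin n) k)) [q.IsPrime],
    Subsingleton (LocalizedModule q.primeCompl (MvPolynomial (Fin n) k)) ∨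
      LocCoh.IsCohenMacaulayModule (Localization.AtPrime q) (LocalizedModule q.primeCompl (MvPolynomial (Fin n) k)) :=
  (cmRing_iff _).1 (PlLib.isCM_mvPolynomial k n)

/-- The top local cohomology of the polynomial ring lives exactly in degrees `≤ -n`. -/
theorem hVan_top_iff (hn : 1 ≤ n) (g : ℤ) :
    HVan (GrSyz.irrel 𝕊) (gmodPieces 𝕊 𝕊) n g ↔ -(n : ℤ) < g := by
  classical
  refine ⟨fun h => ?_, fun h => hVan_stdGr k n n g (by omega)⟩
  by_contra hg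
  have hother : ∀ (i : ℕ) (j : ℤ), i ≠ n → HVan (GrSyz.irrel 𝕊) (gmodPieces 𝕊 𝕊) i j := by
    intro i j hi
    haveI : LocCoh.IsCohenMacaulayRing (MvPolynomial (Fin n) k) := PlLib.isCM_mvPolynomial k n
    let ℳ := fun m : ℤ => AddSubgroup.ofClass (𝕊 m)
    let E := starRes (𝒜 := 𝕊) (gmodPieces 𝕊 𝕊).gr
    haveI : Module.Finite (MvPolynomial (Fin n) k) (gmodPieces 𝕊 𝕊).carrier :=
      inferInstanceAs (Module.Finite (MvPolynomial (Fin n) k) (MvPolynomial (Fin n) k))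
    exact hVan_of_res E (Hcomp_eq_bot_of_isCM 𝕊 (gmodPieces 𝕊 𝕊).gr (stdGr_neg k n) (stdGr_zero_eq k n) E
      (supportDim_mvPolynomial k n) (cm_mvPolynomial k n) hi j)
  -- vanishing in one low degree gives regularity `-1`
  have hbd : RegBd (GrSyz.irrel 𝕊) (gmodPieces 𝕊 𝕊) (-1) := by
    intro i j hj
    rcases eq_or_ne i n with hi | hi
    · have hp := hVan_persist (irrel_le_span_one k n) (gmodPieces 𝕊 𝕊) (g + n) 1 le_rfl
        (fun i' hi' => by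
          rcases eq_or_ne i' n with hne | hne
          · rw [hne, add_sub_cancel_right]
            exact h
          · exact hother i' _ hne)
        (j + i) (by omega) i (by omega)
      rwa [add_sub_cancel_right] at hp
    · exact hother i j hi
  obtain ⟨F, hF⟩ := exists_freeRes (ℳ := 𝕊) (stdGr_nonneg k (Fin n)) (isUnit_of_stdGr_zero k (Fin n))
  have hgen : F.IsGenLE (-1) := (isGenLE_iff_regBd F hF (-1)).2 hbd
  have haug : F.aug = 0 := funext fun b => by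
    have h1 := hgen 0 b
    exact stdGr_nonneg k (Fin n) _ (by omega) _ (F.aug_mem b)
  obtain ⟨c, hc⟩ := F.aug_surjective 1
  rw [haug] at hc
  simp [Fintype.linearCombination_apply] at hc

end Top

section Shift

variable {k : Type u} [Field k] {R : Type u} [CommRing R] [Algebra k R] (𝒜 : ℤ → Submodule k R) [GradedAlgebra 𝒜]

/-- The pieces of a shifted ring. -/
def shPieces (a : ℤ) : ℤ → AddSubgroup R := fun m => AddSubgroup.ofClass (𝒜 (m + a))

noncomputable instance shDecomp (a : ℤ) : Decomposition (shPieces 𝒜 a) :=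
  inferInstanceAs (Decomposition (shiftGMod 𝒜 𝒜 a).gr)

instance shGradedSMul (a : ℤ) : SetLike.GradedSMul 𝒜 (shPieces 𝒜 a) :=
  inferInstanceAs (SetLike.GradedSMul 𝒜 (shiftGMod 𝒜 𝒜 a).gr)

theorem shPieces_eq_bot_iff (a d : ℤ) : shPieces 𝒜 a d = ⊥ ↔ 𝒜 (d + a) = ⊥ := by
  rw [AddSubgroup.eq_bot_iff_forall, Submodule.eq_bot_iff]
  exact Iff.rfl

theorem hVan_shPieces_iff (a : ℤ) (m : HomogeneousIdeal 𝒜) (i : ℕ) (g : ℤ)
    (E : GrLC.StarInjRes 𝒜 (shPieces 𝒜 a)) :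
    E.Hcomp m i g = ⊥ ↔ HVan m (gmodPieces 𝒜 𝒜) i (g + a) := by
  rw [← hVan_of_pieces_res E]
  constructor
  · intro h
    refine hVan_of_bijective (X := gmodPieces 𝒜 (shPieces 𝒜 a)) (Y := gmodPieces 𝒜 𝒜) (LinearMap.id : R →ₗ[R] R)
      (d := a) (fun j x hx => hx) Function.bijective_id ?_
    rwa [add_sub_cancel_right]
  · intro h
    refine hVan_of_bijective (X := gmodPieces 𝒜 𝒜) (Y := gmodPieces 𝒜 (shPieces 𝒜 a)) (LinearMap.id : R →ₗ[R] R)
      (d := -a) (fun j x hx => show x ∈ 𝒜 (j + -a + a) by rwa [neg_add_cancel_right]) Function.bijective_id ?_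
    rwa [sub_neg_eq_add]

end Shift

section Pair

variable {k : Type u} [Field k] {R S T : Type u} [CommRing R] [CommRing S] [CommRing T] [Algebra k R] [Algebra k S]
  [Algebra k T] {𝒜 : ℤ → Submodule k R} [GradedAlgebra 𝒜] {ℬ : ℤ → Submodule k S} [GradedAlgebra ℬ]
  {𝒯 : ℤ → Submodule k T} [GradedAlgebra 𝒯] {ψ : T →ₐ[k] R ⊗[k] S}
variable {M N P : Type u} [AddCommGroup M] [Module R M] [Module k M] [IsScalarTower k R M]
  [AddCommGroup N] [Module S N] [Module k N] [IsScalarTower k S N]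
  [AddCommGroup P] [Module T P] [Module k P] [IsScalarTower k T P]
  (ℳ : ℤ → AddSubgroup M) [Decomposition ℳ] [SetLike.GradedSMul 𝒜 ℳ]
  (𝒩 : ℤ → AddSubgroup N) [Decomposition 𝒩] [SetLike.GradedSMul ℬ 𝒩]
  (𝒬 : ℤ → AddSubgroup P) [Decomposition 𝒬]

/-- The depth of a Segre product of Cohen-Macaulay modules, as far as it is below the top degree. -/
theorem le_idealDepth_segre_iff [Nontrivial R] [Nontrivial S] [Algebra.FiniteType k R] [Algebra.FiniteType k S]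
    (hposR : ∀ n : ℤ, n < 0 → 𝒜 n = ⊥) (h0R : 𝒜 0 = Submodule.span k {(1 : R)})
    (hposS : ∀ n : ℤ, n < 0 → ℬ n = ⊥) (h0S : ℬ 0 = Submodule.span k {(1 : S)})
    (hT : GrSeg.IsSegreRing 𝒜 ℬ 𝒯 ψ) [Module.Finite R M] [Module.Finite S N]
    (EM : GrLC.StarInjRes 𝒜 ℳ) (EN : GrLC.StarInjRes ℬ 𝒩) (φ : P →ₗ[k] M ⊗[k] N)
    (hP : GrSeg.IsSegreMod ψ ℳ 𝒩 𝒬 φ) {r s : ℕ} (h1r : 1 ≤ r) (h1s : 1 ≤ s)
    (hdM : Module.supportDim R M = r) (hdN : Module.supportDim S N = s)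
    (hMcm : ∀ (q : Ideal R) [q.IsPrime], Subsingleton (LocalizedModule q.primeCompl M) ∨
        LocCoh.IsCohenMacaulayModule (Localization.AtPrime q) (LocalizedModule q.primeCompl M))
    (hNcm : ∀ (q : Ideal S) [q.IsPrime], Subsingleton (LocalizedModule q.primeCompl N) ∨
        LocCoh.IsCohenMacaulayModule (Localization.AtPrime q) (LocalizedModule q.primeCompl N))
    {n : ℕ} (hn : n ≤ r + s - 1) :
    (n : ℕ∞) ≤ LocCoh.idealDepth (GrSyz.irrel 𝒯).toIdeal P ↔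
      (s < n → ∀ d : ℤ, ℳ d = ⊥ ∨ EN.Hcomp (GrSyz.irrel ℬ) s d = ⊥) ∧
        (r < n → ∀ d : ℤ, EM.Hcomp (GrSyz.irrel 𝒜) r d = ⊥ ∨ 𝒩 d = ⊥) := by
  haveI := gradedSMul_segre ℳ 𝒩 𝒬 hT hP
  haveI : IsNoetherianRing R := Algebra.FiniteType.isNoetherianRing k R
  haveI : IsNoetherianRing S := Algebra.FiniteType.isNoetherianRing k S
  haveI : IsNoetherianRing T := isNoetherianRing_segre 𝒜 ℬ 𝒯 ψ hT
  haveI := isNoetherian_segre 𝒜 ℬ ℳ 𝒩 𝒯 𝒬 hT.2 hP
  haveI : Module.Finite T P := Module.Finite.of_fg_top (IsNoetherian.noetherian ⊤)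
  haveI : Nontrivial T := segre_nontrivial hT
  have hpR := nonneg_of_eq_bot 𝒜 hposR
  have hpS := nonneg_of_eq_bot ℬ hposS
  have hpT := segre_nonneg hT hpR
  have h0T := segre_deg_zero hT h0R h0S
  let EP : GrLC.StarInjRes 𝒯 𝒬 := starRes 𝒬
  have hzM : ∀ i, i ≠ r → ∀ d, Module.finrank (GrLC.deg0 𝒜) (EM.Hcomp (GrSyz.irrel 𝒜) i d) = 0 := fun i hi d =>
    (finrank_Hcomp_eq_zero_iff 𝒜 ℳ hpR h0R EM i d).2 (Hcomp_eq_bot_of_isCM 𝒜 ℳ hposR h0R EM hdM hMcm hi d)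
  have hzN : ∀ i, i ≠ s → ∀ d, Module.finrank (GrLC.deg0 ℬ) (EN.Hcomp (GrSyz.irrel ℬ) i d) = 0 := fun i hi d =>
    (finrank_Hcomp_eq_zero_iff ℬ 𝒩 hpS h0S EN i d).2 (Hcomp_eq_bot_of_isCM ℬ 𝒩 hposS h0S EN hdN hNcm hi d)
  have hform : ∀ (q : ℕ), q < r + s - 1 → ∀ d : ℤ, (EP.Hcomp (GrSyz.irrel 𝒯) q d = ⊥ ↔
      (q = s → ℳ d = ⊥ ∨ EN.Hcomp (GrSyz.irrel ℬ) q d = ⊥) ∧
        (q = r → EM.Hcomp (GrSyz.irrel 𝒜) q d = ⊥ ∨ 𝒩 d = ⊥)) := by
    intro q hq d
    rw [← finrank_Hcomp_eq_zero_iff 𝒯 𝒬 hpT h0T EP q d,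
      finrank_segre ℳ 𝒩 𝒬 hpR h0R hpS h0S hT EM EN φ hP EP
        (Hcomp_eq_bot_of_isCM 𝒜 ℳ hposR h0R EM hdM hMcm (by omega) d)
        (Hcomp_eq_bot_of_isCM ℬ 𝒩 hposS h0S EN hdN hNcm (by omega) d) q,
      Finset.sum_eq_zero fun i hi => ?_, add_zero, Nat.add_eq_zero_iff]
    · rw [mul_eq_zero, mul_eq_zero, finrank_pieceK_eq_zero_iff 𝒜 ℳ hpR h0R, finrank_pieceK_eq_zero_iff ℬ 𝒩 hpS h0S,
        finrank_Hcomp_eq_zero_iff ℬ 𝒩 hpS h0S EN, finrank_Hcomp_eq_zero_iff 𝒜 ℳ hpR h0R EM]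
      exact and_congr ⟨fun h _ => h, fun h => (em (q = s)).elim h fun hne =>
          Or.inr (Hcomp_eq_bot_of_isCM ℬ 𝒩 hposS h0S EN hdN hNcm hne d)⟩
        ⟨fun h _ => h, fun h => (em (q = r)).elim h fun hne =>
          Or.inl (Hcomp_eq_bot_of_isCM 𝒜 ℳ hposR h0R EM hdM hMcm hne d)⟩
    · rcases eq_or_ne i r with rfl | hir
      · rw [hzN (q + 1 - i) (by omega) d, mul_zero]
      · rw [hzM i hir d, zero_mul]
  rw [LC.le_idealDepth_iff_H]
  constructor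
  · intro h
    refine ⟨fun h2 d => ?_, fun h2 d => ?_⟩
    · exact ((hform s (by omega) d).1 ((subsingleton_H_iff 𝒯 𝒬 EP s).1 (h s h2) d)).1 rfl
    · exact ((hform r (by omega) d).1 ((subsingleton_H_iff 𝒯 𝒬 EP r).1 (h r h2) d)).2 rfl
  · intro h q hq
    refine (subsingleton_H_iff 𝒯 𝒬 EP q).2 fun d => (hform q (by omega) d).2 ⟨?_, ?_⟩
    · rintro rfl; exact h.1 hq d
    · rintro rfl; exact h.2 hq d

end Pair

end Groth.Agent.GrLib8.Seg

namespace Groth.Agent.GrLib8.Seg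

variable {k : Type u} [Field k] {r s : ℕ}
  {T : Type u} [CommRing T] [Algebra k T] {𝒯 : ℤ → Submodule k T} [GradedAlgebra 𝒯]
  {ψ : T →ₐ[k] MvPolynomial (Fin r) k ⊗[k] MvPolynomial (Fin s) k}
  {P : Type u} [AddCommGroup P] [Module T P] [Module k P] [IsScalarTower k T P]
  {𝒬 : ℤ → AddSubgroup P} [Decomposition 𝒬]

/-- Cohen-Macaulayness and depth of a Segre product of shifted polynomial rings. -/
theorem segre_poly (h1r : 1 ≤ r) (h1s : 1 ≤ s)
    (hT : GrSeg.IsSegreRing (GrSyz.stdGr k (Fin r)) (GrSyz.stdGr k (Fin s)) 𝒯 ψ) (a b : ℤ)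
    (φ : P →ₗ[k] MvPolynomial (Fin r) k ⊗[k] MvPolynomial (Fin s) k)
    (hP : GrSeg.IsSegreMod ψ (fun n : ℤ => GrSyz.stdGr k (Fin r) (n + a)) (fun n : ℤ => GrSyz.stdGr k (Fin s) (n + b))
      𝒬 φ) :
    ((∀ (q : Ideal T) [q.IsPrime], Subsingleton (LocalizedModule q.primeCompl P) ∨
        LocCoh.IsCohenMacaulayModule (Localization.AtPrime q) (LocalizedModule q.primeCompl P)) ↔
      (2 ≤ r → a - b < (s : ℤ)) ∧ (2 ≤ s → -(r : ℤ) < a - b)) ∧
    ∀ n : ℕ, n ≤ r + s - 1 → ((n : ℕ∞) ≤ LocCoh.idealDepth (GrSyz.irrel 𝒯).toIdeal P ↔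
      (s < n → a - b < (s : ℤ)) ∧ (r < n → -(r : ℤ) < a - b)) := by
  classical
  have hP' : GrSeg.IsSegreMod ψ (shPieces (GrSyz.stdGr k (Fin r)) a) (shPieces (GrSyz.stdGr k (Fin s)) b) 𝒬 φ :=
    ⟨hP.injective, hP.image_piece, hP.map_smul⟩
  let EM := starRes (𝒜 := GrSyz.stdGr k (Fin r)) (shPieces (GrSyz.stdGr k (Fin r)) a)
  let EN := starRes (𝒜 := GrSyz.stdGr k (Fin s)) (shPieces (GrSyz.stdGr k (Fin s)) b)
  have hdP : Module.supportDim T P = ((r + s - 1 : ℕ) : WithBot ℕ∞) := by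
    refine (Groth.Agent.S19754.result k _ (GrSyz.stdGr k (Fin r)) (stdGr_neg k r) (stdGr_zero_eq k r) _
      (GrSyz.stdGr k (Fin s)) (stdGr_neg k s) (stdGr_zero_eq k s) T 𝒯 ψ hT _ (shPieces (GrSyz.stdGr k (Fin r)) a) _
      (shPieces (GrSyz.stdGr k (Fin s)) b) P 𝒬 φ hP' r s h1r h1s (supportDim_mvPolynomial k r) (supportDim_mvPolynomial k s)
      (cm_mvPolynomial k r) (cm_mvPolynomial k s)).resolve_right fun hsub => ?_
    let d := max (-a) (-b)
    obtain ⟨x, hx, hx0⟩ := (Submodule.ne_bot_iff _).1 fun h =>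
      absurd ((stdGr_eq_bot_iff k r h1r (d + a)).1 h) (by omega)
    obtain ⟨y, hy, hy0⟩ := (Submodule.ne_bot_iff _).1 fun h =>
      absurd ((stdGr_eq_bot_iff k s h1s (d + b)).1 h) (by omega)
    have hz : x ⊗ₜ[k] y ∈ GrSeg.segrePiece k (fun n : ℤ => GrSyz.stdGr k (Fin r) (n + a))
        (fun n : ℤ => GrSyz.stdGr k (Fin s) (n + b)) d := Submodule.subset_span ⟨x, hx, y, hy, rfl⟩
    rw [← SetLike.mem_coe, ← hP.image_piece d] at hz
    obtain ⟨p, -, hp⟩ := hz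
    rw [Subsingleton.elim p 0, map_zero] at hp
    let bx := MvPolynomial.basisMonomials (Fin r) k
    let by' := MvPolynomial.basisMonomials (Fin s) k
    obtain ⟨i, hi⟩ := Finsupp.ne_iff.1 (fun h => hx0 (bx.repr.injective (h.trans (map_zero _).symm)))
    obtain ⟨j, hj⟩ := Finsupp.ne_iff.1 (fun h => hy0 (by'.repr.injective (h.trans (map_zero _).symm)))
    have h2 := congrArg (fun w => TensorProduct.lid k k (TensorProduct.map (bx.coord i) (by'.coord j) w)) hp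
    simp only [map_zero, TensorProduct.map_tmul, TensorProduct.lid_tmul, Module.Basis.coord_apply, smul_eq_mul] at h2
    exact mul_ne_zero hi hj h2.symm
  have hr : (∀ d : ℤ, EM.Hcomp (GrSyz.irrel (GrSyz.stdGr k (Fin r))) r d = ⊥ ∨ shPieces (GrSyz.stdGr k (Fin s)) b d = ⊥) ↔
      -(r : ℤ) < a - b := by
    simp only [hVan_shPieces_iff, hVan_top_iff k r h1r, shPieces_eq_bot_iff, stdGr_eq_bot_iff k s h1s]
    exact ⟨fun h => by rcases h (-b) with h | h <;> omega, fun h d => by omega⟩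
  have hs : (∀ d : ℤ, shPieces (GrSyz.stdGr k (Fin r)) a d = ⊥ ∨ EN.Hcomp (GrSyz.irrel (GrSyz.stdGr k (Fin s))) s d = ⊥) ↔
      a - b < (s : ℤ) := by
    simp only [hVan_shPieces_iff, hVan_top_iff k s h1s, shPieces_eq_bot_iff, stdGr_eq_bot_iff k r h1r]
    exact ⟨fun h => by rcases h (-a) with h | h <;> omega, fun h d => by omega⟩
  refine ⟨?_, fun n hn => ?_⟩
  · rw [isCM_segre_iff _ _ 𝒬 (stdGr_neg k r) (stdGr_zero_eq k r) (stdGr_neg k s) (stdGr_zero_eq k s) hT EM EN φ hP' h1r h1s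
      (supportDim_mvPolynomial k r) (supportDim_mvPolynomial k s) hdP (cm_mvPolynomial k r) (cm_mvPolynomial k s), hr, hs]
  · rw [le_idealDepth_segre_iff _ _ 𝒬 (stdGr_neg k r) (stdGr_zero_eq k r) (stdGr_neg k s) (stdGr_zero_eq k s) hT EM EN φ
      hP' h1r h1s (supportDim_mvPolynomial k r) (supportDim_mvPolynomial k s) (cm_mvPolynomial k r) (cm_mvPolynomial k s) hn,
      hr, hs]

end Groth.Agent.GrLib8.Seg
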