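import Groth.Agent.GrLib8.SegKunneth
import Groth.Agent.GrLib8.KVecTop

/-!
# The top local cohomology of a Segre product as a module
-/

set_option autoImplicit false
set_option linter.unusedSectionVars false
set_option linter.style.haveILetI false
set_option maxHeartbeats 1600000

universe u

open DirectSum
open scoped TensorProduct

namespace Groth.Agent.GrLib8.Seg

variable {k : Type u} [Field k]

section One

variable {R₀ : Type u} [CommRing R₀] [IsNoetherianRing R₀] [Algebra k R₀] {𝒞 : ℤ → Submodule k R₀} [GradedAlgebra 𝒞]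
variable {Z : GrLC.GMod.{u} 𝒞} (E : GrLC.StarInjRes 𝒞 Z.gr)

/-- Local cohomology as a graded module. -/
noncomputable def HGM (n : ℕ) : GrLC.GMod.{u} 𝒞 :=
  letI := (isInternal_Hgr Z.gr E (GrSyz.irrel 𝒞) n).chooseDecomposition
  gmodOf 𝒞 (E.H (GrSyz.irrel 𝒞) n) (E.Hgr (GrSyz.irrel 𝒞) n)
    (fun x => mem_iSup_of_decomposition (E.Hgr (GrSyz.irrel 𝒞) n) x)
    (gIndep_of_decomposition (E.Hgr (GrSyz.irrel 𝒞) n))
    (fun {i g a x} ha hx => by
      obtain ⟨z, hz, rfl⟩ := hx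
      refine ⟨a • z, ?_, map_smul (E.toH _ n) a z⟩
      have := SetLike.GradedSMul.smul_mem (B := (E.X n).gr) ha hz
      rwa [vadd_eq_add] at this)

/-- The class map into the graded module. -/
noncomputable def clM (n : ℕ) : E.cocyc (GrSyz.irrel 𝒞) n →ₗ[R₀] (HGM E n).carrier := E.toH (GrSyz.irrel 𝒞) n

theorem clM_eq_zero (n : ℕ) (z : E.cocyc (GrSyz.irrel 𝒞) n) :
    clM E n z = 0 ↔ (z : (E.X n).carrier) ∈ E.cobdy (GrSyz.irrel 𝒞) n := Submodule.Quotient.mk_eq_zero _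

theorem mem_HGM_gr (n : ℕ) (g : ℤ) (v : (HGM E n).carrier) : v ∈ (HGM E n).gr g ↔
    ∃ z : E.cocyc (GrSyz.irrel 𝒞) n, (z : (E.X n).carrier) ∈ (E.X n).gr g ∧ clM E n z = v := Iff.rfl

/-- The connecting map, extended linearly to the whole term. -/
theorem exists_lam (p : ℕ) : ∃ L : (E.X (p + 1)).carrier →ₗ[k] (HGM E (p + 2)).carrier,
    (∀ w, L (E.d p w) = 0) ∧
    (∃ L' : (bar (E.X (p + 1))).carrier →ₗ[k] (HGM E (p + 2)).carrier, ∀ x, L x = L' (barMap _ x)) ∧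
    ∀ x (hx : E.d (p + 1) x ∈ GrLC.gam (GrSyz.irrel 𝒞).toIdeal (E.X (p + 2)).carrier),
      L x = clM E (p + 2) ⟨E.d (p + 1) x, hx, LinearMap.mem_ker.1 ((E.exact_succ (p + 1)).ge ⟨x, rfl⟩)⟩ := by
  classical
  let ZP : Submodule R₀ (E.X (p + 1)).carrier :=
    (GrLC.gam (GrSyz.irrel 𝒞).toIdeal (E.X (p + 2)).carrier).comap (E.d (p + 1))
  let l : ZP →ₗ[R₀] (HGM E (p + 2)).carrier := clM E (p + 2) ∘ₗ LinearMap.codRestrict _
    (E.d (p + 1) ∘ₗ ZP.subtype) fun x => ⟨x.2, LinearMap.mem_ker.1 ((E.exact_succ (p + 1)).ge ⟨x.1, rfl⟩)⟩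
  let ZK : Submodule k (E.X (p + 1)).carrier := ZP.restrictScalars k
  let l' : ZK →ₗ[k] (HGM E (p + 2)).carrier :=
    { toFun := fun x => l ⟨x.1, x.2⟩
      map_add' := fun a b => map_add l ⟨a.1, a.2⟩ ⟨b.1, b.2⟩
      map_smul' := fun c x => by
        have h : (⟨(c • x).1, (c • x).2⟩ : ZP) = algebraMap k R₀ c • (⟨x.1, x.2⟩ : ZP) :=
          Subtype.ext (algebraMap_smul R₀ c x.1).symm
        rw [h, map_smul, RingHom.id_apply]
        exact algebraMap_smul R₀ c _ }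
  obtain ⟨L, hL⟩ := LinearMap.exists_extend l'
  have hval : ∀ x (hx : E.d (p + 1) x ∈ GrLC.gam (GrSyz.irrel 𝒞).toIdeal (E.X (p + 2)).carrier),
      L x = clM E (p + 2) ⟨E.d (p + 1) x, hx, LinearMap.mem_ker.1 ((E.exact_succ (p + 1)).ge ⟨x, rfl⟩)⟩ :=
    fun x hx => LinearMap.congr_fun hL ⟨x, hx⟩
  have hgam : ∀ g ∈ GrLC.gam (GrSyz.irrel 𝒞).toIdeal (E.X (p + 1)).carrier, L g = 0 := fun g hg => by
    rw [hval g (map_gam _ hg), clM_eq_zero]
    exact ⟨g, hg, rfl⟩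
  refine ⟨L, fun w => ?_, ?_, hval⟩
  · have hdd : E.d (p + 1) (E.d p w) = 0 := LinearMap.mem_ker.1 ((E.exact_succ p).ge ⟨w, rfl⟩)
    rw [hval _ (by rw [hdd]; exact zero_mem _)]
    exact (clM_eq_zero E _ _).2 (by
      show E.d (p + 1) (E.d p w) ∈ _
      rw [hdd]; exact zero_mem _)
  · obtain ⟨σ, hσ⟩ := LinearMap.exists_rightInverse_of_surjective ((barMap (E.X (p + 1))).restrictScalars k)
      (LinearMap.range_eq_top.2 (Submodule.mkQ_surjective _))
    refine ⟨L ∘ₗ σ, fun x => ?_⟩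
    have h1 : barMap (E.X (p + 1)) (x - σ (barMap _ x)) = 0 := by
      rw [map_sub, sub_eq_zero]
      exact (LinearMap.congr_fun hσ (barMap _ x)).symm
    have h2 := hgam _ ((Submodule.Quotient.mk_eq_zero _).1 h1)
    rw [map_sub, sub_eq_zero] at h2
    exact h2

/-- A homogeneous class comes from a homogeneous element of the previous term. -/
theorem exists_pre_of_mem {p : ℕ} {g : ℤ} {v : (HGM E (p + 2)).carrier} (hv : v ∈ (HGM E (p + 2)).gr g) :
    ∃ (x : (E.X (p + 1)).carrier) (hx : E.d (p + 1) x ∈ GrLC.gam (GrSyz.irrel 𝒞).toIdeal (E.X (p + 2)).carrier),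
      x ∈ (E.X (p + 1)).gr g ∧
        clM E (p + 2) ⟨E.d (p + 1) x, hx, LinearMap.mem_ker.1 ((E.exact_succ (p + 1)).ge ⟨x, rfl⟩)⟩ = v := by
  obtain ⟨z, hz, rfl⟩ := (mem_HGM_gr E _ _ v).1 hv
  obtain ⟨x, hx, he⟩ := exists_preimage_mem (E.d (p + 1)) (isGrHomDeg_zero_iff.2 (E.d_grHom (p + 1))) hz
    ((E.exact_succ (p + 1)).le (LinearMap.mem_ker.2 z.2.2))
  rw [sub_zero] at hx
  exact ⟨x, he ▸ z.2.1, hx, congrArg (clM E (p + 2)) (Subtype.ext he)⟩

end One

variable {R S T : Type u} [CommRing R] [CommRing S] [CommRing T] [Algebra k R] [Algebra k S]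
  [Algebra k T] {𝒜 : ℤ → Submodule k R} [GradedAlgebra 𝒜] {ℬ : ℤ → Submodule k S} [GradedAlgebra ℬ]
  {𝒯 : ℤ → Submodule k T} [GradedAlgebra 𝒯] {ψ : T →ₐ[k] R ⊗[k] S}
variable [IsNoetherianRing R] [IsNoetherianRing S] [IsNoetherianRing T] [Nontrivial R] [Nontrivial S] [Nontrivial T]
variable (hT : ∀ n : ℤ, (𝒯 n).map ψ.toLinearMap = GrSeg.segrePiece k 𝒜 ℬ n)
variable (hpR : ∀ n < 0, ∀ r ∈ 𝒜 n, r = 0) (hpS : ∀ n < 0, ∀ r ∈ ℬ n, r = 0) (hpT : ∀ n < 0, ∀ r ∈ 𝒯 n, r = 0)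
variable {X : GrLC.GMod.{u} 𝒜} {Y : GrLC.GMod.{u} ℬ} (EM : GrLC.StarInjRes 𝒜 X.gr) (EN : GrLC.StarInjRes ℬ Y.gr)

theorem mem_gam_totT {n : ℕ} (a : (totT hT EM EN n).carrier)
    (h : ∀ x : KVec.Idx n, evT hT EM EN x a ∈ GrLC.gam (GrSyz.irrel 𝒯).toIdeal (sq (EM.X x.1.1) (EN.X x.1.2) hT).carrier) :
    a ∈ GrLC.gam (GrSyz.irrel 𝒯).toIdeal (totT hT EM EN n).carrier := by
  classical
  choose κ hκ using h
  exact ⟨Finset.univ.sup κ, fun r hr => totT_ext hT EM EN fun x => by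
    rw [map_smul, map_zero, hκ x r (Ideal.pow_le_pow_right (Finset.le_sup (f := κ) (Finset.mem_univ x)) hr)]⟩

theorem finrank_segrePiece (A : GrLC.GMod.{u} 𝒜) (B : GrLC.GMod.{u} ℬ) (d : ℤ) :
    Module.finrank k (GrSeg.segrePiece k A.gr B.gr d) =
      Module.finrank k (pieceK 𝒜 A.gr d) * Module.finrank k (pieceK ℬ B.gr d) := by
  rw [← range_pieceTensor A B d, LinearMap.finrank_range_of_inj (pieceTensor_injective A B d),
    Module.finrank_tensorProduct]

include hT hpR hpS hpT in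
/-- The dimension of a piece of the top local cohomology of a Segre product. -/
theorem finrank_top_piece (h0R : 𝒜 0 = Submodule.span k {(1 : R)}) (h0S : ℬ 0 = Submodule.span k {(1 : S)})
    (h0T : 𝒯 0 = Submodule.span k {(1 : T)}) [Module.Finite R X.carrier] [Module.Finite S Y.carrier] (p q : ℕ)
    (hA : ∀ i, p + 2 < i → Subsingleton (EM.H (GrSyz.irrel 𝒜) i))
    (hB : ∀ i, q + 2 < i → Subsingleton (EN.H (GrSyz.irrel ℬ) i))
    {P : GrLC.GMod.{u} 𝒯} (e : P.carrier →ₗ[T] (sq X Y hT).carrier)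
    (he : GrLC.IsGrHom P.gr (sq X Y hT).gr e) (heb : Function.Bijective e) (EP : GrLC.StarInjRes 𝒯 P.gr) (d : ℤ) :
    Module.Finite (GrLC.deg0 𝒯) (EP.Hcomp (GrSyz.irrel 𝒯) (p + q + 1 + 1 + 1) d) ∧
      Module.finrank (GrLC.deg0 𝒯) (EP.Hcomp (GrSyz.irrel 𝒯) (p + q + 1 + 1 + 1) d) =
        Module.finrank k (GrSeg.segrePiece k (HGM EM (p + 2)).gr (HGM EN (q + 2)).gr d) := by
  classical
  let r := totARes hT EM EN hpR hpS hpT e he heb
  obtain ⟨Ψ, hΨs, hΨk, hΨg, -⟩ := r.exists_psi (p + q + 1 + 1 + 1) EP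
  haveI hfA : ∀ n, Module.Finite k ((KVec.kerCx (barHom EM d)).H n) := fun n => by
    obtain ⟨j, hj⟩ := exists_kerBar_equiv EM d n
    exact finite_transfer h0R j hj (finite_Hcomp hpR h0R EM n d)
  haveI hfB : ∀ n, Module.Finite k ((KVec.kerCx (barHom EN d)).H n) := fun n => by
    obtain ⟨j, hj⟩ := exists_kerBar_equiv EN d n
    exact finite_transfer h0S j hj (finite_Hcomp hpS h0S EN n d)
  have hvA : ∀ i, p + 2 < i → Subsingleton ((KVec.kerCx (barHom EM d)).H i) := fun i hi => by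
    obtain ⟨j, -⟩ := exists_kerBar_equiv EM d i
    haveI := hA i hi
    exact j.toEquiv.subsingleton
  have hvB : ∀ i, q + 2 < i → Subsingleton ((KVec.kerCx (barHom EN d)).H i) := fun i hi => by
    obtain ⟨j, -⟩ := exists_kerBar_equiv EN d i
    haveI := hB i hi
    exact j.toEquiv.subsingleton
  obtain ⟨hfin, hfr⟩ := KVec.finrank_ker_totMap_top (barHom EM d) (barHom EN d) (barHom_surjective EM d)
    (barHom_surjective EN d) (pieceCx_exact EM d) (pieceCx_exact EN d) p q hvA hvB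
  let φψ := KVec.totMap (barHom EM d) (barHom EN d)
  obtain ⟨j, hj⟩ : ∃ j : (KVec.kerCx φψ).H (p + q + 1 + 1 + 1) ≃+ EP.Hcomp (GrSyz.irrel 𝒯) (p + q + 1 + 1 + 1) d,
      ∀ (c : k) x, j (c • x) = iota 𝒯 c • j x := by
    refine exists_piece_addEquiv EP (GrSyz.irrel 𝒯) d r.A r.d r.d_grHom r.cobdy rfl (fun n => rfl) (p + q + 1 + 1 + 1) Ψ hΨs hΨk hΨg
      (KVec.kerCx φψ) (fun n => emb hT EM EN d n ∘ₗ (LinearMap.ker (φψ.f n)).subtype)
      (fun n => (emb_injective hT EM EN d n).comp Subtype.val_injective)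
      (fun n v => ⟨(emb_mem_gam_iff hT hpR hpS hpT EM EN d n v.1).2 v.2, emb_mem hT EM EN d n v.1⟩)
      (fun n x hx hxd => ?_) (fun n v => dT_emb hT EM EN d n v.1)
    obtain ⟨f, hf⟩ := exists_emb hT EM EN d n x hxd
    exact ⟨⟨f, (emb_mem_gam_iff hT hpR hpS hpT EM EN d n f).1 (hf.symm ▸ hx)⟩, hf⟩
  refine ⟨?_, ?_⟩
  · let g : k →+* GrLC.deg0 𝒯 := iota 𝒯
    obtain ⟨s, hs⟩ := hfin.fg_top
    refine ⟨⟨s.image j, eq_top_iff.2 fun w hw => ?_⟩⟩
    clear hw
    obtain ⟨v, rfl⟩ := j.surjective w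
    have hv : v ∈ Submodule.span k (s : Set _) := hs.ge Submodule.mem_top
    induction hv using Submodule.span_induction with
    | mem v hv => exact Submodule.subset_span (Finset.mem_coe.2 (Finset.mem_image_of_mem j hv))
    | zero => rw [map_zero]; exact zero_mem _
    | add v v' _ _ hv hv' => rw [map_add]; exact add_mem hv hv'
    | smul c v _ hv => rw [hj]; exact Submodule.smul_mem _ _ hv
  · rw [← finrank_transfer h0T j hj, finrank_segrePiece]
    refine hfr.trans (congrArg₂ (· * ·) ?_ ?_)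
    · obtain ⟨jA, hjA⟩ := exists_kerBar_equiv EM d (p + 2)
      rw [finrank_transfer h0R jA hjA]
      symm
      exact finrank_transfer h0R
        { toFun := fun v : pieceK 𝒜 (HGM EM (p + 2)).gr d => (⟨v.1, v.2⟩ : EM.Hcomp (GrSyz.irrel 𝒜) (p + 2) d),
          invFun := fun v => ⟨v.1, v.2⟩, left_inv := fun _ => rfl, right_inv := fun _ => rfl,
          map_add' := fun _ _ => rfl } fun c v => Subtype.ext (algebraMap_smul R c v.1).symm
    · obtain ⟨jB, hjB⟩ := exists_kerBar_equiv EN d (q + 2)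
      rw [finrank_transfer h0S jB hjB]
      symm
      exact finrank_transfer h0S
        { toFun := fun v : pieceK ℬ (HGM EN (q + 2)).gr d => (⟨v.1, v.2⟩ : EN.Hcomp (GrSyz.irrel ℬ) (q + 2) d),
          invFun := fun v => ⟨v.1, v.2⟩, left_inv := fun _ => rfl, right_inv := fun _ => rfl,
          map_add' := fun _ _ => rfl } fun c v => Subtype.ext (algebraMap_smul S c v.1).symm

/-- Bijectivity from a dimension count. -/
theorem bij_of_finrank {W V : Type u} [AddCommGroup W] [Module k W] [AddCommGroup V] [Module k V] [Module.Finite k W]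
    (f : W →ₗ[k] V) {U : Submodule k V} (hU : U ≤ LinearMap.range f) (h : Module.finrank k W = Module.finrank k U) :
    Function.Injective f ∧ ∀ w, f w ∈ U := by
  have h1 := f.finrank_range_add_finrank_ker
  have h2 := Submodule.finrank_mono hU
  have h3 : LinearMap.ker f = ⊥ := Submodule.finrank_eq_zero.1 (by omega)
  have h4 := Submodule.eq_of_le_of_finrank_le hU (by omega)
  exact ⟨LinearMap.ker_eq_bot.1 h3, fun w => h4.ge ⟨w, rfl⟩⟩

include hT hpR hpS hpT in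
/-- The top local cohomology of a Segre product is the Segre product of the top local cohomologies. -/
theorem exists_top_equiv (h0R : 𝒜 0 = Submodule.span k {(1 : R)}) (h0S : ℬ 0 = Submodule.span k {(1 : S)})
    (h0T : 𝒯 0 = Submodule.span k {(1 : T)}) [Module.Finite R X.carrier] [Module.Finite S Y.carrier] (p q : ℕ)
    (hA : ∀ i, p + 2 < i → Subsingleton (EM.H (GrSyz.irrel 𝒜) i))
    (hB : ∀ i, q + 2 < i → Subsingleton (EN.H (GrSyz.irrel ℬ) i))
    {P : GrLC.GMod.{u} 𝒯} (e : P.carrier →ₗ[T] (sq X Y hT).carrier)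
    (he : GrLC.IsGrHom P.gr (sq X Y hT).gr e) (heb : Function.Bijective e) (EP : GrLC.StarInjRes 𝒯 P.gr) :
    ∃ Φ : EP.H (GrSyz.irrel 𝒯) (p + q + 1 + 2) →+ (HGM EM (p + 2)).carrier ⊗[k] (HGM EN (q + 2)).carrier,
      Function.Injective Φ ∧
      (∀ d : ℤ, Φ '' (EP.Hgr (GrSyz.irrel 𝒯) (p + q + 1 + 2) d : Set _) =
        (GrSeg.segrePiece k (HGM EM (p + 2)).gr (HGM EN (q + 2)).gr d : Set _)) ∧
      ∀ (t : T) x, Φ (t • x) = GrSeg.act k R S (HGM EM (p + 2)).carrier (HGM EN (q + 2)).carrier (ψ t) (Φ x) := by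
  classical
  let r := totARes hT EM EN hpR hpS hpT e he heb
  let N := p + q + 1 + 1
  obtain ⟨Ψ, hΨs, hΨk, hΨg, -⟩ := r.exists_psi (N + 1) EP
  let x₀ : KVec.Idx N := ⟨(p + 1, q + 1), by simp only [N]; omega⟩
  let Pre : Submodule T (totT hT EM EN N).carrier :=
    (GrLC.gam (GrSyz.irrel 𝒯).toIdeal (totT hT EM EN (N + 1)).carrier).comap (dT hT EM EN N)
  let cls : Pre →ₗ[T] EP.H (GrSyz.irrel 𝒯) (N + 1) := Ψ ∘ₗ LinearMap.codRestrict (r.cocyc (N + 1))
    (dT hT EM EN N ∘ₗ Pre.subtype) fun z => ⟨z.2, dT_dT hT EM EN N z.1⟩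
  have hcls : Function.Surjective cls := fun w => by
    obtain ⟨c, rfl⟩ := hΨs w
    obtain ⟨z, hz⟩ := (exact_succ_T hT EM EN N).le (show dT hT EM EN (N + 1) c.1 = 0 from c.2.2)
    exact ⟨⟨z, show dT hT EM EN N z ∈ _ from hz ▸ c.2.1⟩, congrArg Ψ (Subtype.ext hz)⟩
  obtain ⟨LM, hLMd, ⟨LM', hLM'⟩, hLM⟩ := exists_lam EM p
  obtain ⟨LN, hLNd, ⟨LN', hLN'⟩, hLN⟩ := exists_lam EN q
  let F : (totT hT EM EN N).carrier →+ (HGM EM (p + 2)).carrier ⊗[k] (HGM EN (q + 2)).carrier :=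
    (TensorProduct.map LM LN).toAddMonoidHom.comp
      (AddMonoidHom.mk' (fun z => sqVal (EM.X (p + 1)) (EN.X (q + 1)) hT (evT hT EM EN x₀ z)) fun a b => by
        rw [map_add]; rfl)
  -- the map kills what has zero class
  have hF0 : ∀ z : Pre, cls z = 0 → F z.1 = 0 := by
    intro z hz
    obtain ⟨γ, hγ, hγz⟩ : ∃ γ : (totT hT EM EN N).carrier,
        γ ∈ GrLC.gam (GrSyz.irrel 𝒯).toIdeal (totT hT EM EN N).carrier ∧ dT hT EM EN N γ = dT hT EM EN N z.1 := by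
      obtain ⟨γ, hγ, hγz⟩ := (hΨk _).1 hz
      exact ⟨γ, hγ, hγz⟩
    obtain ⟨w, hw⟩ := (exact_succ_T hT EM EN (p + q + 1)).le (show dT hT EM EN N (z.1 - γ) = 0 by
      rw [map_sub, sub_eq_zero]; exact hγz.symm)
    have h1 : F γ = 0 := by
      have hg : sqVal _ _ hT (evT hT EM EN x₀ γ) = sqVal _ _ hT (evT hT EM EN x₀ γ) := rfl
      have h2 := (mem_gam_sq_iff hT hpR hpS hpT _).1 (map_gam (evT hT EM EN x₀) hγ)
      show TensorProduct.map LM LN (sqVal (EM.X (p + 1)) (EN.X (q + 1)) hT (evT hT EM EN x₀ γ)) = 0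
      rw [show LM = LM' ∘ₗ (barMap _).restrictScalars k from LinearMap.ext hLM',
        show LN = LN' ∘ₗ (barMap _).restrictScalars k from LinearMap.ext hLN', TensorProduct.map_comp, LinearMap.comp_apply]
      exact (congrArg _ h2).trans (map_zero _)
    have h3 : F (dT hT EM EN (p + q + 1) w) = 0 := by
      show TensorProduct.map LM LN (sqVal (EM.X (p + 1)) (EN.X (q + 1)) hT (evT hT EM EN x₀ (dT hT EM EN (p + q + 1) w))) = 0
      rw [evT_dT, dLT_succ, dRT_succ, neg_one_pow_smul]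
      rw [show ∀ (a b : (sq (EM.X (p + 1)) (EN.X (q + 1)) hT).carrier), sqVal (EM.X (p + 1)) (EN.X (q + 1)) hT (a + b) =
        sqVal (EM.X (p + 1)) (EN.X (q + 1)) hT a + sqVal (EM.X (p + 1)) (EN.X (q + 1)) hT b from fun _ _ => rfl,
        sqVal_smul_k, sqVal_sqMap, sqVal_sqMap]
      rw [map_add, map_smul, KVec.map_map', KVec.map_map',
        show LM ∘ₗ (EM.d p).restrictScalars k = 0 from LinearMap.ext hLMd,
        show LN ∘ₗ (EN.d q).restrictScalars k = 0 from LinearMap.ext hLNd,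
        TensorProduct.map_zero_left, TensorProduct.map_zero_right]
      simp
    have h4 : (z.1 : (totT hT EM EN N).carrier) = γ + dT hT EM EN (p + q + 1) w := by rw [hw]; abel
    rw [h4, map_add, h1, h3, add_zero]
  choose pre hpre using hcls
  have hFeq : ∀ z : Pre, F (pre (cls z)).1 = F z.1 := fun z => by
    have := hF0 (pre (cls z) - z) (by rw [map_sub, hpre, sub_self])
    rwa [AddSubgroupClass.coe_sub, map_sub, sub_eq_zero] at this
  let Φ : EP.H (GrSyz.irrel 𝒯) (N + 1) →+ (HGM EM (p + 2)).carrier ⊗[k] (HGM EN (q + 2)).carrier :=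
    AddMonoidHom.mk' (fun w => F (pre w).1) fun a b => by
      rw [← map_add, ← Submodule.coe_add, ← hFeq (pre a + pre b), map_add cls, hpre, hpre]
  have hΦ : ∀ z : Pre, Φ (cls z) = F z.1 := hFeq
  have hk : ∀ (c : k) w, Φ (algebraMap k T c • w) = c • Φ w := fun c w => by
    obtain ⟨z, rfl⟩ : ∃ z, cls z = w := ⟨pre w, hpre w⟩
    rw [← map_smul, hΦ, hΦ]
    show TensorProduct.map LM LN (sqVal (EM.X (p + 1)) (EN.X (q + 1)) hT (evT hT EM EN x₀ (algebraMap k T c • z.1))) = _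
    rw [map_smul, ← smul_k_def, sqVal_smul_k, map_smul]
    rfl
  -- pure classes
  have hpure : ∀ (d : ℤ) (a : (HGM EM (p + 2)).carrier) (b : (HGM EN (q + 2)).carrier),
      a ∈ (HGM EM (p + 2)).gr d → b ∈ (HGM EN (q + 2)).gr d → ∃ w ∈ EP.Hgr (GrSyz.irrel 𝒯) (N + 1) d,
        Φ w = a ⊗ₜ[k] b ∧ ∀ t : T, Φ (t • w) = GrSeg.act k R S _ _ (ψ t) (a ⊗ₜ[k] b) := by
    intro d a b ha hb
    obtain ⟨x, hx, hxd, rfl⟩ := exists_pre_of_mem EM ha
    obtain ⟨y, hy, hyd, rfl⟩ := exists_pre_of_mem EN hb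
    let v : (pieceCx EM d).V (p + 1) ⊗[k] (pieceCx EN d).V (q + 1) :=
      (⟨x, hxd⟩ : pieceK 𝒜 (EM.X (p + 1)).gr d) ⊗ₜ[k] (⟨y, hyd⟩ : pieceK ℬ (EN.X (q + 1)).gr d)
    let f : KVec.TotV (pieceCx EM d) (pieceCx EN d) N :=
      Pi.single (M := fun i : KVec.Idx N => (pieceCx EM d).V i.1.1 ⊗[k] (pieceCx EN d).V i.1.2) x₀ v
    let z := emb hT EM EN d N f
    have hev₀ : sqVal (EM.X (p + 1)) (EN.X (q + 1)) hT (evT hT EM EN x₀ z) = x ⊗ₜ[k] y := by
      refine (sqVal_evT_emb hT EM EN d N f x₀).trans ?_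
      rw [show f x₀ = v from Pi.single_eq_same (M := fun i : KVec.Idx N => (pieceCx EM d).V i.1.1 ⊗[k] (pieceCx EN d).V i.1.2) x₀ v]
      exact TensorProduct.map_tmul _ _ _ _
    have hev : ∀ i, i ≠ x₀ → evT hT EM EN i z = 0 := fun i hi => sqVal_injective _ _ hT (by
      refine (sqVal_evT_emb hT EM EN d N f i).trans ?_
      rw [show f i = 0 from Pi.single_eq_of_ne (M := fun i : KVec.Idx N => (pieceCx EM d).V i.1.1 ⊗[k] (pieceCx EN d).V i.1.2) hi v, map_zero]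
      rfl)
    have hzP : z ∈ Pre := by
      refine mem_gam_totT hT EM EN _ fun i => ?_
      obtain ⟨⟨i, j⟩, hij⟩ := i
      rw [evT_dT]
      refine Submodule.add_mem _ ?_ ?_
      · rcases i with _ | i
        · exact zero_mem _
        · rw [dLT_succ]
          by_cases h : (⟨(i, j), by simp only at hij ⊢; omega⟩ : KVec.Idx N) = x₀
          · obtain ⟨rfl, rfl⟩ : i = p + 1 ∧ j = q + 1 :=
              ⟨congrArg (fun u : KVec.Idx N => u.1.1) h, congrArg (fun u : KVec.Idx N => u.1.2) h⟩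
            refine (mem_gam_sq_iff hT hpR hpS hpT _).2 ?_
            rw [sqVal_sqMap, hev₀, TensorProduct.map_tmul, TensorProduct.map_tmul]
            show barMap _ (EM.d (p + 1) x) ⊗ₜ[k] _ = 0
            rw [show barMap _ (EM.d (p + 1) x) = 0 from (Submodule.Quotient.mk_eq_zero _).2 hx, TensorProduct.zero_tmul]
          · rw [hev _ h, map_zero]; exact zero_mem _
      · rcases j with _ | j
        · rw [dRT_zero]; exact zero_mem _
        · rw [dRT_succ]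
          refine Submodule.smul_mem _ _ ?_
          by_cases h : (⟨(i, j), by simp only at hij ⊢; omega⟩ : KVec.Idx N) = x₀
          · obtain ⟨rfl, rfl⟩ : i = p + 1 ∧ j = q + 1 :=
              ⟨congrArg (fun u : KVec.Idx N => u.1.1) h, congrArg (fun u : KVec.Idx N => u.1.2) h⟩
            refine (mem_gam_sq_iff hT hpR hpS hpT _).2 ?_
            rw [sqVal_sqMap, hev₀, TensorProduct.map_tmul, TensorProduct.map_tmul]
            show _ ⊗ₜ[k] barMap _ (EN.d (q + 1) y) = 0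
            rw [show barMap _ (EN.d (q + 1) y) = 0 from (Submodule.Quotient.mk_eq_zero _).2 hy, TensorProduct.tmul_zero]
          · rw [hev _ h, map_zero]; exact zero_mem _
    refine ⟨cls ⟨z, hzP⟩, hΨg d _ (dT_grHom hT EM EN N d _ (emb_mem hT EM EN d N f)), ?_, fun t => ?_⟩
    · rw [hΦ]
      show TensorProduct.map LM LN (sqVal (EM.X (p + 1)) (EN.X (q + 1)) hT (evT hT EM EN x₀ z)) = _
      rw [hev₀, TensorProduct.map_tmul, hLM x hx, hLN y hy]
    · rw [← map_smul, hΦ]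
      show TensorProduct.map LM LN (sqVal (EM.X (p + 1)) (EN.X (q + 1)) hT (evT hT EM EN x₀ (t • z))) = _
      rw [map_smul, sqVal_smul, hev₀]
      generalize ψ t = u
      induction u using TensorProduct.induction_on with
      | zero => simp
      | add u u' hu hu' => simp only [map_add, LinearMap.add_apply, hu, hu']
      | tmul α β =>
        rw [GrSeg.act_tmul, GrSeg.act_tmul, TensorProduct.map_tmul]
        have hαx : EM.d (p + 1) (α • x) ∈ GrLC.gam (GrSyz.irrel 𝒜).toIdeal (EM.X (p + 2)).carrier := by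
          rw [map_smul]; exact Submodule.smul_mem _ α hx
        have hβy : EN.d (q + 1) (β • y) ∈ GrLC.gam (GrSyz.irrel ℬ).toIdeal (EN.X (q + 2)).carrier := by
          rw [map_smul]; exact Submodule.smul_mem _ β hy
        rw [hLM _ hαx, hLN _ hβy, ← map_smul, ← map_smul]
        exact congrArg₂ (fun a b => a ⊗ₜ[k] b) (congrArg (clM EM (p + 2)) (Subtype.ext (map_smul (EM.d (p + 1)) α x)))
          (congrArg (clM EN (q + 2)) (Subtype.ext (map_smul (EN.d (q + 1)) β y)))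
  have hle : ∀ (d : ℤ) v, v ∈ GrSeg.segrePiece k (HGM EM (p + 2)).gr (HGM EN (q + 2)).gr d →
      ∃ w ∈ EP.Hgr (GrSyz.irrel 𝒯) (N + 1) d,
        Φ w = v ∧ ∀ t : T, Φ (t • w) = GrSeg.act k R S _ _ (ψ t) v := by
    intro d v hv
    induction hv using Submodule.span_induction with
    | mem v hv =>
      obtain ⟨a, ha, b, hb, rfl⟩ := hv
      exact hpure d a b ha hb
    | zero => exact ⟨0, zero_mem _, map_zero Φ, fun t => by rw [smul_zero, map_zero, map_zero]⟩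
    | add v v' _ _ hv hv' =>
      obtain ⟨w, hw, e1, e2⟩ := hv
      obtain ⟨w', hw', e1', e2'⟩ := hv'
      exact ⟨w + w', add_mem hw hw', by rw [map_add, e1, e1'], fun t => by rw [smul_add, map_add, e2, e2', map_add]⟩
    | smul c v _ hv =>
      obtain ⟨w, hw, e1, e2⟩ := hv
      refine ⟨algebraMap k T c • w, ?_, by rw [hk, e1], fun t => by rw [smul_comm, hk, e2, map_smul]⟩
      exact (EP.Hcomp (GrSyz.irrel 𝒯) (N + 1) d).smul_mem ⟨algebraMap k T c, SetLike.algebraMap_mem_graded 𝒯 c⟩ hw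
  have hdim := finrank_top_piece hT hpR hpS hpT EM EN h0R h0S h0T p q hA hB e he heb EP
  -- bijectivity on pieces
  have hbij : ∀ d : ℤ, (∀ w ∈ EP.Hgr (GrSyz.irrel 𝒯) (N + 1) d, Φ w = 0 → w = 0) ∧
      ∀ w ∈ EP.Hgr (GrSyz.irrel 𝒯) (N + 1) d, Φ w ∈ GrSeg.segrePiece k (HGM EM (p + 2)).gr (HGM EN (q + 2)).gr d := by
    intro d
    let W := EP.Hcomp (GrSyz.irrel 𝒯) (N + 1) d
    letI : Module k W := Module.compHom W (iota 𝒯)
    obtain ⟨hfin, hfr⟩ := hdim d
    haveI : Module.Finite k W := finite_transfer h0T (AddEquiv.refl W) (fun _ _ => rfl) hfin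
    have hfW : Module.finrank k W = Module.finrank k (GrSeg.segrePiece k (HGM EM (p + 2)).gr (HGM EN (q + 2)).gr d) :=
      (finrank_transfer h0T (AddEquiv.refl W) fun _ _ => rfl).trans hfr
    let fW : W →ₗ[k] (HGM EM (p + 2)).carrier ⊗[k] (HGM EN (q + 2)).carrier :=
      { toFun := fun w => Φ w.1
        map_add' := fun a b => map_add Φ a.1 b.1
        map_smul' := fun c w => hk c w.1 }
    have hS : GrSeg.segrePiece k (HGM EM (p + 2)).gr (HGM EN (q + 2)).gr d ≤ LinearMap.range fW := fun v hv => by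
      obtain ⟨w, hw, rfl, -⟩ := hle d v hv
      exact ⟨⟨w, hw⟩, rfl⟩
    obtain ⟨h1, h2⟩ := bij_of_finrank fW hS hfW
    exact ⟨fun w hw h0 => congrArg Subtype.val (h1 (a₁ := ⟨w, hw⟩) (a₂ := 0) (h0.trans (map_zero fW).symm)),
      fun w hw => h2 ⟨w, hw⟩⟩
  letI := (isInternal_Hgr P.gr EP (GrSyz.irrel 𝒯) (N + 1)).chooseDecomposition
  have hinj : Function.Injective Φ := (injective_iff_map_eq_zero Φ).2 fun w hw => by
    rw [← sum_support_decompose (EP.Hgr (GrSyz.irrel 𝒯) (N + 1)) w, map_sum] at hw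
    rw [← sum_support_decompose (EP.Hgr (GrSyz.irrel 𝒯) (N + 1)) w]
    refine Finset.sum_eq_zero fun d hd => (hbij d).1 _ (SetLike.coe_mem _) ?_
    exact segrePiece_indep (HGM EM (p + 2)) (HGM EN (q + 2)) _ _
      (fun g _ => (hbij g).2 _ (SetLike.coe_mem (decompose (EP.Hgr (GrSyz.irrel 𝒯) (N + 1)) w g))) hw d hd
  refine ⟨Φ, hinj, fun d => Set.ext fun v => ⟨?_, fun hv => ?_⟩, fun t w => ?_⟩
  · rintro ⟨w, hw, rfl⟩
    exact (hbij d).2 w hw
  · obtain ⟨w, hw, rfl, -⟩ := hle d v hv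
    exact ⟨w, hw, rfl⟩
  · show Φ (t • w) = GrSeg.act k R S _ _ (ψ t) (Φ w)
    rw [← sum_support_decompose (EP.Hgr (GrSyz.irrel 𝒯) (N + 1)) w, Finset.smul_sum, map_sum, map_sum, map_sum]
    refine Finset.sum_congr rfl fun d _ => ?_
    have hd : (decompose (EP.Hgr (GrSyz.irrel 𝒯) (N + 1)) w d : EP.H (GrSyz.irrel 𝒯) (N + 1)) ∈
        EP.Hgr (GrSyz.irrel 𝒯) (N + 1) d := SetLike.coe_mem _
    generalize (decompose (EP.Hgr (GrSyz.irrel 𝒯) (N + 1)) w d : EP.H (GrSyz.irrel 𝒯) (N + 1)) = u at hd ⊢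
    obtain ⟨u', -, e1, e2⟩ := hle d _ ((hbij d).2 u hd)
    rw [← hinj e1, e2 t, e1]

end Groth.Agent.GrLib8.Seg
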