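import Groth.Agent.GrLib8.SegAcyc
import Groth.Agent.GrLib8.PiGMod
import Groth.Agent.GrLib8.AcycRes
import Groth.Agent.GrLib8.KVecRel

/-!
# The total resolution of a Segre product
-/

set_option autoImplicit false
set_option linter.unusedSectionVars false

universe u

open DirectSum
open scoped TensorProduct

namespace Groth.Agent.GrLib8.Seg

variable {k : Type u} [Field k] {R S T : Type u} [CommRing R] [CommRing S] [CommRing T] [Algebra k R] [Algebra k S]
  [Algebra k T] {𝒜 : ℤ → Submodule k R} [GradedAlgebra 𝒜] {ℬ : ℤ → Submodule k S} [GradedAlgebra ℬ]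
  {𝒯 : ℤ → Submodule k T} [GradedAlgebra 𝒯] {ψ : T →ₐ[k] R ⊗[k] S}
set_option maxHeartbeats 400000

variable (hT : ∀ n : ℤ, (𝒯 n).map ψ.toLinearMap = GrSeg.segrePiece k 𝒜 ℬ n)
variable {X : GrLC.GMod.{u} 𝒜} {Y : GrLC.GMod.{u} ℬ}
variable (EM : GrLC.StarInjRes 𝒜 X.gr) (EN : GrLC.StarInjRes ℬ Y.gr)

theorem neg_one_pow_smul {Z : GrLC.GMod.{u} 𝒯} (p : ℕ) (z : Z.carrier) :
    ((-1 : T) ^ p) • z = ((-1 : k) ^ p) • z := by
  rw [smul_k_def, map_pow, map_neg, map_one]

/-- The terms of the total complex. -/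
noncomputable def totT (n : ℕ) : GrLC.GMod.{u} 𝒯 :=
  piGMod fun x : KVec.Idx n => sq (EM.X x.1.1) (EN.X x.1.2) hT

/-- Evaluation. -/
noncomputable def evT {n : ℕ} (x : KVec.Idx n) :
    (totT hT EM EN n).carrier →ₗ[T] (sq (EM.X x.1.1) (EN.X x.1.2) hT).carrier :=
  piProj (fun x : KVec.Idx n => sq (EM.X x.1.1) (EN.X x.1.2) hT) x

theorem totT_ext {n : ℕ} {a b : (totT hT EM EN n).carrier} (h : ∀ x, evT hT EM EN x a = evT hT EM EN x b) : a = b :=
  funext h

theorem mem_totT_gr {n : ℕ} {g : ℤ} (a : (totT hT EM EN n).carrier) :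
    a ∈ (totT hT EM EN n).gr g ↔ ∀ x, evT hT EM EN x a ∈ (sq (EM.X x.1.1) (EN.X x.1.2) hT).gr g :=
  mem_piGMod_gr _ a

/-- The left part of the differential. -/
noncomputable def dLT (n : ℕ) : ∀ p q : ℕ, p + q = n + 1 →
    ((totT hT EM EN n).carrier →ₗ[T] (sq (EM.X p) (EN.X q) hT).carrier)
  | 0, _, _ => 0
  | p + 1, q, h => (sqMap hT (EM.d p) LinearMap.id (EM.d_grHom p) (fun _ _ h => h)) ∘ₗ
      evT hT EM EN ⟨(p, q), by simp only; omega⟩

/-- The right part of the differential. -/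
noncomputable def dRT (n : ℕ) : ∀ p q : ℕ, p + q = n + 1 →
    ((totT hT EM EN n).carrier →ₗ[T] (sq (EM.X p) (EN.X q) hT).carrier)
  | _, 0, _ => 0
  | p, q + 1, h => ((-1 : T) ^ p) • ((sqMap hT LinearMap.id (EN.d q) (fun _ _ h => h) (EN.d_grHom q)) ∘ₗ
      evT hT EM EN ⟨(p, q), by simp only; omega⟩)

theorem dLT_succ (n p q : ℕ) (h : p + 1 + q = n + 1) (a : (totT hT EM EN n).carrier) :
    dLT hT EM EN n (p + 1) q h a = sqMap hT (EM.d p) LinearMap.id (EM.d_grHom p) (fun _ _ h => h)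
      (evT hT EM EN ⟨(p, q), by simp only; omega⟩ a) := rfl

theorem dRT_succ (n p q : ℕ) (h : p + (q + 1) = n + 1) (a : (totT hT EM EN n).carrier) :
    dRT hT EM EN n p (q + 1) h a = ((-1 : T) ^ p) • sqMap hT LinearMap.id (EN.d q) (fun _ _ h => h) (EN.d_grHom q)
      (evT hT EM EN ⟨(p, q), by simp only; omega⟩ a) := by
  cases p <;> rfl

theorem dRT_zero (n p : ℕ) (h : p + 0 = n + 1) (a : (totT hT EM EN n).carrier) : dRT hT EM EN n p 0 h a = 0 := by
  cases p <;> rfl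

/-- The total differential. -/
noncomputable def dT (n : ℕ) : (totT hT EM EN n).carrier →ₗ[T] (totT hT EM EN (n + 1)).carrier where
  toFun a x := dLT hT EM EN n x.1.1 x.1.2 x.2 a + dRT hT EM EN n x.1.1 x.1.2 x.2 a
  map_add' a b := funext fun x => by
    show _ = (dLT hT EM EN n x.1.1 x.1.2 x.2 a + dRT hT EM EN n x.1.1 x.1.2 x.2 a) +
      (dLT hT EM EN n x.1.1 x.1.2 x.2 b + dRT hT EM EN n x.1.1 x.1.2 x.2 b)
    rw [map_add, map_add]; abel
  map_smul' t a := funext fun x => by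
    show _ = t • (dLT hT EM EN n x.1.1 x.1.2 x.2 a + dRT hT EM EN n x.1.1 x.1.2 x.2 a)
    rw [map_smul, map_smul, smul_add]

theorem evT_dT (n p q : ℕ) (h : p + q = n + 1) (a : (totT hT EM EN n).carrier) :
    evT hT EM EN ⟨(p, q), h⟩ (dT hT EM EN n a) = dLT hT EM EN n p q h a + dRT hT EM EN n p q h a := rfl

theorem dT_grHom (n : ℕ) : GrLC.IsGrHom (totT hT EM EN n).gr (totT hT EM EN (n + 1)).gr (dT hT EM EN n) := by
  intro g a ha
  rw [mem_totT_gr] at ha ⊢
  rintro ⟨⟨p, q⟩, h⟩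
  rw [evT_dT]
  refine add_mem ?_ ?_
  · rcases p with _ | p
    · exact zero_mem _
    · rw [dLT_succ]; exact sqMap_grHom hT _ _ _ _ g _ (ha ⟨(p, q), by simp only at h ⊢; omega⟩)
  · rcases q with _ | q
    · rw [dRT_zero]; exact zero_mem _
    · rw [dRT_succ, neg_one_pow_smul]
      exact (pieceK 𝒯 (sq (EM.X p) (EN.X (q + 1)) hT).gr g).smul_mem _
        (sqMap_grHom hT _ _ _ _ g _ (ha ⟨(p, q), by simp only at h ⊢; omega⟩))

section Degree

variable (d : ℤ)

/-- A degree of a resolution, as a complex of vector spaces. -/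
noncomputable def pieceCx {R₀ : Type u} [CommRing R₀] [Algebra k R₀] {𝒞 : ℤ → Submodule k R₀} [GradedAlgebra 𝒞]
    {Z : GrLC.GMod.{u} 𝒞} (E : GrLC.StarInjRes 𝒞 Z.gr) (d : ℤ) : KVec.Cx.{u} k where
  V n := pieceK 𝒞 (E.X n).gr d
  d n := ((E.d n).restrictScalars k).restrict fun x hx => E.d_grHom n d x hx
  d_d n x := Subtype.ext (LinearMap.mem_ker.1 ((E.exact_succ n).ge ⟨x.1, rfl⟩))

/-- Forgetting the degree. -/
noncomputable def cxVal {R₀ : Type u} [CommRing R₀] [Algebra k R₀] {𝒞 : ℤ → Submodule k R₀} [GradedAlgebra 𝒞]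
    {Z : GrLC.GMod.{u} 𝒞} (E : GrLC.StarInjRes 𝒞 Z.gr) (d : ℤ) (n : ℕ) :
    (pieceCx E d).V n →ₗ[k] (E.X n).carrier :=
  (pieceK 𝒞 (E.X n).gr d).subtype

theorem cxVal_d {R₀ : Type u} [CommRing R₀] [Algebra k R₀] {𝒞 : ℤ → Submodule k R₀} [GradedAlgebra 𝒞]
    {Z : GrLC.GMod.{u} 𝒞} (E : GrLC.StarInjRes 𝒞 Z.gr) (d : ℤ) (n : ℕ) :
    cxVal E d (n + 1) ∘ₗ (pieceCx E d).d n = (E.d n).restrictScalars k ∘ₗ cxVal E d n := rfl

/-- Forgetting the bidegree. -/
noncomputable def pT (p q : ℕ) : (pieceCx EM d).V p ⊗[k] (pieceCx EN d).V q →ₗ[k]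
    (EM.X p).carrier ⊗[k] (EN.X q).carrier :=
  TensorProduct.map (cxVal EM d p) (cxVal EN d q)

theorem pT_injective (p q : ℕ) : Function.Injective (pT EM EN d p q) :=
  pieceTensor_injective (EM.X p) (EN.X q) d

theorem range_pT (p q : ℕ) : LinearMap.range (pT EM EN d p q) = GrSeg.segrePiece k (EM.X p).gr (EN.X q).gr d :=
  range_pieceTensor (EM.X p) (EN.X q) d

theorem pT_left (p q : ℕ) (v : (pieceCx EM d).V p ⊗[k] (pieceCx EN d).V q) :
    pT EM EN d (p + 1) q (((pieceCx EM d).d p).rTensor _ v) = tmap (EM.d p) LinearMap.id (pT EM EN d p q v) := by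
  unfold pT tmap
  rw [LinearMap.rTensor_def, KVec.map_map', KVec.map_map', cxVal_d]
  rfl

theorem pT_right (p q : ℕ) (v : (pieceCx EM d).V p ⊗[k] (pieceCx EN d).V q) :
    pT EM EN d p (q + 1) (((pieceCx EN d).d q).lTensor _ v) = tmap LinearMap.id (EN.d q) (pT EM EN d p q v) := by
  unfold pT tmap
  rw [LinearMap.lTensor_def, KVec.map_map', KVec.map_map', cxVal_d]
  rfl

/-- The degree-`d` part of the total complex, as a function. -/
noncomputable def embFun (n : ℕ) (f : KVec.TotV (pieceCx EM d) (pieceCx EN d) n) : (totT hT EM EN n).carrier :=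
  fun x => (⟨pT EM EN d x.1.1 x.1.2 (f x),
    (show pT EM EN d x.1.1 x.1.2 (f x) ∈ diagPart (EM.X x.1.1) (EN.X x.1.2) from
      Submodule.mem_iSup_of_mem d ((range_pT EM EN d x.1.1 x.1.2).le ⟨f x, rfl⟩))⟩ :
    sqSub (EM.X x.1.1) (EN.X x.1.2) hT)

theorem sqVal_evT_embFun (n : ℕ) (f : KVec.TotV (pieceCx EM d) (pieceCx EN d) n) (x : KVec.Idx n) :
    sqVal _ _ hT (evT hT EM EN x (embFun hT EM EN d n f)) = pT EM EN d x.1.1 x.1.2 (f x) := rfl

/-- The degree-`d` part of the total complex. -/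
noncomputable def emb (n : ℕ) :
    KVec.TotV (pieceCx EM d) (pieceCx EN d) n →ₗ[k] (totT hT EM EN n).carrier where
  toFun := embFun hT EM EN d n
  map_add' f g := totT_ext hT EM EN fun x => sqVal_injective _ _ hT (by
    rw [map_add, sqVal_evT_embFun]
    refine (map_add (pT EM EN d x.1.1 x.1.2) (f x) (g x)).trans ?_
    rfl)
  map_smul' c f := totT_ext hT EM EN fun x => sqVal_injective _ _ hT (by
    rw [RingHom.id_apply, smul_k_def, map_smul (evT hT EM EN x), ← smul_k_def, sqVal_smul_k,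
      sqVal_evT_embFun, sqVal_evT_embFun]
    exact map_smul (pT EM EN d x.1.1 x.1.2) c (f x))

theorem sqVal_evT_emb (n : ℕ) (f : KVec.TotV (pieceCx EM d) (pieceCx EN d) n) (x : KVec.Idx n) :
    sqVal _ _ hT (evT hT EM EN x (emb hT EM EN d n f)) = pT EM EN d x.1.1 x.1.2 (f x) := rfl

theorem emb_injective (n : ℕ) : Function.Injective (emb hT EM EN d n) := fun f g h => funext fun x => by
  refine pT_injective EM EN d x.1.1 x.1.2 ?_
  rw [← sqVal_evT_emb hT EM EN d n f x, h, sqVal_evT_emb]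

theorem emb_mem (n : ℕ) (f : KVec.TotV (pieceCx EM d) (pieceCx EN d) n) :
    emb hT EM EN d n f ∈ (totT hT EM EN n).gr d :=
  (mem_totT_gr hT EM EN _).2 fun x => (range_pT EM EN d x.1.1 x.1.2).le ⟨f x, rfl⟩

theorem exists_emb (n : ℕ) (a : (totT hT EM EN n).carrier) (ha : a ∈ (totT hT EM EN n).gr d) :
    ∃ f, emb hT EM EN d n f = a := by
  have h1 : ∀ x : KVec.Idx n, ∃ v : (pieceCx EM d).V x.1.1 ⊗[k] (pieceCx EN d).V x.1.2,
      pT EM EN d x.1.1 x.1.2 v = sqVal _ _ hT (evT hT EM EN x a) := fun x => by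
    have h2 : evT hT EM EN x a ∈ (sq (EM.X x.1.1) (EN.X x.1.2) hT).gr d := (mem_totT_gr hT EM EN a).1 ha x
    have h3 := (mem_sq_gr (EM.X x.1.1) (EN.X x.1.2) hT _).1 h2
    rw [← range_pT EM EN d x.1.1 x.1.2] at h3
    exact h3
  choose f hf using h1
  refine ⟨f, totT_ext hT EM EN fun x => sqVal_injective _ _ hT ?_⟩
  rw [sqVal_evT_emb]
  exact hf x

theorem dT_emb (n : ℕ) (f : KVec.TotV (pieceCx EM d) (pieceCx EN d) n) :
    dT hT EM EN n (emb hT EM EN d n f) =
      emb hT EM EN d (n + 1) (KVec.totD (pieceCx EM d) (pieceCx EN d) n f) := by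
  refine totT_ext hT EM EN fun ⟨⟨p, q⟩, h⟩ => sqVal_injective _ _ hT ?_
  rw [sqVal_evT_emb, evT_dT, KVec.totD_apply]
  refine Eq.trans ?_ (map_add (pT EM EN d p q) _ _).symm
  show sqVal _ _ hT (dLT hT EM EN n p q h _) + sqVal _ _ hT (dRT hT EM EN n p q h _) = _
  congr 1
  · rcases p with _ | p
    · rw [KVec.dLeft_zero, map_zero]; rfl
    · rw [dLT_succ, KVec.dLeft_succ, sqVal_sqMap, sqVal_evT_emb, pT_left]
  · rcases q with _ | q
    · rw [dRT_zero, KVec.dRight_zero, map_zero]; rfl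
    · rw [dRT_succ, KVec.dRight_succ, neg_one_pow_smul, sqVal_smul_k, map_smul, sqVal_sqMap, sqVal_evT_emb, pT_right]

theorem pieceCx_exact {R₀ : Type u} [CommRing R₀] [Algebra k R₀] {𝒞 : ℤ → Submodule k R₀} [GradedAlgebra 𝒞]
    {Z : GrLC.GMod.{u} 𝒞} (E : GrLC.StarInjRes 𝒞 Z.gr) (d : ℤ) (n : ℕ) :
    (pieceCx E d).Z (n + 1) ≤ (pieceCx E d).B (n + 1) := fun x hx => by
  have hx' : E.d (n + 1) x.1 = 0 := congrArg Subtype.val (show (pieceCx E d).d (n + 1) x = 0 from hx)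
  obtain ⟨w, hw, he⟩ := exists_preimage_mem (E.d n) (isGrHomDeg_zero_iff.2 (E.d_grHom n)) x.2
    ((E.exact_succ n).le hx')
  rw [sub_zero] at hw
  exact ⟨⟨w, hw⟩, Subtype.ext he⟩

theorem pieceCx_Z_zero {R₀ : Type u} [CommRing R₀] [Algebra k R₀] {𝒞 : ℤ → Submodule k R₀} [GradedAlgebra 𝒞]
    {Z : GrLC.GMod.{u} 𝒞} (E : GrLC.StarInjRes 𝒞 Z.gr) (d : ℤ) (x : (pieceCx E d).Z 0) :
    ∃ w : pieceK 𝒞 Z.gr d, E.ε w.1 = x.1.1 := by
  have hx' : E.d 0 x.1.1 = 0 := congrArg Subtype.val (show (pieceCx E d).d 0 x.1 = 0 from x.2)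
  obtain ⟨w, hw, he⟩ := exists_preimage_mem E.ε (isGrHomDeg_zero_iff.2 E.ε_grHom) x.1.2
    (E.exact_zero.le hx')
  rw [sub_zero] at hw
  exact ⟨⟨w, hw⟩, he⟩

theorem tot_exact (n : ℕ) :
    (KVec.tot (pieceCx EM d) (pieceCx EN d)).Z (n + 1) ≤ (KVec.tot (pieceCx EM d) (pieceCx EN d)).B (n + 1) := by
  haveI : ∀ x : KVec.Idx (n + 1), Subsingleton ((pieceCx EM d).H x.1.1 ⊗[k] (pieceCx EN d).H x.1.2) := fun x => by
    rcases x with ⟨⟨p, q⟩, h⟩
    rcases p with _ | p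
    · obtain ⟨q', rfl⟩ : ∃ q', q = q' + 1 := ⟨q - 1, by simp only at h; omega⟩
      haveI := KVec.subsingleton_H_of_exact _ (pieceCx_exact EN d q')
      infer_instance
    · haveI := KVec.subsingleton_H_of_exact _ (pieceCx_exact EM d p)
      infer_instance
  obtain ⟨e⟩ := KVec.nonempty_kunneth (pieceCx EM d) (pieceCx EN d) (n + 1)
  haveI : Subsingleton ((KVec.tot (pieceCx EM d) (pieceCx EN d)).H (n + 1)) := e.toEquiv.subsingleton
  exact KVec.exact_of_subsingleton_H _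

end Degree

/-- The augmentation, componentwise. -/
noncomputable def εAux : ∀ p q : ℕ, p + q = 0 → ((sq X Y hT).carrier →ₗ[T] (sq (EM.X p) (EN.X q) hT).carrier)
  | 0, 0, _ => sqMap hT EM.ε EN.ε EM.ε_grHom EN.ε_grHom
  | _ + 1, _, h => absurd h (by omega)
  | 0, _ + 1, h => absurd h (by omega)

/-- The augmentation. -/
noncomputable def εT : (sq X Y hT).carrier →ₗ[T] (totT hT EM EN 0).carrier where
  toFun z x := εAux hT EM EN x.1.1 x.1.2 x.2 z
  map_add' a b := funext fun _ => map_add _ a b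
  map_smul' t a := funext fun _ => map_smul _ t a

theorem idx_zero (x : KVec.Idx 0) : x = ⟨(0, 0), rfl⟩ := by
  obtain ⟨⟨p, q⟩, h⟩ := x
  simp only at h
  obtain ⟨rfl, rfl⟩ : p = 0 ∧ q = 0 := by omega
  rfl

theorem εT_grHom : GrLC.IsGrHom (sq X Y hT).gr (totT hT EM EN 0).gr (εT hT EM EN) := fun g z hz =>
  (mem_totT_gr hT EM EN _).2 fun x => by
    obtain rfl := idx_zero x
    show sqMap hT EM.ε EN.ε EM.ε_grHom EN.ε_grHom z ∈ (sq (EM.X 0) (EN.X 0) hT).gr g
    exact sqMap_grHom hT _ _ _ _ g z hz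

theorem εT_injective : Function.Injective (εT hT EM EN) := fun a b hab => by
  refine sqVal_injective X Y hT ?_
  have h1 := congrArg (fun a => sqVal _ _ hT (evT hT EM EN (⟨(0, 0), rfl⟩ : KVec.Idx 0) a)) hab
  exact TensorProduct.map_injective_of_flat_flat (EM.ε.restrictScalars k) (EN.ε.restrictScalars k) EM.ε_injective EN.ε_injective h1

theorem dT_εT (z : (sq X Y hT).carrier) : dT hT EM EN 0 (εT hT EM EN z) = 0 := by
  refine totT_ext hT EM EN fun ⟨⟨p, q⟩, h⟩ => ?_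
  rw [evT_dT, map_zero]
  simp only at h
  have hd : ∀ {A B C : Type u} [AddCommGroup A] [AddCommGroup B] [AddCommGroup C] [Module k A] [Module k B]
      [Module k C] {A' : Type u} [AddCommGroup A'] [Module k A'] (f : A →ₗ[k] B) (g : B →ₗ[k] C), g ∘ₗ f = 0 →
      ∀ (h : A' →ₗ[k] A'), TensorProduct.map (g ∘ₗ f) h = 0 := fun f g hgf h => by
    rw [hgf, TensorProduct.map_zero_left]
  rcases p with _ | p <;> rcases q with _ | q
  · omega
  · obtain rfl : q = 0 := by omega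
    refine (zero_add _).trans ?_
    rw [dRT_succ, pow_zero, one_smul]
    refine sqVal_injective _ _ hT ?_
    rw [sqVal_sqMap]
    show tmap LinearMap.id (EN.d 0) (tmap EM.ε EN.ε _) = 0
    rw [KVec.map_map', show (EN.d 0).restrictScalars k ∘ₗ EN.ε.restrictScalars k = 0 from
      LinearMap.ext fun y => LinearMap.mem_ker.1 (EN.exact_zero.ge ⟨y, rfl⟩), TensorProduct.map_zero_right]
    rfl
  · obtain rfl : p = 0 := by omega
    rw [dRT_zero, add_zero, dLT_succ]
    refine sqVal_injective _ _ hT ?_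
    rw [sqVal_sqMap]
    show tmap (EM.d 0) LinearMap.id (tmap EM.ε EN.ε _) = 0
    rw [KVec.map_map', show (EM.d 0).restrictScalars k ∘ₗ EM.ε.restrictScalars k = 0 from
      LinearMap.ext fun y => LinearMap.mem_ker.1 (EM.exact_zero.ge ⟨y, rfl⟩), TensorProduct.map_zero_left]
    rfl
  · omega

theorem dT_dT (n : ℕ) (a : (totT hT EM EN n).carrier) : dT hT EM EN (n + 1) (dT hT EM EN n a) = 0 := by
  induction a using DirectSum.Decomposition.inductionOn (totT hT EM EN n).gr with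
  | zero => rw [map_zero, map_zero]
  | add a b ha hb => rw [map_add, map_add, ha, hb, add_zero]
  | homogeneous a =>
    rename_i d
    obtain ⟨f, hf⟩ := exists_emb hT EM EN d n a a.2
    rw [← hf, dT_emb, dT_emb, KVec.totD_totD, map_zero]

theorem exact_succ_T (n : ℕ) : LinearMap.ker (dT hT EM EN (n + 1)) = LinearMap.range (dT hT EM EN n) := by
  classical
  refine le_antisymm (fun a ha => ?_) ?_
  · rw [← sum_support_decompose (totT hT EM EN (n + 1)).gr a]
    refine Submodule.sum_mem _ fun d _ => ?_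
    obtain ⟨f, hf⟩ := exists_emb hT EM EN d (n + 1) _ (SetLike.coe_mem (decompose (totT hT EM EN (n + 1)).gr a d))
    have hd := map_decompose (totT hT EM EN (n + 1)).gr (totT hT EM EN (n + 2)).gr (dT hT EM EN (n + 1)).toAddMonoidHom
      (dT_grHom hT EM EN (n + 1)) a d
    rw [show (dT hT EM EN (n + 1)).toAddMonoidHom a = dT hT EM EN (n + 1) a from rfl, LinearMap.mem_ker.1 ha,
      decompose_zero, DirectSum.zero_apply, ZeroMemClass.coe_zero] at hd
    rw [← hf] at hd ⊢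
    have h0 : KVec.totD (pieceCx EM d) (pieceCx EN d) (n + 1) f = 0 := by
      refine emb_injective hT EM EN d (n + 2) ?_
      rw [← dT_emb, map_zero]
      exact hd
    obtain ⟨g, hg⟩ := tot_exact EM EN d n (show f ∈ (KVec.tot (pieceCx EM d) (pieceCx EN d)).Z (n + 1) from h0)
    exact ⟨emb hT EM EN d n g, (dT_emb hT EM EN d n g).trans (congrArg _ hg)⟩
  · rintro _ ⟨a, rfl⟩
    exact dT_dT hT EM EN n a

theorem exact_zero_T : LinearMap.ker (dT hT EM EN 0) = LinearMap.range (εT hT EM EN) := by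
  classical
  refine le_antisymm (fun a ha => ?_) ?_
  · rw [← sum_support_decompose (totT hT EM EN 0).gr a]
    refine Submodule.sum_mem _ fun d _ => ?_
    obtain ⟨f, hf⟩ := exists_emb hT EM EN d 0 _ (SetLike.coe_mem (decompose (totT hT EM EN 0).gr a d))
    have hd := map_decompose (totT hT EM EN 0).gr (totT hT EM EN 1).gr (dT hT EM EN 0).toAddMonoidHom
      (dT_grHom hT EM EN 0) a d
    rw [show (dT hT EM EN 0).toAddMonoidHom a = dT hT EM EN 0 a from rfl, LinearMap.mem_ker.1 ha,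
      decompose_zero, DirectSum.zero_apply, ZeroMemClass.coe_zero] at hd
    rw [← hf] at hd ⊢
    have h0 : KVec.totD (pieceCx EM d) (pieceCx EN d) 0 f = 0 := by
      refine emb_injective hT EM EN d 1 ?_
      rw [← dT_emb, map_zero]
      exact hd
    obtain ⟨w, hw⟩ := KVec.mem_Z_zero (pieceCx EM d) (pieceCx EN d) f h0
    let u : (pieceCx EM d).Z 0 →ₗ[k] (EM.X 0).carrier :=
      (pieceK 𝒜 (EM.X 0).gr d).subtype ∘ₗ ((pieceCx EM d).Z 0).subtype
    let v : (pieceCx EN d).Z 0 →ₗ[k] (EN.X 0).carrier :=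
      (pieceK ℬ (EN.X 0).gr d).subtype ∘ₗ ((pieceCx EN d).Z 0).subtype
    have key : ∀ w, ∃ z : (sq X Y hT).carrier, tmap EM.ε EN.ε (sqVal X Y hT z) = TensorProduct.map u v w := by
      intro w
      induction w using TensorProduct.induction_on with
      | zero => exact ⟨0, by rw [map_zero]; exact map_zero _⟩
      | add a b ha hb =>
        obtain ⟨za, hza⟩ := ha
        obtain ⟨zb, hzb⟩ := hb
        exact ⟨za + zb, (map_add (tmap EM.ε EN.ε) _ _).trans (by rw [hza, hzb, map_add])⟩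
      | tmul a b =>
        obtain ⟨x, hx⟩ := pieceCx_Z_zero EM d a
        obtain ⟨y, hy⟩ := pieceCx_Z_zero EN d b
        obtain ⟨z, hz⟩ := exists_sqVal X Y hT (Submodule.mem_iSup_of_mem d (tmul_mem_segrePiece X Y x.2 y.2))
        exact ⟨z, by rw [hz, TensorProduct.map_tmul, TensorProduct.map_tmul]; exact congrArg₂ (fun s t => s ⊗ₜ[k] t) hx hy⟩
    obtain ⟨z, hz⟩ := key w
    refine ⟨z, totT_ext hT EM EN fun x => ?_⟩
    obtain rfl := idx_zero x
    refine sqVal_injective _ _ hT (hz.trans ?_)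
    rw [sqVal_evT_emb, ← hw, pT, KVec.map_map']
    rfl
  · rintro _ ⟨z, rfl⟩
    exact dT_εT hT EM EN z

variable [IsNoetherianRing R] [IsNoetherianRing S] [IsNoetherianRing T]
variable (hpR : ∀ n < 0, ∀ r ∈ 𝒜 n, r = 0) (hpS : ∀ n < 0, ∀ r ∈ ℬ n, r = 0) (hpT : ∀ n < 0, ∀ r ∈ 𝒯 n, r = 0)

include hpR hpS hpT in
/-- The total complex resolves, acyclically, anything isomorphic to the Segre product. -/
noncomputable def totARes {P : GrLC.GMod.{u} 𝒯} (e : P.carrier →ₗ[T] (sq X Y hT).carrier)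
    (he : GrLC.IsGrHom P.gr (sq X Y hT).gr e) (heb : Function.Bijective e) : ARes (GrSyz.irrel 𝒯) P where
  A := totT hT EM EN
  d := dT hT EM EN
  ε := εT hT EM EN ∘ₗ e
  d_grHom := dT_grHom hT EM EN
  ε_grHom := fun g z hz => εT_grHom hT EM EN g _ (he g z hz)
  ε_injective := (εT_injective hT EM EN).comp heb.1
  exact_zero := by
    rw [LinearMap.range_comp_of_range_eq_top _ (LinearMap.range_eq_top.2 heb.2)]
    exact exact_zero_T hT EM EN
  exact_succ := exact_succ_T hT EM EN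
  acyc n i g := hVan_pi _ fun x => hVan_sq hT hpR hpS hpT _ (EM.starInj _) _ (EN.starInj _) i g

end Groth.Agent.GrLib8.Seg
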