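import Groth.Agent.GrLib8.GDualInj
import Mathlib.RingTheory.TensorProduct.Finite
import Mathlib.RingTheory.Noetherian.Basic

/-!
# Segre products of graded modules
-/

set_option autoImplicit false
set_option linter.unusedSectionVars false

universe u

open DirectSum
open scoped TensorProduct

namespace Groth.Agent.GrLib8.Seg

variable {k : Type u} [Field k] {R S : Type u} [CommRing R] [CommRing S] [Algebra k R] [Algebra k S]
  (𝒜 : ℤ → Submodule k R) [GradedAlgebra 𝒜] (ℬ : ℤ → Submodule k S) [GradedAlgebra ℬ]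
variable {M N : Type u} [AddCommGroup M] [Module R M] [Module k M] [IsScalarTower k R M]
  [AddCommGroup N] [Module S N] [Module k N] [IsScalarTower k S N]
  (ℳ : ℤ → AddSubgroup M) [Decomposition ℳ] [SetLike.GradedSMul 𝒜 ℳ]
  (𝒩 : ℤ → AddSubgroup N) [Decomposition 𝒩] [SetLike.GradedSMul ℬ 𝒩]

/-- The action of `R ⊗ S` on `M ⊗ N` as an algebra map. -/
noncomputable def actHom : R ⊗[k] S →ₐ[k] Module.End k (M ⊗[k] N) :=
  Algebra.TensorProduct.lift
    ((Module.End.rTensorAlgHom k M N).comp (Algebra.lsmul k k M : R →ₐ[k] Module.End k M))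
    ((Module.End.lTensorAlgHom k N M).comp (Algebra.lsmul k k N : S →ₐ[k] Module.End k N))
    fun r s => by
      refine TensorProduct.ext' fun m n => ?_
      rfl

theorem actHom_apply (z : R ⊗[k] S) (x : M ⊗[k] N) : actHom z x = GrSeg.act k R S M N z x := by
  induction z using TensorProduct.induction_on with
  | zero => rw [map_zero, map_zero]
  | add a b ha hb => rw [map_add, map_add, LinearMap.add_apply, LinearMap.add_apply, ha, hb]
  | tmul r s =>
    induction x using TensorProduct.induction_on with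
    | zero => rw [map_zero, map_zero]
    | add a b ha hb => rw [map_add, map_add, ha, hb]
    | tmul m n => rw [GrSeg.act_tmul, actHom, Algebra.TensorProduct.lift_tmul]; rfl

/-- `M ⊗ N` as a module over `R ⊗ S`. -/
noncomputable abbrev modRS : Module (R ⊗[k] S) (M ⊗[k] N) :=
  Module.compHom (M ⊗[k] N) (actHom (k := k) (R := R) (S := S) (M := M) (N := N)).toRingHom

/-- `M ⊗ N` is finite over `R ⊗ S`. -/
theorem finite_modRS [Module.Finite R M] [Module.Finite S N] :
    letI := modRS (k := k) (R := R) (S := S) (M := M) (N := N)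
    Module.Finite (R ⊗[k] S) (M ⊗[k] N) := by
  classical
  letI := modRS (k := k) (R := R) (S := S) (M := M) (N := N)
  obtain ⟨s, hs⟩ := Module.Finite.fg_top (R := R) (M := M)
  obtain ⟨t, ht⟩ := Module.Finite.fg_top (R := S) (M := N)
  refine ⟨⟨(s ×ˢ t).image fun p => p.1 ⊗ₜ[k] p.2, eq_top_iff.2 fun x hx => ?_⟩⟩
  clear hx
  let W : Submodule (R ⊗[k] S) (M ⊗[k] N) :=
    Submodule.span _ (((s ×ˢ t).image fun p => p.1 ⊗ₜ[k] p.2 : Finset (M ⊗[k] N)) : Set (M ⊗[k] N))
  have hact : ∀ (z : R ⊗[k] S) (w : M ⊗[k] N), z • w = GrSeg.act k R S M N z w := fun z w => actHom_apply z w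
  have h1 : ∀ m : M, ∀ v ∈ t, m ⊗ₜ[k] v ∈ W := by
    intro m v hv
    have hm : m ∈ Submodule.span R (s : Set M) := hs.ge Submodule.mem_top
    induction hm using Submodule.span_induction with
    | mem y hy => exact Submodule.subset_span (Finset.mem_coe.2 (Finset.mem_image.2 ⟨(y, v), Finset.mem_product.2 ⟨hy, hv⟩, rfl⟩))
    | zero => rw [TensorProduct.zero_tmul]; exact zero_mem _
    | add a b _ _ ha hb => rw [TensorProduct.add_tmul]; exact add_mem ha hb
    | smul r a _ ha =>
      have h := W.smul_mem (r ⊗ₜ[k] (1 : S)) ha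
      rwa [hact, GrSeg.act_tmul, one_smul] at h
  show x ∈ W
  induction x using TensorProduct.induction_on with
  | zero => exact zero_mem _
  | add a b ha hb => exact add_mem ha hb
  | tmul m n =>
    show m ⊗ₜ[k] n ∈ W
    clear *- h1 ht hact
    have hn : n ∈ Submodule.span S (t : Set N) := ht.ge Submodule.mem_top
    induction hn using Submodule.span_induction with
    | mem y hy => exact h1 m y hy
    | zero => rw [TensorProduct.tmul_zero]; exact zero_mem _
    | add a b _ _ ha hb => rw [TensorProduct.tmul_add]; exact add_mem ha hb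
    | smul r a _ ha =>
      have h := W.smul_mem ((1 : R) ⊗ₜ[k] r) ha
      rwa [hact, GrSeg.act_tmul, one_smul] at h

include 𝒜 in
/-- The component of a given degree as a linear map. -/
noncomputable def cmp (n : ℤ) : M →ₗ[k] M where
  toFun x := (decompose ℳ x n : M)
  map_add' x y := by rw [decompose_add, DirectSum.add_apply, AddMemClass.coe_add]
  map_smul' c x := decompose_smul_k 𝒜 ℳ c x n

/-- The diagonal projection, as a bilinear map. -/
noncomputable def diagHom : M →+ (N →ₗ[k] M ⊗[k] N) :=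
  (DirectSum.toAddMonoid fun i : ℤ => AddMonoidHom.mk' (fun a : ℳ i => (TensorProduct.mk k M N (a : M)) ∘ₗ cmp ℬ 𝒩 i)
    fun a b => by rw [AddMemClass.coe_add, map_add, LinearMap.add_comp]).comp
    (DirectSum.decomposeAddEquiv ℳ).toAddMonoidHom

theorem diagHom_of_mem {i : ℤ} {a : M} (ha : a ∈ ℳ i) (b : N) :
    diagHom (k := k) ℬ ℳ 𝒩 a b = a ⊗ₜ[k] (decompose 𝒩 b i : N) := by
  classical
  simp only [diagHom, AddMonoidHom.comp_apply, AddEquiv.coe_toAddMonoidHom, DirectSum.decomposeAddEquiv_apply]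
  rw [decompose_of_mem ℳ ha, DirectSum.toAddMonoid_of]
  rfl

include 𝒜 in
theorem diagHom_smul (c : k) (a : M) : diagHom (k := k) ℬ ℳ 𝒩 (c • a) = c • diagHom (k := k) ℬ ℳ 𝒩 a := by
  induction a using DirectSum.Decomposition.inductionOn ℳ with
  | zero => rw [smul_zero, map_zero, smul_zero]
  | homogeneous z =>
    refine LinearMap.ext fun b => ?_
    rw [LinearMap.smul_apply, diagHom_of_mem ℬ ℳ 𝒩 ((pieceK 𝒜 ℳ _).smul_mem c z.2), diagHom_of_mem ℬ ℳ 𝒩 z.2,
      TensorProduct.smul_tmul']
  | add a b ha hb => rw [smul_add, map_add, map_add, ha, hb, smul_add]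

include 𝒜 in
/-- The projection onto the diagonal `⊕ M_n ⊗ N_n`. -/
noncomputable def diag : M ⊗[k] N →ₗ[k] M ⊗[k] N :=
  TensorProduct.lift
    { toFun := diagHom (k := k) ℬ ℳ 𝒩
      map_add' := map_add _
      map_smul' := diagHom_smul 𝒜 ℬ ℳ 𝒩 }

theorem diag_tmul_of_mem {i : ℤ} {a : M} (ha : a ∈ ℳ i) (b : N) :
    diag 𝒜 ℬ ℳ 𝒩 (a ⊗ₜ[k] b) = a ⊗ₜ[k] (decompose 𝒩 b i : N) := by
  rw [diag, TensorProduct.lift.tmul]
  exact diagHom_of_mem ℬ ℳ 𝒩 ha b

variable {T P : Type u} [CommRing T] [Algebra k T] (𝒯 : ℤ → Submodule k T) [GradedAlgebra 𝒯]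
  [AddCommGroup P] [Module T P] [Module k P] [IsScalarTower k T P] (𝒬 : ℤ → AddSubgroup P) [Decomposition 𝒬]
  (ψ : T →ₐ[k] R ⊗[k] S) (φ : P →ₗ[k] M ⊗[k] N)

theorem diag_act (hT : ∀ n : ℤ, (𝒯 n).map ψ.toLinearMap = GrSeg.segrePiece k 𝒜 ℬ n) (t : T) (z : M ⊗[k] N) :
    diag 𝒜 ℬ ℳ 𝒩 (GrSeg.act k R S M N (ψ t) z) = GrSeg.act k R S M N (ψ t) (diag 𝒜 ℬ ℳ 𝒩 z) := by
  classical
  induction t using DirectSum.Decomposition.inductionOn 𝒯 with
  | zero => simp
  | add a b ha hb =>
    simp only [map_add, LinearMap.add_apply, ha, hb]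
  | homogeneous t =>
    rename_i n
    have hmem : ψ (t : T) ∈ GrSeg.segrePiece k 𝒜 ℬ n := (hT n).le ⟨t, t.2, rfl⟩
    generalize ψ (t : T) = v at hmem ⊢
    induction hmem using Submodule.span_induction with
    | mem w hw =>
      obtain ⟨a, ha, b, hb, rfl⟩ := hw
      induction z using TensorProduct.induction_on with
      | zero => simp
      | add x y hx hy => simp only [map_add, hx, hy]
      | tmul x y =>
        induction x using DirectSum.Decomposition.inductionOn ℳ with
        | zero => simp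
        | add x x' hx hx' => simp only [TensorProduct.add_tmul, map_add, hx, hx']
        | homogeneous x =>
          rename_i i
          have hax : a • (x : M) ∈ ℳ (n + i) := SetLike.GradedSMul.smul_mem (B := ℳ) ha x.2
          rw [GrSeg.act_tmul, diag_tmul_of_mem 𝒜 ℬ ℳ 𝒩 hax, diag_tmul_of_mem 𝒜 ℬ ℳ 𝒩 x.2, GrSeg.act_tmul,
            decompose_smul_of_mem_left ℬ 𝒩 hb, add_sub_cancel_left]
    | zero => simp
    | add a b _ _ ha hb => simp only [map_add, LinearMap.add_apply, ha, hb]
    | smul c a _ ha => simp only [map_smul, LinearMap.smul_apply, ha]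

variable {ψ φ}

include 𝒜 ℬ in
theorem diag_mem_range (hP : GrSeg.IsSegreMod ψ ℳ 𝒩 𝒬 φ) (z : M ⊗[k] N) :
    diag 𝒜 ℬ ℳ 𝒩 z ∈ LinearMap.range φ := by
  classical
  induction z using TensorProduct.induction_on with
  | zero => simp
  | add a b ha hb => rw [map_add]; exact add_mem ha hb
  | tmul x y =>
    induction x using DirectSum.Decomposition.inductionOn ℳ with
    | zero => simp
    | add x x' hx hx' => rw [TensorProduct.add_tmul, map_add]; exact add_mem hx hx'
    | homogeneous x =>
      rename_i i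
      rw [diag_tmul_of_mem 𝒜 ℬ ℳ 𝒩 x.2]
      obtain ⟨p, -, hp⟩ := (hP.image_piece i).ge
        (Submodule.subset_span ⟨_, x.2, _, SetLike.coe_mem (decompose 𝒩 y i), rfl⟩)
      exact ⟨p, hp⟩

theorem diag_apply (hP : GrSeg.IsSegreMod ψ ℳ 𝒩 𝒬 φ) (p : P) : diag 𝒜 ℬ ℳ 𝒩 (φ p) = φ p := by
  classical
  induction p using DirectSum.Decomposition.inductionOn 𝒬 with
  | zero => simp
  | add a b ha hb => rw [map_add, map_add, ha, hb]
  | homogeneous p =>
    rename_i n
    have hmem : φ (p : P) ∈ (GrSeg.segrePiece k ℳ 𝒩 n : Set (M ⊗[k] N)) := (hP.image_piece n).le ⟨p, p.2, rfl⟩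
    rw [SetLike.mem_coe] at hmem
    generalize φ (p : P) = v at hmem ⊢
    induction hmem using Submodule.span_induction with
    | mem w hw =>
      obtain ⟨a, ha, b, hb, rfl⟩ := hw
      rw [diag_tmul_of_mem 𝒜 ℬ ℳ 𝒩 ha, decompose_of_mem_same 𝒩 hb]
    | zero => simp
    | add a b _ _ ha hb => simp only [map_add, ha, hb]
    | smul c a _ ha => simp only [map_smul, ha]

include 𝒜 ℬ in
/-- Every element of `R ⊗ S` acts on a Segre product, after projecting, like an element of the Segre ring. -/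
theorem exists_smul_eq (hT : ∀ n : ℤ, (𝒯 n).map ψ.toLinearMap = GrSeg.segrePiece k 𝒜 ℬ n)
    (hP : GrSeg.IsSegreMod ψ ℳ 𝒩 𝒬 φ) (c : R ⊗[k] S) :
    letI := modRS (k := k) (R := R) (S := S) (M := M) (N := N)
    ∃ t : T, ∀ p : P, diag 𝒜 ℬ ℳ 𝒩 (c • φ p) = φ (t • p) := by
  classical
  letI := modRS (k := k) (R := R) (S := S) (M := M) (N := N)
  have hact : ∀ (z : R ⊗[k] S) (w : M ⊗[k] N), z • w = GrSeg.act k R S M N z w := fun z w => actHom_apply z w
  induction c using TensorProduct.induction_on with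
  | zero => exact ⟨0, fun p => by rw [zero_smul, zero_smul, map_zero, map_zero]⟩
  | add a b ha hb =>
    obtain ⟨ta, hta⟩ := ha
    obtain ⟨tb, htb⟩ := hb
    exact ⟨ta + tb, fun p => by rw [add_smul, map_add, hta, htb, add_smul, map_add]⟩
  | tmul a b =>
    induction a using DirectSum.Decomposition.inductionOn 𝒜 with
    | zero => exact ⟨0, fun p => by rw [TensorProduct.zero_tmul, zero_smul, zero_smul, map_zero, map_zero]⟩
    | add a a' ha ha' =>
      obtain ⟨ta, hta⟩ := ha
      obtain ⟨tb, htb⟩ := ha'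
      exact ⟨ta + tb, fun p => by rw [TensorProduct.add_tmul, add_smul, map_add, hta, htb, add_smul, map_add]⟩
    | homogeneous a =>
      rename_i i
      induction b using DirectSum.Decomposition.inductionOn ℬ with
      | zero => exact ⟨0, fun p => by rw [TensorProduct.tmul_zero, zero_smul, zero_smul, map_zero, map_zero]⟩
      | add b b' hb hb' =>
        obtain ⟨ta, hta⟩ := hb
        obtain ⟨tb, htb⟩ := hb'
        exact ⟨ta + tb, fun p => by rw [TensorProduct.tmul_add, add_smul, map_add, hta, htb, add_smul, map_add]⟩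
      | homogeneous b =>
        rename_i j
        rcases eq_or_ne i j with rfl | hij
        · obtain ⟨t, -, ht⟩ := (hT i).ge (Submodule.subset_span ⟨_, a.2, _, b.2, rfl⟩ :
            (a : R) ⊗ₜ[k] (b : S) ∈ GrSeg.segrePiece k 𝒜 ℬ i)
          refine ⟨t, fun p => ?_⟩
          rw [hP.map_smul, hact, ← ht]
          show diag 𝒜 ℬ ℳ 𝒩 (GrSeg.act k R S M N (ψ t) (φ p)) = _
          rw [diag_act 𝒜 ℬ ℳ 𝒩 𝒯 ψ hT, diag_apply 𝒜 ℬ ℳ 𝒩 𝒬 hP]
          try rfl
        · refine ⟨0, fun p => ?_⟩
          rw [zero_smul, map_zero, hact]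
          induction p using DirectSum.Decomposition.inductionOn 𝒬 with
          | zero => simp
          | add p q hp hq => simp only [map_add, hp, hq, add_zero]
          | homogeneous p =>
            rename_i n
            have hmem : φ (p : P) ∈ (GrSeg.segrePiece k ℳ 𝒩 n : Set (M ⊗[k] N)) := (hP.image_piece n).le ⟨p, p.2, rfl⟩
            rw [SetLike.mem_coe] at hmem
            generalize φ (p : P) = v at hmem ⊢
            induction hmem using Submodule.span_induction with
            | mem w hw =>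
              obtain ⟨x, hx, y, hy, rfl⟩ := hw
              rw [GrSeg.act_tmul, diag_tmul_of_mem 𝒜 ℬ ℳ 𝒩 (SetLike.GradedSMul.smul_mem (B := ℳ) a.2 hx),
                decompose_of_mem_ne 𝒩 (SetLike.GradedSMul.smul_mem (B := 𝒩) b.2 hy)
                  (by rw [vadd_eq_add, vadd_eq_add]; omega), TensorProduct.tmul_zero]
            | zero => simp
            | add a b _ _ ha hb => simp only [map_add, ha, hb, add_zero]
            | smul c a _ ha => simp only [map_smul, ha, smul_zero]

include 𝒜 ℬ in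
/-- A Segre product of Noetherian data is Noetherian. -/
theorem isNoetherian_segre [Algebra.FiniteType k R] [Algebra.FiniteType k S] [Module.Finite R M] [Module.Finite S N]
    (hT : ∀ n : ℤ, (𝒯 n).map ψ.toLinearMap = GrSeg.segrePiece k 𝒜 ℬ n)
    (hP : GrSeg.IsSegreMod ψ ℳ 𝒩 𝒬 φ) : IsNoetherian T P := by
  classical
  letI := modRS (k := k) (R := R) (S := S) (M := M) (N := N)
  haveI := finite_modRS (k := k) (R := R) (S := S) (M := M) (N := N)
  haveI : IsNoetherianRing S := Algebra.FiniteType.isNoetherianRing k S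
  haveI : IsNoetherianRing R := Algebra.FiniteType.isNoetherianRing k R
  haveI : Algebra.FiniteType R (R ⊗[k] S) := inferInstance
  haveI : IsNoetherianRing (R ⊗[k] S) := Algebra.FiniteType.isNoetherianRing R (R ⊗[k] S)
  haveI : IsNoetherian (R ⊗[k] S) (M ⊗[k] N) := isNoetherian_of_isNoetherianRing_of_finite _ _
  let F : Submodule T P → Submodule (R ⊗[k] S) (M ⊗[k] N) := fun W => Submodule.span _ (φ '' (W : Set P))
  have key : ∀ (W : Submodule T P) (z : M ⊗[k] N), z ∈ F W →
      ∀ c : R ⊗[k] S, ∃ w ∈ W, diag 𝒜 ℬ ℳ 𝒩 (c • z) = φ w := by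
    intro W z hz
    induction hz using Submodule.span_induction with
    | mem y hy =>
      obtain ⟨p, hp, rfl⟩ := hy
      intro c
      obtain ⟨t, ht⟩ := exists_smul_eq 𝒜 ℬ ℳ 𝒩 𝒯 𝒬 hT hP c
      exact ⟨t • p, W.smul_mem t hp, ht p⟩
    | zero => exact fun c => ⟨0, zero_mem _, by simp⟩
    | add a b _ _ ha hb =>
      intro c
      obtain ⟨wa, hwa, ea⟩ := ha c
      obtain ⟨wb, hwb, eb⟩ := hb c
      exact ⟨wa + wb, add_mem hwa hwb, by rw [smul_add, map_add, ea, eb, map_add]⟩
    | smul r a _ ha => exact fun c => by rw [smul_smul]; exact ha (c * r)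
  have hF : StrictMono F := by
    intro W W' hWW
    refine lt_of_le_not_ge (Submodule.span_mono (Set.image_mono hWW.le)) fun hle => hWW.not_ge fun p hp => ?_
    obtain ⟨w, hw, e⟩ := key W (φ p) (hle (Submodule.subset_span ⟨p, hp, rfl⟩)) 1
    rw [one_smul, diag_apply 𝒜 ℬ ℳ 𝒩 𝒬 hP] at e
    rwa [hP.injective e]
  exact isNoetherian_iff'.2 hF.wellFoundedGT

end Groth.Agent.GrLib8.Seg
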