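import Groth.Agent.GrLib8.HomNN
import Groth.Agent.GrLib8.SegDimOneGor
import Mathlib.RingTheory.Localization.FractionRing
import Mathlib.FieldTheory.IsAlgClosed.Basic
import Mathlib.GroupTheory.Archimedean

/-!
# One-dimensional graded domains over an algebraically closed field
-/

set_option autoImplicit false
set_option linter.unusedSectionVars false
set_option linter.style.haveILetI false
set_option maxHeartbeats 1600000

universe u

open DirectSum

namespace Groth.Agent.GrLib8.SemiDom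

variable {k : Type u} [Field k] {R : Type u} [CommRing R] [IsDomain R] [Algebra k R]
  (𝒜 : ℤ → Submodule k R) [GradedAlgebra 𝒜]

local notation "ι" => algebraMap R (FractionRing R)

theorem pow_mem' {n : ℕ} {a : R} (ha : a ∈ 𝒜 (n : ℤ)) (i : ℕ) : a ^ i ∈ 𝒜 ((i * n : ℕ) : ℤ) := by
  have h := SetLike.pow_mem_graded (A := 𝒜) i ha
  rwa [nsmul_eq_mul, ← Nat.cast_mul] at h

theorem mem_algebraMap_range_of_isIntegral [IsAlgClosed k] {z : FractionRing R} (hz : IsIntegral k z) :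
    ∃ c : k, algebraMap k (FractionRing R) c = z :=
  minpoly.mem_range_of_degree_eq_one k z (IsAlgClosed.degree_eq_one_of_irreducible k (minpoly.irreducible hz))

theorem map_smul' (c : k) (x : R) : ι (c • x) = algebraMap k (FractionRing R) c * ι x := by
  rw [Algebra.smul_def, map_mul, ← IsScalarTower.algebraMap_apply]

theorem ι_ne_zero {x : R} (hx : x ≠ 0) : ι x ≠ 0 :=
  fun h => hx (IsFractionRing.injective R (FractionRing R) (h.trans (map_zero _).symm))

section Normal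

variable {D : ℕ} (hD : 0 < D) {f : Fin 1 → R} (hf : f 0 ∈ 𝒜 (D : ℤ)) (hf0 : f 0 ≠ 0)
  (hfin : (MvPolynomial.aeval f : MvPolynomial (Fin 1) k →ₐ[k] R).toRingHom.Finite)

include hD hf hf0 hfin in
theorem isIntegral_div {n : ℕ} {a : R} (ha : a ∈ 𝒜 (n : ℤ)) :
    IsIntegral k (ι a ^ D / ι (f 0) ^ n) := by
  classical
  obtain ⟨q, hqm, hq⟩ := hfin.to_isIntegral (a ^ D)
  set N := q.natDegree with hN
  let μ : ℕ → k := fun i => MvPolynomial.coeff (Finsupp.single (0 : Fin 1) (n * (N - i))) (q.coeff i)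
  have hμN : μ N = 1 := by
    show MvPolynomial.coeff _ (q.coeff N) = 1
    rw [hN, hqm.coeff_natDegree, Nat.sub_self, Nat.mul_zero, Finsupp.single_zero, MvPolynomial.coeff_one, if_pos rfl]
  -- the component of the integral equation
  have hrel : ∑ i ∈ Finset.range (N + 1), μ i • (f 0 ^ (n * (N - i)) * a ^ (D * i)) = 0 := by
    rw [Polynomial.eval₂_eq_sum_range] at hq
    have h1 := congrArg (fun v => (decompose 𝒜 v ((N * n * D : ℕ) : ℤ) : R)) hq
    rw [decompose_sum, DFinsupp.finsetSum_apply, AddSubmonoidClass.coe_finsetSum, decompose_zero,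
      DirectSum.zero_apply, ZeroMemClass.coe_zero] at h1
    rw [← h1]
    refine Finset.sum_congr rfl fun i hi => ?_
    have hiN : i ≤ N := Nat.lt_succ_iff.1 (Finset.mem_range.1 hi)
    rw [show (MvPolynomial.aeval f : MvPolynomial (Fin 1) k →ₐ[k] R).toRingHom (q.coeff i) =
        MvPolynomial.eval₂ (algebraMap k R) f (q.coeff i) from rfl, MvPolynomial.eval₂_eq', Finset.sum_mul,
      decompose_sum, DFinsupp.finsetSum_apply, AddSubmonoidClass.coe_finsetSum]
    have hterm : ∀ d : Fin 1 →₀ ℕ, algebraMap k R (MvPolynomial.coeff d (q.coeff i)) * (∏ j, f j ^ d j) * (a ^ D) ^ i =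
        MvPolynomial.coeff d (q.coeff i) • (f 0 ^ d 0 * a ^ (D * i)) := fun d => by
      rw [Fin.prod_univ_one, ← pow_mul, mul_assoc, Algebra.smul_def]
    have hdeg : ∀ d : Fin 1 →₀ ℕ, MvPolynomial.coeff d (q.coeff i) • (f 0 ^ d 0 * a ^ (D * i)) ∈
        𝒜 (((d 0 * D + D * i * n : ℕ)) : ℤ) := fun d => by
      refine Submodule.smul_mem _ _ ?_
      have h := SetLike.mul_mem_graded (A := 𝒜) (pow_mem' 𝒜 hf (d 0)) (pow_mem' 𝒜 ha (D * i))
      rwa [← Nat.cast_add] at h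
    rw [Finset.sum_eq_single (Finsupp.single (0 : Fin 1) (n * (N - i)))]
    · rw [hterm, decompose_of_mem_same]
      · rw [Finsupp.single_eq_same]
      · have h := hdeg (Finsupp.single (0 : Fin 1) (n * (N - i)))
        have e : Finsupp.single (0 : Fin 1) (n * (N - i)) 0 * D + D * i * n = N * n * D := by
          rw [Finsupp.single_eq_same]
          calc n * (N - i) * D + D * i * n = ((N - i) + i) * n * D := by ring
            _ = N * n * D := by rw [Nat.sub_add_cancel hiN]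
        rwa [e] at h
    · intro d _ hd
      rw [hterm, decompose_of_mem_ne 𝒜 (hdeg d)]
      intro h
      refine hd (Finsupp.ext fun j => ?_)
      rw [Subsingleton.elim j 0, Finsupp.single_eq_same]
      have h' : d 0 * D + D * i * n = N * n * D := by exact_mod_cast h
      have e : N * n * D = n * (N - i) * D + D * i * n := by
        calc N * n * D = ((N - i) + i) * n * D := by rw [Nat.sub_add_cancel hiN]
          _ = _ := by ring
      exact Nat.eq_of_mul_eq_mul_right hD (Nat.add_right_cancel (h'.trans e))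
    · intro h
      rw [MvPolynomial.notMem_support_iff] at h
      rw [h, map_zero, zero_mul, zero_mul]
      simp
  let p : Polynomial k := ∑ i ∈ Finset.range (N + 1), Polynomial.C (μ i) * Polynomial.X ^ i
  have hp : p ≠ 0 := fun h => by
    have := congrArg (fun r : Polynomial k => r.coeff N) h
    simp only [p, Polynomial.finsetSum_coeff, Polynomial.coeff_C_mul_X_pow, Polynomial.coeff_zero] at this
    rw [Finset.sum_ite_eq, if_pos (Finset.self_mem_range_succ N), hμN] at this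
    exact one_ne_zero this
  refine IsAlgebraic.isIntegral ⟨p, hp, ?_⟩
  have hF : ι (f 0) ≠ 0 := ι_ne_zero hf0
  refine (mul_eq_zero.1 ?_).resolve_right (pow_ne_zero (n * N) hF)
  have h2 := congrArg ι hrel
  rw [map_sum, map_zero] at h2
  rw [← h2]
  simp only [p, map_sum, Finset.sum_mul]
  refine Finset.sum_congr rfl fun i hi => ?_
  have hiN : i ≤ N := Nat.lt_succ_iff.1 (Finset.mem_range.1 hi)
  rw [map_smul', map_mul, map_mul, map_pow, map_pow, Polynomial.aeval_C, map_pow, Polynomial.aeval_X, div_pow,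
    ← pow_mul, ← pow_mul]
  rw [show n * N = n * (N - i) + n * i by rw [← Nat.mul_add, Nat.sub_add_cancel hiN], pow_add]
  field_simp

variable [IsAlgClosed k]

include hD hf hf0 hfin in
theorem exists_pow_eq {n : ℕ} {a : R} (ha : a ∈ 𝒜 (n : ℤ)) :
    ∃ r : k, ι a ^ D = algebraMap k (FractionRing R) r * ι (f 0) ^ n := by
  obtain ⟨r, hr⟩ := mem_algebraMap_range_of_isIntegral (isIntegral_div 𝒜 hD hf hf0 hfin ha)
  exact ⟨r, by rw [hr, div_mul_cancel₀ _ (pow_ne_zero _ (ι_ne_zero hf0))]⟩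

include hD hf hf0 hfin in
theorem le_one_dim {n : ℕ} {a b : R} (ha : a ∈ 𝒜 (n : ℤ)) (hb : b ∈ 𝒜 (n : ℤ)) (ha0 : a ≠ 0) :
    ∃ c : k, c • a = b := by
  obtain ⟨r, hr⟩ := exists_pow_eq 𝒜 hD hf hf0 hfin ha
  obtain ⟨s, hs⟩ := exists_pow_eq 𝒜 hD hf hf0 hfin hb
  have hA : ι a ≠ 0 := ι_ne_zero ha0
  have hr0 : r ≠ 0 := by
    rintro rfl
    rw [map_zero, zero_mul] at hr
    exact pow_ne_zero _ hA hr
  have hz : (ι b / ι a) ^ D = algebraMap k (FractionRing R) (s / r) := by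
    rw [div_pow, hs, hr, map_div₀, mul_div_mul_right _ _ (pow_ne_zero _ (ι_ne_zero hf0))]
  obtain ⟨c, hc⟩ := mem_algebraMap_range_of_isIntegral
    (IsIntegral.of_pow hD (show IsIntegral k ((ι b / ι a) ^ D) by rw [hz]; exact isIntegral_algebraMap))
  refine ⟨c, IsFractionRing.injective R (FractionRing R) ?_⟩
  rw [map_smul', hc, div_mul_cancel₀ _ hA]

include hD hf hf0 hfin in
theorem exists_gen : ∃ (g : ℕ) (t : FractionRing R), 0 < g ∧ t ≠ 0 ∧ ∀ (n : ℕ), ∀ x ∈ 𝒜 (n : ℤ), x ≠ 0 →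
    g ∣ n ∧ ∃ e : R, e ∈ 𝒜 (n : ℤ) ∧ ι e = t ^ (n / g) := by
  let G : AddSubgroup ℤ :=
    { carrier := {z | ∃ i j : ℕ, ∃ a ∈ 𝒜 (i : ℤ), ∃ b ∈ 𝒜 (j : ℤ), a ≠ 0 ∧ b ≠ 0 ∧ z = (i : ℤ) - j}
      zero_mem' := ⟨0, 0, 1, SetLike.one_mem_graded 𝒜, 1, SetLike.one_mem_graded 𝒜, one_ne_zero, one_ne_zero, by simp⟩
      neg_mem' := by
        rintro z ⟨i, j, a, ha, b, hb, ha0, hb0, rfl⟩
        exact ⟨j, i, b, hb, a, ha, hb0, ha0, by ring⟩
      add_mem' := by
        rintro z w ⟨i, j, a, ha, b, hb, ha0, hb0, rfl⟩ ⟨i', j', a', ha', b', hb', ha0', hb0', rfl⟩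
        refine ⟨i + i', j + j', a * a', ?_, b * b', ?_, mul_ne_zero ha0 ha0', mul_ne_zero hb0 hb0', by push_cast; ring⟩
        · have := SetLike.mul_mem_graded (A := 𝒜) ha ha'; rwa [← Nat.cast_add] at this
        · have := SetLike.mul_mem_graded (A := 𝒜) hb hb'; rwa [← Nat.cast_add] at this }
  obtain ⟨g₀, hg₀⟩ := Int.subgroup_cyclic G
  rw [← AddSubgroup.zmultiples_eq_closure] at hg₀
  have hmem : ∀ {z : ℤ}, z ∈ G ↔ g₀ ∣ z := by
    intro z
    rw [hg₀, Int.mem_zmultiples_iff]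
  have hDG : (D : ℤ) ∈ G := ⟨D, 0, f 0, hf, 1, SetLike.one_mem_graded 𝒜, hf0, one_ne_zero, by simp⟩
  have hg0 : g₀ ≠ 0 := fun h => by
    have := hmem.1 hDG
    rw [h, zero_dvd_iff] at this
    omega
  have hgG : (g₀.natAbs : ℤ) ∈ G := hmem.2 (Int.dvd_natAbs.2 dvd_rfl)
  obtain ⟨i, j, a, ha, b, hb, ha0, hb0, hij⟩ := hgG
  refine ⟨g₀.natAbs, ι a / ι b, Int.natAbs_pos.2 hg0, div_ne_zero (ι_ne_zero ha0) (ι_ne_zero hb0), fun n x hx hx0 => ?_⟩
  have hdvd : g₀.natAbs ∣ n := by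
    have h : (n : ℤ) ∈ G := ⟨n, 0, x, hx, 1, SetLike.one_mem_graded 𝒜, hx0, one_ne_zero, by simp⟩
    exact Int.natCast_dvd.1 (by simpa using hmem.1 h) |>.trans dvd_rfl
  refine ⟨hdvd, ?_⟩
  obtain ⟨q, rfl⟩ := hdvd
  rw [Nat.mul_div_cancel_left _ (Int.natAbs_pos.2 hg0)]
  have hdeg : q * i = g₀.natAbs * q + q * j := by
    have : (q : ℤ) * i = (g₀.natAbs : ℤ) * q + q * j := by rw [hij]; ring
    exact_mod_cast this
  have hxb : x * b ^ q ∈ 𝒜 ((q * i : ℕ) : ℤ) := by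
    have h := SetLike.mul_mem_graded (A := 𝒜) hx (pow_mem' 𝒜 hb q)
    rwa [← Nat.cast_add, ← hdeg] at h
  obtain ⟨c, hc⟩ := le_one_dim 𝒜 hD hf hf0 hfin hxb (pow_mem' 𝒜 ha q) (mul_ne_zero hx0 (pow_ne_zero _ hb0))
  refine ⟨c • x, Submodule.smul_mem _ _ hx, ?_⟩
  have h1 := congrArg ι hc
  rw [map_smul', map_mul, map_pow, map_pow] at h1
  rw [map_smul', div_pow, ← h1]
  field_simp [ι_ne_zero hb0]

end Normal

variable [IsAlgClosed k] [Algebra.FiniteType k R]
  (hpos : ∀ n : ℤ, n < 0 → 𝒜 n = ⊥) (h0 : 𝒜 0 = Submodule.span k {(1 : R)}) (h1 : ringKrullDim R = 1)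

include hpos h0 h1 in
theorem exists_setup : ∃ (D : ℕ) (f : Fin 1 → R), 0 < D ∧ f 0 ∈ 𝒜 (D : ℤ) ∧ f 0 ≠ 0 ∧
    (MvPolynomial.aeval f : MvPolynomial (Fin 1) k →ₐ[k] R).toRingHom.Finite := by
  obtain ⟨D, hD, h⟩ := HomNN.exists_normalization 𝒜 hpos h0 1 (by simpa using h1)
  obtain ⟨f, hf, hinj, hfin⟩ := h D hD dvd_rfl
  refine ⟨D, f, hD, hf 0, fun h' => ?_, hfin⟩
  refine MvPolynomial.X_ne_zero (R := k) (0 : Fin 1) (hinj ?_)
  rw [MvPolynomial.aeval_X, map_zero, h']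

include hpos h0 h1 in
theorem exists_semigroup : ∃ H : AddSubmonoid ℕ, Nonempty (R ≃+* AddMonoidAlgebra k H) := by
  classical
  obtain ⟨D, f, hD, hf, hf0, hfin⟩ := exists_setup 𝒜 hpos h0 h1
  obtain ⟨g, t, hg, ht, hgen⟩ := exists_gen 𝒜 hD hf hf0 hfin
  let H : AddSubmonoid ℕ :=
    { carrier := {n | ∃ x ∈ 𝒜 (n : ℤ), x ≠ 0}
      zero_mem' := ⟨1, SetLike.one_mem_graded 𝒜, one_ne_zero⟩
      add_mem' := by
        rintro m n ⟨x, hx, hx0⟩ ⟨y, hy, hy0⟩
        refine ⟨x * y, ?_, mul_ne_zero hx0 hy0⟩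
        have := SetLike.mul_mem_graded (A := 𝒜) hx hy
        rwa [← Nat.cast_add] at this }
  have hex : ∀ h : H, ∃ e : R, e ∈ 𝒜 ((h : ℕ) : ℤ) ∧ ι e = t ^ ((h : ℕ) / g) := fun h => by
    obtain ⟨x, hx, hx0⟩ := h.2
    exact (hgen _ x hx hx0).2
  choose e he hι using hex
  have hdvd : ∀ h : H, g ∣ (h : ℕ) := fun h => by
    obtain ⟨x, hx, hx0⟩ := h.2
    exact (hgen _ x hx hx0).1
  let F : Multiplicative H →* R :=
    { toFun := fun h => e h.toAdd
      map_one' := IsFractionRing.injective R (FractionRing R) (by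
        refine (hι (0 : H)).trans ?_
        rw [ZeroMemClass.coe_zero, Nat.zero_div, pow_zero, RingHom.map_one])
      map_mul' := fun x y => IsFractionRing.injective R (FractionRing R) (by
        refine (hι (x.toAdd + y.toAdd)).trans ?_
        rw [RingHom.map_mul, hι, hι, ← pow_add, AddMemClass.coe_add, Nat.add_div_of_dvd_right (hdvd _)]) }
  have he0 : ∀ h : H, e h ≠ 0 := fun h => by
    obtain ⟨x, hx, hx0⟩ := h.2
    intro h'
    have h2 := hι h
    rw [h', map_zero] at h2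
    exact pow_ne_zero _ ht h2.symm
  let Φ : AddMonoidAlgebra k H →ₐ[k] R := AddMonoidAlgebra.lift k R H F
  have hΦ : ∀ p : AddMonoidAlgebra k H, Φ p = p.coeff.sum fun h c => c • e h := fun p =>
    AddMonoidAlgebra.lift_apply F p
  refine ⟨H, ⟨(RingEquiv.ofBijective Φ ⟨(injective_iff_map_eq_zero Φ).2 fun p hp => ?_, fun y => ?_⟩).symm⟩⟩
  · refine AddMonoidAlgebra.ext (Finsupp.ext fun h => ?_)
    rw [hΦ, Finsupp.sum] at hp
    have h1' := congrArg (fun v => (decompose 𝒜 v ((h : ℕ) : ℤ) : R)) hp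
    rw [decompose_sum, DFinsupp.finsetSum_apply, AddSubmonoidClass.coe_finsetSum, decompose_zero,
      DirectSum.zero_apply, ZeroMemClass.coe_zero] at h1'
    rw [Finset.sum_eq_single h (fun d _ hd => decompose_of_mem_ne 𝒜 (Submodule.smul_mem _ _ (he d))
        (fun hh => hd (Subtype.ext (by exact_mod_cast hh)))) (fun hh => by
        rw [Finsupp.notMem_support_iff.1 hh, zero_smul]; simp),
      decompose_of_mem_same 𝒜 (Submodule.smul_mem _ _ (he h))] at h1'
    simpa using (smul_eq_zero.1 h1').resolve_right (he0 h)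
  · induction y using DirectSum.Decomposition.inductionOn 𝒜 with
    | zero => exact ⟨0, map_zero Φ⟩
    | add a b ha hb =>
      obtain ⟨p, rfl⟩ := ha
      obtain ⟨q, rfl⟩ := hb
      exact ⟨p + q, map_add Φ p q⟩
    | @homogeneous i y =>
      rcases lt_or_ge i 0 with hi | hi
      · exact ⟨0, by rw [map_zero, HomNN.eq_zero_of_neg 𝒜 hpos i hi _ y.2]⟩
      · lift i to ℕ using hi
        rcases eq_or_ne (y : R) 0 with hy | hy
        · exact ⟨0, by rw [map_zero, hy]⟩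
        · let hh : H := ⟨i, (y : R), y.2, hy⟩
          obtain ⟨c, hc⟩ := le_one_dim 𝒜 hD hf hf0 hfin (he hh) y.2 (he0 hh)
          refine ⟨AddMonoidAlgebra.single hh c, ?_⟩
          show Φ (AddMonoidAlgebra.single hh c) = _
          rw [AddMonoidAlgebra.lift_single]
          exact hc

include hpos h0 h1 in
theorem exists_polynomial
    (hstd : Ideal.span (⋃ n ∈ Set.Ioi (0 : ℤ), (𝒜 n : Set R)) = Ideal.span ((𝒜 1 : Submodule k R) : Set R)) :
    Nonempty (R ≃+* Polynomial k) := by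
  obtain ⟨D, f, hD, hf, hf0, hfin⟩ := exists_setup 𝒜 hpos h0 h1
  obtain ⟨x, hx, hx0⟩ : ∃ x ∈ 𝒜 1, x ≠ 0 := by
    by_contra hcon
    push Not at hcon
    have hmem : f 0 ∈ Ideal.span (⋃ n ∈ Set.Ioi (0 : ℤ), (𝒜 n : Set R)) :=
      Ideal.subset_span (Set.mem_iUnion₂.2 ⟨(D : ℤ), Int.ofNat_lt.2 hD, hf⟩)
    rw [hstd, Ideal.span_eq_bot.2 fun y hy => hcon y hy] at hmem
    exact hf0 ((Submodule.mem_bot R).1 hmem)
  have hxn : ∀ n : ℕ, x ^ n ∈ 𝒜 (n : ℤ) := fun n => by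
    have := SetLike.pow_mem_graded (A := 𝒜) n hx
    rwa [nsmul_eq_mul, mul_one] at this
  obtain ⟨e, -⟩ := DimOne.nonempty_polynomial_of_gen hpos hx fun n =>
    ⟨pow_ne_zero _ hx0, fun y hy => le_one_dim 𝒜 hD hf hf0 hfin (hxn n) hy (pow_ne_zero _ hx0)⟩
  exact ⟨e.toRingEquiv⟩

end Groth.Agent.GrLib8.SemiDom
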