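import Groth.Agent.GrLib8.Basic
import Groth.Prelude.Def_GrLC
import Groth.Prelude.Def_Wider

/-!
# Graded essential extensions
-/

set_option autoImplicit false

universe u

open DirectSum

namespace Groth.Agent.GrLib8

variable {ι : Type} [AddCommGroup ι] [DecidableEq ι]
variable {R : Type u} [CommRing R] {σ : Type u} [SetLike σ R] [AddSubgroupClass σ R] (𝒜 : ι → σ) [GradedRing 𝒜]
variable {M L : Type u} [AddCommGroup M] [Module R M] [AddCommGroup L] [Module R L]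
  (𝓛 : ι → AddSubgroup L) [DirectSum.Decomposition 𝓛] [SetLike.GradedSMul 𝒜 𝓛]

include 𝒜 in
/-- A homogeneous submodule meeting every nonzero homogeneous submodule meets every cyclic one, by a
homogeneous scalar. -/
theorem exists_homogeneous_smul_mem (P : Submodule R L) (hP : P.IsHomogeneous 𝓛)
    (h : ∀ Q : Submodule R L, Q.IsHomogeneous 𝓛 → Q ≠ ⊥ → Q ⊓ P ≠ ⊥) (x : L) (hx : x ≠ 0) :
    ∃ (i : ι) (a : R), a ∈ 𝒜 i ∧ a • x ∈ P ∧ a • x ≠ 0 := by
  classical
  have single : ∀ (g : ι) (z : L), z ∈ 𝓛 g → z ≠ 0 → ∃ (i : ι) (a : R), a ∈ 𝒜 i ∧ a • z ∈ P ∧ a • z ≠ 0 := by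
    intro g z hz hz0
    obtain ⟨y, ⟨hy1, hy2⟩, hy0⟩ := (Submodule.ne_bot_iff _).1
      (h (R ∙ z) (isHomogeneous_span_singleton 𝒜 𝓛 hz) (by simpa using hz0))
    obtain ⟨r, rfl⟩ := Submodule.mem_span_singleton.1 hy1
    obtain ⟨n, hn⟩ : ∃ n, (decompose 𝓛 (r • z) n : L) ≠ 0 := by
      by_contra hall
      push Not at hall
      refine hy0 ?_
      rw [← sum_support_decompose 𝓛 (r • z)]
      exact Finset.sum_eq_zero fun k _ => hall k
    have hPn := hP n hy2
    rw [decompose_smul_of_mem 𝒜 𝓛 hz] at hn hPn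
    exact ⟨n - g, _, SetLike.coe_mem _, hPn, hn⟩
  suffices key : ∀ (S : Finset ι) (x : L), x ≠ 0 → (∀ g ∉ S, (decompose 𝓛 x g : L) = 0) →
      ∃ (i : ι) (a : R), a ∈ 𝒜 i ∧ a • x ∈ P ∧ a • x ≠ 0 from
    key (decompose 𝓛 x).support x hx fun g hg => by
      rw [DFinsupp.notMem_support_iff.1 hg]; rfl
  intro S
  induction S using Finset.induction_on with
  | empty =>
    intro x hx h0
    refine absurd ?_ hx
    rw [← sum_support_decompose 𝓛 x]
    exact Finset.sum_eq_zero fun g _ => h0 g (Finset.notMem_empty g)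
  | insert g0 S hg0 ih =>
    intro x hx h0
    set x0 : L := (decompose 𝓛 x g0 : L) with hx0def
    have hx0 : x0 ∈ 𝓛 g0 := SetLike.coe_mem _
    by_cases hx' : x - x0 = 0
    · rw [sub_eq_zero] at hx'
      exact single g0 x (hx'.symm ▸ hx0) hx
    have hcomp : ∀ g, (decompose 𝓛 (x - x0) g : L) = if g = g0 then 0 else (decompose 𝓛 x g : L) := fun g => by
      rw [decompose_sub, DirectSum.sub_apply, AddSubgroupClass.coe_sub]
      rcases eq_or_ne g g0 with rfl | hne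
      · rw [decompose_of_mem_same 𝓛 hx0, if_pos rfl, sub_self]
      · rw [decompose_of_mem_ne 𝓛 hx0 hne.symm, if_neg hne, sub_zero]
    obtain ⟨i, b, hb, hbP, hb0⟩ := ih (x - x0) hx' fun g hg => by
      rw [hcomp]
      split_ifs with hne
      · rfl
      · exact h0 g (by simp [hne, hg])
    by_cases hz : b • x0 = 0
    · exact ⟨i, b, hb, by rwa [smul_sub, hz, sub_zero] at hbP, by rwa [smul_sub, hz, sub_zero] at hb0⟩
    have hbx0 : b • x0 ∈ 𝓛 (i + g0) := SetLike.GradedSMul.smul_mem hb hx0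
    obtain ⟨j, a, ha, haP, ha0⟩ := single _ _ hbx0 hz
    refine ⟨j + i, a * b, SetLike.GradedMul.mul_mem ha hb, ?_, fun h0' => ha0 ?_⟩
    · rw [show (a * b) • x = a • b • (x - x0) + a • b • x0 by rw [← smul_add, ← smul_add, sub_add_cancel, mul_smul]]
      exact P.add_mem (P.smul_mem a hbP) haP
    · rw [smul_smul, hx0def, show g0 = j + i + g0 - (j + i) by abel,
        ← decompose_smul_of_mem_left 𝒜 𝓛 (SetLike.GradedMul.mul_mem ha hb) x, h0', decompose_zero,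
        DirectSum.zero_apply, ZeroMemClass.coe_zero]

variable {τ : Type u} [SetLike τ M] [AddSubgroupClass τ M] (ℳ : ι → τ) [DirectSum.Decomposition ℳ]

omit [SetLike.GradedSMul 𝒜 𝓛] [AddCommGroup ι] [GradedRing 𝒜] in
theorem isHomogeneous_range {f : M →ₗ[R] L} (hf : GrLC.IsGrHom ℳ 𝓛 f) :
    (LinearMap.range f).IsHomogeneous 𝓛 := by
  rintro n _ ⟨m, rfl⟩
  exact ⟨_, map_decompose ℳ 𝓛 f.toAddMonoidHom hf m n⟩

/-- A *essential extension of a cyclic graded module is essential. -/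
theorem isEssentialInj_of_isStarEss_quot {p : HomogeneousIdeal 𝒜} {f : (R ⧸ p.toIdeal) →ₗ[R] L}
    (hf : GrLC.IsStarEss (GrLC.quotGr 𝒜 p) 𝓛 f) : InjHull.IsEssentialInj f := by
  refine ⟨hf.injective, fun N hN => ?_⟩
  obtain ⟨x, hxN, hx0⟩ := (Submodule.ne_bot_iff _).1 hN
  let q : R →ₗ[R] L := f ∘ₗ p.toIdeal.mkQ
  have hq : LinearMap.range q = LinearMap.range f := LinearMap.range_comp_of_range_eq_top _ (Submodule.range_mkQ _)
  have hgr : GrLC.IsGrHom 𝒜 𝓛 q := fun g r hr => hf.grHom g _ ⟨r, hr, rfl⟩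
  obtain ⟨i, a, -, haP, ha0⟩ := exists_homogeneous_smul_mem 𝒜 𝓛 (LinearMap.range f)
    (hq ▸ isHomogeneous_range 𝓛 𝒜 hgr) hf.essential x hx0
  exact (Submodule.ne_bot_iff _).2 ⟨a • x, ⟨N.smul_mem a hxN, haP⟩, ha0⟩

end Groth.Agent.GrLib8
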