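import Groth.Agent.GrLib8.StarGor

/-!
# *Injective top cohomology characterises Gorenstein rings
-/

set_option autoImplicit false
set_option linter.unusedSectionVars false
set_option linter.style.haveILetI false
set_option maxHeartbeats 1600000

universe u

open DirectSum CategoryTheory IsLocalRing
open scoped TensorProduct

namespace Groth.Agent.GrLib8.StarGor

variable {R : Type u} [CommRing R] {𝒜 : ℤ → AddSubgroup R} [GradedRing 𝒜] {m : HomogeneousIdeal 𝒜}

/-- Gorenstein at the *maximal ideal is Gorenstein. -/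
theorem gorensteinRing_of_atStarMax [IsNoetherianRing R] (hm : GrLC.IsStarLocal 𝒜 m) [m.toIdeal.IsPrime]
    (hA : LocCoh.IsGorensteinLocalRing (Localization.AtPrime m.toIdeal)) : LocCoh.IsGorensteinRing R := by
  classical
  let A := Localization.AtPrime m.toIdeal
  let S := m.toIdeal.primeCompl
  haveI : IsNoetherianRing A := IsLocalization.isNoetherianRing S A inferInstance
  obtain ⟨d, -, -, hv⟩ := LC.gorenstein_basic (R := A)
  let u : LocalizedModule S R ≃ₗ[A] A :=
    (LocalizedModule.equivTensorProduct S R).trans (TensorProduct.AlgebraTensorModule.rid R A A)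
  refine LC.gorensteinRing_of_atPrime fun p _ => ?_
  haveI hP : (Ideal.homogeneousCore 𝒜 p).toIdeal.IsPrime := isPrime_core 𝒜 p
  have hle : Ideal.homogeneousCore 𝒜 p ≤ m :=
    le_star hm fun h => hP.ne_top ((congrArg HomogeneousIdeal.toIdeal h).trans HomogeneousIdeal.toIdeal_top)
  have hPzero : ∀ j, d < j → GrLC.bassNum (Ideal.homogeneousCore 𝒜 p).toIdeal R j = 0 := by
    intro j hj
    obtain ⟨eX⟩ := LC.exists_extLoc S R j (R ⧸ (Ideal.homogeneousCore 𝒜 p).toIdeal)
    haveI : Module.Finite A (LocalizedModule S (R ⧸ (Ideal.homogeneousCore 𝒜 p).toIdeal)) :=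
      Module.Finite.of_isLocalizedModule S (LocalizedModule.mkLinearMap _ _)
    have hsub := hv (LocalizedModule S (R ⧸ (Ideal.homogeneousCore 𝒜 p).toIdeal)) j hj
    have hsub' := (eX.trans (LC.extCongr (Iso.refl _) u.toModuleIso j)).toEquiv.subsingleton_congr.2 hsub
    rw [LocalizedModule.subsingleton_iff] at hsub'
    exact (bass_eq_zero_iff R _ j).2 fun z => by
      obtain ⟨s, hs, hsz⟩ := hsub' z
      exact ⟨s, fun h => hs (hle h), hsz⟩
  let q := p.map (Ideal.Quotient.mk (Ideal.homogeneousCore 𝒜 p).toIdeal)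
  haveI hq : q.IsPrime :=
    Ideal.map_isPrime_of_surjective Ideal.Quotient.mk_surjective
      (by rw [Ideal.mk_ker]; exact Ideal.toIdeal_homogeneousCore_le 𝒜 p)
  obtain ⟨c, hc⟩ := ENat.ne_top_iff_exists.1 (Ideal.height_ne_top (I := q) hq.ne_top)
  obtain ⟨-, hge⟩ := bassNum_shift 𝒜 (Ideal.homogeneousCore 𝒜 p) p (Ideal.toIdeal_homogeneousCore_le 𝒜 p)
    (fun g r hr hrp => Ideal.subset_span ⟨⟨r, g, hr⟩, hrp, rfl⟩) c hc.symm
  let B := Localization.AtPrime p
  haveI : IsNoetherianRing B := IsLocalization.isNoetherianRing p.primeCompl B inferInstance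
  refine LC.gorenstein_iff_ext_residue.2 ⟨c + d + 1, fun i hi => ?_⟩
  have h : GrLC.bassNum p R i = 0 := by
    rw [show i = (i - c) + c by omega, hge]
    exact hPzero _ (by omega)
  unfold GrLC.bassNum GrLC.bassNumLocal at h
  haveI := Module.length_eq_zero_iff.1 h
  let v : LocalizedModule p.primeCompl R ≃ₗ[B] B :=
    (LocalizedModule.equivTensorProduct p.primeCompl R).trans (TensorProduct.AlgebraTensorModule.rid R B B)
  exact (LC.extCongr (Iso.refl (ModuleCat.of B (ResidueField B))) v.toModuleIso i).symm.toEquiv.subsingleton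

variable [LocCoh.IsCohenMacaulayRing R] (hm : GrLC.IsStarLocal 𝒜 m) {n : ℕ} (hn : m.toIdeal.height = n)
  (I : GrLC.StarInjRes 𝒜 𝒜)

include hm hn in
theorem exists_starInj_of_gorenstein [LocCoh.IsGorensteinRing R] :
    ∃ (X : GrLC.GMod.{u} 𝒜) (φ : I.H m n ≃ₗ[R] X.carrier),
      GrLC.IsStarInj 𝒜 X.gr ∧ GrLC.IsGrHom (I.Hgr m n) X.gr φ.toLinearMap := by
  haveI := isPrime_of_isStarLocal hm
  haveI : LocCoh.IsGorensteinLocalRing (Localization.AtPrime m.toIdeal) :=
    LocCoh.IsGorensteinRing.isGorensteinLocalRing_localization m.toIdeal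
  letI := (GrLib8.isInternal_Hgr 𝒜 I m n).chooseDecomposition
  haveI : SetLike.GradedSMul 𝒜 (I.Hgr m n) := gradedSMul_Hgr I
  obtain ⟨E, f, hf⟩ := exists_hull (quotGMod 𝒜 𝒜 m.toIdeal m.isHomogeneous)
  let e : (R ⧸ m.toIdeal) →ₗ[R] E.carrier := f
  have he : GrLC.IsStarInjHull 𝒜 (GrLC.quotGr 𝒜 m) E.gr e :=
    ⟨⟨hf.injective, fun g q hq => by
      obtain ⟨r, hr, rfl⟩ := hq
      exact hf.grHom g _ ⟨r, hr, rfl⟩, hf.essential⟩, hf.starInj⟩
  obtain ⟨g, φ, hφ⟩ := exists_equiv_hull I hm hn E.gr e he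
  exact ⟨shiftGMod 𝒜 E.gr g, φ, isStarInj_shift E hf.starInj g, fun j y hy => hφ j y hy⟩

include hm hn in
theorem gorenstein_of_starInj (X : GrLC.GMod.{u} 𝒜) (φ : I.H m n ≃ₗ[R] X.carrier) (hX : GrLC.IsStarInj 𝒜 X.gr) :
    LocCoh.IsGorensteinRing R := by
  haveI := isPrime_of_isStarLocal hm
  refine gorensteinRing_of_atStarMax hm ?_
  let S := m.toIdeal.primeCompl
  let A := Localization.AtPrime m.toIdeal
  haveI : IsNoetherianRing A := IsLocalization.isNoetherianRing S A inferInstance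
  haveI : LocCoh.IsCohenMacaulayLocalRing A :=
    LocCoh.IsCohenMacaulayRing.isCohenMacaulayLocalRing_localization m.toIdeal
  have htors : LocCoh.IsPowerTorsion m.toIdeal X.carrier := fun x => by
    obtain ⟨k, hk⟩ := isPowerTorsion_H (m := m) (n := n) I (φ.symm x)
    exact ⟨k, fun r hr => φ.symm.injective (by rw [map_smul, hk r hr, map_zero])⟩
  haveI := injective_loc (m := m) X.gr hX htors
  obtain ⟨T⟩ := exists_locH (m := m) (n := n) I
  let φA : LocalizedModule S (I.H m n) ≃ₗ[A] LocalizedModule S X.carrier :=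
    LinearEquiv.ofBijective (LocalizedModule.map S φ.toLinearMap)
      ⟨LocalizedModule.map_injective S φ.toLinearMap φ.injective,
        LocalizedModule.map_surjective S φ.toLinearMap φ.surjective⟩
  refine LC.gorenstein_iff_H.2 ⟨n, fun i hi => ?_, LC.injective_of_linearEquiv (φA.symm.trans T)⟩
  rcases Nat.lt_or_gt_of_ne hi with h' | h'
  · exact LC.Canon.hlow_ring (R := A) (ringKrullDim_loc hn) i h'
  · obtain ⟨k, rfl⟩ : ∃ k, i = k + 1 := ⟨i - 1, by omega⟩
    exact LC.subsingleton_H_succ_of_ringKrullDim _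
      ((ringKrullDim_loc hn).le.trans (by exact_mod_cast Nat.lt_succ_iff.1 h')) _

end Groth.Agent.GrLib8.StarGor
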