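import Groth.Agent.GrLib8.SerreFormula
import Groth.Agent.GrLib8.StdField
import Mathlib.LinearAlgebra.FiniteDimensional.Basic

/-!
# Lengths over the degree zero part of a polynomial ring
-/

set_option autoImplicit false
set_option linter.unusedSectionVars false

universe u

open DirectSum

namespace Groth.Agent.GrLib8

variable (k : Type u) [Field k] (n : ℕ)

theorem C_mem_stdGr_zero (c : k) : (MvPolynomial.C c : MvPolynomial (Fin n) k) ∈ GrSyz.stdGr k (Fin n) 0 :=
  MvPolynomial.isWeightedHomogeneous_C _ c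

/-- The constants as the degree zero part. -/
noncomputable def toDeg0 : k →+* GrLC.deg0 (GrSyz.stdGr k (Fin n)) :=
  (MvPolynomial.C (σ := Fin n) (R := k)).codRestrict (GrLC.deg0 (GrSyz.stdGr k (Fin n))) (C_mem_stdGr_zero k n)

theorem toDeg0_bijective : Function.Bijective (toDeg0 k n) :=
  ⟨(toDeg0 k n).injective, fun z =>
    ⟨MvPolynomial.coeff 0 (z : MvPolynomial (Fin n) k),
      Subtype.ext (eq_C_of_stdGr_zero k (Fin n) z z.2).symm⟩⟩

theorem isArtinianRing_deg0_stdGr : IsArtinianRing (GrLC.deg0 (GrSyz.stdGr k (Fin n))) :=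
  (toDeg0_bijective k n).surjective.isArtinianRing

variable {k n}
variable {M : Type u} [AddCommGroup M] [Module k M] [Module (MvPolynomial (Fin n) k) M]
  [IsScalarTower k (MvPolynomial (Fin n) k) M] [Module.Finite (MvPolynomial (Fin n) k) M]
  (ℳ : ℤ → Submodule k M) [Decomposition ℳ] [SetLike.GradedSMul (GrSyz.stdGr k (Fin n)) ℳ]

/-- The length of a piece is its dimension. -/
theorem toNat_length_comp (g : ℤ) :
    (Module.length (GrLC.deg0 (GrSyz.stdGr k (Fin n))) (GrLC.comp (GrSyz.stdGr k (Fin n)) ℳ g)).toNat =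
      Module.finrank k (ℳ g) := by
  classical
  let 𝒜 := GrSyz.stdGr k (Fin n)
  letI : Algebra k (GrLC.deg0 𝒜) := (toDeg0 k n).toAlgebra
  letI : Module k (GrLC.comp 𝒜 ℳ g) := Module.compHom _ (toDeg0 k n)
  haveI : IsScalarTower k (GrLC.deg0 𝒜) (GrLC.comp 𝒜 ℳ g) := IsScalarTower.of_algebraMap_smul fun _ _ => rfl
  haveI := finite_comp 𝒜 (fun m hm r hr => stdGr_nonneg k (Fin n) m hm r hr) ℳ g
  haveI : Module.Finite k (GrLC.deg0 𝒜) :=
    Module.Finite.of_surjective (Algebra.linearMap k (GrLC.deg0 𝒜)) (toDeg0_bijective k n).2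
  haveI : Module.Finite k (GrLC.comp 𝒜 ℳ g) := Module.Finite.trans (GrLC.deg0 𝒜) _
  let e : GrLC.comp 𝒜 ℳ g ≃ₗ[k] ℳ g :=
    { toFun := fun z => ⟨(z : M), z.2⟩
      invFun := fun z => ⟨(z : M), z.2⟩
      left_inv := fun _ => rfl
      right_inv := fun _ => rfl
      map_add' := fun _ _ => rfl
      map_smul' := fun c z => Subtype.ext (by
        show (MvPolynomial.C c : MvPolynomial (Fin n) k) • (z : M) = c • (z : M)
        rw [← MvPolynomial.algebraMap_eq, algebraMap_smul]) }
  rw [← Module.length_eq_of_surjective (S := k) (R := GrLC.deg0 𝒜) (M := GrLC.comp 𝒜 ℳ g)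
    (toDeg0_bijective k n).2, Module.length_eq_finrank, ENat.toNat_coe, e.finrank_eq]

end Groth.Agent.GrLib8
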