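import Groth.Prelude.Def_LocCohZ
import Groth.Agent.SiteBase.SuppInj

/-!
# `i_* ⊣ i^!` for the inclusion of a closed subset
-/

set_option autoImplicit false
set_option linter.style.haveILetI false

universe u

open CategoryTheory CategoryTheory.Limits Opposite TopologicalSpace TopCat Topology

noncomputable section

namespace Groth.Agent.GrLib8.SuppAdj

variable {X : TopCat.{u}} (U : Opens X)

local notation "iZ" => CohCx.inclCompl U

theorem isIso_unit_sectSupp (F : CohTop.Ab X) :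
    IsIso ((ClosedEmb.pAdj iZ).unit.app ((LocCohZ.sectSuppF U).obj F)) :=
  ClosedEmb.isIso_unit (ClosedEmb.isClosedEmbedding_inclCompl U) _
    fun x hx => ClosedEmb.isZero_stalk_sectSupp U F x ((ClosedEmb.not_range_inclCompl_iff U x).1 hx)

/-- The unit `𝟭 ⟶ j_* j⁻¹`. -/
abbrev η : 𝟭 (CohTop.Ab X) ⟶ CohTop.pull (CohCx.incl U) ⋙ CohTop.push (CohCx.incl U) :=
  (TopCat.Sheaf.pullbackPushforwardAdjunction AddCommGrpCat.{u} (CohCx.incl U)).unit

theorem comp_unit_eq_zero {G : CohTop.Ab (TopCat.of ((U : Set X)ᶜ : Set X))} {F : CohTop.Ab X}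
    (φ : (CohTop.push iZ).obj G ⟶ F) : φ ≫ (η U).app F = 0 :=
  ((ClosedEmb.pAdj (CohCx.incl U)).homEquiv _ _).symm.injective
    ((ClosedEmb.isZero_pull_push U G).eq_of_src _ _)

/-- The inclusion `Γ_Z F ⟶ F`. -/
def ιS (F : CohTop.Ab X) : (LocCohZ.sectSuppF U).obj F ⟶ F :=
  kernel.ι ((η U).app F)

instance mono_ιS (F : CohTop.Ab X) : Mono (ιS U F) :=
  inferInstanceAs (Mono (kernel.ι ((η U).app F)))

theorem map_ιS {F F' : CohTop.Ab X} (g : F ⟶ F') :
    (LocCohZ.sectSuppF U).map g ≫ ιS U F' = ιS U F ≫ g :=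
  kernel.lift_ι _ _ _

/-- Maps out of direct images from `Z` factor through `Γ_Z`. -/
def liftS {G : CohTop.Ab (TopCat.of ((U : Set X)ᶜ : Set X))} {F : CohTop.Ab X}
    (φ : (CohTop.push iZ).obj G ⟶ F) : (CohTop.push iZ).obj G ⟶ (LocCohZ.sectSuppF U).obj F :=
  kernel.lift ((η U).app F) φ (comp_unit_eq_zero U φ)

@[reassoc (attr := simp)]
theorem liftS_ι {G : CohTop.Ab (TopCat.of ((U : Set X)ᶜ : Set X))} {F : CohTop.Ab X}
    (φ : (CohTop.push iZ).obj G ⟶ F) : liftS U φ ≫ ιS U F = φ :=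
  kernel.lift_ι _ _ _

theorem eq_liftS {G : CohTop.Ab (TopCat.of ((U : Set X)ᶜ : Set X))} {F : CohTop.Ab X}
    (φ : (CohTop.push iZ).obj G ⟶ F) (k : (CohTop.push iZ).obj G ⟶ (LocCohZ.sectSuppF U).obj F)
    (h : k ≫ ιS U F = φ) : k = liftS U φ :=
  (cancel_mono (ιS U F)).1 (h.trans (liftS_ι U φ).symm)

/-- The universal property. -/
def homEquiv (G : CohTop.Ab (TopCat.of ((U : Set X)ᶜ : Set X))) (F : CohTop.Ab X) :
    ((CohTop.push iZ).obj G ⟶ F) ≃ (G ⟶ (LocCohZ.sectSuppF U ⋙ CohTop.pull iZ).obj F) :=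
  haveI := isIso_unit_sectSupp U F
  haveI := ClosedEmb.push_full (ClosedEmb.isClosedEmbedding_inclCompl U).isInducing
  haveI := ClosedEmb.push_faithful (ClosedEmb.isClosedEmbedding_inclCompl U).isInducing
  let η' := (ClosedEmb.pAdj iZ).unit.app ((LocCohZ.sectSuppF U).obj F)
  { toFun := fun φ => (CohTop.push iZ).preimage (liftS U φ ≫ η')
    invFun := fun ψ => (CohTop.push iZ).map ψ ≫ inv η' ≫ ιS U F
    left_inv := fun φ => by
      show (CohTop.push iZ).map ((CohTop.push iZ).preimage (liftS U φ ≫ η')) ≫ inv η' ≫ ιS U F = φ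
      rw [Functor.map_preimage, Category.assoc, IsIso.hom_inv_id_assoc, liftS_ι]
    right_inv := fun ψ => by
      apply (CohTop.push iZ).map_injective
      show (CohTop.push iZ).map ((CohTop.push iZ).preimage _) = _
      rw [Functor.map_preimage,
        ← eq_liftS U _ ((CohTop.push iZ).map ψ ≫ inv η') (Category.assoc _ _ _),
        Category.assoc, IsIso.inv_hom_id, Category.comp_id] }

theorem map_homEquiv {G : CohTop.Ab (TopCat.of ((U : Set X)ᶜ : Set X))} {F : CohTop.Ab X}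
    (φ : (CohTop.push iZ).obj G ⟶ F) :
    (CohTop.push iZ).map (homEquiv U G F φ) =
      liftS U φ ≫ (ClosedEmb.pAdj iZ).unit.app ((LocCohZ.sectSuppF U).obj F) :=
  haveI := ClosedEmb.push_full (ClosedEmb.isClosedEmbedding_inclCompl U).isInducing
  (CohTop.push iZ).map_preimage _

theorem nonempty_adj : Nonempty (CohTop.push iZ ⊣ LocCohZ.sectSuppF U ⋙ CohTop.pull iZ) := by
  haveI := ClosedEmb.push_faithful (ClosedEmb.isClosedEmbedding_inclCompl U).isInducing
  refine ⟨Adjunction.mkOfHomEquiv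
    { homEquiv := homEquiv U
      homEquiv_naturality_left_symm := fun {G' G F} f ψ => ?_
      homEquiv_naturality_right := fun {G F F'} φ g => ?_ }⟩
  · show (CohTop.push iZ).map (f ≫ ψ) ≫ _ = (CohTop.push iZ).map f ≫ (CohTop.push iZ).map ψ ≫ _
    rw [Functor.map_comp, Category.assoc]
  · apply (CohTop.push iZ).map_injective
    rw [Functor.map_comp, map_homEquiv, map_homEquiv, Category.assoc]
    have hn : (ClosedEmb.pAdj iZ).unit.app ((LocCohZ.sectSuppF U).obj F) ≫
        (CohTop.push iZ).map ((LocCohZ.sectSuppF U ⋙ CohTop.pull iZ).map g) =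
      (LocCohZ.sectSuppF U).map g ≫ (ClosedEmb.pAdj iZ).unit.app ((LocCohZ.sectSuppF U).obj F') :=
      ((ClosedEmb.pAdj iZ).unit.naturality ((LocCohZ.sectSuppF U).map g)).symm
    rw [hn, ← Category.assoc]
    congr 1
    refine (eq_liftS U _ _ ?_).symm
    rw [Category.assoc, map_ιS, liftS_ι_assoc]

end Groth.Agent.GrLib8.SuppAdj
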