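import Groth.Prelude.Def_LocCohZ
import Groth.Agent.SuppFamLib.Derived
import Groth.Agent.SiteBase.Top

/-!
# The Mayer-Vietoris sequence for cohomology with supports
-/

set_option autoImplicit false
set_option linter.style.haveILetI false

universe u

open CategoryTheory CategoryTheory.Limits Opposite TopologicalSpace TopCat

noncomputable section

namespace Groth.Agent.GrLib8.SuppMV

variable {X : TopCat.{u}}

local notation "JX" => Opens.grothendieckTopology X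

/-- `ℤ_X/ℤ_U`. -/
abbrev Q (U : Opens X) : CohTop.Ab X := LocCohZ.zq (le_top : U ≤ ⊤)

/-- The map `ℤ_X/ℤ_A ⟶ ℤ_X/ℤ_B` for `A ≤ B`. -/
abbrev q {A B : Opens X} (h : A ≤ B) : Q A ⟶ Q B :=
  LocCohZ.zqMap (le_top : B ≤ ⊤) (le_top : A ≤ ⊤) h le_rfl

/-- The global section of a morphism out of `ℤ_X/ℤ_U`. -/
def ev {U : Opens X} {F : CohTop.Ab X} (φ : Q U ⟶ F) : F.obj.obj (op (⊤ : Opens X)) :=
  CohFree.evalGen JX ⊤ F (cokernel.π _ ≫ φ)

theorem ev_add {U : Opens X} {F : CohTop.Ab X} (φ ψ : Q U ⟶ F) : ev (φ + ψ) = ev φ + ev ψ := by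
  rw [ev, ev, ev, Preadditive.comp_add, map_add]

theorem ev_neg {U : Opens X} {F : CohTop.Ab X} (φ : Q U ⟶ F) : ev (-φ) = -ev φ := by
  rw [ev, ev, Preadditive.comp_neg, map_neg]

theorem ev_zero {U : Opens X} {F : CohTop.Ab X} : ev (0 : Q U ⟶ F) = 0 := by
  rw [ev, comp_zero, map_zero]

theorem ev_injective {U : Opens X} {F : CohTop.Ab X} : Function.Injective (ev (U := U) (F := F)) := by
  intro a b hab
  apply coequalizer.hom_ext
  exact (CohFree.homEquivSect JX ⊤ F).injective hab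

theorem res_ev {U : Opens X} {F : CohTop.Ab X} (φ : Q U ⟶ F) :
    F.obj.map (homOfLE (le_top : U ≤ ⊤)).op (ev φ) = 0 := by
  refine (CohFree.evalGen_freeSheafMap_comp JX (homOfLE (le_top : U ≤ ⊤)) F (cokernel.π _ ≫ φ)).symm.trans ?_
  rw [cokernel.condition_assoc, zero_comp, map_zero]

theorem exists_ev {U : Opens X} {F : CohTop.Ab X} (s : F.obj.obj (op (⊤ : Opens X)))
    (hs : F.obj.map (homOfLE (le_top : U ≤ ⊤)).op s = 0) : ∃ φ : Q U ⟶ F, ev φ = s := by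
  have hz : CohCx.freeSheafMap JX (homOfLE (le_top : U ≤ ⊤)) ≫ CohFree.ofSect JX ⊤ F s = 0 := by
    apply (CohFree.homEquivSect JX U F).injective
    rw [map_zero, CohFree.homEquivSect_apply, CohFree.evalGen_freeSheafMap_comp, CohFree.evalGen_ofSect]
    exact hs
  refine ⟨cokernel.desc _ _ hz, ?_⟩
  rw [ev, cokernel.π_desc]
  exact CohFree.evalGen_ofSect JX _ F s

theorem π_q {A B : Opens X} (h : A ≤ B) :
    cokernel.π (CohCx.freeSheafMap JX (homOfLE (le_top : A ≤ (⊤ : Opens X)))) ≫ q h =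
      cokernel.π (CohCx.freeSheafMap JX (homOfLE (le_top : B ≤ (⊤ : Opens X)))) := by
  refine (cokernel.π_desc _ _ _).trans ?_
  rw [show (homOfLE (le_rfl : (⊤ : Opens X) ≤ ⊤)) = 𝟙 _ from rfl, CohFree.freeSheafMap_id, Category.id_comp]

theorem ev_q {A B : Opens X} (h : A ≤ B) {F : CohTop.Ab X} (φ : Q B ⟶ F) : ev (q h ≫ φ) = ev φ := by
  rw [ev, ev, ← Category.assoc, π_q]

theorem eq_zero_of_cover (F : CohTop.Ab X) {A B C : Opens X} (hA : A ≤ C) (hB : B ≤ C) (hC : C ≤ A ⊔ B)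
    (s : F.obj.obj (op C)) (h1 : F.obj.map (homOfLE hA).op s = 0) (h2 : F.obj.map (homOfLE hB).op s = 0) :
    s = 0 := by
  refine TopCat.Presheaf.section_ext F C _ _ fun y hy => ?_
  rw [map_zero]
  rcases hC hy with hy' | hy'
  · rw [← TopCat.Presheaf.germ_res_apply F.obj (homOfLE hA) y hy', h1, map_zero]
  · rw [← TopCat.Presheaf.germ_res_apply F.obj (homOfLE hB) y hy', h2, map_zero]

variable (U U' : Opens X)

/-- `0 → ℤ/ℤ_{U∩U'} → ℤ/ℤ_U ⊕ ℤ/ℤ_{U'} → ℤ/ℤ_{U∪U'} → 0`. -/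
abbrev seq : ShortComplex (CohTop.Ab X) :=
  ShortComplex.mk (biprod.lift (q (inf_le_left : U ⊓ U' ≤ U)) (-q (inf_le_right : U ⊓ U' ≤ U')))
    (biprod.desc (q (le_sup_left : U ≤ U ⊔ U')) (q (le_sup_right : U' ≤ U ⊔ U'))) (by
      rw [biprod.lift_desc, Preadditive.neg_comp, ← sub_eq_add_neg, sub_eq_zero]
      apply ev_injective
      rw [ev_q, ev_q, ← Category.comp_id (q (le_sup_left : U ≤ U ⊔ U')), ev_q,
        ← Category.comp_id (q (le_sup_right : U' ≤ U ⊔ U')), ev_q])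

theorem exists_glue (F : CohTop.Ab X) [TopCat.Sheaf.IsFlasque F] (s : F.obj.obj (op (⊤ : Opens X)))
    (hs : F.obj.map (homOfLE (le_top : U ⊓ U' ≤ ⊤)).op s = 0) :
    ∃ t : F.obj.obj (op (⊤ : Opens X)), F.obj.map (homOfLE (le_top : U ≤ ⊤)).op t =
      F.obj.map (homOfLE (le_top : U ≤ ⊤)).op s ∧ F.obj.map (homOfLE (le_top : U' ≤ ⊤)).op t = 0 := by
  let V : ULift.{u} Bool → Opens X := fun b => if b.down then U else U'
  let sf : ∀ b, F.obj.obj (op (V b)) := fun b =>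
    match b with
    | ⟨true⟩ => F.obj.map (homOfLE (le_top : U ≤ ⊤)).op s
    | ⟨false⟩ => 0
  have hc : TopCat.Presheaf.IsCompatible F.obj V sf := by
    rintro ⟨_ | _⟩ ⟨_ | _⟩
    · rfl
    · show F.obj.map _ (0 : F.obj.obj (op U')) = F.obj.map _ (F.obj.map _ s)
      rw [map_zero]
      refine Eq.symm ((SuppFamLib.res_res F (le_top : U ≤ ⊤) inf_le_right s).trans ?_)
      rw [← SuppFamLib.res_res F (le_top : U ⊓ U' ≤ ⊤) (le_inf inf_le_right inf_le_left : U' ⊓ U ≤ U ⊓ U'), hs, map_zero]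
    · show F.obj.map _ (F.obj.map _ s) = F.obj.map _ (0 : F.obj.obj (op U'))
      rw [map_zero]
      refine (SuppFamLib.res_res F (le_top : U ≤ ⊤) inf_le_left s).trans ?_
      exact hs
    · rfl
  obtain ⟨g, hg, -⟩ := TopCat.Sheaf.existsUnique_gluing F V sf hc
  obtain ⟨t, rfl⟩ := (AddCommGrpCat.epi_iff_surjective (F.obj.map (homOfLE (le_top : iSup V ≤ ⊤)).op)).1
    (TopCat.Presheaf.IsFlasque.epi _) g
  exact ⟨t, (SuppFamLib.res_res F (le_top : iSup V ≤ ⊤) (le_iSup V ⟨true⟩) t).symm.trans (hg ⟨true⟩),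
    (SuppFamLib.res_res F (le_top : iSup V ≤ ⊤) (le_iSup V ⟨false⟩) t).symm.trans (hg ⟨false⟩)⟩

theorem mono_f : Mono (seq U U').f := by
  have h0 : ∀ (F : CohTop.Ab X), Injective F → ∀ φ : Q (U ⊓ U') ⟶ F, ∃ ψ, (seq U U').f ≫ ψ = φ := by
    intro F hF φ
    haveI := SiteBase.isFlasque_of_injective F
    obtain ⟨t, ht, ht'⟩ := exists_glue U U' F (ev φ) (res_ev φ)
    obtain ⟨a, ha⟩ := exists_ev (U := U) (ev φ - t) (by rw [map_sub, ht, sub_self])
    obtain ⟨b, hb⟩ := exists_ev (U := U') (-t) (by rw [map_neg, ht', neg_zero])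
    refine ⟨biprod.desc a b, ev_injective ?_⟩
    rw [biprod.lift_desc, ev_add, Preadditive.neg_comp, ev_neg, ev_q, ev_q, ha, hb, neg_neg, sub_add_cancel]
  obtain ⟨ψ, hψ⟩ := h0 _ inferInstance (Injective.ι (Q (U ⊓ U')))
  haveI : Mono ((seq U U').f ≫ ψ) := hψ ▸ Injective.ι_mono _
  exact mono_of_mono (seq U U').f ψ

theorem shortExact : (seq U U').ShortExact := by
  haveI := mono_f U U'
  have hepi : Epi (seq U U').g := by
    refine Preadditive.epi_of_cancel_zero _ fun {F} φ hφ => ev_injective ?_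
    have h := congrArg (fun z => biprod.inl ≫ z) hφ
    simp only [biprod.inl_desc_assoc, comp_zero] at h
    rw [← ev_q (le_sup_left : U ≤ U ⊔ U'), h, ev_zero, ev_zero]
  refine { exact := ?_, mono_f := inferInstance, epi_g := hepi }
  refine ShortComplex.exact_of_g_is_cokernel _ (CokernelCofork.IsColimit.ofπ' _ _ fun {F} k₀ hk₀ => ?_)
  let k : Q U ⊞ Q U' ⟶ F := k₀
  have hk : biprod.lift (q (inf_le_left : U ⊓ U' ≤ U)) (-q (inf_le_right : U ⊓ U' ≤ U')) ≫ k = 0 := hk₀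
  have h1 : ev ((biprod.inl ≫ k : Q U ⟶ F)) = ev ((biprod.inr ≫ k : Q U' ⟶ F)) := by
    have h := congrArg ev hk
    rw [ev_zero] at h
    have hkd : k = biprod.desc (biprod.inl ≫ k) (biprod.inr ≫ k) :=
      biprod.hom_ext' _ _ (biprod.inl_desc _ _).symm (biprod.inr_desc _ _).symm
    rw [hkd] at h
    rw [biprod.lift_desc, ev_add, Preadditive.neg_comp, ev_neg, ev_q, ev_q] at h
    exact sub_eq_zero.1 ((sub_eq_add_neg _ _).trans h)
  have hex : ∃ l : Q (U ⊔ U') ⟶ F, ev l = ev ((biprod.inl ≫ k : Q U ⟶ F)) := by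
    refine exists_ev _ (eq_zero_of_cover F (le_sup_left : U ≤ U ⊔ U') le_sup_right le_rfl _ ?_ ?_)
    · rw [SuppFamLib.res_res]
      exact res_ev _
    · rw [SuppFamLib.res_res, h1]
      exact res_ev _
  refine ⟨hex.choose, biprod.hom_ext' _ _ ?_ ?_⟩
  · rw [biprod.inl_desc_assoc]
    exact ev_injective ((ev_q _ _).trans hex.choose_spec)
  · rw [biprod.inr_desc_assoc]
    exact ev_injective ((ev_q _ _).trans (hex.choose_spec.trans h1))

section LES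

open Abelian

variable (F : CohTop.Ab X) (i : ℕ)

/-- A pair of classes as a class on the biproduct. -/
def pairCls (a : LocCohZ.HZc F i U) (b : LocCohZ.HZc F i U') : Ext.{u} (Q U ⊞ Q U') F i :=
  (Ext.mk₀ biprod.fst).comp a (zero_add i) + (Ext.mk₀ biprod.snd).comp b (zero_add i)

/-- The first component. -/
def c1 (z : Ext.{u} (Q U ⊞ Q U') F i) : LocCohZ.HZc F i U := (Ext.mk₀ biprod.inl).comp z (zero_add i)

/-- The second component. -/
def c2 (z : Ext.{u} (Q U ⊞ Q U') F i) : LocCohZ.HZc F i U' := (Ext.mk₀ biprod.inr).comp z (zero_add i)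

theorem pairCls_c (z : Ext.{u} (Q U ⊞ Q U') F i) : pairCls U U' F i (c1 U U' F i z) (c2 U U' F i z) = z := by
  rw [pairCls, c1, c2, Ext.mk₀_comp_mk₀_assoc, Ext.mk₀_comp_mk₀_assoc, ← Ext.add_comp, ← Ext.mk₀_add,
    biprod.total, Ext.mk₀_id_comp]

theorem c1_pairCls (a : LocCohZ.HZc F i U) (b : LocCohZ.HZc F i U') : c1 U U' F i (pairCls U U' F i a b) = a := by
  rw [pairCls, c1, Ext.comp_add, Ext.mk₀_comp_mk₀_assoc, Ext.mk₀_comp_mk₀_assoc, biprod.inl_fst, biprod.inl_snd,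
    Ext.mk₀_zero, Ext.zero_comp, Ext.mk₀_id_comp, add_zero]

theorem c2_pairCls (a : LocCohZ.HZc F i U) (b : LocCohZ.HZc F i U') : c2 U U' F i (pairCls U U' F i a b) = b := by
  rw [pairCls, c2, Ext.comp_add, Ext.mk₀_comp_mk₀_assoc, Ext.mk₀_comp_mk₀_assoc, biprod.inr_fst, biprod.inr_snd,
    Ext.mk₀_zero, Ext.zero_comp, Ext.mk₀_id_comp, zero_add]

/-- The difference map `(y, y') ↦ s y - s' y'`. -/
abbrev diff (a : LocCohZ.HZc F i U) (b : LocCohZ.HZc F i U') : LocCohZ.HZc F i (U ⊓ U') :=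
  LocCohZ.resZ F i (le_top : U ≤ ⊤) (le_top : U ⊓ U' ≤ ⊤) inf_le_left le_rfl a -
    LocCohZ.resZ F i (le_top : U' ≤ ⊤) (le_top : U ⊓ U' ≤ ⊤) inf_le_right le_rfl b

theorem f_pairCls (a : LocCohZ.HZc F i U) (b : LocCohZ.HZc F i U') :
    (Ext.mk₀ (seq U U').f).comp (pairCls U U' F i a b) (zero_add i) = diff U U' F i a b := by
  change _ = (Ext.mk₀ (q (inf_le_left : U ⊓ U' ≤ U))).comp a (zero_add i) -
    (Ext.mk₀ (q (inf_le_right : U ⊓ U' ≤ U'))).comp b (zero_add i)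
  rw [pairCls, Ext.comp_add, Ext.mk₀_comp_mk₀_assoc, Ext.mk₀_comp_mk₀_assoc, biprod.lift_fst, biprod.lift_snd,
    Ext.mk₀_neg, Ext.neg_comp, ← sub_eq_add_neg]

theorem g_eq_pairCls (x : LocCohZ.HZc F i (U ⊔ U')) :
    (Ext.mk₀ (seq U U').g).comp x (zero_add i) = pairCls U U' F i
      (LocCohZ.resZ F i (le_top : U ⊔ U' ≤ ⊤) (le_top : U ≤ ⊤) le_sup_left le_rfl x)
      (LocCohZ.resZ F i (le_top : U ⊔ U' ≤ ⊤) (le_top : U' ≤ ⊤) le_sup_right le_rfl x) := by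
  rw [← pairCls_c U U' F i ((Ext.mk₀ (seq U U').g).comp x (zero_add i)), c1, c2,
    Ext.mk₀_comp_mk₀_assoc, Ext.mk₀_comp_mk₀_assoc, biprod.inl_desc, biprod.inr_desc]
  rfl

theorem pairCls_eq_zero_iff (a : LocCohZ.HZc F i U) (b : LocCohZ.HZc F i U') :
    pairCls U U' F i a b = 0 ↔ a = 0 ∧ b = 0 := by
  refine ⟨fun h => ⟨?_, ?_⟩, fun ⟨h1, h2⟩ => ?_⟩
  · rw [← c1_pairCls U U' F i a b, h, c1, Ext.comp_zero]
  · rw [← c2_pairCls U U' F i a b, h, c2, Ext.comp_zero]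
  · rw [pairCls, h1, h2, Ext.comp_zero, Ext.comp_zero, add_zero]

/-- The connecting map. -/
def δ : LocCohZ.HZc F i (U ⊓ U') →+ LocCohZ.HZc F (i + 1) (U ⊔ U') :=
  (shortExact U U').extClass.precomp F (by omega)

theorem exact₂ (a : LocCohZ.HZc F i U) (b : LocCohZ.HZc F i U') :
    diff U U' F i a b = 0 ↔ ∃ x : LocCohZ.HZc F i (U ⊔ U'),
      LocCohZ.resZ F i (le_top : U ⊔ U' ≤ ⊤) (le_top : U ≤ ⊤) le_sup_left le_rfl x = a ∧
      LocCohZ.resZ F i (le_top : U ⊔ U' ≤ ⊤) (le_top : U' ≤ ⊤) le_sup_right le_rfl x = b := by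
  rw [← f_pairCls]
  constructor
  · intro h
    obtain ⟨x, hx⟩ := Ext.contravariant_sequence_exact₂ (shortExact U U') F _ h
    rw [g_eq_pairCls] at hx
    refine ⟨x, ?_, ?_⟩
    · simpa only [c1_pairCls] using congrArg (c1 U U' F i) hx
    · simpa only [c2_pairCls] using congrArg (c2 U U' F i) hx
  · rintro ⟨x, rfl, rfl⟩
    rw [← g_eq_pairCls, Ext.mk₀_comp_mk₀_assoc, (seq U U').zero, Ext.mk₀_zero, Ext.zero_comp]

theorem exact₁ (w : LocCohZ.HZc F i (U ⊓ U')) :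
    δ U U' F i w = 0 ↔ ∃ y : LocCohZ.HZc F i U × LocCohZ.HZc F i U', diff U U' F i y.1 y.2 = w := by
  constructor
  · intro h
    obtain ⟨z, hz⟩ := Ext.contravariant_sequence_exact₁ (shortExact U U') F w (by omega) h
    refine ⟨(c1 U U' F i z, c2 U U' F i z), ?_⟩
    rw [← f_pairCls, pairCls_c]
    exact hz
  · rintro ⟨y, rfl⟩
    change (shortExact U U').extClass.comp (diff U U' F i y.1 y.2) (show 1 + i = i + 1 by omega) = 0
    rw [← f_pairCls, (shortExact U U').extClass_comp_assoc]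

theorem exact₃ (x : LocCohZ.HZc F (i + 1) (U ⊔ U')) :
    (LocCohZ.resZ F (i + 1) (le_top : U ⊔ U' ≤ ⊤) (le_top : U ≤ ⊤) le_sup_left le_rfl x = 0 ∧
      LocCohZ.resZ F (i + 1) (le_top : U ⊔ U' ≤ ⊤) (le_top : U' ≤ ⊤) le_sup_right le_rfl x = 0) ↔
      ∃ w : LocCohZ.HZc F i (U ⊓ U'), δ U U' F i w = x := by
  constructor
  · intro h
    exact Ext.contravariant_sequence_exact₃ (shortExact U U') F x
      ((g_eq_pairCls U U' F (i + 1) x).trans ((pairCls_eq_zero_iff U U' F (i + 1) _ _).2 h)) (by omega)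
  · rintro ⟨w, rfl⟩
    refine (pairCls_eq_zero_iff U U' F (i + 1) _ _).1 ((g_eq_pairCls U U' F (i + 1) _).symm.trans ?_)
    change (Ext.mk₀ (seq U U').g).comp ((shortExact U U').extClass.comp w (show 1 + i = i + 1 by omega)) _ = 0
    rw [← Ext.comp_assoc (Ext.mk₀ (seq U U').g) (shortExact U U').extClass w (zero_add 1) _ (by omega),
      (shortExact U U').comp_extClass, Ext.zero_comp]

theorem injective_zero : Function.Injective fun x : LocCohZ.HZc F 0 (U ⊔ U') =>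
    (LocCohZ.resZ F 0 (le_top : U ⊔ U' ≤ ⊤) (le_top : U ≤ ⊤) le_sup_left le_rfl x,
     LocCohZ.resZ F 0 (le_top : U ⊔ U' ≤ ⊤) (le_top : U' ≤ ⊤) le_sup_right le_rfl x) := by
  intro x y h
  obtain ⟨φ, rfl⟩ := (Ext.mk₀_bijective _ _).2 x
  obtain ⟨ψ, rfl⟩ := (Ext.mk₀_bijective _ _).2 y
  have h' : (Ext.mk₀ (seq U U').g).comp (Ext.mk₀ φ) (zero_add 0) = (Ext.mk₀ (seq U U').g).comp (Ext.mk₀ ψ) (zero_add 0) := by
    rw [g_eq_pairCls, g_eq_pairCls]
    exact congrArg₂ (pairCls U U' F 0) (congrArg Prod.fst h) (congrArg Prod.snd h)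
  rw [Ext.mk₀_comp_mk₀, Ext.mk₀_comp_mk₀] at h'
  haveI := (shortExact U U').epi_g
  exact congrArg Ext.mk₀ ((cancel_epi (seq U U').g).1 ((Ext.mk₀_bijective _ _).1 h'))

end LES

end Groth.Agent.GrLib8.SuppMV
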