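import Groth.Agent.GrLib8.SyzLen

/-!
# Uniqueness of minimal resolutions: graded Betti numbers
-/

set_option autoImplicit false
set_option linter.unusedSectionVars false

universe u

open DirectSum

namespace Groth.Agent.GrLib8

variable {R : Type u} [CommRing R] [IsNoetherianRing R] {σ : Type u} [SetLike σ R] [AddSubgroupClass σ R]
  {𝒜 : ℤ → σ} [GradedRing 𝒜] (hpos : ∀ n < 0, ∀ r ∈ 𝒜 n, r = 0)

include hpos

/-- Lifting a degree-zero map to the minimal covers. -/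
theorem exists_cover_lift {n n' : ℕ} {e : Fin n → ℤ} {e' : Fin n' → ℤ} {Z Z' : GrLC.GMod.{u} 𝒜}
    (p : (freeGMod (𝒜 := 𝒜) e).carrier →ₗ[R] Z.carrier) (hp : GrLC.IsGrHomDeg (freeGMod (𝒜 := 𝒜) e).gr Z.gr p 0)
    (p' : (freeGMod (𝒜 := 𝒜) e').carrier →ₗ[R] Z'.carrier) (hp' : GrLC.IsGrHomDeg (freeGMod (𝒜 := 𝒜) e').gr Z'.gr p' 0)
    (hs' : Function.Surjective p') (θ : Z.carrier →ₗ[R] Z'.carrier) (hθ : GrLC.IsGrHomDeg Z.gr Z'.gr θ 0) :
    ∃ φ : (freeGMod (𝒜 := 𝒜) e).carrier →ₗ[R] (freeGMod (𝒜 := 𝒜) e').carrier,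
      GrLC.IsGrHomDeg (freeGMod (𝒜 := 𝒜) e).gr (freeGMod (𝒜 := 𝒜) e').gr φ 0 ∧ p' ∘ₗ φ = θ ∘ₗ p := by
  classical
  have hsingle : ∀ b : Fin n, (Pi.single b 1 : Fin n → R) ∈ (freeGMod (𝒜 := 𝒜) e).gr (e b) := fun b j _ => by
    show Pi.single (M := fun _ : Fin n => R) b 1 j ∈ 𝒜 (e b - e j)
    rcases eq_or_ne j b with rfl | hj
    · rw [Pi.single_eq_same, sub_self]; exact SetLike.one_mem_graded 𝒜
    · rw [Pi.single_eq_of_ne hj]; exact zero_mem _
  have hex : ∀ b : Fin n, ∃ w ∈ (freeGMod (𝒜 := 𝒜) e').gr (e b), p' w = θ (p (Pi.single b 1 : Fin n → R)) := fun b => by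
    have h := hθ _ _ (hp _ _ (hsingle b))
    rw [add_zero, add_zero] at h
    obtain ⟨w, hw, hwe⟩ := exists_preimage_mem p' hp' h (hs' _)
    rw [sub_zero] at hw
    exact ⟨w, hw, hwe⟩
  choose w hw hwe using hex
  let φ : (freeGMod (𝒜 := 𝒜) e).carrier →ₗ[R] (freeGMod (𝒜 := 𝒜) e').carrier := Fintype.linearCombination R w
  refine ⟨φ, isGrHomDeg_linComb w hw, ?_⟩
  have key : ((p' ∘ₗ φ : _ →ₗ[R] Z'.carrier) : (Fin n → R) →ₗ[R] Z'.carrier) = (θ ∘ₗ p : _ →ₗ[R] Z'.carrier) := by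
    refine (Pi.basisFun R (Fin n)).ext fun b => ?_
    rw [Pi.basisFun_apply]
    show p' (Fintype.linearCombination R w (Pi.single b 1)) = θ (p (Pi.single b 1 : Fin n → R))
    rw [Fintype.linearCombination_apply_single, one_smul, hwe]
  exact key

/-- A degree-zero endomorphism congruent to the identity modulo the irrelevant ideal is bijective. -/
theorem bijective_of_sub_id {F : GrLC.GMod.{u} 𝒜} [Module.Finite R F.carrier] (χ : F.carrier →ₗ[R] F.carrier)
    (hχ : GrLC.IsGrHomDeg F.gr F.gr χ 0)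
    (h : ∀ v, χ v - v ∈ (GrSyz.irrel 𝒜).toIdeal • (⊤ : Submodule R F.carrier)) : Function.Bijective χ := by
  have hsurj : Function.Surjective χ := by
    refine LinearMap.range_eq_top.1 (eq_top_of_sup_irrel 𝒜 hpos F.gr _
      (isHomogeneous_range F.gr F.gr (isGrHomDeg_zero_iff.1 hχ)) (eq_top_iff.2 fun v _ => ?_))
    rw [show v = χ v + -(χ v - v) by abel]
    exact Submodule.add_mem_sup ⟨v, rfl⟩ (Submodule.neg_mem _ (h v))
  exact ⟨OrzechProperty.injective_of_surjective_endomorphism χ hsurj, hsurj⟩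

/-- Covers with minimal kernels over isomorphic modules: the kernels are isomorphic and so are the covers. -/
theorem exists_cover_iso [Nontrivial R] {n n' : ℕ} {e : Fin n → ℤ} {e' : Fin n' → ℤ} {Z Z' K K' : GrLC.GMod.{u} 𝒜}
    (p : (freeGMod (𝒜 := 𝒜) e).carrier →ₗ[R] Z.carrier) (hp : GrLC.IsGrHomDeg (freeGMod (𝒜 := 𝒜) e).gr Z.gr p 0)
    (hs : Function.Surjective p)
    (p' : (freeGMod (𝒜 := 𝒜) e').carrier →ₗ[R] Z'.carrier) (hp' : GrLC.IsGrHomDeg (freeGMod (𝒜 := 𝒜) e').gr Z'.gr p' 0)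
    (hs' : Function.Surjective p')
    (j : K.carrier →ₗ[R] (freeGMod (𝒜 := 𝒜) e).carrier) (hj : GrLC.IsGrHomDeg K.gr (freeGMod (𝒜 := 𝒜) e).gr j 0)
    (hji : Function.Injective j) (hex : Function.Exact j p)
    (j' : K'.carrier →ₗ[R] (freeGMod (𝒜 := 𝒜) e').carrier) (hj' : GrLC.IsGrHomDeg K'.gr (freeGMod (𝒜 := 𝒜) e').gr j' 0)
    (hji' : Function.Injective j') (hex' : Function.Exact j' p')
    (hmin : ∀ v : Fin n → R, p v = 0 → ∀ b, v b ∈ (GrSyz.irrel 𝒜).toIdeal)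
    (hmin' : ∀ v : Fin n' → R, p' v = 0 → ∀ b, v b ∈ (GrSyz.irrel 𝒜).toIdeal)
    (θ : Z.carrier ≃ₗ[R] Z'.carrier) (hθ : GrLC.IsGrHomDeg Z.gr Z'.gr θ.toLinearMap 0)
    (hθ' : GrLC.IsGrHomDeg Z'.gr Z.gr θ.symm.toLinearMap 0) :
    (∀ g, (Finset.univ.filter fun b => e b = g).card = (Finset.univ.filter fun b => e' b = g).card) ∧
      ∃ κ : K.carrier ≃ₗ[R] K'.carrier, GrLC.IsGrHomDeg K.gr K'.gr κ.toLinearMap 0 ∧
        GrLC.IsGrHomDeg K'.gr K.gr κ.symm.toLinearMap 0 := by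
  classical
  obtain ⟨φ, hφ, hφp⟩ := exists_cover_lift hpos p hp p' hp' hs' θ.toLinearMap hθ
  obtain ⟨ψ, hψ, hψp⟩ := exists_cover_lift hpos p' hp' p hp hs θ.symm.toLinearMap hθ'
  haveI : Module.Finite R (freeGMod (𝒜 := 𝒜) e).carrier := inferInstanceAs (Module.Finite R (Fin n → R))
  haveI : Module.Finite R (freeGMod (𝒜 := 𝒜) e').carrier := inferInstanceAs (Module.Finite R (Fin n' → R))
  have h1 : ∀ v, ψ (φ v) - v ∈ (GrSyz.irrel 𝒜).toIdeal • (⊤ : Submodule R (freeGMod (𝒜 := 𝒜) e).carrier) := fun v => by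
    refine mem_irrel_smul_top _ (hmin _ ?_)
    show p (ψ (φ v) - v) = 0
    have e1 := LinearMap.congr_fun hψp (φ v)
    have e2 := LinearMap.congr_fun hφp v
    simp only [LinearMap.comp_apply, LinearEquiv.coe_coe] at e1 e2
    rw [map_sub, e1, e2, LinearEquiv.symm_apply_apply, sub_self]
  have h2 : ∀ v, φ (ψ v) - v ∈ (GrSyz.irrel 𝒜).toIdeal • (⊤ : Submodule R (freeGMod (𝒜 := 𝒜) e').carrier) := fun v => by
    refine mem_irrel_smul_top _ (hmin' _ ?_)
    show p' (φ (ψ v) - v) = 0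
    have e1 := LinearMap.congr_fun hφp (ψ v)
    have e2 := LinearMap.congr_fun hψp v
    simp only [LinearMap.comp_apply, LinearEquiv.coe_coe] at e1 e2
    rw [map_sub, e1, e2, LinearEquiv.apply_symm_apply, sub_self]
  have b1 := bijective_of_sub_id hpos (ψ ∘ₗ φ) (isGrHomDeg_comp hφ hψ (add_zero 0)) h1
  have b2 := bijective_of_sub_id hpos (φ ∘ₗ ψ) (isGrHomDeg_comp hψ hφ (add_zero 0)) h2
  have hφb : Function.Bijective φ := ⟨Function.Injective.of_comp b1.1, Function.Surjective.of_comp b2.2⟩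
  constructor
  · -- reduce modulo the irrelevant ideal, degree by degree
    intro g
    let S := R ⧸ (GrSyz.irrel 𝒜).toIdeal
    haveI : Nontrivial S := Ideal.Quotient.nontrivial_iff.2 fun htop => by
      have h := (mem_irrel_iff 𝒜 hpos).1 (htop ▸ Submodule.mem_top : (1 : R) ∈ _)
      rw [decompose_of_mem_same 𝒜 (SetLike.one_mem_graded 𝒜)] at h
      exact one_ne_zero h
    let f : (Fin n → R) →ₗ[R] (Fin n' → R) := φ
    let f' : (Fin n' → R) →ₗ[R] (Fin n → R) := ψ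
    let α := {b : Fin n // e b = g}
    let β := {b : Fin n' // e' b = g}
    let mk := Ideal.Quotient.mk (GrSyz.irrel 𝒜).toIdeal
    let A : Matrix β α S := fun b a => mk (f (Pi.single a.1 1) b.1)
    let B : Matrix α β S := fun a b => mk (f' (Pi.single b.1 1) a.1)
    have hprod : ∀ {m m' : ℕ} {d : Fin m → ℤ} {d' : Fin m' → ℤ} (u : (Fin m → R) →ₗ[R] (Fin m' → R))
        (u' : (Fin m' → R) →ₗ[R] (Fin m → R)),
        (∀ a, (u (Pi.single a 1) : Fin m' → R) ∈ (freeGMod (𝒜 := 𝒜) d').gr (d a)) →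
        (∀ b, (u' (Pi.single b 1) : Fin m → R) ∈ (freeGMod (𝒜 := 𝒜) d).gr (d' b)) →
        (∀ v b, u' (u v) b - v b ∈ (GrSyz.irrel 𝒜).toIdeal) →
        (Matrix.of fun (a : {a // d a = g}) (b : {b // d' b = g}) => mk (u' (Pi.single b.1 1) a.1)) *
          (Matrix.of fun (b : {b // d' b = g}) (a : {a // d a = g}) => mk (u (Pi.single a.1 1) b.1)) =
          (1 : Matrix {a // d a = g} {a // d a = g} S) := by
      intro m m' d d' u u' hu hu' huu
      refine Matrix.ext fun a c => ?_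
      simp only [Matrix.mul_apply, Matrix.of_apply]
      have hsum : u' (u (Pi.single c.1 1)) a.1 = ∑ b, u (Pi.single c.1 1) b * u' (Pi.single b 1) a.1 := by
        conv_lhs => rw [pi_eq_sum_univ' (u (Pi.single c.1 1)), map_sum, Finset.sum_apply]
        refine Finset.sum_congr rfl fun b _ => ?_
        rw [map_smul, Pi.smul_apply, smul_eq_mul]
      have hzero : ∀ b, d' b ≠ g → mk (u (Pi.single c.1 1) b * u' (Pi.single b 1) a.1) = 0 := fun b hb => by
        have hm1 : u (Pi.single c.1 1) b ∈ 𝒜 (d c.1 - d' b) := hu c.1 b trivial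
        have hm2 : u' (Pi.single b 1) a.1 ∈ 𝒜 (d' b - d a.1) := hu' b a.1 trivial
        rw [c.2] at hm1
        rw [a.2] at hm2
        rcases lt_or_gt_of_ne hb with h | h
        · rw [hpos _ (by omega) _ hm2, mul_zero, map_zero]
        · rw [hpos _ (by omega) _ hm1, zero_mul, map_zero]
      have h3 : mk (u' (u (Pi.single c.1 1)) a.1) = (1 : Matrix {a // d a = g} {a // d a = g} S) a c := by
        rw [Ideal.Quotient.eq.2 (huu (Pi.single c.1 1) a.1), Matrix.one_apply]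
        rcases eq_or_ne a c with rfl | hac
        · rw [if_pos rfl, Pi.single_eq_same, map_one]
        · rw [if_neg hac, Pi.single_eq_of_ne (fun h => hac (Subtype.ext h)), map_zero]
      rw [← h3, hsum, map_sum, ← Fintype.sum_subtype_add_sum_subtype (fun b => d' b = g)]
      rw [Finset.sum_eq_zero (s := (Finset.univ : Finset {b // ¬ d' b = g})) (fun b _ => hzero b.1 b.2), add_zero]
      exact Finset.sum_congr rfl fun b _ => by rw [map_mul, mul_comm]
    have hsingle : ∀ {m : ℕ} (d : Fin m → ℤ) (a : Fin m), (Pi.single a 1 : Fin m → R) ∈ (freeGMod (𝒜 := 𝒜) d).gr (d a) := by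
      intro m d a i _
      show Pi.single (M := fun _ : Fin m => R) a 1 i ∈ 𝒜 (d a - d i)
      rcases eq_or_ne i a with rfl | hi
      · rw [Pi.single_eq_same, sub_self]; exact SetLike.one_mem_graded 𝒜
      · rw [Pi.single_eq_of_ne hi]; exact zero_mem _
    have hfa : ∀ a, f (Pi.single a 1) ∈ (freeGMod (𝒜 := 𝒜) e').gr (e a) := fun a => by
      have := hφ _ _ (hsingle e a); rwa [add_zero] at this
    have hfb : ∀ b, f' (Pi.single b 1) ∈ (freeGMod (𝒜 := 𝒜) e).gr (e' b) := fun b => by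
      have := hψ _ _ (hsingle e' b); rwa [add_zero] at this
    have hsub : ∀ {m : ℕ} (w : Fin m → R), w ∈ (GrSyz.irrel 𝒜).toIdeal • (⊤ : Submodule R (Fin m → R)) →
        ∀ b, w b ∈ (GrSyz.irrel 𝒜).toIdeal := by
      intro m w hw
      refine Submodule.smul_induction_on hw (fun r hr x _ b => Ideal.mul_mem_right _ _ hr)
        (fun x y hx hy b => add_mem (hx b) (hy b))
    have hBA : B * A = 1 := hprod f f' hfa hfb fun v b => hsub _ (h1 v) b
    have hAB : A * B = 1 := hprod f' f hfb hfa fun v b => hsub _ (h2 v) b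
    have hcard := card_eq_of_linearEquiv S (LinearEquiv.ofLinearMap (Matrix.toLin' A) (Matrix.toLin' B)
      (by rw [← Matrix.toLin'_mul, hAB, Matrix.toLin'_one]) (by rw [← Matrix.toLin'_mul, hBA, Matrix.toLin'_one]))
    simpa [α, β, Fintype.card_subtype] using hcard
  · have hmaps : ∀ k, φ (j k) ∈ LinearMap.range j' := fun k => (hex' _).1 (by
      have e2 := LinearMap.congr_fun hφp (j k)
      simp only [LinearMap.comp_apply] at e2
      rw [e2, (hex _).2 ⟨k, rfl⟩, map_zero])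
    let ej' := LinearEquiv.ofInjective j' hji'
    let κ : K.carrier →ₗ[R] K'.carrier := ej'.symm.toLinearMap ∘ₗ (φ ∘ₗ j).codRestrict _ hmaps
    have hκ : ∀ k, j' (κ k) = φ (j k) := fun k =>
      congrArg Subtype.val (ej'.apply_symm_apply ⟨φ (j k), hmaps k⟩)
    have hκb : Function.Bijective κ := by
      refine ⟨fun x y hxy => hji (hφb.1 ?_), fun k' => ?_⟩
      · rw [← hκ, ← hκ, hxy]
      · obtain ⟨v, hv⟩ := hφb.2 (j' k')
        have hpv : p v = 0 := by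
          have e2 := LinearMap.congr_fun hφp v
          simp only [LinearMap.comp_apply, LinearEquiv.coe_coe] at e2
          rw [hv, (hex' _).2 ⟨k', rfl⟩] at e2
          exact θ.injective (e2.symm.trans (map_zero θ).symm)
        obtain ⟨k, rfl⟩ := (hex v).1 hpv
        exact ⟨k, hji' ((hκ k).trans hv)⟩
    have hκg : GrLC.IsGrHomDeg K.gr K'.gr κ 0 := fun i k hk => by
      obtain ⟨k', hk', hk'e⟩ := exists_preimage_mem j' hj' (hφ _ _ (hj i k hk)) ⟨κ k, hκ k⟩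
      rw [sub_zero, add_zero, add_zero] at hk'
      rw [add_zero, ← hji' (hk'e.trans (hκ k).symm)]
      exact hk'
    refine ⟨LinearEquiv.ofBijective κ hκb, hκg, fun i k' hk' => ?_⟩
    obtain ⟨k, hk, hke⟩ := exists_preimage_mem κ hκg hk' (hκb.2 k')
    rw [sub_zero] at hk
    rw [add_zero, ← hke]
    show (LinearEquiv.ofBijective κ hκb).symm (κ k) ∈ _
    rw [show κ k = LinearEquiv.ofBijective κ hκb k from rfl, LinearEquiv.symm_apply_apply]
    exact hk

variable {M : Type u} [AddCommGroup M] [Module R M] {τ : Type u} [SetLike τ M] [AddSubgroupClass τ M] {ℳ : ℤ → τ}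
  [Decomposition ℳ] [SetLike.GradedSMul 𝒜 ℳ]

/-- Graded Betti numbers do not depend on the minimal resolution. -/
theorem betti_eq [Nontrivial R] (F F' : GrSyz.FreeRes 𝒜 ℳ) (hF : F.IsMinimal (GrSyz.irrel 𝒜).toIdeal)
    (hF' : F'.IsMinimal (GrSyz.irrel 𝒜).toIdeal) (i : ℕ) (g : ℤ) : F.betti i g = F'.betti i g := by
  classical
  obtain ⟨K, j, p₀, p, hj, ⟨hp₀, hs₀, hx₀⟩, hp, hm⟩ := exists_syz F
  obtain ⟨hm₀, hm⟩ := hm hF
  obtain ⟨K', j', p₀', p', hj', ⟨hp₀', hs₀', hx₀'⟩, hp', hm'⟩ := exists_syz F'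
  obtain ⟨hm₀', hm'⟩ := hm' hF'
  have hid : GrLC.IsGrHomDeg (gmodPieces 𝒜 ℳ).gr (gmodPieces 𝒜 ℳ).gr
      (LinearEquiv.refl R (gmodPieces 𝒜 ℳ).carrier).toLinearMap 0 := fun l m hm => by rw [add_zero]; exact hm
  have h0 := exists_cover_iso hpos p₀ hp₀ hs₀ p₀' hp₀' hs₀' (j 0) (hj 0).1 (hj 0).2 hx₀ (j' 0) (hj' 0).1 (hj' 0).2 hx₀'
    hm₀ hm₀' (LinearEquiv.refl R _) hid hid
  have hrec : ∀ i, ∃ κ : (K i).carrier ≃ₗ[R] (K' i).carrier, GrLC.IsGrHomDeg (K i).gr (K' i).gr κ.toLinearMap 0 ∧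
      GrLC.IsGrHomDeg (K' i).gr (K i).gr κ.symm.toLinearMap 0 := by
    intro i
    induction i with
    | zero => exact h0.2
    | succ i ih =>
      obtain ⟨κ, h1, h2⟩ := ih
      exact (exists_cover_iso hpos (p i) (hp i).1 (hp i).2.1 (p' i) (hp' i).1 (hp' i).2.1 (j (i + 1)) (hj _).1 (hj _).2
        (hp i).2.2 (j' (i + 1)) (hj' _).1 (hj' _).2 (hp' i).2.2 (hm i) (hm' i) κ h1 h2).2
  rcases i with _ | i
  · exact h0.1 g
  · obtain ⟨κ, h1, h2⟩ := hrec i
    exact (exists_cover_iso hpos (p i) (hp i).1 (hp i).2.1 (p' i) (hp' i).1 (hp' i).2.1 (j (i + 1)) (hj _).1 (hj _).2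
        (hp i).2.2 (j' (i + 1)) (hj' _).1 (hj' _).2 (hp' i).2.2 (hm i) (hm' i) κ h1 h2).1 g

end Groth.Agent.GrLib8
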