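import Groth.Agent.LC.HlvtMain
import Groth.Agent.LC.TopDim3
import Groth.Agent.LC.Matlis
import Groth.Agent.LC.CanonSupport
import Groth.Agent.S3262

/-!
# The top local cohomology over a complete local ring: vanishing and coassociated primes
-/

set_option autoImplicit false

universe u

open CategoryTheory IsLocalRing
open scoped Pointwise

namespace Groth.Agent.GrLib8.TopAtt

variable {R : Type u} [CommRing R] [IsNoetherianRing R] [IsLocalRing R] (I : Ideal R) (n : ℕ)

/-- The map induced on `H^n_I`. -/
noncomputable def hmap {M N : Type u} [AddCommGroup M] [Module R M] [AddCommGroup N] [Module R N] (g : M →ₗ[R] N) :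
    LocCoh.H I n M →ₗ[R] LocCoh.H I n N :=
  ((localCohomology I n).map (ModuleCat.ofHom g)).hom

theorem hmap_smul {M : Type u} [AddCommGroup M] [Module R M] (a : R) (z : LocCoh.H I n M) :
    hmap I n (a • LinearMap.id : M →ₗ[R] M) z = a • z := by
  obtain ⟨k, y, rfl⟩ := LC.exists_toH I n (M := ModuleCat.of R M) z
  refine (LC.toH_natural I n (M := ModuleCat.of R M) (ModuleCat.ofHom (a • LinearMap.id)) y).trans ?_
  exact (congrArg _ (Abelian.Ext.smul_eq_comp_mk₀ y a).symm).trans (map_smul _ a y)

theorem smul_eq_zero_of_kill {M : Type u} [AddCommGroup M] [Module R M] {a : R} (h : ∀ m : M, a • m = 0)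
    (z : LocCoh.H I n M) : a • z = 0 := by
  rw [← hmap_smul, show (a • LinearMap.id : M →ₗ[R] M) = 0 from LinearMap.ext h]
  show ((localCohomology I n).map (ModuleCat.ofHom (0 : M →ₗ[R] M))).hom z = 0
  rw [ModuleCat.ofHom_zero]
  obtain ⟨k, y, rfl⟩ := LC.exists_toH I n (M := ModuleCat.of R M) z
  rw [LC.toH_natural, Abelian.Ext.mk₀_zero, Abelian.Ext.comp_zero, map_zero]

/-- Right exactness in the top degree. -/
theorem right_exact {M₁ M₂ M₃ : Type u} [AddCommGroup M₁] [Module R M₁] [Module.Finite R M₁]
    [AddCommGroup M₂] [Module R M₂] [AddCommGroup M₃] [Module R M₃]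
    (f : M₁ →ₗ[R] M₂) (g : M₂ →ₗ[R] M₃) (hf : Function.Injective f) (hg : Function.Surjective g)
    (hfg : Function.Exact f g) (hd : Module.supportDim R M₁ < ((n + 1 : ℕ) : WithBot ℕ∞)) :
    Function.Exact (hmap I n f) (hmap I n g) ∧ Function.Surjective (hmap I n g) := by
  let S : ShortComplex (ModuleCat.{u} R) := ShortComplex.mk (ModuleCat.ofHom f) (ModuleCat.ofHom g)
    (ModuleCat.hom_ext (LinearMap.ext hfg.apply_apply_eq_zero))
  have hS : S.ShortExact :=
    { exact := (ShortComplex.ShortExact.moduleCat_exact_iff_function_exact _).2 hfg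
      mono_f := (ModuleCat.mono_iff_injective _).2 hf
      epi_g := (ModuleCat.epi_iff_surjective _).2 hg }
  refine ⟨LC.exact₂ I n hS, fun z => ?_⟩
  have := LC.subsingleton_H_of_supportDim_lt I M₁ (n + 1) hd
  exact (LC.exact₃ I n hS (n + 1) rfl z).1
    (Subsingleton.elim (α := (localCohomology I (n + 1)).obj (ModuleCat.of R M₁)) _ _)

theorem subsingleton_of_eq_top {M : Type u} [AddCommGroup M] [Module R M] (h : I = ⊤) :
    Subsingleton (LocCoh.H I n M) := by
  subst h
  refine subsingleton_of_forall_eq 0 fun z => ?_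
  obtain ⟨k, x, rfl⟩ := LC.exists_toH ⊤ n z
  have : Subsingleton (LC.qObj (⊤ : Ideal R) k) :=
    Submodule.Quotient.subsingleton_iff.2 (Ideal.top_pow R k)
  have h0 : CategoryTheory.CategoryStruct.id (LC.qObj (⊤ : Ideal R) k) = 0 :=
    ModuleCat.hom_ext (LinearMap.ext fun q => Subsingleton.elim _ _)
  rw [← CategoryTheory.Abelian.Ext.mk₀_id_comp x, h0, CategoryTheory.Abelian.Ext.mk₀_zero,
    CategoryTheory.Abelian.Ext.zero_comp, map_zero]

theorem one_le_dim_quot {J : Ideal R} (hJ : J ≤ maximalIdeal R) (h : J.radical ≠ maximalIdeal R) :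
    1 ≤ ringKrullDim (R ⧸ J) := by
  obtain ⟨q, hJq, hq, hqm⟩ : ∃ q : Ideal R, J ≤ q ∧ q.IsPrime ∧ q ≠ maximalIdeal R := by
    by_contra hc
    push_neg at hc
    refine h ((Ideal.radical_eq_sInf J).trans (le_antisymm
      (sInf_le ⟨hJ, (maximalIdeal.isMaximal R).isPrime⟩) (le_sInf fun q hq => (hc q hq.1 hq.2).ge)))
  rw [ringKrullDim_quotient]
  let x : PrimeSpectrum.zeroLocus (R := R) (J : Set R) := ⟨⟨q, hq⟩, hJq⟩
  let y : PrimeSpectrum.zeroLocus (R := R) (J : Set R) :=
    ⟨⟨maximalIdeal R, (maximalIdeal.isMaximal R).isPrime⟩, hJ⟩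
  have hxy : x < y := lt_of_le_of_ne (le_maximalIdeal hq.ne_top) fun e => hqm (congrArg (fun z => z.1.asIdeal) e)
  have := Order.LTSeries.length_le_krullDim ((RelSeries.singleton _ x).snoc y hxy)
  exact le_trans (le_of_eq (by simp)) this

variable [IsAdicComplete (maximalIdeal R) R]

theorem prime_case (p : Ideal R) [p.IsPrime] (hd : ringKrullDim (R ⧸ p) ≤ (n : WithBot ℕ∞)) :
    Subsingleton (LocCoh.H I n (R ⧸ p)) ∨
      (ringKrullDim (R ⧸ p) = n ∧ (I ⊔ p).radical = maximalIdeal R) := by
  rcases hd.lt_or_eq with hlt | heq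
  · exact Or.inl (LC.subsingleton_H_of_supportDim_lt I (R ⧸ p) n
      (by rwa [Module.supportDim_quotient_eq_ringKrullDim]))
  rcases eq_or_ne I ⊤ with hI | hI
  · exact Or.inl (subsingleton_of_eq_top I n hI)
  by_cases hrad : (I ⊔ p).radical = maximalIdeal R
  · exact Or.inr ⟨heq, hrad⟩
  left
  have hle : I ⊔ p ≤ maximalIdeal R :=
    sup_le (le_maximalIdeal hI) (le_maximalIdeal (Ideal.IsPrime.ne_top inferInstance))
  let S := R ⧸ p
  have : IsLocalRing S := .of_surjective' _ Ideal.Quotient.mk_surjective
  have hcS : IsAdicComplete (maximalIdeal S) S := by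
    have h1 : IsAdicComplete (maximalIdeal R) S := Adic7.isAdicComplete_of_finite _ _
    rw [← map_maximalIdeal_of_surjective (algebraMap R S) Ideal.Quotient.mk_surjective]
    exact (IsAdicComplete.map_algebraMap_iff (S := S) (maximalIdeal R) S).mpr h1
  have hvan : Subsingleton ((localCohomology (I.map (algebraMap R S)) n).obj (ModuleCat.of S S)) := by
    refine LC.subsingleton_H_complete_domain heq _ ((one_le_dim_quot hle hrad).trans (le_of_eq ?_))
    exact ringKrullDim_eq_of_ringEquiv ((Ideal.quotEquivOfEq (sup_comm _ _)).trans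
      (DoubleQuot.quotQuotEquivQuotSup p I).symm)
  obtain ⟨φ, -⟩ := LC.exists_indep (R := R) (R' := S) I n S
  exact φ.symm.toEquiv.subsingleton

theorem mem_support_of_injective {M N : Type u} [AddCommGroup M] [Module R M] [AddCommGroup N] [Module R N]
    (f : M →ₗ[R] N) (hf : Function.Injective f) (p : Ideal R) (h : Module.annihilator R M ≤ p) :
    Module.annihilator R N ≤ p :=
  le_trans (f.annihilator_le_of_injective hf) h

/-- The top cohomology is killed by an ideal primary to the maximal one modulo `I`. -/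
theorem radical_sup_annihilator (M : Type u) [AddCommGroup M] [Module R M] [Module.Finite R M]
    (hM : Module.supportDim R M ≤ (n : WithBot ℕ∞)) :
    maximalIdeal R ≤ (I ⊔ Module.annihilator R (LocCoh.H I n M)).radical := by
  revert hM
  refine IsNoetherianRing.induction_on_isQuotientEquivQuotientPrime R (M := M) inferInstance
    (motive := fun N _ _ _ => Module.supportDim R N ≤ (n : WithBot ℕ∞) →
      maximalIdeal R ≤ (I ⊔ Module.annihilator R (LocCoh.H I n N)).radical) ?_ ?_ ?_
  · intro N _ _ _ _ _
    have : Module.annihilator R (LocCoh.H I n N) = ⊤ := by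
      refine (Ideal.eq_top_iff_one _).2 (Module.mem_annihilator.2 fun z => ?_)
      exact smul_eq_zero_of_kill I n (fun m => Subsingleton.elim _ _) z
    rw [this, sup_top_eq, Ideal.radical_top]
    exact le_top
  · intro N _ _ _ p e hd
    have hd' : ringKrullDim (R ⧸ p.1) ≤ (n : WithBot ℕ∞) := by
      rwa [← Module.supportDim_quotient_eq_ringKrullDim, ← Module.supportDim_eq_of_equiv e]
    let ε : LocCoh.H I n N ≃ₗ[R] LocCoh.H I n (R ⧸ p.1) :=
      ((localCohomology I n).mapIso e.toModuleIso).toLinearEquiv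
    rcases prime_case I n p.1 hd' with h | ⟨-, hrad⟩
    · have : Module.annihilator R (LocCoh.H I n N) = ⊤ :=
        (Ideal.eq_top_iff_one _).2 (Module.mem_annihilator.2 fun z => ε.injective (Subsingleton.elim _ _))
      rw [this, sup_top_eq, Ideal.radical_top]
      exact le_top
    · refine hrad.ge.trans (Ideal.radical_mono (sup_le_sup_left ?_ I))
      intro a ha
      refine Module.mem_annihilator.2 fun z => smul_eq_zero_of_kill I n (fun m => e.injective ?_) z
      rw [map_smul, map_zero]
      exact Module.mem_annihilator.1 (by rwa [Ideal.annihilator_quotient]) (e m)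
  · intro N₁ _ _ _ N₂ _ _ _ N₃ _ _ _ f g hf hg hfg h₁ h₃ hd
    have hd₁ := (Module.supportDim_le_of_injective f hf).trans hd
    obtain ⟨hex, -⟩ := right_exact I n f g hf hg hfg (hd₁.trans_lt (by exact_mod_cast Nat.lt_succ_self n))
    intro x hx
    obtain ⟨a, ha⟩ := h₁ hd₁ hx
    obtain ⟨b, hb⟩ := h₃ ((Module.supportDim_le_of_surjective g hg).trans hd) hx
    obtain ⟨i₁, hi₁, c₁, hc₁, e₁⟩ := Submodule.mem_sup.1 ha
    obtain ⟨i₃, hi₃, c₃, hc₃, e₃⟩ := Submodule.mem_sup.1 hb
    refine ⟨a + b, ?_⟩
    have e : x ^ (a + b) = (i₁ * x ^ b + c₁ * i₃) + c₁ * c₃ := by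
      rw [pow_add, ← e₁, ← e₃]; ring
    rw [e]
    refine Submodule.add_mem_sup (I.add_mem (I.mul_mem_right _ hi₁) (I.mul_mem_left _ hi₃)) ?_
    refine Module.mem_annihilator.2 fun z => ?_
    obtain ⟨w, hw⟩ := (hex (c₃ • z)).1 (by rw [map_smul]; exact Module.mem_annihilator.1 hc₃ _)
    rw [mul_smul, ← hw, ← map_smul, Module.mem_annihilator.1 hc₁, map_zero]

/-- Coassociated primes lie in the expected set. -/
theorem ass_subset {E : Type u} [AddCommGroup E] [Module R E] {f : ResidueField R →ₗ[R] E}
    (hf : InjHull.IsInjectiveHull f) (M : Type u) [AddCommGroup M] [Module R M] [Module.Finite R M]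
    (hM : Module.supportDim R M ≤ (n : WithBot ℕ∞)) :
    ∀ q ∈ associatedPrimes R (LocCoh.H I n M →ₗ[R] E), q.IsPrime ∧ Module.annihilator R M ≤ q ∧
      ringKrullDim (R ⧸ q) = n ∧ (I ⊔ q).radical = maximalIdeal R := by
  revert hM
  refine IsNoetherianRing.induction_on_isQuotientEquivQuotientPrime R (M := M) inferInstance
    (motive := fun N _ _ _ => Module.supportDim R N ≤ (n : WithBot ℕ∞) →
      ∀ q ∈ associatedPrimes R (LocCoh.H I n N →ₗ[R] E), q.IsPrime ∧ Module.annihilator R N ≤ q ∧
        ringKrullDim (R ⧸ q) = n ∧ (I ⊔ q).radical = maximalIdeal R) ?_ ?_ ?_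
  · intro N _ _ _ _ _ q hq
    have : Subsingleton (LocCoh.H I n N) := subsingleton_of_forall_eq 0 fun z => by
      rw [← one_smul R z]
      exact smul_eq_zero_of_kill I n (fun m => Subsingleton.elim _ _) z
    rw [associatedPrimes.eq_empty_of_subsingleton] at hq
    exact hq.elim
  · intro N _ _ _ p e hd q hq
    have hd' : ringKrullDim (R ⧸ p.1) ≤ (n : WithBot ℕ∞) := by
      rwa [← Module.supportDim_quotient_eq_ringKrullDim, ← Module.supportDim_eq_of_equiv e]
    let ε : LocCoh.H I n N ≃ₗ[R] LocCoh.H I n (R ⧸ p.1) :=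
      ((localCohomology I n).mapIso e.toModuleIso).toLinearEquiv
    rcases prime_case I n p.1 hd' with h | ⟨hdim, hrad⟩
    · have := ε.toEquiv.subsingleton
      rw [associatedPrimes.eq_empty_of_subsingleton] at hq
      exact hq.elim
    suffices hqp : q = p.1 by
      subst hqp
      exact ⟨inferInstance, fun a ha => by
        rw [← Ideal.annihilator_quotient (I := p.1), ← e.annihilator_eq]
        exact ha, hdim, hrad⟩
    obtain ⟨hqp', φ, hφ⟩ := (isAssociatedPrime_iff (M := LocCoh.H I n N →ₗ[R] E)).1 hq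
    have hmem : ∀ a, a ∈ q ↔ a • φ = 0 := fun a => by
      rw [hφ, Submodule.mem_colon_singleton, Submodule.mem_bot]
    refine le_antisymm (fun a ha => by_contra fun hap => ?_) fun a ha => (hmem a).2 ?_
    · have hφ0 : φ = 0 := by
        let m : (R ⧸ p.1) →ₗ[R] (R ⧸ p.1) := a • LinearMap.id
        have hm : Function.Injective m := by
          rw [injective_iff_map_eq_zero]
          intro y hy
          obtain ⟨r, rfl⟩ := Ideal.Quotient.mk_surjective y
          have h1 : Ideal.Quotient.mk p.1 (a * r) = 0 := hy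
          rw [Ideal.Quotient.eq_zero_iff_mem] at h1 ⊢
          exact (p.2.mem_or_mem h1).resolve_left hap
        have hC : Module.supportDim R ((R ⧸ p.1) ⧸ LinearMap.range m) < (n : WithBot ℕ∞) := by
          refine lt_of_lt_of_le ?_ hd'
          have hr : LinearMap.range m = a • (⊤ : Submodule R (R ⧸ p.1)) := by
            ext y
            rw [LinearMap.mem_range, Submodule.mem_smul_pointwise_iff_exists]
            exact ⟨fun ⟨z, hz⟩ => ⟨z, Submodule.mem_top, hz⟩, fun ⟨z, _, hz⟩ => ⟨z, hz⟩⟩
          rw [hr, ← Module.supportDim_quotient_eq_ringKrullDim p.1]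
          have hreg : IsSMulRegular (R ⧸ p.1) a := hm
          have ham : a ∈ maximalIdeal R := le_maximalIdeal hqp'.ne_top ha
          have h1 := Module.supportDim_quotSMulTop_succ_eq_supportDim_mem_jacobson hreg
            ((IsLocalRing.maximalIdeal_le_jacobson _) ham)
          have h2 : Module.supportDim R (R ⧸ p.1) ≠ ⊤ := by
            rw [Module.supportDim_quotient_eq_ringKrullDim, hdim]
            exact WithBot.coe_lt_coe.2 (ENat.natCast_lt_top n) |>.ne
          rw [Module.supportDim_quotient_eq_ringKrullDim, hdim] at h1 ⊢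
          change Module.supportDim R (QuotSMulTop a (R ⧸ p.1)) < _
          generalize Module.supportDim R (QuotSMulTop a (R ⧸ p.1)) = x at h1
          induction x with
          | bot => exact WithBot.bot_lt_coe _
          | coe x =>
            have h3 : x + 1 = (n : ℕ∞) := by exact_mod_cast h1
            rw [show ((n : WithBot ℕ∞)) = ((n : ℕ∞) : WithBot ℕ∞) from rfl, WithBot.coe_lt_coe]
            exact (ENat.add_one_le_iff (by intro hx; rw [hx] at h3; simp at h3)).1 h3.le
        have hsurj : Function.Surjective (hmap I n m) := fun z => by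
          have := LC.subsingleton_H_of_supportDim_lt I ((R ⧸ p.1) ⧸ LinearMap.range m) n hC
          exact ((right_exact I n m (LinearMap.range m).mkQ hm (Submodule.mkQ_surjective _)
            (LinearMap.exact_map_mkQ_range m) (by
              rw [Module.supportDim_quotient_eq_ringKrullDim, hdim]
              exact_mod_cast Nat.lt_succ_self n)).1 z).1
            (Subsingleton.elim (α := LocCoh.H I n ((R ⧸ p.1) ⧸ LinearMap.range m)) _ _)
        refine LinearMap.ext fun z => ?_
        obtain ⟨w, hw⟩ := hsurj (ε z)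
        rw [hmap_smul] at hw
        have hz : z = a • ε.symm w := ε.injective (by rw [map_smul, ε.apply_symm_apply, hw])
        have h0 := LinearMap.congr_fun ((hmem a).1 ha) (ε.symm w)
        rw [hz, map_smul]
        exact h0
      exact hqp'.ne_top ((Ideal.eq_top_iff_one q).2 ((hmem 1).2 (by rw [hφ0, smul_zero])))
    · refine LinearMap.ext fun z => ?_
      rw [LinearMap.smul_apply, ← map_smul, LinearMap.zero_apply]
      rw [smul_eq_zero_of_kill I n (fun m => e.injective ?_) z, map_zero]
      rw [map_smul, map_zero]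
      exact Module.mem_annihilator.1 (by rwa [Ideal.annihilator_quotient]) (e m)
  · intro N₁ _ _ _ N₂ _ _ _ N₃ _ _ _ f g hf hg hfg h₁ h₃ hd q hq
    have hd₁ := (Module.supportDim_le_of_injective f hf).trans hd
    obtain ⟨hex, hsurj⟩ := right_exact I n f g hf hg hfg (hd₁.trans_lt (by exact_mod_cast Nat.lt_succ_self n))
    let α := LinearMap.lcomp R E (hmap I n g)
    let β := LinearMap.lcomp R E (hmap I n f)
    have hα : Function.Injective α := fun u v h => LinearMap.ext fun z => by
      obtain ⟨w, rfl⟩ := hsurj z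
      exact LinearMap.congr_fun h w
    have hαβ : Function.Exact α β := fun φ => by
      constructor
      · intro h
        have hk : LinearMap.ker (hmap I n g) ≤ LinearMap.ker φ := fun z hz => by
          obtain ⟨w, rfl⟩ := (hex z).1 hz
          exact LinearMap.congr_fun h w
        refine ⟨((LinearMap.ker (hmap I n g)).liftQ φ hk).comp
          ((hmap I n g).quotKerEquivOfSurjective hsurj).symm.toLinearMap, LinearMap.ext fun z => ?_⟩
        show ((LinearMap.ker (hmap I n g)).liftQ φ hk) (((hmap I n g).quotKerEquivOfSurjective hsurj).symm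
          (hmap I n g z)) = φ z
        rw [LinearMap.quotKerEquivOfSurjective_symm_apply]
        rfl
      · rintro ⟨ψ, rfl⟩
        refine LinearMap.ext fun w => ?_
        show ψ (hmap I n g (hmap I n f w)) = 0
        rw [hex.apply_apply_eq_zero, map_zero]
    rcases associatedPrimes.subset_union_of_exact hα hαβ hq with h | h
    · obtain ⟨a, b, c⟩ := h₃ ((Module.supportDim_le_of_surjective g hg).trans hd) q h
      exact ⟨a, le_trans (g.annihilator_le_of_surjective hg) b, c⟩
    · obtain ⟨a, b, c⟩ := h₁ hd₁ q h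
      exact ⟨a, le_trans (f.annihilator_le_of_injective hf) b, c⟩

end Groth.Agent.GrLib8.TopAtt
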