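import Groth.Agent.GrLib8.TopAtt
import Groth.Agent.LC.CanonComplete
import Groth.Agent.LC.MatlisExtra
import Groth.Agent.LC.ExtBridge

/-!
# Coassociated primes and cofiniteness of the top local cohomology
-/

set_option autoImplicit false

universe u

open CategoryTheory Opposite IsLocalRing
open scoped TensorProduct

namespace Groth.Agent.GrLib8.TopAtt

variable {R : Type u} [CommRing R] [IsNoetherianRing R] [IsLocalRing R] (I : Ideal R) (n : ℕ)

omit [IsLocalRing R] [IsNoetherianRing R] in
theorem isTorsionBySet_quot (p : Ideal R) (M : Type u) [AddCommGroup M] [Module R M] :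
    Module.IsTorsionBySet R (M ⧸ (p • ⊤ : Submodule R M)) (p : Set R) := fun y ⟨a, ha⟩ => by
  obtain ⟨m, rfl⟩ := Submodule.Quotient.mk_surjective _ y
  exact (Submodule.Quotient.mk_eq_zero _).2 (Submodule.smul_mem_smul ha Submodule.mem_top)

theorem nontrivial_H_quot {M : Type u} [AddCommGroup M] [Module R M] [Module.Finite R M] (p : Ideal R)
    [p.IsPrime] (hrad : (I ⊔ p).radical = maximalIdeal R)
    (hdim : Module.supportDim R (M ⧸ (p • ⊤ : Submodule R M)) = n) :
    Nontrivial (LocCoh.H I n (M ⧸ (p • ⊤ : Submodule R M))) := by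
  let Q := M ⧸ (p • ⊤ : Submodule R M)
  let S := R ⧸ p
  letI : Module S Q := (isTorsionBySet_quot p M).module
  haveI : IsScalarTower R S Q := (isTorsionBySet_quot p M).isScalarTower
  obtain ⟨φ₁, -⟩ := LC.exists_indep (R := R) (R' := S) I n Q
  obtain ⟨φ₂, -⟩ := LC.exists_indep (R := R) (R' := S) (maximalIdeal R) n Q
  obtain ⟨k, hk⟩ := Ideal.exists_pow_le_of_le_radical_of_fg hrad.ge (IsNoetherian.noetherian _)
  have hrad' : (I.map (algebraMap R S)).radical = ((maximalIdeal R).map (algebraMap R S)).radical := by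
    refine le_antisymm (Ideal.radical_mono (Ideal.map_mono ?_)) (Ideal.radical_le_radical_iff.2 ?_)
    · exact (le_sup_left.trans Ideal.le_radical).trans hrad.le
    · refine Ideal.map_le_iff_le_comap.2 fun a ha => ?_
      obtain ⟨i, hi, c, hc, e⟩ := Submodule.mem_sup.1 (hk (Ideal.pow_mem_pow ha k))
      refine ⟨k, ?_⟩
      rw [← map_pow, ← e, map_add, show algebraMap R S c = 0 from Ideal.Quotient.eq_zero_iff_mem.2 hc, add_zero]
      exact Ideal.mem_map_of_mem _ hi
  have h : Nontrivial ((localCohomology (maximalIdeal R) n).obj (ModuleCat.of R Q)) :=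
    (LC.nontrivial_and_not_finite_H n Q hdim).1
  exact ((φ₁.symm.toEquiv.trans (((localCohomology.isoOfSameRadical hrad' n).app
    (ModuleCat.of S Q)).toLinearEquiv.toEquiv.trans φ₂.toEquiv))).nontrivial

theorem eq_of_le_of_dim {p q : Ideal R} [p.IsPrime] [q.IsPrime] (h : p ≤ q)
    (hp : ringKrullDim (R ⧸ p) = n) (hq : ringKrullDim (R ⧸ q) = n) : q = p := by
  by_contra hne
  have hlt : (⟨p, ‹_›⟩ : PrimeSpectrum R) < ⟨q, ‹_›⟩ :=
    lt_of_le_of_ne h fun e => hne (congrArg PrimeSpectrum.asIdeal e).symm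
  have h1 := LC.coheight_eq_ringKrullDim_quotient (⟨p, ‹_›⟩ : PrimeSpectrum R)
  have h2 := LC.coheight_eq_ringKrullDim_quotient (⟨q, ‹_›⟩ : PrimeSpectrum R)
  rw [hp] at h1
  rw [hq] at h2
  have e1 : Order.coheight (⟨p, ‹_›⟩ : PrimeSpectrum R) = (n : ℕ∞) := by exact_mod_cast h1
  have e2 : Order.coheight (⟨q, ‹_›⟩ : PrimeSpectrum R) = (n : ℕ∞) := by exact_mod_cast h2
  exact (Order.coheight_strictAnti hlt (by rw [e2]; exact ENat.natCast_lt_top n)).ne (e2.trans e1.symm)

/-- The coassociated primes of the top local cohomology. -/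
theorem ass_eq [IsAdicComplete (maximalIdeal R) R] {E : Type u} [AddCommGroup E] [Module R E]
    {f : ResidueField R →ₗ[R] E} (hf : InjHull.IsInjectiveHull f) (M : Type u) [AddCommGroup M] [Module R M]
    [Module.Finite R M] (hM : Module.supportDim R M = n) :
    associatedPrimes R (LocCoh.H I n M →ₗ[R] E) = {p : Ideal R | p.IsPrime ∧ Module.annihilator R M ≤ p ∧
      ringKrullDim (R ⧸ p) = n ∧ (I ⊔ p).radical = maximalIdeal R} := by
  refine Set.Subset.antisymm (fun q hq => ass_subset I n hf M hM.le q hq) ?_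
  rintro p ⟨hp, hann, hdim, hrad⟩
  let Q := M ⧸ (p • ⊤ : Submodule R M)
  let g : M →ₗ[R] Q := Submodule.mkQ _
  have hg : Function.Surjective g := Submodule.mkQ_surjective _
  have hsupp : Module.support R Q = PrimeSpectrum.zeroLocus (p : Set R) := by
    rw [Module.support_quotient]
    refine Set.inter_eq_right.2 fun q hq => Module.mem_support_iff_of_finite.2 (le_trans hann ?_)
    exact hq
  have hdQ : Module.supportDim R Q = n := by
    rw [Module.supportDim, hsupp, ← ringKrullDim_quotient, hdim]
  haveI := nontrivial_H_quot I n p hrad hdQ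
  haveI : Nontrivial (LocCoh.H I n Q →ₗ[R] E) := by
    obtain ⟨z, hz⟩ := exists_ne (0 : LocCoh.H I n Q)
    obtain ⟨φ, hφ⟩ := LC.exists_dual_ne_zero hf hz
    exact nontrivial_of_ne φ 0 fun h => hφ (by rw [h, LinearMap.zero_apply])
  obtain ⟨q, hq⟩ := associatedPrimes.nonempty R (LocCoh.H I n Q →ₗ[R] E)
  obtain ⟨hqp, hqann, hqdim, -⟩ := ass_subset I n hf Q hdQ.le q hq
  have hpq : p ≤ q := fun a ha =>
    hqann (Module.mem_annihilator.2 fun y => isTorsionBySet_quot p M (x := y) (a := ⟨a, ha⟩))
  obtain rfl : q = p := eq_of_le_of_dim n hpq hdim hqdim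
  have hK : Module.supportDim R (LinearMap.ker g) < ((n + 1 : ℕ) : WithBot ℕ∞) :=
    lt_of_le_of_lt ((Module.supportDim_le_of_injective (LinearMap.ker g).subtype Subtype.val_injective).trans hM.le)
      (by exact_mod_cast Nat.lt_succ_self n)
  have hs := (right_exact I n (LinearMap.ker g).subtype g Subtype.val_injective hg
    (LinearMap.exact_subtype_ker_map g) hK).2
  exact associatedPrimes.subset_of_injective (f := LinearMap.lcomp R E (hmap I n g))
    (fun u v h => LinearMap.ext fun z => by obtain ⟨w, rfl⟩ := hs z; exact LinearMap.congr_fun h w) hq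

omit [IsLocalRing R] in
theorem isArtinian_ext (Y : ModuleCat.{u} R) [IsArtinian R Y] : ∀ (i : ℕ) (N : Type u) [AddCommGroup N] [Module R N]
    [Module.Finite R N], IsArtinian R (Abelian.Ext (ModuleCat.of R N) Y i) := by
  intro i
  induction i with
  | zero =>
    intro N _ _ _
    obtain ⟨r, π, hπ⟩ := Module.Finite.exists_fin' R N
    let e : Abelian.Ext (ModuleCat.of R N) Y 0 ≃ₗ[R] (N →ₗ[R] Y) :=
      (Abelian.Ext.linearEquiv₀ (R := R)).trans ModuleCat.homLinearEquiv
    let v : (N →ₗ[R] Y) →ₗ[R] (Fin r → Y) := LinearMap.pi fun j => LinearMap.applyₗ (π (Pi.single j 1))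
    have hv : Function.Injective v := fun φ ψ h => LinearMap.ext fun x => by
      obtain ⟨c, rfl⟩ := hπ x
      exact LinearMap.congr_fun ((Pi.basisFun R (Fin r)).ext (f₁ := φ.comp π) (f₂ := ψ.comp π)
        fun j => by simpa [v, Pi.basisFun_apply] using congrFun h j) c
    haveI : IsArtinian R (N →ₗ[R] Y) := isArtinian_of_injective v hv
    exact isArtinian_of_linearEquiv e.symm
  | succ i ih =>
    intro N _ _ _
    obtain ⟨r, π, hπ⟩ := Module.Finite.exists_fin' R N
    let S : ShortComplex (ModuleCat.{u} R) := ShortComplex.mk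
      (X₁ := ModuleCat.of R (LinearMap.ker π)) (X₂ := ModuleCat.of R (Fin r → R)) (X₃ := ModuleCat.of R N)
      (ModuleCat.ofHom (LinearMap.ker π).subtype) (ModuleCat.ofHom π)
      (ModuleCat.hom_ext (LinearMap.ext fun z => z.2))
    have hS : S.ShortExact :=
      { exact := (ShortComplex.ShortExact.moduleCat_exact_iff_function_exact _).2
          (LinearMap.exact_subtype_ker_map π)
        mono_f := (ModuleCat.mono_iff_injective _).2 Subtype.val_injective
        epi_g := (ModuleCat.epi_iff_surjective _).2 hπ }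
    haveI : Projective S.X₂ := (IsProjective.iff_projective (R := R) (Fin r → R)).1 inferInstance
    haveI := ih (LinearMap.ker π)
    let δ := hS.extClass.precompOfLinear R Y (add_comm 1 i)
    exact isArtinian_of_surjective _ δ fun x =>
      Abelian.Ext.contravariant_sequence_exact₃ hS Y x (Abelian.Ext.eq_zero_of_projective _) (add_comm 1 i)

theorem supportDim_baseChange_le {M : Type u} [AddCommGroup M] [Module R M] [Module.Finite R M]
    (hM : Module.supportDim R M ≤ (n : WithBot ℕ∞)) :
    Module.supportDim (AdicCompletion (maximalIdeal R) R) (AdicCompletion (maximalIdeal R) R ⊗[R] M) ≤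
      (n : WithBot ℕ∞) := by
  haveI := LC.Canon.isNoetherianRing_completion (R := R)
  set B := AdicCompletion (maximalIdeal R) R
  rw [Module.supportDim] at *
  refine iSup_le fun s => ?_
  let Q := (s.head).1
  let q : PrimeSpectrum R := PrimeSpectrum.comap (algebraMap R B) Q
  have hq : q ∈ Module.support R M := by
    rw [Module.mem_support_iff_of_finite]
    intro a ha
    have h1 := Module.mem_support_iff_of_finite.1 s.head.2
    refine h1 (Module.mem_annihilator.2 fun z => ?_)
    rw [algebraMap_smul]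
    induction z with
    | zero => rw [smul_zero]
    | add u v hu hv => rw [smul_add, hu, hv, add_zero]
    | tmul b m => rw [← TensorProduct.tmul_smul, Module.mem_annihilator.1 ha, TensorProduct.tmul_zero]
  have hdq : ringKrullDim (R ⧸ q.asIdeal) ≤ (n : WithBot ℕ∞) := by
    rw [← Module.supportDim_quotient_eq_ringKrullDim, Module.supportDim]
    refine le_trans (Order.krullDim_le_of_strictMono (fun y => (⟨y.1, ?_⟩ : Module.support R M)) fun a b h => h)
      hM
    refine Module.mem_support_iff_of_finite.2 ((Module.mem_support_iff_of_finite.1 hq).trans ?_)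
    have := Module.mem_support_iff_of_finite.1 y.2
    rwa [Ideal.annihilator_quotient] at this
  have h3 := (LC.Canon.dim_quot_map_completion_le q.asIdeal).trans hdq
  rw [ringKrullDim_quotient] at h3
  let s' : LTSeries (PrimeSpectrum.zeroLocus (R := B) (q.asIdeal.map (algebraMap R B) : Set B)) :=
    { length := s.length
      toFun := fun j => ⟨(s j).1, fun a ha => (show Q.asIdeal ≤ (s j).1.asIdeal from s.head_le j)
        (Ideal.map_comap_le (f := algebraMap R B) ha)⟩
      step := fun j => s.step j }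
  have h4 := (Order.LTSeries.length_le_krullDim s').trans h3
  exact_mod_cast h4

/-- Cofiniteness of the top local cohomology. -/
theorem isFiniteLength_ext (M : Type u) [AddCommGroup M] [Module R M] [Module.Finite R M]
    (hn : Module.supportDim R M = n) (i : ℕ) :
    IsFiniteLength R (Abelian.Ext (ModuleCat.of R (R ⧸ I)) (ModuleCat.of R (LocCoh.H I n M)) i) := by
  haveI : Nontrivial M := by
    by_contra h
    rw [not_nontrivial_iff_subsingleton] at h
    rw [Module.supportDim_eq_bot_of_subsingleton] at hn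
    exact WithBot.bot_ne_coe hn
  let H := LocCoh.H I n M
  haveI : IsArtinian R H := Groth.Agent.S3262.result R I M n hn
  let X := ModuleCat.of R (R ⧸ I)
  let Y := ModuleCat.of R H
  haveI : IsArtinian R (Abelian.Ext X Y i) := isArtinian_ext Y i (R ⧸ I)
  haveI := LC.Canon.isNoetherianRing_completion (R := R)
  haveI := LC.Canon.faithfullyFlat_completion (R := R)
  haveI : IsAdicComplete (maximalIdeal (AdicCompletion (maximalIdeal R) R)) (AdicCompletion (maximalIdeal R) R) :=
    inferInstance
  let B := AdicCompletion (maximalIdeal R) R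
  let μ : H ≃ₗ[R] B ⊗[R] H := LinearEquiv.ofBijective (TensorProduct.mk R B H 1)
    (LC.mk_one_bijective_of_powerTorsion H (LC.isPowerTorsion_of_isArtinian H))
  let φ : B → (H →ₗ[R] H) := fun b => μ.symm.toLinearMap.comp
    (((b • LinearMap.id : B ⊗[R] H →ₗ[B] B ⊗[R] H).restrictScalars R).comp μ.toLinearMap)
  have hφa : ∀ b h, μ (φ b h) = b • μ h := fun b h => μ.apply_symm_apply _
  let act : B → Abelian.Ext X Y i → Abelian.Ext X Y i := fun b y =>
    y.comp (Abelian.Ext.mk₀ (ModuleCat.ofHom (φ b) : Y ⟶ Y)) (add_zero i)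
  have hadd : ∀ b c, φ (b + c) = φ b + φ c := fun b c => LinearMap.ext fun h => μ.injective (by
    rw [LinearMap.add_apply, map_add, hφa, hφa, hφa, add_smul])
  have hmul : ∀ b c, φ (b * c) = (φ c).comp (φ b) := fun b c => LinearMap.ext fun h => μ.injective (by
    show μ (φ (b * c) h) = μ (φ c (φ b h))
    rw [hφa, hφa, hφa, smul_smul, mul_comm])
  have hscal : ∀ a : R, φ (algebraMap R B a) = a • LinearMap.id := fun a => LinearMap.ext fun h => μ.injective (by
    rw [hφa, LinearMap.smul_apply, LinearMap.id_apply, map_smul, algebraMap_smul])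
  have hI : ∀ a ∈ I, ∀ y : Abelian.Ext X Y i, a • y = 0 := fun a ha y => by
    have h1 : (a • Abelian.Ext.mk₀ (𝟙 X)).comp y (zero_add i) = a • y := by
      rw [Abelian.Ext.smul_comp, Abelian.Ext.mk₀_id_comp]
    rw [← h1, ← Abelian.Ext.mk₀_smul, show (a • 𝟙 X : X ⟶ X) = 0 from ModuleCat.hom_ext (LinearMap.ext fun w => ?_),
      Abelian.Ext.mk₀_zero, Abelian.Ext.zero_comp]
    obtain ⟨r, rfl⟩ := Ideal.Quotient.mk_surjective w
    exact Ideal.Quotient.eq_zero_iff_mem.2 (I.mul_mem_right r ha)
  have hsmul : ∀ (a : R) (y : Abelian.Ext X Y i), act (algebraMap R B a) y = a • y := fun a y => by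
    show y.comp _ _ = _
    rw [Abelian.Ext.smul_eq_comp_mk₀ y a]
    congr 2
    refine ModuleCat.hom_ext ?_
    rw [ModuleCat.hom_ofHom, hscal]
    rfl
  have hkill : ∀ b ∈ I.map (algebraMap R B), ∀ y, act b y = 0 := by
    intro b hb
    rw [Ideal.map] at hb
    induction hb using Submodule.span_induction with
    | mem b hb =>
      obtain ⟨a, ha, rfl⟩ := hb
      exact fun y => (hsmul a y).trans (hI a ha y)
    | zero => exact fun y => by rw [← map_zero (algebraMap R B), hsmul, zero_smul]
    | add b c _ _ hb hc =>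
      intro y
      show y.comp (Abelian.Ext.mk₀ (ModuleCat.ofHom (φ (b + c)))) _ = 0
      rw [hadd, ModuleCat.ofHom_add, Abelian.Ext.mk₀_add, Abelian.Ext.comp_add,
        show y.comp (Abelian.Ext.mk₀ (ModuleCat.ofHom (φ b))) _ = 0 from hb y,
        show y.comp (Abelian.Ext.mk₀ (ModuleCat.ofHom (φ c))) _ = 0 from hc y, add_zero]
    | smul c b _ hb =>
      intro y
      show y.comp (Abelian.Ext.mk₀ (ModuleCat.ofHom (φ (c * b)))) _ = 0
      rw [hmul, ModuleCat.ofHom_comp, ← Abelian.Ext.mk₀_comp_mk₀, ← Abelian.Ext.comp_assoc_of_second_deg_zero]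
      exact hb _
  obtain ⟨eB⟩ := LC.exists_baseChange (R' := B) I n M
  have hkill₂ : ∀ c ∈ Module.annihilator B (LocCoh.H (I.map (algebraMap R B)) n (B ⊗[R] M)), φ c = 0 := by
    intro c hc
    refine LinearMap.ext fun h => μ.injective ?_
    rw [hφa, LinearMap.zero_apply, map_zero]
    refine eB.injective ?_
    rw [map_smul, map_zero]
    exact Module.mem_annihilator.1 hc (eB (μ h))
  have hrad := radical_sup_annihilator (I.map (algebraMap R B)) n (B ⊗[R] M) (supportDim_baseChange_le n hn.le)
  have hm : maximalIdeal R ≤ (Module.annihilator R (Abelian.Ext X Y i)).radical := fun x hx => by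
    have hx' : algebraMap R B x ∈ maximalIdeal B := by
      rw [AdicCompletion.maximalIdeal_eq_map (R := R)]
      exact Ideal.mem_map_of_mem _ hx
    obtain ⟨N, hN⟩ := hrad hx'
    obtain ⟨b, hb, c, hc, e⟩ := Submodule.mem_sup.1 hN
    refine ⟨N, Module.mem_annihilator.2 fun y => ?_⟩
    rw [← hsmul, map_pow, ← e]
    show y.comp (Abelian.Ext.mk₀ (ModuleCat.ofHom (φ (b + c)))) _ = 0
    rw [hadd, ModuleCat.ofHom_add, Abelian.Ext.mk₀_add, Abelian.Ext.comp_add,
      show y.comp (Abelian.Ext.mk₀ (ModuleCat.ofHom (φ b))) _ = 0 from hkill b hb y, hkill₂ c hc]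
    simp
  obtain ⟨k, hk⟩ := Ideal.exists_pow_le_of_le_radical_of_fg hm (IsNoetherian.noetherian _)
  have hfl : IsFiniteLength R (R ⧸ maximalIdeal R ^ k) := LC.isFiniteLength_quot_pow k
  haveI : IsArtinianRing (R ⧸ maximalIdeal R ^ k) :=
    isArtinian_of_tower R (isFiniteLength_iff_isNoetherian_isArtinian.1 hfl).2
  haveI := LC.finite_of_kill (maximalIdeal R ^ k) (Abelian.Ext X Y i)
    fun a ha z => Module.mem_annihilator.1 (hk ha) z
  exact isFiniteLength_iff_isNoetherian_isArtinian.2 ⟨isNoetherian_of_isNoetherianRing_of_finite R _, inferInstance⟩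

end Groth.Agent.GrLib8.TopAtt
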