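import Groth.Agent.LC.HTensor
import Groth.Agent.LC.Connected

/-!
# Representability of `E ↦ Hom_R(H^d_J(E), F)`
-/

universe u

open CategoryTheory Limits TensorProduct Opposite

namespace Groth.Agent.GrLib8.TopRepresent

variable (R S : Type u) [CommRing R] [CommRing S] [Algebra R S] (J : Ideal S) (d : ℕ)
  (F : Type u) [AddCommGroup F] [Module R F]

/-- Restricted top local cohomology. -/
noncomputable def HR (E : ModuleCat.{u} S) : ModuleCat.{u} R :=
  (ModuleCat.restrictScalars (algebraMap R S)).obj ((localCohomology J d).obj E)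

/-- The top local cohomology of the ring. -/
noncomputable abbrev H0 : ModuleCat.{u} S := (localCohomology J d).obj (ModuleCat.of S S)

/-- The representing group. -/
def T : Type u := {f : (H0 S J d) →+ F // ∀ (r : R) (h : H0 S J d), f (algebraMap R S r • h) = r • f h}

namespace T

variable {R S J d F}

noncomputable instance : AddCommGroup (T R S J d F) :=
  AddSubgroup.toAddCommGroup
    ({ carrier := {f : (H0 S J d) →+ F | ∀ (r : R) (h : H0 S J d), f (algebraMap R S r • h) = r • f h}
       add_mem' := fun {a b} ha hb r h => by simp [ha r h, hb r h, smul_add]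
       zero_mem' := fun r h => by simp
       neg_mem' := fun {a} ha r h => by simp [ha r h] } : AddSubgroup ((H0 S J d) →+ F))

theorem ext {f g : T R S J d F} (h : ∀ x, f.1 x = g.1 x) : f = g := Subtype.ext (AddMonoidHom.ext h)

noncomputable instance : SMul S (T R S J d F) :=
  ⟨fun s f => ⟨f.1.comp (DistribMulAction.toAddMonoidHom (H0 S J d) s), fun r h => by
    show f.1 (s • algebraMap R S r • h) = r • f.1 (s • h)
    rw [smul_comm, f.2]⟩⟩

theorem smul_val (s : S) (f : T R S J d F) (h : H0 S J d) : (s • f).1 h = f.1 (s • h) := rfl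

noncomputable instance : Module S (T R S J d F) where
  one_smul f := ext fun h => by rw [smul_val, one_smul]
  mul_smul a b f := ext fun h => by rw [smul_val, smul_val, smul_val, mul_comm, mul_smul]
  smul_zero a := ext fun h => rfl
  smul_add a f g := ext fun h => rfl
  add_smul a b f := ext fun h => by
    show f.1 ((a + b) • h) = f.1 (a • h) + f.1 (b • h)
    rw [add_smul, map_add]
  zero_smul f := ext fun h => by
    show f.1 ((0 : S) • h) = 0
    rw [zero_smul, map_zero]

end T

variable [IsNoetherianRing S]

/-- `H ⊗ E ≅ H^d_J(E)`. -/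
noncomputable def E2H (hcd : LocCoh.CdLE S J d) (E : ModuleCat.{u} S) :
    (H0 S J d) ⊗[S] E ≃ₗ[S] (localCohomology J d).obj E :=
  LinearEquiv.ofBijective (LC.htensor J d E) (LC.htensor_bijective J d (fun N _ => hcd N (d + 1) (Nat.lt_succ_self d)) E)

/-- The map on the tensor product. -/
noncomputable def lift' (E : ModuleCat.{u} S) (g : E ⟶ ModuleCat.of S (T R S J d F)) : (H0 S J d) ⊗[S] E →+ F :=
  TensorProduct.liftAddHom
    (AddMonoidHom.mk' (fun h => AddMonoidHom.mk' (fun e : E => (g.hom e : T R S J d F).1 h)
        (fun a b => congrArg (fun f : T R S J d F => f.1 h) (map_add g.hom a b)))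
      (fun a b => AddMonoidHom.ext fun e => map_add (g.hom e : T R S J d F).1 a b))
    (fun s h e => (congrArg (fun f : T R S J d F => f.1 h) (map_smul g.hom s e)).symm)

theorem lift'_tmul (E : ModuleCat.{u} S) (g : E ⟶ ModuleCat.of S (T R S J d F)) (h : H0 S J d) (e : E) :
    lift' R S J d F E g (h ⊗ₜ e) = (g.hom e : T R S J d F).1 h := rfl

theorem lift'_smul (E : ModuleCat.{u} S) (g : E ⟶ ModuleCat.of S (T R S J d F)) (r : R)
    (t : (H0 S J d) ⊗[S] E) : lift' R S J d F E g (algebraMap R S r • t) = r • lift' R S J d F E g t := by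
  induction t using TensorProduct.induction_on with
  | zero => rw [smul_zero, map_zero, smul_zero]
  | add a b ha hb => rw [smul_add, map_add, map_add, ha, hb, smul_add]
  | tmul h e =>
    rw [TensorProduct.smul_tmul']
    exact (g.hom e : T R S J d F).2 r h

/-- The adjunction bijection. -/
noncomputable def homEquiv (hcd : LocCoh.CdLE S J d) (E : ModuleCat.{u} S) :
    (E ⟶ ModuleCat.of S (T R S J d F)) ≃ (HR R S J d E ⟶ ModuleCat.of R F) where
  toFun g := ConcreteCategory.ofHom (C := ModuleCat.{u} R) (X := HR R S J d E) (Y := ModuleCat.of R F)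
    ({ toFun := fun (z : HR R S J d E) =>
         lift' R S J d F E g ((E2H S J d hcd E).symm (show (localCohomology J d).obj E from z))
       map_add' := fun a b => (congrArg (lift' R S J d F E g) (map_add (E2H S J d hcd E).symm _ _)).trans
         (map_add (lift' R S J d F E g) _ _)
       map_smul' := fun r (z : HR R S J d E) => (congrArg (lift' R S J d F E g)
         (map_smul (E2H S J d hcd E).symm (algebraMap R S r) (show (localCohomology J d).obj E from z))).trans
           (lift'_smul R S J d F E g r _) } : HR R S J d E →ₗ[R] F)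
  invFun ψ := ModuleCat.ofHom
    { toFun := fun e => ⟨AddMonoidHom.mk' (fun h => ψ.hom (E2H S J d hcd E (h ⊗ₜ e)))
        (fun a b => by rw [TensorProduct.add_tmul, map_add]; exact map_add ψ.hom _ _), fun r h => by
          show ψ.hom (E2H S J d hcd E ((algebraMap R S r • h) ⊗ₜ e)) = r • ψ.hom (E2H S J d hcd E (h ⊗ₜ e))
          rw [← TensorProduct.smul_tmul', map_smul]
          exact ψ.hom.map_smul r (show HR R S J d E from E2H S J d hcd E (h ⊗ₜ e))⟩
      map_add' := fun a b => T.ext fun h => by
        show ψ.hom (E2H S J d hcd E (h ⊗ₜ (a + b))) = ψ.hom (E2H S J d hcd E (h ⊗ₜ a)) + ψ.hom (E2H S J d hcd E (h ⊗ₜ b))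
        rw [TensorProduct.tmul_add, map_add]
        exact map_add ψ.hom _ _
      map_smul' := fun s e => T.ext fun h => by
        show ψ.hom (E2H S J d hcd E (h ⊗ₜ (s • e))) = ψ.hom (E2H S J d hcd E ((s • h) ⊗ₜ e))
        rw [TensorProduct.smul_tmul] }
  left_inv g := ModuleCat.hom_ext (LinearMap.ext fun e => T.ext fun h => by
    show lift' R S J d F E g ((E2H S J d hcd E).symm (E2H S J d hcd E (h ⊗ₜ e))) = (g.hom e : T R S J d F).1 h
    rw [LinearEquiv.symm_apply_apply, lift'_tmul])
  right_inv ψ := ModuleCat.hom_ext (LinearMap.ext fun z => by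
    show lift' R S J d F E _ ((E2H S J d hcd E).symm z) = ψ.hom z
    conv_rhs => rw [← (E2H S J d hcd E).apply_symm_apply z]
    generalize (E2H S J d hcd E).symm z = t
    induction t using TensorProduct.induction_on with
    | zero => rw [map_zero, map_zero]; exact (map_zero ψ.hom).symm
    | add a b ha hb => rw [map_add, map_add, ha, hb]; exact (map_add ψ.hom _ _).symm
    | tmul h e => rw [lift'_tmul]; rfl)

theorem isRepresentable (hcd : LocCoh.CdLE S J d) :
    ((localCohomology J d ⋙ ModuleCat.restrictScalars (algebraMap R S)).op ⋙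
      yoneda.obj (ModuleCat.of R F)).IsRepresentable :=
  Functor.RepresentableBy.isRepresentable
    (Y := ModuleCat.of S (T R S J d F))
    { homEquiv := fun {E} => homEquiv R S J d F hcd E
      homEquiv_comp := fun {E E'} f g => by
        refine ModuleCat.hom_ext (LinearMap.ext fun z => ?_)
        show (homEquiv R S J d F hcd E (f ≫ g)).hom z =
          (homEquiv R S J d F hcd E' g).hom (((localCohomology J d).map f).hom z)
        obtain ⟨t, rfl⟩ := (E2H S J d hcd E).surjective z
        have hn : ((localCohomology J d).map f).hom (E2H S J d hcd E t) = E2H S J d hcd E' (f.hom.lTensor _ t) :=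
          (LC.htensor_natural J d f t).symm
        show lift' R S J d F E (f ≫ g) ((E2H S J d hcd E).symm (E2H S J d hcd E t)) =
          lift' R S J d F E' g ((E2H S J d hcd E').symm (((localCohomology J d).map f).hom (E2H S J d hcd E t)))
        rw [hn, LinearEquiv.symm_apply_apply, LinearEquiv.symm_apply_apply]
        induction t using TensorProduct.induction_on with
        | zero => simp only [map_zero]
        | add a b ha hb => simp only [map_add, ha (LC.htensor_natural J d f a).symm, hb (LC.htensor_natural J d f b).symm]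
        | tmul h e =>
          rw [LinearMap.lTensor_tmul, lift'_tmul, lift'_tmul]
          rfl }

end Groth.Agent.GrLib8.TopRepresent
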