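import Groth.Agent.GrLib8.RegRes
import Groth.Agent.GrLib8.Star

/-!
# Right exactness of the top cohomology
-/

set_option autoImplicit false
set_option linter.unusedSectionVars false

universe u

open DirectSum

namespace Groth.Agent.GrLib8

variable {R : Type u} [CommRing R] [IsNoetherianRing R] {σ : Type u} [SetLike σ R] [AddSubgroupClass σ R]
  {𝒜 : ℤ → σ} [GradedRing 𝒜] {a : HomogeneousIdeal 𝒜} {r : ℕ}
  (hcd : ∀ (X : GrLC.GMod.{u} 𝒜) (g : ℤ), HVan a X (r + 1) g)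

include hcd

theorem hVan_top_surj {Y Z : GrLC.GMod.{u} 𝒜} (p : Y.carrier →ₗ[R] Z.carrier) (hp : GrLC.IsGrHom Y.gr Z.gr p)
    (hps : Function.Surjective p) {g : ℤ} (hY : HVan a Y r g) : HVan a Z r g := by
  let K : Submodule R Y.carrier := LinearMap.ker p
  have hK : K.IsHomogeneous Y.gr := isHomogeneous_ker_deg (isGrHomDeg_zero_iff.2 hp)
  exact hVan_right (X := subGMod 𝒜 Y.gr K hK) (Y := Y) (Z := Z) (f := K.subtype) (p := p) (d := 0)
    (fun l m hm => (add_zero l).symm ▸ hm) (isGrHomDeg_zero_iff.2 hp) Subtype.val_injective hps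
    (LinearMap.exact_subtype_ker_map p) hY (hcd _ _)

/-- If the top cohomology of the ring vanishes in degree `g - 1`, then so it does in degree `g` on some
module mapping onto the ideal of given degree one elements. -/
theorem exists_cover_hVan (g : ℤ) (hR : HVan a (gmodPieces 𝒜 𝒜) r (g - 1)) : ∀ xs : List R, (∀ x ∈ xs, x ∈ 𝒜 1) →
    ∃ (F : GrLC.GMod.{u} 𝒜) (p : F.carrier →ₗ[R] R), GrLC.IsGrHom F.gr 𝒜 p ∧
      LinearMap.range p = Ideal.ofList xs ∧ HVan a F r g := by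
  intro xs
  induction xs with
  | nil =>
    intro _
    refine ⟨quotGMod 𝒜 𝒜 (⊤ : Submodule R R) (fun _ _ _ => Submodule.mem_top), 0, fun i m _ => zero_mem _, ?_, ?_⟩
    · rw [Ideal.ofList_nil]; exact LinearMap.range_zero
    · haveI : Subsingleton (quotGMod 𝒜 𝒜 (⊤ : Submodule R R) (fun _ _ _ => Submodule.mem_top)).carrier :=
        inferInstanceAs (Subsingleton (R ⧸ (⊤ : Submodule R R)))
      exact hVan_of_subsingleton r g
  | cons x xs ih =>
    intro hxs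
    obtain ⟨F, p, hp, hrange, hF⟩ := ih fun y hy => hxs y (List.mem_cons_of_mem x hy)
    let S : GrLC.GMod.{u} 𝒜 := shiftGMod 𝒜 (gmodPieces 𝒜 𝒜).gr (-1)
    let μ : S.carrier →ₗ[R] R := x • (LinearMap.id : R →ₗ[R] R)
    refine ⟨prodGMod 𝒜 S.gr F.gr, μ.coprod p, fun i m hm => ?_, ?_, hVan_prod (hVan_shift (by rwa [← sub_eq_add_neg])) hF⟩
    · obtain ⟨h1, h2⟩ := hm
      refine add_mem ?_ (hp i _ h2)
      have h3 := SetLike.mul_mem_graded (hxs x (List.mem_cons_self ..)) (show (m.1 : R) ∈ 𝒜 (i + -1) from h1)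
      rw [show (1 : ℤ) + (i + -1) = i by ring] at h3
      exact h3
    · show LinearMap.range (μ.coprod p) = _
      rw [LinearMap.range_coprod, hrange, Ideal.ofList_cons]
      congr 1
      ext z
      simp [μ, Ideal.mem_span_singleton', mul_comm]
      exact ⟨fun ⟨c, hc⟩ => ⟨c, hc⟩, fun ⟨c, hc⟩ => ⟨c, hc⟩⟩

/-- Vanishing of the top cohomology of the ring propagates upwards. -/
theorem hVan_top_succ {xs : List R} (hxs : ∀ x ∈ xs, x ∈ 𝒜 1) (J : HomogeneousIdeal 𝒜)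
    (hJ : J.toIdeal = Ideal.ofList xs) (hr : 0 < r) (haJ : a.toIdeal ≤ J.toIdeal) (g : ℤ)
    (hR : HVan a (gmodPieces 𝒜 𝒜) r (g - 1)) : HVan a (gmodPieces 𝒜 𝒜) r g := by
  obtain ⟨F, p, hp, hrange, hF⟩ := exists_cover_hVan hcd g hR xs hxs
  let I : GrLC.GMod.{u} 𝒜 := subGMod 𝒜 𝒜 J.toIdeal J.isHomogeneous
  let p' : F.carrier →ₗ[R] I.carrier := p.codRestrict J.toIdeal fun z => hJ.ge (hrange.le ⟨z, rfl⟩)
  have hI : HVan a I r g := hVan_top_surj hcd p' (fun i m hm => hp i m hm) (fun ⟨y, hy⟩ => by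
    obtain ⟨z, hz⟩ := hrange.ge (hJ.le hy)
    exact ⟨z, Subtype.ext hz⟩) hF
  let Q : GrLC.GMod.{u} 𝒜 := quotGMod 𝒜 𝒜 J.toIdeal J.isHomogeneous
  obtain ⟨r, rfl⟩ : ∃ r', r = r' + 1 := ⟨r - 1, by omega⟩
  let Y : GrLC.GMod.{u} 𝒜 := gmodPieces 𝒜 𝒜
  let j : I.carrier →ₗ[R] Y.carrier := Submodule.subtype J.toIdeal
  let q : Y.carrier →ₗ[R] Q.carrier := Submodule.mkQ J.toIdeal
  refine hVan_middle (X := I) (Y := Y) (Z := Q) (f := j)
    (p := q) (d := 0) (fun l m hm => (add_zero l).symm ▸ hm)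
    (fun l m hm => (add_zero l).symm ▸ isGrHom_mkQ 𝒜 J.toIdeal l m hm) Subtype.val_injective
    (Submodule.mkQ_surjective J.toIdeal) (LinearMap.exact_subtype_mkQ J.toIdeal) (by rwa [sub_zero]) (hVan_of_torsion (fun z => ?_) r g)
  obtain ⟨z, rfl⟩ := Submodule.mkQ_surjective J.toIdeal z
  refine ⟨1, fun s hs => ?_⟩
  rw [pow_one] at hs
  refine (map_smul (Submodule.mkQ J.toIdeal) s z).symm.trans ((Submodule.Quotient.mk_eq_zero _).2 ?_)
  exact Ideal.mul_mem_right _ _ (haJ hs)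

end Groth.Agent.GrLib8
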