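import Groth.Agent.LC.GorCech
import Groth.Agent.LC.InjBasic
import Groth.Agent.TorBridge.LES
import Groth.Agent.CohenLib.Structure

/-!
# `Tor` of the injective hull of the residue field of a Gorenstein local ring

The hull is built as an iterated quotient `N[1/x] / N` along a system of parameters; each step
shifts `Tor(-, k)` up by one.
-/

set_option autoImplicit false

universe u

open CategoryTheory Limits MonoidalCategory IsLocalRing RingTheory.Sequence

namespace Groth.Agent.GrLib8.TorHull

open Groth.Agent.TorBridge (tenF)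

section Shift

variable {R : Type u} [CommRing R]

theorem isZero_tor_of_bijective (X K : ModuleCat.{u} R) (x : R) (hK : ∀ v : K, x • v = 0)
    (hb : Function.Bijective fun v : X => x • v) (i : ℕ) :
    IsZero (((Tor (ModuleCat.{u} R) i).obj X).obj K) := by
  let P : ProjectiveResolution K := ProjectiveResolution.of _
  let c := ComplexShape.down ℕ
  let C : ChainComplex (ModuleCat.{u} R) ℕ := ((tenF X).mapHomologicalComplex c).obj P.complex
  refine (Iso.isZero_iff (P.isoLeftDerivedObj (tenF X) i)).2 ?_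
  show IsZero (C.homology i)
  let m : P.complex ⟶ P.complex := x • 𝟙 P.complex
  have hm : m ≫ P.π = 0 := by
    refine HomologicalComplex.hom_ext _ _ fun j => ModuleCat.hom_ext (LinearMap.ext fun v => ?_)
    show (P.π.f j).hom (x • v) = 0
    rw [map_smul]
    rcases j with _ | j
    · exact hK _
    · have hz : IsZero (((ChainComplex.single₀ (ModuleCat.{u} R)).obj K).X (j + 1)) :=
        HomologicalComplex.isZero_single_obj_X _ _ _ _ (by simp)
      exact @Subsingleton.elim _ (ModuleCat.subsingleton_of_isZero hz) _ _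
  let Fm : C ⟶ C := ((tenF X).mapHomologicalComplex c).map m
  have h0 : HomologicalComplex.homologyMap Fm i = 0 := by
    rw [((tenF X).mapHomotopy (ProjectiveResolution.liftHomotopyZero m hm)).homologyMap_eq i,
      Functor.map_zero, HomologicalComplex.homologyMap_zero]
  let e : X ≃ₗ[R] X := LinearEquiv.ofBijective (DistribSMul.toLinearMap R X x) hb
  have hFm : Fm = (NatTrans.mapHomologicalComplex
      ((tensoringLeft (ModuleCat.{u} R)).map (ModuleCat.ofHom e.toLinearMap)) c).app P.complex := by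
    refine HomologicalComplex.hom_ext _ _ fun j => ModuleCat.hom_ext (TensorProduct.ext' fun a b => ?_)
    show a ⊗ₜ[R] (x • b) = (x • a) ⊗ₜ[R] b
    rw [TensorProduct.tmul_smul, TensorProduct.smul_tmul']
  have hiso : IsIso Fm := by
    refine ⟨(NatTrans.mapHomologicalComplex
      ((tensoringLeft (ModuleCat.{u} R)).map (ModuleCat.ofHom e.symm.toLinearMap)) c).app P.complex, ?_, ?_⟩
    · rw [hFm]
      refine HomologicalComplex.hom_ext _ _ fun j => ModuleCat.hom_ext (TensorProduct.ext' fun a b => ?_)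
      show (e.symm (e a)) ⊗ₜ[R] b = a ⊗ₜ[R] b
      rw [e.symm_apply_apply]
    · rw [hFm]
      refine HomologicalComplex.hom_ext _ _ fun j => ModuleCat.hom_ext (TensorProduct.ext' fun a b => ?_)
      show (e (e.symm a)) ⊗ₜ[R] b = a ⊗ₜ[R] b
      rw [e.apply_symm_apply]
  have hisoH : IsIso (HomologicalComplex.homologyMap Fm i) :=
    Functor.map_isIso (HomologicalComplex.homologyFunctor _ c i) Fm
  rw [h0] at hisoH
  exact (IsZero.iff_id_eq_zero _).2 ((isIsoZeroEquiv _ _).toFun hisoH).1

theorem isZero_tor_zero_of_surjective (X K : ModuleCat.{u} R) (x : R) (hK : ∀ v : K, x • v = 0)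
    (hs : Function.Surjective fun v : X => x • v) :
    IsZero (((Tor (ModuleCat.{u} R) 0).obj X).obj K) := by
  refine (Iso.isZero_iff ((tenF X).leftDerivedZeroIsoSelf.app K)).2 ?_
  rw [ModuleCat.isZero_iff_subsingleton]
  refine subsingleton_of_forall_eq 0 fun z => ?_
  induction z using TensorProduct.induction_on with
  | zero => rfl
  | tmul a b =>
    obtain ⟨a, rfl⟩ := hs a
    show (x • a) ⊗ₜ[R] b = 0
    rw [TensorProduct.smul_tmul, hK, TensorProduct.tmul_zero]
  | add a b ha hb => rw [ha, hb, add_zero]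

theorem tor_shift (S : ShortComplex (ModuleCat.{u} R)) (hS : S.ShortExact) (K : ModuleCat.{u} R) (x : R)
    (hK : ∀ v : K, x • v = 0) (hb : Function.Bijective fun v : S.X₂ => x • v) (i : ℕ) :
    Nonempty (((Tor (ModuleCat.{u} R) (i + 1)).obj S.X₃).obj K ≅ ((Tor (ModuleCat.{u} R) i).obj S.X₁).obj K) := by
  let P : ProjectiveResolution K := ProjectiveResolution.of _
  let c := ComplexShape.down ℕ
  let C : ModuleCat.{u} R → ChainComplex (ModuleCat.{u} R) ℕ := fun X =>
    ((tenF X).mapHomologicalComplex c).obj P.complex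
  let f : C S.X₁ ⟶ C S.X₂ :=
    (NatTrans.mapHomologicalComplex ((tensoringLeft (ModuleCat.{u} R)).map S.f) c).app P.complex
  let g : C S.X₂ ⟶ C S.X₃ :=
    (NatTrans.mapHomologicalComplex ((tensoringLeft (ModuleCat.{u} R)).map S.g) c).app P.complex
  have hfg : f ≫ g = 0 := by
    refine HomologicalComplex.hom_ext _ _ fun j => ModuleCat.hom_ext ?_
    show S.g.hom.rTensor (P.complex.X j) ∘ₗ S.f.hom.rTensor (P.complex.X j) = 0
    rw [← LinearMap.rTensor_comp, ← ModuleCat.hom_comp, S.zero, ModuleCat.hom_zero, LinearMap.rTensor_zero]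
  have hT : (ShortComplex.mk f g hfg).ShortExact := by
    refine HomologicalComplex.shortExact_of_degreewise_shortExact _ fun j => ?_
    haveI : Module.Projective R (P.complex.X j) := (IsProjective.iff_projective _).2 (P.projective j)
    have he : Function.Exact S.f.hom S.g.hom :=
      (ShortComplex.ShortExact.moduleCat_exact_iff_function_exact _).1 hS.exact
    exact
      { exact := (ShortComplex.ShortExact.moduleCat_exact_iff_function_exact _).2
          (rTensor_exact (P.complex.X j) he ((ModuleCat.epi_iff_surjective _).1 hS.epi_g))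
        mono_f := (ModuleCat.mono_iff_injective _).2 (Module.Flat.rTensor_preserves_injective_linearMap
          (M := P.complex.X j) S.f.hom ((ModuleCat.mono_iff_injective _).1 hS.mono_f))
        epi_g := (ModuleCat.epi_iff_surjective _).2
          (LinearMap.rTensor_surjective (P.complex.X j) ((ModuleCat.epi_iff_surjective _).1 hS.epi_g)) }
  have h2 : ∀ j, IsZero ((C S.X₂).homology j) := fun j =>
    (Iso.isZero_iff (P.isoLeftDerivedObj (tenF S.X₂) j)).1 (isZero_tor_of_bijective S.X₂ K x hK hb j)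
  exact ⟨P.isoLeftDerivedObj (tenF S.X₃) (i + 1) ≪≫ hT.δIso (i + 1) i rfl (h2 _) (h2 _) ≪≫
    (P.isoLeftDerivedObj (tenF S.X₁) i).symm⟩

end Shift

variable {R : Type u} [CommRing R]

theorem push {N : Type u} [AddCommGroup N] [Module R N] {g : ℕ → (R →ₗ[R] N)} {u : R}
    (h : ∀ (t : ℕ) (a : R), g t a = g (t + 1) (u * a)) (t : ℕ) :
    ∀ (e : ℕ) (a : R), g t a = g (t + e) (u ^ e * a) := by
  intro e
  induction e with
  | zero => intro a; simp
  | succ e ih => intro a; rw [ih, h, pow_succ', mul_assoc]; rfl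

theorem mem_of_mul_mem_of_regular {m : ℕ} (x : Fin (m + 1) → R) (t : ℕ)
    (h : IsWeaklyRegular R (List.ofFn (Fin.snoc (fun i : Fin m => x i.castSucc ^ (t + 1)) (x (Fin.last m)) : Fin (m + 1) → R)))
    {a : R} (ha : x (Fin.last m) * a ∈ Ideal.span (Set.range fun i : Fin m => x i.castSucc ^ (t + 1))) :
    a ∈ Ideal.span (Set.range fun i : Fin m => x i.castSucc ^ (t + 1)) := by
  rw [List.ofFn_succ', List.concat_eq_append, isWeaklyRegular_append_iff, isWeaklyRegular_singleton_iff] at h
  have hfun : (fun i : Fin m => (Fin.snoc (fun i : Fin m => x i.castSucc ^ (t + 1)) (x (Fin.last m)) :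
      Fin (m + 1) → R) i.castSucc) = fun i : Fin m => x i.castSucc ^ (t + 1) :=
    funext fun i => Fin.snoc_castSucc ..
  rw [hfun, Fin.snoc_last] at h
  have he : (Ideal.ofList (List.ofFn fun i : Fin m => x i.castSucc ^ (t + 1)) • ⊤ : Submodule R R) =
      Ideal.span (Set.range fun i : Fin m => x i.castSucc ^ (t + 1)) := by
    rw [smul_eq_mul, Ideal.mul_top, Ideal.ofList]
    congr 1
    ext b; simp [List.mem_ofFn]
  have h1 : Submodule.Quotient.mk
      (p := (Ideal.ofList (List.ofFn fun i : Fin m => x i.castSucc ^ (t + 1)) • ⊤ : Submodule R R)) a = 0 := by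
    have h2 := h.2
    refine h2 ?_
    show x (Fin.last m) • Submodule.Quotient.mk a = x (Fin.last m) •
      (0 : R ⧸ (Ideal.ofList (List.ofFn fun i : Fin m => x i.castSucc ^ (t + 1)) • ⊤ : Submodule R R))
    rw [smul_zero, ← Submodule.Quotient.mk_smul, Submodule.Quotient.mk_eq_zero, he]
    exact ha
  rwa [Submodule.Quotient.mk_eq_zero, he] at h1

/-- The iterated quotient `N[1/x] / N` along a regular sequence, with its `Tor` against a module killed
by the sequence. -/
theorem exists_tower (K : ModuleCat.{u} R) : ∀ (m : ℕ) (x : Fin m → R),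
    (∀ e : Fin m → ℕ, (∀ i, 1 ≤ e i) → IsWeaklyRegular R (List.ofFn fun i => x i ^ e i)) →
    (∀ i, ∀ v : K, x i • v = 0) →
    ∃ (N : ModuleCat.{u} R) (g : ℕ → (R →ₗ[R] N)),
      (∀ t a, g t a = 0 ↔ a ∈ Ideal.span (Set.range fun i => x i ^ (t + 1))) ∧
      (∀ z : N, ∃ t a, g t a = z) ∧ (∀ t a, g t a = g (t + 1) ((∏ i, x i) * a)) ∧
      (∀ i, i ≠ m → IsZero (((Tor (ModuleCat.{u} R) i).obj N).obj K)) ∧
      Nonempty (((Tor (ModuleCat.{u} R) m).obj N).obj K ≅ K) := by
  intro m
  induction m with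
  | zero =>
    intro x _ _
    refine ⟨ModuleCat.of R R, fun _ => LinearMap.id, fun t a => ?_, fun z => ⟨0, z, rfl⟩,
      fun t a => by simp, fun i hi => ?_, ⟨(tenF (ModuleCat.of R R)).leftDerivedZeroIsoSelf.app K ≪≫
        (TensorProduct.lid R K).toModuleIso⟩⟩
    · simp [Set.range_eq_empty]
    · obtain ⟨i, rfl⟩ := Nat.exists_eq_succ_of_ne_zero hi
      exact Groth.Agent.TorBridge.isZero_tor_succ_of_flat _ K i
  | succ m ih =>
    intro x hreg hK
    let y : R := x (Fin.last m)
    let x' : Fin m → R := fun i => x i.castSucc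
    have hreg' : ∀ e : Fin m → ℕ, (∀ i, 1 ≤ e i) → IsWeaklyRegular R (List.ofFn fun i => x' i ^ e i) := by
      intro e he
      have h := hreg (Fin.snoc e 1) (fun i => by
        induction i using Fin.lastCases with
        | last => simp
        | cast i => simpa using he i)
      rw [List.ofFn_succ', List.concat_eq_append, isWeaklyRegular_append_iff] at h
      simpa only [Fin.snoc_castSucc] using h.1
    obtain ⟨N, g, hker, hsurj, hu, htor, ⟨htorm⟩⟩ := ih x' hreg' (fun i => hK i.castSucc)
    set u := ∏ i, x' i with hudef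
    have hu' : (∏ i, x i) = u * y := Fin.prod_univ_castSucc x
    have hNy : ∀ n : N, y • n = 0 → n = 0 := by
      intro n hn
      obtain ⟨t, a, rfl⟩ := hsurj n
      rw [← map_smul, smul_eq_mul, hker] at hn
      rw [hker]
      refine mem_of_mul_mem_of_regular x t ?_ hn
      have h := hreg (Fin.snoc (fun _ => t + 1) 1) (fun i => by
        induction i using Fin.lastCases <;> simp)
      convert h using 2
      funext i
      induction i using Fin.lastCases <;> simp
    let Sy := Submonoid.powers y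
    let f : N →ₗ[R] LocalizedModule Sy N := LocalizedModule.mkLinearMap Sy N
    have hf : Function.Injective f := by
      rw [injective_iff_map_eq_zero]
      intro n hn
      obtain ⟨⟨_, k, rfl⟩, hc⟩ := (IsLocalizedModule.eq_zero_iff Sy f).1 hn
      induction k with
      | zero => simpa [Submonoid.smul_def] using hc
      | succ k ihk =>
        refine ihk ?_
        refine hNy _ ?_
        rw [Submonoid.smul_def, smul_smul, ← pow_succ']
        exact hc
    have hcan : ∀ (k : ℕ) (p q : LocalizedModule Sy N), y ^ k • p = y ^ k • q → p = q := fun k p q h =>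
      ((Module.End.isUnit_iff _).1 (IsLocalizedModule.map_units f (⟨y ^ k, k, rfl⟩ : Sy))).1 h
    let h : ℕ → (R →ₗ[R] LocalizedModule Sy N) := fun t =>
      LinearMap.toSpanSingleton R _ (IsLocalizedModule.mk' f (g t 1) (⟨y ^ (t + 1), t + 1, rfl⟩ : Sy))
    have hh : ∀ t a, y ^ (t + 1) • h t a = f (g t a) := by
      intro t a
      show y ^ (t + 1) • a • IsLocalizedModule.mk' f (g t 1) (⟨y ^ (t + 1), t + 1, rfl⟩ : Sy) = _
      rw [smul_comm, show y ^ (t + 1) • IsLocalizedModule.mk' f (g t 1) (⟨y ^ (t + 1), t + 1, rfl⟩ : Sy) =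
        f (g t 1) from IsLocalizedModule.mk'_cancel' f (g t 1) (⟨y ^ (t + 1), t + 1, rfl⟩ : Sy),
        ← map_smul, ← map_smul, smul_eq_mul, mul_one]
    let q := (LinearMap.range f).mkQ
    refine ⟨ModuleCat.of R (LocalizedModule Sy N ⧸ LinearMap.range f), fun t => q ∘ₗ h t,
      fun t a => ?_, fun z => ?_, fun t a => ?_, ?_⟩
    · show q (h t a) = 0 ↔ _
      rw [Submodule.mkQ_apply, Submodule.Quotient.mk_eq_zero, LinearMap.mem_range]
      constructor
      · rintro ⟨n, hn⟩
        obtain ⟨s, b, rfl⟩ := hsurj n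
        have h1 : g t a = y ^ (t + 1) • g s b := hf (by rw [map_smul, hn, hh])
        rw [push hu t s a, push hu s t b, add_comm s t, ← map_smul, smul_eq_mul, ← sub_eq_zero, ← map_sub,
          hker] at h1
        let v : Fin (m + 1) → ℕ := Fin.snoc (fun _ => t + s + 1) (t + 1)
        let D : Fin (m + 1) → R := Fin.snoc (fun i : Fin m => x i.castSucc ^ s) 1
        have hreg2 := hreg v (fun i => by induction i using Fin.lastCases <;> simp [v])
        have hprod : ∏ i, D i = u ^ s := by
          rw [Fin.prod_univ_castSucc]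
          simp [D, hudef, x', Finset.prod_pow]
        have hD : (Matrix.diagonal D).mulVec (fun i => x i ^ (t + 1)) = fun i => x i ^ v i := by
          funext i
          rw [Matrix.mulVec_diagonal]
          induction i using Fin.lastCases with
          | last => simp [D, v]
          | cast i => simp [D, v, ← pow_add]; ring
        have hmain := (LC.OCarroll.ocarroll (M := R) (m + 1) (fun i => x i ^ (t + 1)) (fun i => x i ^ v i)
          (Matrix.diagonal D) (fun i j hij => Matrix.diagonal_apply_ne _ hij.ne) hD hreg2).1 a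
        rw [smul_eq_mul, smul_eq_mul, smul_eq_mul, Ideal.mul_top, Ideal.mul_top, Matrix.det_diagonal,
          hprod] at hmain
        refine hmain ?_
        rw [← sub_add_cancel (u ^ s * a) (y ^ (t + 1) * (u ^ t * b))]
        refine add_mem ?_ (Ideal.mul_mem_right _ _ (Ideal.subset_span ⟨Fin.last m, by simp [v, y]⟩))
        refine Ideal.span_le.2 ?_ h1
        rintro _ ⟨i, rfl⟩
        exact Ideal.subset_span ⟨i.castSucc, by simp [v, x']⟩
      · intro ha
        obtain ⟨c, rfl⟩ := Ideal.mem_span_range_iff_exists_fun.1 ha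
        rw [Fin.sum_univ_castSucc]
        refine ⟨g t (c (Fin.last m)), hcan (t + 1) _ _ ?_⟩
        rw [hh, map_add, ← map_smul f, ← map_smul (g t), smul_eq_mul, mul_comm,
          (hker t (∑ i : Fin m, c i.castSucc * x i.castSucc ^ (t + 1))).2
            (sum_mem fun i _ => Ideal.mul_mem_left _ _ (Ideal.subset_span ⟨i, rfl⟩)), zero_add]
    · obtain ⟨w, rfl⟩ := Submodule.mkQ_surjective _ z
      obtain ⟨⟨n, ⟨_, k, rfl⟩⟩, hw⟩ := IsLocalizedModule.mk'_surjective Sy f w
      obtain ⟨s, b, rfl⟩ := hsurj n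
      refine ⟨s + k, y ^ (s + 1) * (u ^ k * b), congrArg q (hcan (s + k + 1) _ _ ?_)⟩
      rw [hh, ← smul_eq_mul (a := y ^ (s + 1)), map_smul, ← push hu s k b, map_smul,
        show s + k + 1 = (s + 1) + k by omega, pow_add y (s + 1) k, mul_smul, ← hw]
      congr 1
      exact (IsLocalizedModule.mk'_cancel' f (g s b) (⟨y ^ k, k, rfl⟩ : Sy)).symm
    · show q (h t a) = q (h (t + 1) _)
      refine congrArg q (hcan (t + 1 + 1) _ _ ?_)
      rw [hh, hu', mul_comm u y, mul_assoc, ← smul_eq_mul (a := y), map_smul, map_smul, ← hu,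
        pow_succ', mul_smul, hh]
    · let S : ShortComplex (ModuleCat.{u} R) :=
        ShortComplex.mk (ModuleCat.ofHom f) (ModuleCat.ofHom (Y := LocalizedModule Sy N ⧸ LinearMap.range f) q)
          (ModuleCat.hom_ext (LinearMap.range_mkQ_comp f))
      have hS : S.ShortExact :=
        { exact := (ShortComplex.ShortExact.moduleCat_exact_iff_function_exact _).2
            (LinearMap.exact_map_mkQ_range f)
          mono_f := (ModuleCat.mono_iff_injective _).2 hf
          epi_g := (ModuleCat.epi_iff_surjective _).2 (Submodule.mkQ_surjective _) }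
      have hb : Function.Bijective fun v : S.X₂ => y • v := by
        have := (Module.End.isUnit_iff _).1 (IsLocalizedModule.map_units f (⟨y, 1, pow_one y⟩ : Sy))
        exact this
      have hKy : ∀ v : K, y • v = 0 := hK _
      refine ⟨fun i hi => ?_, ⟨(tor_shift S hS K y hKy hb m).some ≪≫ htorm⟩⟩
      rcases i with _ | i
      · refine isZero_tor_zero_of_surjective _ K y hKy fun z => ?_
        obtain ⟨w, rfl⟩ := Submodule.mkQ_surjective (LinearMap.range f) z
        obtain ⟨w', rfl⟩ := hb.2 w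
        exact ⟨q w', (map_smul q y w').symm⟩
      · exact (Iso.isZero_iff (tor_shift S hS K y hKy hb i).some).2 (htor i (by omega))

variable [IsLocalRing R] [IsNoetherianRing R]

/-- `Tor_i(E, k)` for the hull `E` of the residue field of a Gorenstein local ring. -/
theorem tor_hull [LocCoh.IsGorensteinLocalRing R] (d : ℕ) (hd : ringKrullDim R = d) (E : Type u)
    [AddCommGroup E] [Module R E] (f : ResidueField R →ₗ[R] E) (hf : InjHull.IsInjectiveHull f) :
    (∀ i : ℕ, i ≠ d → IsZero (((Tor (ModuleCat.{u} R) i).obj (ModuleCat.of R E)).obj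
      (ModuleCat.of R (ResidueField R)))) ∧
    Nonempty ((((Tor (ModuleCat.{u} R) d).obj (ModuleCat.of R E)).obj (ModuleCat.of R (ResidueField R))) ≅
      ModuleCat.of R (ResidueField R)) := by
  classical
  obtain ⟨d', x, hxm, hd', hrad⟩ := Groth.Agent.CohenLib.exists_fin_sop R
  have hdd : d' = d := by
    have h := hd'.symm.trans hd
    exact_mod_cast h
  subst hdd
  let J : ℕ → Ideal R := fun t => Ideal.span (Set.range fun i => x i ^ t)
  have hofList : ∀ h : Fin d' → R, Ideal.ofList (List.ofFn h) = Ideal.span (Set.range h) := by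
    intro h
    rw [Ideal.ofList]
    congr 1
    ext a; simp [List.mem_ofFn]
  have hx : (Ideal.span (Set.range x)).radical = maximalIdeal R := by
    refine le_antisymm ?_ hrad
    rw [← (maximalIdeal.isMaximal R).isPrime.isRadical.radical]
    exact Ideal.radical_mono (Ideal.span_le.2 (by rintro _ ⟨i, rfl⟩; exact hxm i))
  have hCM : LocCoh.IsCohenMacaulayModule R R :=
    (LC.isCohenMacaulayLocalRing_of_gorenstein (R := R)).supportDim_eq_depth
  have hwr : IsWeaklyRegular R (List.ofFn x) :=
    LC.isWeaklyRegular_of_sop hCM d' hd _ (List.length_ofFn) (by rw [hofList]; exact hx)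
  have hreg : ∀ e : Fin d' → ℕ, (∀ i, 1 ≤ e i) → IsWeaklyRegular R (List.ofFn fun i => x i ^ e i) :=
    fun e he => EGA41Lib.isWeaklyRegular_pow d' x e he hwr
  have hK : ∀ i, ∀ v : ModuleCat.of R (ResidueField R), x i • v = 0 := by
    intro i v
    obtain ⟨r, rfl⟩ := residue_surjective v
    show residue R (x i * r) = 0
    exact (residue_eq_zero_iff _).2 (Ideal.mul_mem_right _ _ (hxm i))
  obtain ⟨N, g, hker, hsurj, hu, htor, ⟨htord⟩⟩ := exists_tower _ d' x hreg hK
  set u := ∏ i, x i with hudef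
  have hcolon : ∀ (t : ℕ) (r : R), r * u ^ t ∈ J (t + 1) → r ∈ J 1 := by
    intro t r h
    have hmain := (LC.OCarroll.ocarroll (M := R) d' (fun i => x i ^ 1) (fun i => x i ^ (t + 1))
      (Matrix.diagonal fun i => x i ^ t) (fun i j hij => Matrix.diagonal_apply_ne _ hij.ne)
      (funext fun i => by rw [Matrix.mulVec_diagonal, ← pow_add]) (hreg (fun _ => t + 1) fun _ => by omega)).1 r
    rw [smul_eq_mul, smul_eq_mul, smul_eq_mul, Ideal.mul_top, Ideal.mul_top, Matrix.det_diagonal,
      Finset.prod_pow, ← hudef, mul_comm] at hmain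
    exact hmain h
  have hprim : ∀ t : ℕ, ∃ n, maximalIdeal R ^ n ≤ J t := by
    intro t
    refine Ideal.exists_pow_le_of_le_radical_of_fg ?_ (IsNoetherian.noetherian _)
    rw [← hx, Ideal.radical_le_radical_iff, Ideal.span_le]
    rintro _ ⟨i, rfl⟩
    exact ⟨t, Ideal.subset_span ⟨i, rfl⟩⟩
  have hsocJ : ∀ t, 1 ≤ t → ∀ s : R, s ∉ J t → (∀ b ∈ maximalIdeal R, b * s ∈ J t) →
      ∀ r : R, (∀ b ∈ maximalIdeal R, b * r ∈ J t) → ∃ c : R, r - c * s ∈ J t := by
    intro t ht s hs hms r hr
    haveI hG := LC.gorenstein_quotient_ofList (List.ofFn fun i => x i ^ t) (fun a ha => by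
      obtain ⟨i, rfl⟩ := List.mem_ofFn.1 ha; exact Ideal.pow_mem_of_mem _ (hxm i) t ht)
      (hreg (fun _ => t) fun _ => ht)
    have hJ : Ideal.ofList (List.ofFn fun i => x i ^ t) = J t := hofList _
    haveI : IsLocalHom (Ideal.Quotient.mk (Ideal.ofList (List.ofFn fun i => x i ^ t))) :=
      IsLocalHom.of_surjective _ Ideal.Quotient.mk_surjective
    have hsoc' : ∀ a : R, (∀ b ∈ maximalIdeal R, b * a ∈ J t) →
        ∀ q ∈ maximalIdeal (R ⧸ Ideal.ofList (List.ofFn fun i => x i ^ t)),
          q * Ideal.Quotient.mk _ a = 0 := by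
      intro a ha q hq
      obtain ⟨b, rfl⟩ := Ideal.Quotient.mk_surjective q
      rw [← map_mul, Ideal.Quotient.eq_zero_iff_mem, hJ]
      exact ha b (by
        rw [mem_maximalIdeal, mem_nonunits_iff] at hq ⊢
        exact fun hu => hq (hu.map _))
    obtain ⟨-, h⟩ := LC.socle_of_gorenstein (s := Ideal.Quotient.mk (Ideal.ofList (List.ofFn fun i => x i ^ t)) s)
      (by rwa [Ne, Ideal.Quotient.eq_zero_iff_mem, hJ]) (hsoc' s hms)
    obtain ⟨c, hc⟩ := h (Ideal.Quotient.mk _ r) (hsoc' r hr)
    obtain ⟨c, rfl⟩ := Ideal.Quotient.mk_surjective c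
    rw [← map_mul, Ideal.Quotient.eq, hJ] at hc
    exact ⟨c, hc⟩
  have hJ1 : J 1 ≤ maximalIdeal R := Ideal.span_le.2 (by rintro _ ⟨i, rfl⟩; simpa using hxm i)
  obtain ⟨s, hs, hms⟩ : ∃ s : R, s ∉ J 1 ∧ ∀ b ∈ maximalIdeal R, b * s ∈ J 1 := by
    have hex : ∃ n, maximalIdeal R ^ n ≤ J 1 := hprim 1
    have hspec := Nat.find_spec hex
    obtain ⟨k, hk⟩ := Nat.exists_eq_succ_of_ne_zero (n := Nat.find hex) fun h0 => by
      rw [h0, pow_zero, Ideal.one_eq_top] at hspec
      exact (maximalIdeal.isMaximal R).ne_top (top_unique (hspec.trans hJ1))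
    obtain ⟨s, hs, hs'⟩ := SetLike.not_le_iff_exists.1 (Nat.find_min hex (show k < Nat.find hex by omega))
    rw [hk, pow_succ'] at hspec
    exact ⟨s, hs', fun b hb => hspec (Ideal.mul_mem_mul hb hs)⟩
  have hsmul : ∀ t (b r : R), b • g t r = g t (b * r) := fun t b r => by rw [← map_smul, smul_eq_mul]
  obtain ⟨g', hg'⟩ := LC.exists_hull_of_cyclic (T := N) (fun z => by
      obtain ⟨t, r, rfl⟩ := hsurj z
      obtain ⟨n, hn⟩ := hprim (t + 1)
      exact ⟨n, fun a ha => (hsmul t a r).trans ((hker t _).2 (Ideal.mul_mem_right r _ (hn ha)))⟩)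
    (g 0 s) (fun h => hs ((hker 0 s).1 h))
    (fun b hb => (hsmul 0 b s).trans ((hker 0 _).2 (hms b hb)))
    (fun z hz => by
      obtain ⟨t, r, rfl⟩ := hsurj z
      have hr : ∀ b ∈ maximalIdeal R, b * r ∈ J (t + 1) := fun b hb =>
        (hker t _).1 ((hsmul t b r).symm.trans (hz b hb))
      have hs0 : g 0 s = g t (u ^ t * s) := by
        have := push hu 0 t s
        rwa [Nat.zero_add] at this
      have hms1 : ∀ b ∈ maximalIdeal R, b * (u ^ t * s) ∈ J (t + 1) := fun b hb =>
        (hker t _).1 (by rw [← hsmul, ← hs0, hsmul]; exact (hker 0 _).2 (hms b hb))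
      obtain ⟨c, hc⟩ := hsocJ (t + 1) (by omega) _
        (fun h => hs (hcolon t s (by rwa [mul_comm]))) hms1 r hr
      exact ⟨c, by rw [hs0, hsmul, ← sub_eq_zero, ← map_sub]; exact (hker t _).2 hc⟩)
    (fun k => by
      obtain ⟨n, hn⟩ := hprim (k + 1)
      refine ⟨J (k + 1), n, (J (k + 1)).liftQ (g k) (fun r hr => (hker k r).2 hr), ?_, hn, ?_⟩
      · refine Ideal.span_le.2 ?_
        rintro _ ⟨i, rfl⟩
        exact Ideal.pow_le_pow_right (Nat.le_succ k) (Ideal.pow_mem_pow (hxm i) (k + 1))
      · rw [← LinearMap.ker_eq_bot, Submodule.ker_liftQ_eq_bot']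
        exact Submodule.ext fun r => (hker k r).symm)
  obtain ⟨e, -⟩ := LC.hull_unique hf hg'
  let eT : ∀ i, ((Tor (ModuleCat.{u} R) i).obj (ModuleCat.of R E)).obj (ModuleCat.of R (ResidueField R)) ≅
      ((Tor (ModuleCat.{u} R) i).obj N).obj (ModuleCat.of R (ResidueField R)) := fun i =>
    ((Tor (ModuleCat.{u} R) i).mapIso e.toModuleIso).app _
  exact ⟨fun i hi => (Iso.isZero_iff (eT i)).2 (htor i hi), ⟨eT d' ≪≫ htord⟩⟩

end Groth.Agent.GrLib8.TorHull
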