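import Groth.Agent.GrLib8.VeroGorRows
import Groth.Agent.GrLib8.CanonSetup

/-!
# A Gorenstein Veronese subring comes from a Gorenstein ring
-/

set_option autoImplicit false
set_option linter.unusedSectionVars false
set_option linter.style.haveILetI false
set_option maxHeartbeats 1600000

universe u

open DirectSum CategoryTheory

namespace Groth.Agent.GrLib8.VeroGor

attribute [local instance] gradedSMul_Hgr

variable {R : Type u} [CommRing R] [LocCoh.IsCohenMacaulayRing R] {𝒜 : ℤ → AddSubgroup R} [GradedRing 𝒜]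

/-- Powers of the irrelevant ideal of a standard graded ring. -/
theorem pow_le_span {m : HomogeneousIdeal 𝒜} (hmS : m.toIdeal = Ideal.span ((𝒜 1 : AddSubgroup R) : Set R)) (j : ℕ) :
    m.toIdeal ^ j ≤ Ideal.span (𝒜 (j : ℤ) : Set R) := by
  induction j with
  | zero =>
    intro z _
    have h1' : (1 : R) ∈ Ideal.span (𝒜 ((0 : ℕ) : ℤ) : Set R) :=
      Ideal.subset_span (by exact_mod_cast SetLike.one_mem_graded 𝒜)
    simpa using Ideal.mul_mem_left _ z h1'
  | succ j ih =>
    rw [pow_succ]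
    refine (Ideal.mul_mono ih hmS.le).trans ?_
    rw [Ideal.span_mul_span', Ideal.span_le]
    rintro _ ⟨b, hb, c, hc, rfl⟩
    exact Ideal.subset_span (by push_cast; exact SetLike.mul_mem_graded hb hc)

variable (hpos : ∀ n : ℤ, n < 0 → 𝒜 n = ⊥) (h0 : IsField (GrLC.deg0 𝒜)) {m : HomogeneousIdeal 𝒜}
  (hm : GrLC.IsStarLocal 𝒜 m)
  (hmsp : m.toIdeal = Ideal.span (⋃ n ∈ Set.Ioi (0 : ℤ), (𝒜 n : Set R))) {n : ℕ} (hn : ringKrullDim R = n)
  (h2 : 2 ≤ n)
  (hstd : Ideal.span (⋃ n ∈ Set.Ioi (0 : ℤ), (𝒜 n : Set R)) = Ideal.span ((𝒜 1 : AddSubgroup R) : Set R))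
  (I : GrLC.StarInjRes 𝒜 𝒜)
  {q : ℕ} (hq : 0 < q) {R' : Type u} [CommRing R'] {𝒜' : ℤ → AddSubgroup R'} [GradedRing 𝒜'] (φ : R' →+* R)
  (hφ : Function.Injective φ) (hdeg : ∀ j : ℤ, (𝒜' j).map (φ : R' →+ R) = 𝒜 (j * q))

include hpos h0 hm hmsp hn h2 hstd hq hφ hdeg in
theorem gorenstein_of_vero [LocCoh.IsGorensteinRing R'] :
    LocCoh.IsGorensteinRing R ∧
      ∃ a : ℤ, GrLC.endDeg (I.Hgr m n) = ((a : WithTop ℤ) : WithBot (WithTop ℤ)) ∧ (q : ℤ) ∣ a := by
  classical
  have hn2 : 2 ≤ n := h2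
  letI := h0.toField
  haveI := isMaximal_of_isStarLocal hpos hm
  have hp : ∀ g < 0, ∀ r ∈ 𝒜 g, r = 0 := fun g hg r hr => by rw [hpos g hg] at hr; exact hr
  have hd : m.toIdeal.height = n :=
    WithBot.coe_injective ((height_eq_ringKrullDim_of_isStarLocal hpos hm).trans hn)
  obtain ⟨a, ha⟩ := Canon.exists_endDeg (I := I) hp hmsp h0 hd
  have hvan : ∀ g, a < g → I.Hgr m n g = ⊥ := fun g hg => (endDeg_le_iff _ a).1 ha.le g hg
  obtain ⟨E', _, _, 𝓔, _, _, e, he⟩ := Canon.exists_hull_residue (𝒜 := 𝒜) (m := m)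
  obtain ⟨C, _, _, 𝒞, _, _, hC⟩ := Canon.exists_starCanonical hp hmsp h0 n I he
  haveI := hC.1
  have hinj := (isInjectiveHull_of_isStarInjHull_maximal m 𝓔 e he).isInjective
  let m' := GrSyz.irrel 𝒜'
  have hm'sp : m'.toIdeal = Ideal.span (⋃ j ∈ Set.Ioi (0 : ℤ), (𝒜' j : Set R')) := irrel_toIdeal_eq
  obtain ⟨hN, hCM, hm', hmax, hd', hn'⟩ := Vero.exists_vero_data q φ hdeg hφ hq hpos h0 hm hmsp hn hm'sp
  haveI := hmax
  have hpos' := Vero.nonneg' q φ hdeg hφ hq hpos
  let I' := starRes (𝒜 := 𝒜') 𝒜'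
  obtain ⟨ι, hι, hιs, hιg⟩ := Vero.exists_ring_map q φ hdeg hq hmsp hm'sp hφ I I' n
  have hG' := LocCoh.IsGorensteinRing.isGorensteinLocalRing_localization (A := R') m'.toIdeal
  have hq' : (0 : ℤ) < q := by exact_mod_cast hq
  have hHgr : ∀ d, Module.finrank (GrLC.deg0 𝒜) (GrLC.comp 𝒜 (I.Hgr m n) d) =
      Module.finrank (GrLC.deg0 𝒜) (GrLC.comp 𝒜 𝒞 (-d)) := fun d => by
    have hS : GrLC.comp 𝒜 (I.Hgr m n) d = I.Hcomp m n d := SetLike.ext fun _ => Iff.rfl
    rw [hS]
    exact Canon.finrank_comp_eq hp hmsp h0 he hC hinj d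
  have hfin : ∀ d, Module.Finite (GrLC.deg0 𝒜) (GrLC.comp 𝒜 𝒞 d) := fun d => finite_comp 𝒜 hp 𝒞 d
  -- `q` divides the `a`-invariant
  have hle1 : ∀ ρ : ℤ, 0 ≤ ρ → ρ < q → (q : ℤ) ∣ a - ρ →
      Module.finrank (GrLC.deg0 𝒜) (GrLC.comp 𝒜 𝒞 (-(a - ρ))) ≤ 1 := fun ρ _ hρ ⟨j, hj⟩ => by
    rw [← hHgr]
    exact finrank_le_one_of_simpleSoc q φ hdeg hm'sp ι hι hιs hιg (GorSocle.simpleSoc I' hd' hG') h0 hvan
      (hj.trans (mul_comm _ _)) hρ
  have hdvd : (q : ℤ) ∣ a := by
    by_contra hdvd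
    have h1 : 1 ≤ a % q := by
      have := Int.emod_nonneg a (ne_of_gt hq')
      have : a % q ≠ 0 := fun h => hdvd (Int.dvd_of_emod_eq_zero h)
      omega
    have h3 := hle1 (a % q) (by omega) (Int.emod_lt_of_pos a hq') ⟨a / q, by rw [Int.emod_def]; ring⟩
    have h4 := Canon.two_le_finrank hpos h0 hm hmsp hstd hn h2 he hC a ha (-(a - a % q)) (by omega)
    omega
  refine ⟨?_, a, ha, hdvd⟩
  -- the bottom piece of the *canonical module
  obtain ⟨c, hc, hc0⟩ := Canon.exists_ne_zero_piece hpos h0 hmsp he hC a ha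
  have hspan : ∀ z ∈ 𝒞 (-a), ∃ t ∈ 𝒜 0, t • c = z := by
    intro z hz
    have h1 := hle1 0 le_rfl hq' (by simpa using hdvd)
    rw [sub_zero] at h1
    obtain ⟨w, hw⟩ := finrank_le_one_iff.1 h1
    obtain ⟨α, hα⟩ := hw ⟨c, hc⟩
    obtain ⟨β, hβ⟩ := hw ⟨z, hz⟩
    have hα0 : α ≠ 0 := fun h => hc0 (by
      rw [h, zero_smul] at hα
      exact (congrArg Subtype.val hα).symm)
    have h2 : (β * α⁻¹) • (⟨c, hc⟩ : GrLC.comp 𝒜 𝒞 (-a)) = ⟨z, hz⟩ := by
      rw [← hα, smul_smul, mul_assoc, inv_mul_cancel₀ hα0, mul_one, hβ]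
    exact ⟨_, (β * α⁻¹).2, congrArg Subtype.val h2⟩
  -- the socle of the Veronese subring
  obtain ⟨a', ha'⟩ := hdvd
  have ha'q : a = a' * q := by rw [ha', mul_comm]
  obtain ⟨s', S'⟩ := exists_socle hpos' (Vero.isField_deg0' q φ hdeg hφ hq h0) hm' hm'sp hn' I' a' (by
    refine le_antisymm ((endDeg_le_iff _ a').2 fun g hg => (AddSubgroup.eq_bot_iff_forall _).2 fun y hy => hι ?_) ?_
    · have h1 := (hιg g).le (AddSubgroup.mem_map_of_mem ι hy)
      rw [hvan (g * q) (ha'q ▸ mul_lt_mul_of_pos_right hg hq'), AddSubgroup.mem_bot] at h1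
      rw [h1, map_zero]
    · refine le_iSup₂_of_le a' (fun hb => ?_) le_rfl
      have h1 := hιg a'
      rw [hb, AddSubgroup.map_bot, ← ha'q] at h1
      refine absurd ((Canon.Hgr_eq_bot_iff_comp hp hmsp h0 he hC a).1 h1.symm c hc) hc0)
  have hmul : ∀ l : ℤ, (∀ z ∈ 𝒞 (l * q - a), ∃ r ∈ 𝒜 (l * q), r • c = z) ∧
      (∀ r ∈ 𝒜 (l * q), r • c = 0 → r = 0) := by
    intro l
    have hdeg' : (a' - l) * q = a - l * q := by rw [sub_mul, ← ha'q]
    refine ⟨fun z hz => Canon.mem_smul_of_ess hp hmsp h0 he hC hc (fun y hy hy0 => ?_) hspan hz, fun r hr hrc => ?_⟩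
    · rw [← hdeg'] at hy
      obtain ⟨y', hy', rfl⟩ := (hιg (a' - l)).ge hy
      obtain ⟨r', hr', hry⟩ := S'.ess (a' - l) y' hy' fun h => hy0 (by rw [h, map_zero])
      rw [sub_sub_cancel] at hr'
      exact ⟨φ r', (hdeg l).le (AddSubgroup.mem_map_of_mem (φ : R' →+ R) hr'),
        fun h => hry (hι (by rw [hιs, h, map_zero]))⟩
    · by_contra hr0
      obtain ⟨r', hr', rfl⟩ := (hdeg l).ge hr
      obtain ⟨y', hy', hry⟩ := S'.faith l r' hr' fun h => hr0 (by rw [h]; exact map_zero φ)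
      have hy := (hιg (a' - l)).le (AddSubgroup.mem_map_of_mem ι hy')
      rw [hdeg'] at hy
      refine Canon.smul_ne_zero_of_faith hp hmsp h0 he hC hspan hr hy ?_ hrc
      exact fun h => hry (hι (by rw [hιs, map_zero]; exact h))
  -- depth at least two
  obtain ⟨x, y, rs, hxy, hxym⟩ : ∃ x y rs, RingTheory.Sequence.IsWeaklyRegular R (x :: y :: rs) ∧
      x ∈ m.toIdeal ∧ y ∈ m.toIdeal := by
    obtain ⟨rs, hrs, hrsm, hlen⟩ := LC.exists_idealDepth_eq_length (M := R) m.toIdeal (by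
      rw [smul_eq_mul, Ideal.mul_top]; exact Ideal.IsMaximal.ne_top ‹_›)
    have h : (rs.length : WithBot ℕ∞) = (n : WithBot ℕ∞) :=
      (congrArg (fun v : ℕ∞ => (v : WithBot ℕ∞)) hlen).symm.trans ((idealDepth_eq_ringKrullDim hpos hm).trans hn)
    have h' : rs.length = n := by exact_mod_cast h
    match rs, hrs, hrsm, h' with
    | [], _, _, h' => simp at h'; omega
    | [_], _, _, h' => simp at h'; omega
    | x :: y :: rs, hrs, hrsm, _ => exact ⟨x, y, rs, hrs, hrsm x (by simp), hrsm y (by simp)⟩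
  rw [RingTheory.Sequence.isWeaklyRegular_cons_iff, RingTheory.Sequence.isWeaklyRegular_cons_iff] at hxy
  have hx0 : ∀ r : R, x * r = 0 → r = 0 := fun r hr =>
    hxy.1 (show x • r = x • (0 : R) by rw [smul_eq_mul, smul_zero, hr])
  have hxN : ∀ (N : ℕ) (r : R), x ^ N * r = 0 → r = 0 := by
    intro N
    induction N with
    | zero => intro r hr; simpa using hr
    | succ N ih => intro r hr; exact hx0 r (ih _ (by rw [← mul_assoc, ← pow_succ]; exact hr))
  have hmS : m.toIdeal = Ideal.span ((𝒜 1 : AddSubgroup R) : Set R) := hmsp.trans hstd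
  have hshift : ∀ g : ℤ, ∃ (N : ℕ) (l : ℤ), g + N = l * q := fun g => by
    refine ⟨((-g) % q).toNat, -((-g) / q), ?_⟩
    rw [Int.toNat_of_nonneg (Int.emod_nonneg _ (ne_of_gt hq')), Int.emod_def]
    ring
  let f : R →ₗ[R] C := LinearMap.toSpanSingleton R C c
  have hinjf : Function.Injective f := (injective_iff_map_eq_zero f).2 fun r hr => by
    rw [← sum_support_decompose 𝒜 r]
    refine Finset.sum_eq_zero fun i _ => ?_
    have hic : (decompose 𝒜 r i : R) • c = 0 := (Submodule.mem_annihilator_span_singleton c _).1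
      (isHomogeneous_annihilator 𝒞 hc i ((Submodule.mem_annihilator_span_singleton c r).2 hr))
    obtain ⟨N, l, hN⟩ := hshift i
    refine hxN N _ ?_
    have hkill : ∀ t ∈ Ideal.span (𝒜 (N : ℤ) : Set R), t * (decompose 𝒜 r i : R) = 0 := by
      intro t ht
      induction ht using Submodule.span_induction with
      | mem t ht =>
        refine (hmul l).2 _ ?_ (by rw [mul_smul, hic, smul_zero])
        rw [← hN, add_comm]
        exact SetLike.mul_mem_graded ht (SetLike.coe_mem _)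
      | zero => exact zero_mul _
      | add p p' _ _ hp' hp'' => rw [add_mul, hp', hp'', add_zero]
      | smul p p' _ hp' => rw [smul_eq_mul, mul_assoc, hp', mul_zero]
    exact hkill _ (pow_le_span hmS N (Ideal.pow_mem_pow hxym.1 N))
  have hstep : ∀ z : C, (∀ t ∈ m.toIdeal, t • z ∈ LinearMap.range f) → z ∈ LinearMap.range f := by
    intro z hz
    obtain ⟨r, hr⟩ := hz x hxym.1
    obtain ⟨s, hs⟩ := hz y hxym.2
    have h1 : y * r = x * s := hinjf (by
      show (y * r) • c = (x * s) • c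
      rw [mul_smul, mul_smul, show r • c = x • z from hr, show s • c = y • z from hs, smul_comm])
    have h2 : Submodule.Quotient.mk r = (0 : QuotSMulTop x R) := by
      refine hxy.2.1 ?_
      show y • (Submodule.Quotient.mk r : QuotSMulTop x R) = y • 0
      rw [smul_zero, ← Submodule.Quotient.mk_smul, Submodule.Quotient.mk_eq_zero, smul_eq_mul, h1]
      exact Submodule.smul_mem_pointwise_smul s x ⊤ Submodule.mem_top
    obtain ⟨r', -, hr'⟩ := (Submodule.mem_smul_pointwise_iff_exists r x ⊤).1 ((Submodule.Quotient.mk_eq_zero _).1 h2)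
    refine ⟨r', ?_⟩
    let u := z - r' • c
    have hxu : x • u = 0 := by
      rw [smul_sub, smul_smul, show x * r' = r from hr', show r • c = x • z from hr, sub_self]
    have htu : ∀ t ∈ m.toIdeal, t • u = 0 := fun t ht => by
      obtain ⟨st, hst⟩ := hz t ht
      have h3 : t • u = (st - t * r') • c := by
        rw [smul_sub, sub_smul, mul_smul, show st • c = t • z from hst]
      have h4 : x * (st - t * r') = 0 := hinjf (by
        show (x * (st - t * r')) • c = f 0
        rw [map_zero, mul_smul, ← h3, smul_comm, hxu, smul_zero])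
      rw [h3, hx0 _ h4, zero_smul]
    have hu : u = 0 := by
      rw [← sum_support_decompose 𝒞 u]
      refine Finset.sum_eq_zero fun g _ => ?_
      by_contra hg
      refine Canon.not_isMaximal_cut hpos hm hn hn2 he hC (SetLike.coe_mem (decompose 𝒞 u g)) hg 0 (zero_mem _)
        (le_trans ?_ (le_trans le_sup_left Ideal.le_radical))
      rw [hmS, Ideal.span_le]
      intro t ht
      refine (Submodule.mem_annihilator_span_singleton _ t).2 ?_
      have h5 := decompose_smul_of_mem_left 𝒜 𝒞 ht u (1 + g)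
      rw [htu t (hmS.ge (Ideal.subset_span ht)), decompose_zero, DirectSum.zero_apply, ZeroMemClass.coe_zero,
        add_sub_cancel_left] at h5
      exact h5.symm
    exact (sub_eq_zero.1 hu).symm
  have hdesc : ∀ (N : ℕ) (z : C), (∀ t ∈ m.toIdeal ^ N, t • z ∈ LinearMap.range f) → z ∈ LinearMap.range f := by
    intro N
    induction N with
    | zero => intro z hz; simpa using hz 1 (by rw [pow_zero, Ideal.one_eq_top]; trivial)
    | succ N ih =>
      intro z hz
      refine ih z fun t ht => hstep _ fun t' ht' => ?_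
      rw [smul_smul]
      exact hz _ (by rw [pow_succ, mul_comm t' t]; exact Ideal.mul_mem_mul ht ht')
  have hsurj : Function.Surjective f := fun z => by
    rw [← sum_support_decompose 𝒞 z]
    refine (LinearMap.mem_range (f := f)).1 (Submodule.sum_mem _ fun g _ => ?_)
    obtain ⟨N, l, hN⟩ := hshift (g + a)
    refine hdesc N _ fun t ht => ?_
    have ht' := pow_le_span hmS N ht
    clear ht
    induction ht' using Submodule.span_induction with
    | mem t ht =>
      obtain ⟨r, -, hr⟩ := (hmul l).1 (t • (decompose 𝒞 z g : C)) (by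
        have := SetLike.GradedSMul.smul_mem (B := 𝒞) ht (SetLike.coe_mem (decompose 𝒞 z g))
        rwa [vadd_eq_add, show (N : ℤ) + g = l * q - a by omega] at this)
      exact ⟨r, hr⟩
    | zero => rw [zero_smul]; exact zero_mem _
    | add p p' _ _ hp' hp'' => rw [add_smul]; exact add_mem hp' hp''
    | smul p p' _ hp' => rw [smul_eq_mul, mul_smul]; exact Submodule.smul_mem _ _ hp'
  exact Canon.gorenstein_of_linearEquiv hpos hm hn he hC (LinearEquiv.ofBijective f ⟨hinjf, hsurj⟩)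

end Groth.Agent.GrLib8.VeroGor
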