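import Groth.Agent.GrLib8.VeroGor

/-!
# Gorenstein Veronese subrings: criterion and type
-/

set_option autoImplicit false
set_option linter.unusedSectionVars false
set_option linter.style.haveILetI false
set_option maxHeartbeats 1600000

universe u

open DirectSum CategoryTheory

namespace Groth.Agent.GrLib8.VeroGor

variable {R : Type u} [CommRing R] [LocCoh.IsGorensteinRing R] {𝒜 : ℤ → AddSubgroup R} [GradedRing 𝒜]
variable (hpos : ∀ n : ℤ, n < 0 → 𝒜 n = ⊥) (h0 : IsField (GrLC.deg0 𝒜)) {m : HomogeneousIdeal 𝒜}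
  (hm : GrLC.IsStarLocal 𝒜 m)
  (hmsp : m.toIdeal = Ideal.span (⋃ n ∈ Set.Ioi (0 : ℤ), (𝒜 n : Set R))) {n : ℕ} (hn : ringKrullDim R = n)
  (I : GrLC.StarInjRes 𝒜 𝒜) (a : ℤ) (ha : GrLC.endDeg (I.Hgr m n) = ((a : WithTop ℤ) : WithBot (WithTop ℤ)))
  {q : ℕ} (hq : 0 < q) {R' : Type u} [CommRing R'] {𝒜' : ℤ → AddSubgroup R'} [GradedRing 𝒜'] (φ : R' →+* R)
  (hφ : Function.Injective φ) (hdeg : ∀ j : ℤ, (𝒜' j).map (φ : R' →+ R) = 𝒜 (j * q))

include hpos h0 hm hmsp hn ha hq hφ hdeg in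
/-- A Veronese subring at a divisor of the `a`-invariant is Gorenstein. -/
theorem gorensteinRing_of_dvd (hdvd : (q : ℤ) ∣ a) : LocCoh.IsGorensteinRing R' := by
  classical
  haveI := LC.Liaison.isCohenMacaulayRing_of_gorenstein R
  let m' := GrSyz.irrel 𝒜'
  have hm'sp : m'.toIdeal = Ideal.span (⋃ j ∈ Set.Ioi (0 : ℤ), (𝒜' j : Set R')) := irrel_toIdeal_eq
  obtain ⟨hN, hCM, hm', hmax, hd, hn'⟩ := Vero.exists_vero_data q φ hdeg hφ hq hpos h0 hm hmsp hn hm'sp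
  haveI := hN
  haveI := hCM
  haveI := hmax
  let I' := starRes (𝒜 := 𝒜') 𝒜'
  obtain ⟨ι, hι, hιs, hιg⟩ := Vero.exists_ring_map q φ hdeg hq hmsp hm'sp hφ I I' n
  obtain ⟨s, S⟩ := exists_socle hpos h0 hm hmsp hn I a ha
  obtain ⟨j₀, hj₀⟩ := hdvd
  have hpos' := Vero.nonneg' q φ hdeg hφ hq hpos
  refine gorensteinRing_of_atMax hpos' hm' hn' (GorSocle.gorensteinLocal I' hd ?_
    (simpleSoc_of_dvd q φ hdeg hm'sp ι hι hιs hιg hpos h0 hq S (hj₀.trans (mul_comm _ _))))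
  intro i hi
  haveI : IsNoetherianRing (Localization.AtPrime m'.toIdeal) :=
    IsLocalization.isNoetherianRing m'.toIdeal.primeCompl (Localization.AtPrime m'.toIdeal) inferInstance
  haveI := LocCoh.IsCohenMacaulayRing.isCohenMacaulayLocalRing_localization (R := R') m'.toIdeal
  refine (LC.le_idealDepth_iff_H (IsLocalRing.maximalIdeal (Localization.AtPrime m'.toIdeal))
    (Localization.AtPrime m'.toIdeal) n).1 ?_ i hi
  refine WithBot.coe_le_coe.1 (le_of_eq (Eq.symm ?_))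
  exact LocCoh.IsCohenMacaulayLocalRing.supportDim_eq_depth.symm.trans
    ((Module.supportDim_self_eq_ringKrullDim _).trans (GorSocle.ringKrullDim_atMax_eq hd))

include hpos h0 hm hmsp hn ha hq hφ hdeg in
/-- A Gorenstein Veronese subring forces the divisibility. -/
theorem dvd_of_gorensteinRing (hstd : Ideal.span (⋃ n ∈ Set.Ioi (0 : ℤ), (𝒜 n : Set R)) = Ideal.span ((𝒜 1 : AddSubgroup R) : Set R))
    (hR1 : 2 ≤ Module.finrank (GrLC.deg0 𝒜) (GrLC.comp 𝒜 𝒜 1)) (h1 : 1 ≤ n)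
    [LocCoh.IsGorensteinRing R'] : (q : ℤ) ∣ a := by
  classical
  haveI := LC.Liaison.isCohenMacaulayRing_of_gorenstein R
  let m' := GrSyz.irrel 𝒜'
  have hm'sp : m'.toIdeal = Ideal.span (⋃ j ∈ Set.Ioi (0 : ℤ), (𝒜' j : Set R')) := irrel_toIdeal_eq
  obtain ⟨hN, hCM, hm', hmax, hd, hn'⟩ := Vero.exists_vero_data q φ hdeg hφ hq hpos h0 hm hmsp hn hm'sp
  haveI := hmax
  let I' := starRes (𝒜 := 𝒜') 𝒜'
  obtain ⟨ι, hι, hιs, hιg⟩ := Vero.exists_ring_map q φ hdeg hq hmsp hm'sp hφ I I' n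
  obtain ⟨s, S⟩ := exists_socle hpos h0 hm hmsp hn I a ha
  by_contra hdvd
  have hq' : (0 : ℤ) < q := by exact_mod_cast hq
  have hρ : 1 ≤ a % q := by
    have := Int.emod_nonneg a (ne_of_gt hq')
    have : a % q ≠ 0 := fun h => hdvd (Int.dvd_of_emod_eq_zero h)
    omega
  have hj₀ : a - a % q = a / q * q := by
    rw [Int.emod_def]; ring
  have hG := LocCoh.IsGorensteinRing.isGorensteinLocalRing_localization (A := R') m'.toIdeal
  have h2 := finrank_le_one_of_simpleSoc q φ hdeg hm'sp ι hι hιs hιg (GorSocle.simpleSoc I' hd hG) h0 S.vanish hj₀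
    (Int.emod_lt_of_pos a hq')
  rw [(finrank_eq hpos h0 S (a % q)).2] at h2
  have h3 := two_le_finrank hpos h0 hm hmsp hstd hR1 hn h1 (a % q) hρ
  omega

include hpos h0 hm hmsp hn ha hq hφ hdeg in
/-- The type of a Veronese subring of a Gorenstein ring. -/
theorem bassNum_eq (hstd : Ideal.span (⋃ n ∈ Set.Ioi (0 : ℤ), (𝒜 n : Set R)) = Ideal.span ((𝒜 1 : AddSubgroup R) : Set R))
    (m' : HomogeneousIdeal 𝒜') [m'.toIdeal.IsMaximal]
    (hm'sp : m'.toIdeal = Ideal.span (⋃ j ∈ Set.Ioi (0 : ℤ), (𝒜' j : Set R'))) (ρ : ℤ) (hρ0 : 0 ≤ ρ) (hρq : ρ < q)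
    (hρa : (q : ℤ) ∣ a - ρ) :
    GrLC.bassNum m'.toIdeal R' n = (Module.finrank (GrLC.deg0 𝒜) (GrLC.comp 𝒜 𝒜 ρ) : ℕ∞) := by
  classical
  haveI := LC.Liaison.isCohenMacaulayRing_of_gorenstein R
  obtain ⟨hN, hCM, hm', hmax, hd, hn'⟩ := Vero.exists_vero_data q φ hdeg hφ hq hpos h0 hm hmsp hn hm'sp
  haveI := hN
  haveI := hCM
  let I' := starRes (𝒜 := 𝒜') 𝒜'
  obtain ⟨ι, hι, hιs, hιg⟩ := Vero.exists_ring_map q φ hdeg hq hmsp hm'sp hφ I I' n
  obtain ⟨s, S⟩ := exists_socle hpos h0 hm hmsp hn I a ha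
  obtain ⟨j₀, hj₀⟩ := hρa
  obtain ⟨h⟩ := nonempty_H_equiv 𝒜' I' m' n
  rw [bassNum_eq_length_soc m'.toIdeal n
    (fun i hi => subsingleton_H_of_ne (Vero.nonneg' q φ hdeg hφ hq hpos) hm' hn' hi.ne) h,
    length_soc_eq q φ hdeg hm'sp ι hι hιs hιg hpos h0 hstd hq S hρ0 hρq (hj₀.trans (mul_comm _ _))]
  letI := h0.toField
  letI := gradedSMul_Hgr I m n
  haveI : Module.Finite (GrLC.deg0 𝒜) (GrLC.comp 𝒜 (I.Hgr m n) (a - ρ)) := (finrank_eq hpos h0 S ρ).1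
  rw [Module.length_eq_finrank, (finrank_eq hpos h0 S ρ).2]

end Groth.Agent.GrLib8.VeroGor
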