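import Groth.Agent.GrLib8.Veronese
import Groth.Agent.GrLib8.GorSocle
import Groth.Agent.GrLib8.GrCM
import Groth.Agent.GrLib8.SegCMRing
import Groth.Agent.EGA41Lib.IntDim

/-!
# The top cohomology of a Veronese subring as a module
-/

set_option autoImplicit false
set_option linter.unusedSectionVars false
set_option linter.style.haveILetI false
set_option maxHeartbeats 1600000

universe u

open DirectSum CategoryTheory

namespace Groth.Agent.GrLib8.Vero

variable {R : Type u} [CommRing R] {𝒜 : ℤ → AddSubgroup R} [GradedRing 𝒜] [IsNoetherianRing R]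
variable {R' : Type u} [CommRing R'] {𝒜' : ℤ → AddSubgroup R'} [GradedRing 𝒜'] [IsNoetherianRing R']
variable (q : ℕ) (φ : R' →+* R) (hdeg : ∀ j : ℤ, (𝒜' j).map (φ : R' →+ R) = 𝒜 (j * q)) (hq : 0 < q)
variable {m : HomogeneousIdeal 𝒜} {m' : HomogeneousIdeal 𝒜'}
variable (hmsp : m.toIdeal = Ideal.span (⋃ n ∈ Set.Ioi (0 : ℤ), (𝒜 n : Set R)))
  (hm'sp : m'.toIdeal = Ideal.span (⋃ j ∈ Set.Ioi (0 : ℤ), (𝒜' j : Set R')))

include hmsp hm'sp hdeg hq in
/-- Cohomology commutes with Veronese submodules, semilinearly. -/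
theorem exists_H_map {M : GrLC.GMod.{u} 𝒜} (E : GrLC.StarInjRes 𝒜 M.gr) {P : GrLC.GMod.{u} 𝒜'}
    (e : P.carrier →ₗ[R'] (vero q φ hdeg hq M).carrier) (he : GrLC.IsGrHom P.gr (vero q φ hdeg hq M).gr e)
    (heb : Function.Bijective e) (F : GrLC.StarInjRes 𝒜' P.gr) (p : ℕ) :
    ∃ ι : F.H m' p →+ E.H m p, Function.Injective ι ∧ (∀ (r : R') x, ι (r • x) = φ r • ι x) ∧
      ∀ j, (F.Hgr m' p j).map ι = E.Hgr m p (j * q) := by
  classical
  let r := vARes q φ hdeg hq hmsp hm'sp E e he heb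
  obtain ⟨Ψ, hΨs, hΨk, hΨg, -⟩ := r.exists_psi p F
  let vv : ∀ n, (r.A n).carrier →+ (E.X n).carrier := fun n => val q φ hdeg hq (E.X n)
  have hv_inj : ∀ n, Function.Injective (vv n) := fun n => val_injective q φ hdeg hq (E.X n)
  letI := (isInternal_Hgr P.gr F m' p).chooseDecomposition
  have hgam : ∀ n (z : (r.A n).carrier), z ∈ GrLC.gam m'.toIdeal (r.A n).carrier ↔
      vv n z ∈ GrLC.gam m.toIdeal (E.X n).carrier := fun n z =>
    mem_gam_iff q φ hdeg hq hmsp hm'sp (E.X n) z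
  have hcoc : ∀ n (z : (r.A n).carrier), z ∈ r.cocyc n ↔ vv n z ∈ E.cocyc m n := fun n z => by
    refine and_congr (hgam n z) ?_
    have e1 : vv (n + 1) (r.d n z) = E.d n (vv n z) := val_vMap q φ hdeg hq (E.d n) (E.d_grHom n) z
    show r.d n z = 0 ↔ E.d n (vv n z) = 0
    rw [← e1]
    exact ⟨fun h => by rw [h, map_zero], fun h => hv_inj _ (h.trans (map_zero _).symm)⟩
  have hproj_gam : ∀ n (v : (E.X n).carrier), v ∈ GrLC.gam m.toIdeal (E.X n).carrier →
      vProj (E.X n).gr q v ∈ GrLC.gam m.toIdeal (E.X n).carrier := fun n v hv => by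
    rw [← sum_support_decompose (E.X n).gr v, map_sum]
    refine Submodule.sum_mem _ fun g _ => ?_
    rw [vProj_of_mem (E.X n).gr q (SetLike.coe_mem _)]
    split_ifs
    · exact isHomogeneous_gam (E.X n).gr _ g hv
    · exact zero_mem _
  have hcob : ∀ n (z : (r.A n).carrier), z ∈ r.cobdy n ↔ vv n z ∈ E.cobdy m n := by
    intro n z
    cases n with
    | zero =>
      show z ∈ (⊥ : Submodule R' _) ↔ vv 0 z ∈ (⊥ : Submodule R _)
      rw [Submodule.mem_bot, Submodule.mem_bot]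
      exact ⟨fun h => by rw [h, map_zero], fun h => hv_inj _ (h.trans (map_zero _).symm)⟩
    | succ n =>
      constructor
      · rintro ⟨v, hv, rfl⟩
        exact ⟨vv n v, (hgam n v).1 hv, (val_vMap q φ hdeg hq _ (E.d_grHom n) v).symm⟩
      · rintro ⟨v, hv, hvz⟩
        refine ⟨retr q φ hdeg hq (E.X n) v, (hgam n _).2 (hproj_gam n v hv), hv_inj _ ?_⟩
        refine (val_vMap q φ hdeg hq _ (E.d_grHom n) _).trans ?_
        rw [val_retr]
        refine ((vProj_map (E.X n).gr q (E.X (n + 1)).gr (E.d n).toAddMonoidHom (E.d_grHom n) v).symm).trans ?_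
        show vProj (E.X (n + 1)).gr q (E.d n v) = _
        rw [hvz]
        exact vProj_eq_self (E.X (n + 1)).gr q (val_mem q φ hdeg hq (E.X (n + 1)) z)
  let β : r.cocyc p →+ E.H m p :=
    (E.toH m p).toAddMonoidHom.comp (AddMonoidHom.mk' (fun z => ⟨vv p z.1, (hcoc p z.1).1 z.2⟩)
      fun a b => Subtype.ext (map_add (vv p) _ _))
  have hβ : ∀ z z', Ψ z = Ψ z' ↔ β z = β z' := fun z z' => by
    rw [← sub_eq_zero, ← map_sub, hΨk, hcob, ← sub_eq_zero (a := β z), ← map_sub]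
    exact (toH_eq_zero E m p ⟨_, (hcoc p (z - z').1).1 (z - z').2⟩).symm
  choose pre hpre using hΨs
  let ι : F.H m' p →+ E.H m p := AddMonoidHom.mk' (fun x => β (pre x)) fun x y => by
    rw [← map_add, ← hβ, map_add, hpre, hpre, hpre]
  have hι : ∀ z, ι (Ψ z) = β z := fun z => (hβ _ _).1 (hpre _)
  refine ⟨ι, fun x y h => ?_, fun a x => ?_, fun j => le_antisymm ?_ ?_⟩
  · rw [← hpre x, ← hpre y]
    exact (hβ _ _).2 h
  · obtain ⟨z, rfl⟩ : ∃ z, Ψ z = x := ⟨pre x, hpre x⟩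
    rw [← map_smul, hι, hι]
    exact (congrArg (E.toH m p) (Subtype.ext (val_smul q φ hdeg hq (E.X p) a z.1))).trans (map_smul (E.toH m p) (φ a) _)
  · rintro _ ⟨x, hx, rfl⟩
    obtain ⟨z, hz, rfl⟩ : ∃ z : r.cocyc p, (z : (r.A p).carrier) ∈ (r.A p).gr j ∧ Ψ z = x :=
      Seg.exists_sub_preimage (r.A p).gr (F.Hgr m' p) (P := r.cocyc p)
        (fun g z hz => ⟨isHomogeneous_gam (r.A p).gr _ g hz.1,
          isHomogeneous_ker (r.A p).gr (r.A (p + 1)).gr (r.d_grHom p) g hz.2⟩)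
        Ψ (fun g z hz => hΨg g z hz) (y := x) (d := j) hx ⟨pre x, hpre x⟩
    rw [hι]
    exact ⟨_, (mem_vero_gr q φ hdeg hq (E.X p) j z.1).1 hz, rfl⟩
  · rintro _ ⟨c, hc, rfl⟩
    obtain ⟨z, hz⟩ := exists_val q φ hdeg hq (E.X p) (AddSubgroup.mem_iSup_of_mem j hc)
    refine ⟨Ψ ⟨z, (hcoc p z).2 (hz ▸ c.2)⟩, hΨg j ⟨z, _⟩ ((mem_vero_gr q φ hdeg hq (E.X p) j z).2 (hz ▸ hc)), ?_⟩
    rw [hι]
    exact congrArg (E.toH m p) (Subtype.ext hz)

include hmsp hm'sp hdeg hq in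
/-- The cohomology of a Veronese subring. -/
theorem exists_ring_map (hφ : Function.Injective φ) (I : GrLC.StarInjRes 𝒜 𝒜) (I' : GrLC.StarInjRes 𝒜' 𝒜') (p : ℕ) :
    ∃ ι : I'.H m' p →+ I.H m p, Function.Injective ι ∧ (∀ (r : R') x, ι (r • x) = φ r • ι x) ∧
      ∀ j, (I'.Hgr m' p j).map ι = I.Hgr m p (j * q) := by
  classical
  let M0 := GrLC.GMod.of 𝒜 R 𝒜
  let P0 := GrLC.GMod.of 𝒜' R' 𝒜'
  have hmem : ∀ x : R', φ x ∈ vAdd M0.gr q := fun x => by
    induction x using DirectSum.Decomposition.inductionOn 𝒜' with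
    | zero => rw [map_zero]; exact zero_mem _
    | add a b ha hb => rw [map_add]; exact add_mem ha hb
    | @homogeneous j y => exact AddSubgroup.mem_iSup_of_mem j (map_mem q φ hdeg y.2)
  let e : P0.carrier →ₗ[R'] (vero q φ hdeg hq M0).carrier :=
    { toFun := fun x => retr q φ hdeg hq M0 (φ x)
      map_add' := fun a b => val_injective q φ hdeg hq M0 (by
        simp only [val_retr, map_add]
        exact (congrArg _ (map_add φ a b)).trans (map_add _ _ _))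
      map_smul' := fun r a => val_injective q φ hdeg hq M0 (by
        rw [RingHom.id_apply, val_smul, val_retr, val_retr]
        exact (congrArg _ (map_mul φ r a)).trans (vProj_smul q φ hdeg M0 r _)) }
  have hev : ∀ x, val q φ hdeg hq M0 (e x) = φ x := fun x => vProj_eq_self M0.gr q (hmem x)
  have he : GrLC.IsGrHom P0.gr (vero q φ hdeg hq M0).gr e := fun j x hx => by
    rw [mem_vero_gr, hev]
    exact map_mem q φ hdeg hx
  have heb : Function.Bijective e := by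
    refine ⟨fun a b h => hφ ((hev a).symm.trans ((congrArg _ h).trans (hev b))), fun z => ?_⟩
    obtain ⟨x, hx⟩ : ∃ x, φ x = val q φ hdeg hq M0 z := by
      refine AddSubgroup.iSup_induction _ (C := fun y => ∃ x, φ x = y) (val_mem q φ hdeg hq M0 z)
        (fun j y hy => ?_) ⟨0, map_zero φ⟩ fun a b ⟨a', ha⟩ ⟨b', hb⟩ => ⟨a' + b', by rw [map_add, ha, hb]⟩
      obtain ⟨x, -, hx⟩ := (hdeg j).ge (show (y : R) ∈ 𝒜 (j * q) from hy)
      exact ⟨x, hx⟩
    exact ⟨x, val_injective q φ hdeg hq M0 ((hev x).trans hx)⟩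
  exact exists_H_map q φ hdeg hq hmsp hm'sp (M := M0) I e he heb (P := P0) I' p

end Groth.Agent.GrLib8.Vero

namespace Groth.Agent.GrLib8.Vero

variable {R : Type u} [CommRing R] {𝒜 : ℤ → AddSubgroup R} [GradedRing 𝒜] {R' : Type u} [CommRing R']
  {𝒜' : ℤ → AddSubgroup R'} [GradedRing 𝒜'] (q : ℕ) (φ : R' →+* R)
  (hdeg : ∀ j : ℤ, (𝒜' j).map (φ : R' →+ R) = 𝒜 (j * q)) (hφ : Function.Injective φ) (hq : 0 < q)

include hdeg hφ hq in
theorem ringKrullDim_eq : ringKrullDim R' = ringKrullDim R := by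
  classical
  letI := φ.toAlgebra
  haveI : Algebra.IsIntegral R' R := ⟨fun x => by
    rw [← sum_support_decompose 𝒜 x]
    refine IsIntegral.sum _ fun g _ => IsIntegral.of_pow hq ?_
    have h : (decompose 𝒜 x g : R) ^ q ∈ 𝒜 (g * q) := by
      rw [mul_comm]; simpa using SetLike.pow_mem_graded q (SetLike.coe_mem (decompose 𝒜 x g))
    obtain ⟨y, -, hy⟩ := (hdeg g).ge h
    rw [← hy]
    exact isIntegral_algebraMap⟩
  exact (EGA41Lib.ringKrullDim_eq_of_integral (A := R') (B := R) hφ).symm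

include hdeg hφ hq in
theorem nonneg' (hpos : ∀ n : ℤ, n < 0 → 𝒜 n = ⊥) : ∀ n : ℤ, n < 0 → 𝒜' n = ⊥ := fun n hn =>
  (AddSubgroup.eq_bot_iff_forall _).2 fun x hx => hφ (by
    rw [map_zero]
    exact (AddSubgroup.eq_bot_iff_forall _).1 (hpos (n * q) (mul_neg_of_neg_of_pos hn (by exact_mod_cast hq))) _
      ((hdeg n).le (AddSubgroup.mem_map_of_mem (φ : R' →+ R) hx)))

include hdeg hφ hq in
theorem isField_deg0' (h0 : IsField (GrLC.deg0 𝒜)) : IsField (GrLC.deg0 𝒜') := by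
  let f : GrLC.deg0 𝒜' →+* GrLC.deg0 𝒜 := (φ.comp (GrLC.deg0 𝒜').subtype).codRestrict (GrLC.deg0 𝒜) fun x => by
    have := (hdeg 0).le (AddSubgroup.mem_map_of_mem (φ : R' →+ R) x.2)
    rwa [zero_mul] at this
  refine (RingEquiv.ofBijective f ⟨fun a b h => Subtype.ext (hφ (congrArg Subtype.val h)), fun b => ?_⟩).toMulEquiv.isField h0
  obtain ⟨a, ha, hab⟩ := (hdeg 0).ge (show (b : R) ∈ 𝒜 (0 * q) by rw [zero_mul]; exact b.2)
  exact ⟨⟨a, ha⟩, Subtype.ext hab⟩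

include hdeg hφ hq in
/-- The Veronese subring of a Cohen-Macaulay ring, with its maximal homogeneous ideal. -/
theorem exists_vero_data [LocCoh.IsCohenMacaulayRing R] (hpos : ∀ n : ℤ, n < 0 → 𝒜 n = ⊥)
    (h0 : IsField (GrLC.deg0 𝒜)) {m : HomogeneousIdeal 𝒜} (hm : GrLC.IsStarLocal 𝒜 m)
    (hmsp : m.toIdeal = Ideal.span (⋃ n ∈ Set.Ioi (0 : ℤ), (𝒜 n : Set R))) {n : ℕ} (hn : ringKrullDim R = n)
    {m' : HomogeneousIdeal 𝒜'} (hm'sp : m'.toIdeal = Ideal.span (⋃ j ∈ Set.Ioi (0 : ℤ), (𝒜' j : Set R'))) :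
    IsNoetherianRing R' ∧ LocCoh.IsCohenMacaulayRing R' ∧ GrLC.IsStarLocal 𝒜' m' ∧ m'.toIdeal.IsMaximal ∧
      m'.toIdeal.height = n ∧ ringKrullDim R' = n := by
  haveI hN := isNoetherianRing_vero q φ hdeg hφ
  have hpos' := nonneg' q φ hdeg hφ hq hpos
  have hm' : GrLC.IsStarLocal 𝒜' m' := by
    rw [show m' = GrSyz.irrel 𝒜' from HomogeneousIdeal.toIdeal_injective (hm'sp.trans irrel_toIdeal_eq.symm)]
    exact isStarLocal_irrel (𝒜 := 𝒜') hpos' (isField_deg0' q φ hdeg hφ hq h0)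
  have hn' : ringKrullDim R' = n := (ringKrullDim_eq q φ hdeg hφ hq).trans hn
  have hht : m'.toIdeal.height = n :=
    WithBot.coe_injective ((height_eq_ringKrullDim_of_isStarLocal hpos' hm').trans hn')
  refine ⟨hN, (Seg.cmRing_iff R').2 ((GrCM.isCM_iff 𝒜' 𝒜' hpos' hm' n ((Module.supportDim_self_eq_ringKrullDim R').trans hn')).2
    fun i hi => ?_), hm', isMaximal_of_isStarLocal hpos' hm', hht, hn'⟩
  let I := starRes (𝒜 := 𝒜) 𝒜
  let I' := starRes (𝒜 := 𝒜') 𝒜'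
  obtain ⟨ι, hι, -, -⟩ := exists_ring_map q φ hdeg hq hmsp hm'sp hφ I I' i
  haveI := subsingleton_starH_of_ne hpos hm hn hi.ne I
  haveI : Subsingleton (I'.H m' i) := hι.subsingleton
  obtain ⟨e⟩ := nonempty_H_equiv 𝒜' I' m' i
  exact e.symm.toEquiv.subsingleton

end Groth.Agent.GrLib8.Vero
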