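import Groth.Agent.GrLib8.AcycRes
import Groth.Agent.GrLib8.LocalCoh
import Groth.Agent.GrLib8.SegKunneth
import Groth.Agent.LC.TopDim2

/-!
# Veronese submodules and local cohomology
-/

set_option autoImplicit false
set_option linter.unusedSectionVars false
set_option linter.style.haveILetI false
set_option maxHeartbeats 1600000

universe u

open DirectSum CategoryTheory

namespace Groth.Agent.GrLib8.Vero

variable {R : Type u} [CommRing R] {𝒜 : ℤ → AddSubgroup R} [GradedRing 𝒜]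
variable {R' : Type u} [CommRing R'] {𝒜' : ℤ → AddSubgroup R'} [GradedRing 𝒜']

section Proj

variable {M : Type u} [AddCommGroup M] (ℳ : ℤ → AddSubgroup M) [Decomposition ℳ] (q : ℕ)

/-- The elements with degrees divisible by `q`. -/
def vAdd : AddSubgroup M := ⨆ j : ℤ, ℳ (j * q)

/-- The projection to the degrees divisible by `q`. -/
noncomputable def vProj : M →+ M :=
  (DirectSum.toAddMonoid fun g : ℤ => if (q : ℤ) ∣ g then (ℳ g).subtype else 0).comp
    (decomposeAddEquiv ℳ).toAddMonoidHom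

theorem vProj_of_mem {g : ℤ} {x : M} (hx : x ∈ ℳ g) : vProj ℳ q x = if (q : ℤ) ∣ g then x else 0 := by
  rw [vProj, AddMonoidHom.comp_apply]
  show DirectSum.toAddMonoid _ (decompose ℳ x) = _
  rw [decompose_of_mem ℳ hx, DirectSum.toAddMonoid_of]
  split_ifs <;> rfl

theorem vProj_mem (x : M) : vProj ℳ q x ∈ vAdd ℳ q := by
  induction x using DirectSum.Decomposition.inductionOn ℳ with
  | zero => rw [map_zero]; exact zero_mem _
  | add a b ha hb => rw [map_add]; exact add_mem ha hb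
  | @homogeneous g x =>
    rw [vProj_of_mem ℳ q x.2]
    split_ifs with h
    · obtain ⟨j, hj⟩ := h
      exact AddSubgroup.mem_iSup_of_mem j (by rw [mul_comm, ← hj]; exact x.2)
    · exact zero_mem _

theorem vProj_eq_self {x : M} (hx : x ∈ vAdd ℳ q) : vProj ℳ q x = x := by
  refine AddSubgroup.iSup_induction _ (C := fun x => vProj ℳ q x = x) hx (fun j y hy => ?_) (map_zero _)
    fun a b ha hb => by rw [map_add, ha, hb]
  rw [vProj_of_mem ℳ q hy, if_pos (dvd_mul_left _ _)]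

variable {N : Type u} [AddCommGroup N] (𝒩 : ℤ → AddSubgroup N) [Decomposition 𝒩]

theorem vProj_map (f : M →+ N) (hf : ∀ g, ∀ x ∈ ℳ g, f x ∈ 𝒩 g) (x : M) : vProj 𝒩 q (f x) = f (vProj ℳ q x) := by
  induction x using DirectSum.Decomposition.inductionOn ℳ with
  | zero => simp
  | add a b ha hb => simp only [map_add, ha, hb]
  | @homogeneous g x =>
    rw [vProj_of_mem 𝒩 q (hf g _ x.2), vProj_of_mem ℳ q x.2]
    split_ifs <;> simp

end Proj

variable (q : ℕ) (φ : R' →+* R) (hdeg : ∀ j : ℤ, (𝒜' j).map (φ : R' →+ R) = 𝒜 (j * q))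

include hdeg in
theorem map_mem {j : ℤ} {r : R'} (hr : r ∈ 𝒜' j) : φ r ∈ 𝒜 (j * q) := hdeg j ▸ AddSubgroup.mem_map_of_mem _ hr

include hdeg in
theorem smul_mem_piece (X : GrLC.GMod.{u} 𝒜) {j g : ℤ} {r : R'} {x : X.carrier} (hr : r ∈ 𝒜' j)
    (hx : x ∈ X.gr (g * q)) : φ r • x ∈ X.gr ((j + g) * q) := by
  have h := SetLike.GradedSMul.smul_mem (B := X.gr) (map_mem q φ hdeg hr) hx
  rwa [vadd_eq_add, ← add_mul] at h

include hdeg in
theorem vProj_smul (X : GrLC.GMod.{u} 𝒜) (r : R') (x : X.carrier) :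
    vProj X.gr q (φ r • x) = φ r • vProj X.gr q x := by
  induction r using DirectSum.Decomposition.inductionOn 𝒜' with
  | zero => simp
  | add a b ha hb => simp only [map_add, add_smul, ha, hb]
  | @homogeneous j r =>
    induction x using DirectSum.Decomposition.inductionOn X.gr with
    | zero => simp
    | add a b ha hb => simp only [smul_add, map_add, ha, hb]
    | @homogeneous g x =>
      have h := SetLike.GradedSMul.smul_mem (B := X.gr) (map_mem q φ hdeg r.2) x.2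
      rw [vadd_eq_add] at h
      rw [vProj_of_mem X.gr q h, vProj_of_mem X.gr q x.2]
      by_cases hg : (q : ℤ) ∣ g
      · rw [if_pos hg, if_pos (dvd_add (dvd_mul_left _ _) hg)]
      · rw [if_neg hg, if_neg fun hh => hg (by simpa using dvd_sub hh (dvd_mul_left (q : ℤ) j)), smul_zero]

include hdeg in
theorem smul_mem_vAdd (X : GrLC.GMod.{u} 𝒜) (r : R') {x : X.carrier} (hx : x ∈ vAdd X.gr q) :
    φ r • x ∈ vAdd X.gr q := by
  rw [← vProj_eq_self X.gr q hx, ← vProj_smul q φ hdeg X]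
  exact vProj_mem X.gr q _

/-- The Veronese submodule as a type. -/
def V (_hdeg : ∀ j : ℤ, (𝒜' j).map (φ : R' →+ R) = 𝒜 (j * q)) (X : GrLC.GMod.{u} 𝒜) : Type u := ↥(vAdd X.gr q)

noncomputable instance instAddCommGroupV (X : GrLC.GMod.{u} 𝒜) : AddCommGroup (V q φ hdeg X) :=
  inferInstanceAs (AddCommGroup ↥(vAdd X.gr q))

/-- The value of an element of the Veronese submodule. -/
def vVal {X : GrLC.GMod.{u} 𝒜} : V q φ hdeg X →+ X.carrier := (vAdd X.gr q).subtype

theorem vVal_injective {X : GrLC.GMod.{u} 𝒜} : Function.Injective (vVal q φ hdeg (X := X)) := Subtype.val_injective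

theorem vVal_mem {X : GrLC.GMod.{u} 𝒜} (z : V q φ hdeg X) : vVal q φ hdeg z ∈ vAdd X.gr q := SetLike.coe_mem (show ↥(vAdd X.gr q) from z)

noncomputable instance instModuleV (X : GrLC.GMod.{u} 𝒜) : Module R' (V q φ hdeg X) where
  smul r z := ⟨φ r • vVal q φ hdeg z, smul_mem_vAdd q φ hdeg X r (vVal_mem q φ hdeg z)⟩
  one_smul z := Subtype.ext (show φ 1 • vVal q φ hdeg z = _ by rw [map_one, one_smul]; rfl)
  mul_smul r s z := Subtype.ext (show φ (r * s) • vVal q φ hdeg z = φ r • φ s • vVal q φ hdeg z by rw [map_mul, mul_smul])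
  smul_zero r := Subtype.ext (smul_zero (φ r))
  smul_add r a b := Subtype.ext (show φ r • (vVal q φ hdeg (a + b)) = _ by rw [map_add, smul_add]; rfl)
  add_smul r s z := Subtype.ext (show φ (r + s) • vVal q φ hdeg z = _ by rw [map_add, add_smul]; rfl)
  zero_smul z := Subtype.ext (show φ 0 • vVal q φ hdeg z = _ by rw [map_zero, zero_smul]; rfl)

theorem vVal_smul {X : GrLC.GMod.{u} 𝒜} (r : R') (z : V q φ hdeg X) : vVal q φ hdeg (r • z) = φ r • vVal q φ hdeg z :=
  rfl

theorem exists_vVal {X : GrLC.GMod.{u} 𝒜} {x : X.carrier} (hx : x ∈ vAdd X.gr q) :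
    ∃ z : V q φ hdeg X, vVal q φ hdeg z = x := ⟨⟨x, hx⟩, rfl⟩

variable (hq : 0 < q)

/-- The Veronese submodule as a graded module. -/
noncomputable def vero (X : GrLC.GMod.{u} 𝒜) : GrLC.GMod.{u} 𝒜' :=
  gmodOf 𝒜' (V q φ hdeg X) (fun j => (X.gr (j * q)).comap (vVal q φ hdeg))
    (fun z => by
      obtain ⟨z', hz', h⟩ : ∃ z' : V q φ hdeg X, z' ∈ (⨆ j : ℤ, (X.gr (j * q)).comap (vVal q φ hdeg)) ∧
          vVal q φ hdeg z' = vVal q φ hdeg z := by
        refine AddSubgroup.iSup_induction _ (C := fun x => ∃ z' : V q φ hdeg X,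
          z' ∈ (⨆ j : ℤ, (X.gr (j * q)).comap (vVal q φ hdeg)) ∧ vVal q φ hdeg z' = x) (vVal_mem q φ hdeg z)
          (fun j x hx => ?_) ⟨0, zero_mem _, map_zero _⟩
          (fun a b ⟨za, ha, ha'⟩ ⟨zb, hb, hb'⟩ => ⟨za + zb, add_mem ha hb, by rw [map_add, ha', hb']⟩)
        obtain ⟨z', rfl⟩ := exists_vVal q φ hdeg (AddSubgroup.mem_iSup_of_mem j hx)
        exact ⟨z', AddSubgroup.mem_iSup_of_mem j hx, rfl⟩
      rwa [← vVal_injective q φ hdeg h])
    (fun s c hc hsum g hg => by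
      classical
      have hinj : Function.Injective fun j : ℤ => j * (q : ℤ) := fun a b h =>
        mul_right_cancel₀ (by exact_mod_cast hq.ne') h
      refine vVal_injective q φ hdeg (?_ : vVal q φ hdeg (c g) = vVal q φ hdeg 0)
      rw [map_zero]
      have h := gIndep_of_decomposition X.gr (s.map ⟨_, hinj⟩)
        (fun i => vVal q φ hdeg (c (i / q)))
        (fun i hi => by
          obtain ⟨j, hj, rfl⟩ := Finset.mem_map.1 hi
          show vVal q φ hdeg (c (j * q / q)) ∈ X.gr (j * q)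
          rw [Int.mul_ediv_cancel _ (by exact_mod_cast hq.ne')]
          exact hc j hj)
        (by
          rw [Finset.sum_map, ← map_zero (vVal q φ hdeg (X := X)), ← hsum, map_sum]
          refine Finset.sum_congr rfl fun j _ => ?_
          show vVal q φ hdeg (c (j * q / q)) = _
          rw [Int.mul_ediv_cancel _ (by exact_mod_cast hq.ne')])
        (g * q) (Finset.mem_map.2 ⟨g, hg, rfl⟩)
      rwa [Int.mul_ediv_cancel _ (by exact_mod_cast hq.ne')] at h)
    (fun {i g r z} hr hz => smul_mem_piece q φ hdeg X hr hz)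

/-- The value on the graded Veronese module. -/
noncomputable def val (X : GrLC.GMod.{u} 𝒜) : (vero q φ hdeg hq X).carrier →+ X.carrier := vVal q φ hdeg (X := X)

theorem val_injective (X : GrLC.GMod.{u} 𝒜) : Function.Injective (val q φ hdeg hq X) := vVal_injective q φ hdeg

theorem val_mem (X : GrLC.GMod.{u} 𝒜) (z : (vero q φ hdeg hq X).carrier) : val q φ hdeg hq X z ∈ vAdd X.gr q :=
  vVal_mem q φ hdeg z

theorem val_smul (X : GrLC.GMod.{u} 𝒜) (r : R') (z : (vero q φ hdeg hq X).carrier) :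
    val q φ hdeg hq X (r • z) = φ r • val q φ hdeg hq X z := rfl

theorem exists_val (X : GrLC.GMod.{u} 𝒜) {x : X.carrier} (hx : x ∈ vAdd X.gr q) :
    ∃ z : (vero q φ hdeg hq X).carrier, val q φ hdeg hq X z = x := ⟨⟨x, hx⟩, rfl⟩

theorem mem_vero_gr (X : GrLC.GMod.{u} 𝒜) (j : ℤ) (z : (vero q φ hdeg hq X).carrier) :
    z ∈ (vero q φ hdeg hq X).gr j ↔ val q φ hdeg hq X z ∈ X.gr (j * q) := Iff.rfl

/-- The retraction onto the Veronese submodule. -/
noncomputable def retr (X : GrLC.GMod.{u} 𝒜) (x : X.carrier) : (vero q φ hdeg hq X).carrier :=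
  (⟨vProj X.gr q x, vProj_mem X.gr q x⟩ : ↥(vAdd X.gr q))

theorem val_retr (X : GrLC.GMod.{u} 𝒜) (x : X.carrier) : val q φ hdeg hq X (retr q φ hdeg hq X x) = vProj X.gr q x := rfl

/-- The map induced on Veronese submodules. -/
noncomputable def vMap {X X' : GrLC.GMod.{u} 𝒜} (f : X.carrier →ₗ[R] X'.carrier) (hf : GrLC.IsGrHom X.gr X'.gr f) :
    (vero q φ hdeg hq X).carrier →ₗ[R'] (vero q φ hdeg hq X').carrier where
  toFun z := retr q φ hdeg hq X' (f (val q φ hdeg hq X z))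
  map_add' a b := val_injective q φ hdeg hq X' (by simp only [val_retr, map_add])
  map_smul' r z := val_injective q φ hdeg hq X' (by
    simp only [val_retr, val_smul, map_smul, RingHom.id_apply, vProj_smul q φ hdeg X'])

theorem val_vMap {X X' : GrLC.GMod.{u} 𝒜} (f : X.carrier →ₗ[R] X'.carrier) (hf : GrLC.IsGrHom X.gr X'.gr f)
    (z : (vero q φ hdeg hq X).carrier) :
    val q φ hdeg hq X' (vMap q φ hdeg hq f hf z) = f (val q φ hdeg hq X z) := by
  show vProj X'.gr q _ = _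
  exact (vProj_map X.gr q X'.gr f.toAddMonoidHom hf _).trans (congrArg f (vProj_eq_self X.gr q (val_mem q φ hdeg hq X z)))

theorem vMap_grHom {X X' : GrLC.GMod.{u} 𝒜} (f : X.carrier →ₗ[R] X'.carrier) (hf : GrLC.IsGrHom X.gr X'.gr f) :
    GrLC.IsGrHom (vero q φ hdeg hq X).gr (vero q φ hdeg hq X').gr (vMap q φ hdeg hq f hf) := fun j z hz => by
  rw [mem_vero_gr, val_vMap]
  exact hf _ _ ((mem_vero_gr q φ hdeg hq X j z).1 hz)

theorem vMap_injective {X X' : GrLC.GMod.{u} 𝒜} (f : X.carrier →ₗ[R] X'.carrier) (hf : GrLC.IsGrHom X.gr X'.gr f)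
    (hi : Function.Injective f) : Function.Injective (vMap q φ hdeg hq f hf) := fun a b h =>
  val_injective q φ hdeg hq X (hi (by rw [← val_vMap q φ hdeg hq f hf, ← val_vMap q φ hdeg hq f hf, h]))

theorem vMap_exact {X X' X'' : GrLC.GMod.{u} 𝒜} (f : X.carrier →ₗ[R] X'.carrier) (hf : GrLC.IsGrHom X.gr X'.gr f)
    (g : X'.carrier →ₗ[R] X''.carrier) (hg : GrLC.IsGrHom X'.gr X''.gr g) (h : LinearMap.ker g = LinearMap.range f) :
    LinearMap.ker (vMap q φ hdeg hq g hg) = LinearMap.range (vMap q φ hdeg hq f hf) := by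
  ext z
  constructor
  · intro hz
    have h0 : g (val q φ hdeg hq X' z) = 0 := by
      rw [← val_vMap q φ hdeg hq g hg, LinearMap.mem_ker.1 hz, map_zero]
    obtain ⟨u, hu⟩ := h.le h0
    refine ⟨retr q φ hdeg hq X u, val_injective q φ hdeg hq X' ?_⟩
    rw [val_vMap, val_retr]
    refine (vProj_map X.gr q X'.gr f.toAddMonoidHom hf u).symm.trans ?_
    show vProj X'.gr q (f u) = _
    rw [hu]
    exact vProj_eq_self X'.gr q (val_mem q φ hdeg hq X' z)
  · rintro ⟨u, rfl⟩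
    refine LinearMap.mem_ker.2 (val_injective q φ hdeg hq X'' ?_)
    rw [val_vMap, val_vMap, map_zero]
    exact h.ge ⟨_, rfl⟩

section Ideals

variable {m : HomogeneousIdeal 𝒜} {m' : HomogeneousIdeal 𝒜'}
variable (hmsp : m.toIdeal = Ideal.span (⋃ n ∈ Set.Ioi (0 : ℤ), (𝒜 n : Set R)))
  (hm'sp : m'.toIdeal = Ideal.span (⋃ j ∈ Set.Ioi (0 : ℤ), (𝒜' j : Set R')))

include hdeg hq hmsp hm'sp in
theorem map_le : m'.toIdeal.map φ ≤ m.toIdeal := by
  rw [hm'sp, Ideal.map_span, hmsp, Ideal.span_le]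
  rintro _ ⟨r, hr, rfl⟩
  obtain ⟨j, hj, hr⟩ := Set.mem_iUnion₂.1 hr
  exact Ideal.subset_span (Set.mem_biUnion (x := j * (q : ℤ))
    (show (0 : ℤ) < j * q from mul_pos hj (by exact_mod_cast hq)) (map_mem q φ hdeg hr))

include hdeg hq hmsp hm'sp in
theorem le_radical : m.toIdeal ≤ (m'.toIdeal.map φ).radical := by
  rw [hmsp, Ideal.span_le]
  intro r hr
  obtain ⟨n, hn, hr⟩ := Set.mem_iUnion₂.1 hr
  refine ⟨q, ?_⟩
  have h : r ^ q ∈ 𝒜 (n * q) := by
    rw [mul_comm]
    simpa using SetLike.pow_mem_graded q hr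
  obtain ⟨r', hr', he⟩ := (hdeg n).ge h
  rw [← he]
  refine Ideal.mem_map_of_mem φ ?_
  rw [hm'sp]
  exact Ideal.subset_span (Set.mem_biUnion (x := n) hn hr')

include hq hmsp hm'sp in
theorem mem_gam_iff [IsNoetherianRing R] (X : GrLC.GMod.{u} 𝒜) (z : (vero q φ hdeg hq X).carrier) :
    z ∈ GrLC.gam m'.toIdeal (vero q φ hdeg hq X).carrier ↔ val q φ hdeg hq X z ∈ GrLC.gam m.toIdeal X.carrier := by
  constructor
  · rintro ⟨N, hN⟩
    obtain ⟨K, hK⟩ := Ideal.exists_radical_pow_le_of_fg (m'.toIdeal.map φ) (IsNoetherian.noetherian _)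
    refine ⟨K * N, fun r hr => ?_⟩
    have h1 : r ∈ (m'.toIdeal ^ N).map φ := by
      rw [Ideal.map_pow]
      rw [pow_mul] at hr
      exact Ideal.pow_right_mono ((Ideal.pow_right_mono (le_radical q φ hdeg hq hmsp hm'sp) K).trans hK) N hr
    have h2 : (m'.toIdeal ^ N).map φ ≤ LinearMap.ker (LinearMap.toSpanSingleton R X.carrier (val q φ hdeg hq X z)) :=
      Ideal.map_le_iff_le_comap.2 fun a ha => LinearMap.mem_ker.2 (by
        show φ a • val q φ hdeg hq X z = 0
        rw [← val_smul, hN a ha, map_zero])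
    exact LinearMap.mem_ker.1 (h2 h1)
  · rintro ⟨N, hN⟩
    refine ⟨N, fun r hr => val_injective q φ hdeg hq X ?_⟩
    rw [val_smul, map_zero]
    refine hN _ (Ideal.pow_right_mono (map_le q φ hdeg hq hmsp hm'sp) N ?_)
    rw [← Ideal.map_pow]
    exact Ideal.mem_map_of_mem φ hr

end Ideals

include hdeg in
theorem isNoetherianRing_vero [IsNoetherianRing R] (hφ : Function.Injective φ) : IsNoetherianRing R' := by
  let X : GrLC.GMod.{u} 𝒜 := GrLC.GMod.of 𝒜 R 𝒜
  have hrange : ∀ a : R, ∃ a' : R', φ a' = vProj X.gr q a := fun a => by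
    refine AddSubgroup.iSup_induction _ (C := fun x => ∃ a', φ a' = x) (vProj_mem X.gr q a) (fun j x hx => ?_)
      ⟨0, map_zero φ⟩ (fun x y ⟨x', hx⟩ ⟨y', hy⟩ => ⟨x' + y', by rw [map_add, hx, hy]⟩)
    obtain ⟨r, -, hr⟩ := (hdeg j).ge (show (x : R) ∈ 𝒜 (j * q) from hx)
    exact ⟨r, hr⟩
  have himg : ∀ r : R', φ r ∈ vAdd X.gr q := fun r => by
    induction r using DirectSum.Decomposition.inductionOn 𝒜' with
    | zero => rw [map_zero]; exact zero_mem _
    | add a b ha hb => rw [map_add]; exact add_mem ha hb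
    | @homogeneous j r => exact AddSubgroup.mem_iSup_of_mem j (map_mem q φ hdeg r.2)
  have key : ∀ I : Ideal R', (I.map φ).comap φ = I := by
    intro I
    refine le_antisymm (fun x hx => ?_) Ideal.le_comap_map
    have h : ∀ y ∈ I.map φ, ∀ a : R, ∃ i ∈ I, φ i = vProj X.gr q (a * y) := by
      intro y hy
      induction hy using Submodule.span_induction with
      | mem y hy =>
        obtain ⟨i, hi, rfl⟩ := hy
        intro a
        obtain ⟨a', ha'⟩ := hrange a
        refine ⟨i * a', I.mul_mem_right a' hi, ?_⟩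
        rw [map_mul, ha', mul_comm a (φ i)]
        exact (vProj_smul q φ hdeg X i a).symm
      | zero => intro a; exact ⟨0, zero_mem _, by rw [map_zero, mul_zero]; exact (map_zero (vProj X.gr q)).symm⟩
      | add y y' _ _ hy hy' =>
        intro a
        obtain ⟨i, hi, he⟩ := hy a
        obtain ⟨i', hi', he'⟩ := hy' a
        exact ⟨i + i', add_mem hi hi', by rw [map_add, he, he', mul_add]; exact (map_add (vProj X.gr q) _ _).symm⟩
      | smul c y _ hy =>
        intro a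
        rw [smul_eq_mul, ← mul_assoc]
        exact hy _
    obtain ⟨i, hi, he⟩ := h (φ x) hx 1
    rw [one_mul, vProj_eq_self X.gr q (himg x)] at he
    exact hφ he ▸ hi
  have hmono : StrictMono (Ideal.map φ : Ideal R' → Ideal R) :=
    Monotone.strictMono_of_injective (fun _ _ h => Ideal.map_mono h) fun I J h => by rw [← key I, ← key J, h]
  haveI : WellFoundedGT (Ideal R') := hmono.wellFoundedGT
  exact isNoetherian_iff'.2 inferInstance

end Groth.Agent.GrLib8.Vero

namespace Groth.Agent.GrLib8.Vero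

variable {R : Type u} [CommRing R] {𝒜 : ℤ → AddSubgroup R} [GradedRing 𝒜] [IsNoetherianRing R]
variable {R' : Type u} [CommRing R'] {𝒜' : ℤ → AddSubgroup R'} [GradedRing 𝒜'] [IsNoetherianRing R']
variable (q : ℕ) (φ : R' →+* R) (hdeg : ∀ j : ℤ, (𝒜' j).map (φ : R' →+ R) = 𝒜 (j * q)) (hq : 0 < q)
variable {m : HomogeneousIdeal 𝒜} {m' : HomogeneousIdeal 𝒜'}
variable (hmsp : m.toIdeal = Ideal.span (⋃ n ∈ Set.Ioi (0 : ℤ), (𝒜 n : Set R)))
  (hm'sp : m'.toIdeal = Ideal.span (⋃ j ∈ Set.Ioi (0 : ℤ), (𝒜' j : Set R')))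

include hmsp hm'sp in
/-- Veronese submodules of *injectives are acyclic. -/
theorem hVan_vero (X : GrLC.GMod.{u} 𝒜) (hX : GrLC.IsStarInj 𝒜 X.gr) (i : ℕ) (g : ℤ) :
    HVan m' (vero q φ hdeg hq X) (i + 1) g := by
  classical
  letI : Algebra R' R := φ.toAlgebra
  letI : Module R' X.carrier := Module.compHom X.carrier φ
  haveI : IsScalarTower R' R X.carrier := IsScalarTower.of_algebraMap_smul fun _ _ => rfl
  obtain ⟨e, -⟩ := LC.exists_indep (R := R') (R' := R) m'.toIdeal (i + 1) X.carrier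
  have hR : Subsingleton ((localCohomology (m'.toIdeal.map φ) (i + 1)).obj (ModuleCat.of R X.carrier)) := by
    refine LC.subsingleton_H_of_radical_eq ?_ (i + 1) _ (subsingleton_H_of_isStarInj m X hX i)
    refine le_antisymm ?_ (Ideal.radical_mono (map_le q φ hdeg hq hmsp hm'sp))
    rw [← Ideal.radical_idem (m'.toIdeal.map φ)]
    exact Ideal.radical_mono (le_radical q φ hdeg hq hmsp hm'sp)
  haveI : Subsingleton ((localCohomology m'.toIdeal (i + 1)).obj (ModuleCat.of R' X.carrier)) :=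
    e.symm.toEquiv.subsingleton
  let F := localCohomology m'.toIdeal (i + 1)
  let inc : (vero q φ hdeg hq X).carrier →ₗ[R'] X.carrier :=
    { val q φ hdeg hq X with map_smul' := fun r z => val_smul q φ hdeg hq X r z }
  let ret : X.carrier →ₗ[R'] (vero q φ hdeg hq X).carrier :=
    { toFun := retr q φ hdeg hq X
      map_add' := fun a b => val_injective q φ hdeg hq X (by simp only [val_retr, map_add])
      map_smul' := fun r x => val_injective q φ hdeg hq X (by
        rw [RingHom.id_apply, val_smul, val_retr, val_retr]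
        exact vProj_smul q φ hdeg X r x) }
  have hcomp : ModuleCat.ofHom inc ≫ ModuleCat.ofHom ret = 𝟙 (ModuleCat.of R' (vero q φ hdeg hq X).carrier) :=
    ModuleCat.hom_ext (LinearMap.ext fun z => val_injective q φ hdeg hq X
      ((val_retr q φ hdeg hq X _).trans (vProj_eq_self X.gr q (val_mem q φ hdeg hq X z))))
  haveI hV : Subsingleton (F.obj (ModuleCat.of R' (vero q φ hdeg hq X).carrier)) := by
    refine subsingleton_of_forall_eq 0 fun x => ?_
    have h1 : (F.map (ModuleCat.ofHom ret)).hom ((F.map (ModuleCat.ofHom inc)).hom x) = x := by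
      rw [← LinearMap.comp_apply, ← ModuleCat.hom_comp, ← F.map_comp, hcomp, F.map_id]
      rfl
    rw [← h1, Subsingleton.elim ((F.map (ModuleCat.ofHom inc)).hom x) 0, map_zero]
  intro E
  obtain ⟨e'⟩ := nonempty_H_equiv (vero q φ hdeg hq X).gr E m' (i + 1)
  haveI : Subsingleton (E.H m' (i + 1)) := e'.toEquiv.subsingleton
  exact Hcomp_eq_bot_of_subsingleton E m' (i + 1) g

variable {M : GrLC.GMod.{u} 𝒜} (E : GrLC.StarInjRes 𝒜 M.gr)

/-- The Veronese of a resolution. -/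
noncomputable def vARes {P : GrLC.GMod.{u} 𝒜'} (e : P.carrier →ₗ[R'] (vero q φ hdeg hq M).carrier)
    (he : GrLC.IsGrHom P.gr (vero q φ hdeg hq M).gr e) (heb : Function.Bijective e) : ARes m' P where
  A n := vero q φ hdeg hq (E.X n)
  d n := vMap q φ hdeg hq (E.d n) (E.d_grHom n)
  ε := vMap q φ hdeg hq E.ε E.ε_grHom ∘ₗ e
  d_grHom n := vMap_grHom q φ hdeg hq _ _
  ε_grHom := fun g z hz => vMap_grHom q φ hdeg hq _ E.ε_grHom g _ (he g z hz)
  ε_injective := (vMap_injective q φ hdeg hq E.ε E.ε_grHom E.ε_injective).comp heb.1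
  exact_zero := by
    rw [LinearMap.range_comp_of_range_eq_top _ (LinearMap.range_eq_top.2 heb.2)]
    exact vMap_exact q φ hdeg hq _ _ _ _ E.exact_zero
  exact_succ n := vMap_exact q φ hdeg hq _ _ _ _ (E.exact_succ n)
  acyc n i g := hVan_vero q φ hdeg hq hmsp hm'sp (E.X n) (E.starInj n) i g

include hmsp hm'sp in
theorem finrank_Hcomp_vero (hφ : Function.Injective φ) {P : GrLC.GMod.{u} 𝒜'}
    (e : P.carrier →ₗ[R'] (vero q φ hdeg hq M).carrier)
    (he : GrLC.IsGrHom P.gr (vero q φ hdeg hq M).gr e) (heb : Function.Bijective e)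
    (F : GrLC.StarInjRes 𝒜' P.gr) (p : ℕ) (j : ℤ) :
    Module.finrank (GrLC.deg0 𝒜') (F.Hcomp m' p j) = Module.finrank (GrLC.deg0 𝒜) (E.Hcomp m p (j * q)) := by
  classical
  let r := vARes q φ hdeg hq hmsp hm'sp E e he heb
  obtain ⟨Ψ, hΨs, hΨk, hΨg, -⟩ := r.exists_psi p F
  let vv : ∀ n, (r.A n).carrier →+ (E.X n).carrier := fun n => val q φ hdeg hq (E.X n)
  have hv_inj : ∀ n, Function.Injective (vv n) := fun n => val_injective q φ hdeg hq (E.X n)
  letI := (isInternal_Hgr P.gr F m' p).chooseDecomposition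
  have hgam : ∀ n (z : (r.A n).carrier), z ∈ GrLC.gam m'.toIdeal (r.A n).carrier ↔
      vv n z ∈ GrLC.gam m.toIdeal (E.X n).carrier := fun n z =>
    mem_gam_iff q φ hdeg hq hmsp hm'sp (E.X n) z
  have hcoc : ∀ n (z : (r.A n).carrier), z ∈ r.cocyc n ↔ vv n z ∈ E.cocyc m n := fun n z => by
    refine and_congr (hgam n z) ?_
    have e1 : vv (n + 1) (r.d n z) = E.d n (vv n z) := val_vMap q φ hdeg hq (E.d n) (E.d_grHom n) z
    show r.d n z = 0 ↔ E.d n (vv n z) = 0
    rw [← e1]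
    exact ⟨fun h => by rw [h, map_zero], fun h => hv_inj _ (h.trans (map_zero _).symm)⟩
  have hcob : ∀ n (z : (r.A n).carrier) (g : ℤ), vv n z ∈ (E.X n).gr (g * q) →
      (z ∈ r.cobdy n ↔ vv n z ∈ E.cobdy m n) := by
    intro n z g hz
    cases n with
    | zero =>
      show z ∈ (⊥ : Submodule R' _) ↔ vv 0 z ∈ (⊥ : Submodule R _)
      rw [Submodule.mem_bot, Submodule.mem_bot]
      exact ⟨fun h => by rw [h, map_zero], fun h => hv_inj _ (h.trans (map_zero _).symm)⟩
    | succ n =>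
      constructor
      · rintro ⟨v, hv, rfl⟩
        exact ⟨vv n v, (hgam n v).1 hv, (val_vMap q φ hdeg hq _ (E.d_grHom n) v).symm⟩
      · rintro ⟨v, hv, hvz⟩
        have hv' : (decompose (E.X n).gr v (g * q) : (E.X n).carrier) ∈ GrLC.gam m.toIdeal (E.X n).carrier :=
          isHomogeneous_gam (E.X n).gr _ _ hv
        obtain ⟨w, hw⟩ := exists_val q φ hdeg hq (E.X n)
          (AddSubgroup.mem_iSup_of_mem g (SetLike.coe_mem (decompose (E.X n).gr v (g * q))))
        refine ⟨w, (hgam n w).2 (hw ▸ hv'), hv_inj _ ?_⟩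
        refine (val_vMap q φ hdeg hq _ (E.d_grHom n) w).trans ?_
        rw [hw]
        refine (map_decompose (E.X n).gr (E.X (n + 1)).gr (E.d n).toAddMonoidHom (E.d_grHom n) v _).trans ?_
        show (decompose (E.X (n + 1)).gr (E.d n v) (g * q) : (E.X (n + 1)).carrier) = _
        rw [hvz, decompose_of_mem_same _ hz]
  have hlift : ∀ x : F.Hcomp m' p j, ∃ z : r.cocyc p, (z : (r.A p).carrier) ∈ (r.A p).gr j ∧ Ψ z = (x : F.H m' p) :=
    fun x => Seg.exists_sub_preimage (r.A p).gr (F.Hgr m' p) (P := r.cocyc p)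
      (fun g z hz => ⟨isHomogeneous_gam (r.A p).gr _ g hz.1,
        isHomogeneous_ker (r.A p).gr (r.A (p + 1)).gr (r.d_grHom p) g hz.2⟩)
      Ψ (fun g z hz => hΨg g z hz) (y := (x : F.H m' p)) (d := j) x.2 (hΨs x)
  choose pre hpre hpre' using hlift
  let β : {z : r.cocyc p // (z : (r.A p).carrier) ∈ (r.A p).gr j} → E.Hcomp m p (j * q) := fun z =>
    ⟨E.toH m p ⟨vv p z.1.1, (hcoc p z.1.1).1 z.1.2⟩, ⟨_, (hcoc p z.1.1).1 z.1.2⟩, (mem_vero_gr q φ hdeg hq (E.X p) j z.1.1).1 z.2, rfl⟩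
  have hβ : ∀ z z', Ψ z.1 = Ψ z'.1 ↔ β z = β z' := fun z z' => by
    rw [Subtype.ext_iff, ← sub_eq_zero, ← sub_eq_zero (a := ((β z : E.Hcomp m p (j * q)) : E.H m p)), ← map_sub,
      ← map_sub, hΨk, toH_eq_zero]
    refine (hcob p _ j ?_).trans ?_
    · show vv p (z.1.1 - z'.1.1) ∈ _
      rw [map_sub]
      exact sub_mem z.2 z'.2
    · show vv p (z.1.1 - z'.1.1) ∈ _ ↔ _
      rw [map_sub]
      rfl
  let f : F.Hcomp m' p j →+ E.Hcomp m p (j * q) := AddMonoidHom.mk' (fun x => β ⟨pre x, hpre x⟩) fun x y => by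
    rw [(hβ ⟨pre (x + y), hpre _⟩ ⟨pre x + pre y, add_mem (hpre x) (hpre y)⟩).1
      (by rw [map_add, hpre', hpre', hpre']; rfl)]
    exact Subtype.ext ((congrArg (E.toH m p) (Subtype.ext (map_add (vv p) _ _))).trans
      (map_add (E.toH m p) _ _))
  have hfb : Function.Bijective f := by
    refine ⟨fun x y h => Subtype.ext ?_, fun w => ?_⟩
    · rw [← hpre' x, ← hpre' y]
      exact (hβ ⟨pre x, hpre x⟩ ⟨pre y, hpre y⟩).2 h
    · obtain ⟨w, c, hc, rfl⟩ := w
      obtain ⟨z, hz⟩ := exists_val q φ hdeg hq (E.X p) (AddSubgroup.mem_iSup_of_mem j hc)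
      have hzc : z ∈ r.cocyc p := (hcoc p z).2 (hz ▸ c.2)
      have hzj : z ∈ (r.A p).gr j := (mem_vero_gr q φ hdeg hq (E.X p) j z).2 (hz ▸ hc)
      refine ⟨⟨Ψ ⟨z, hzc⟩, hΨg j ⟨z, hzc⟩ hzj⟩, ?_⟩
      refine ((hβ ⟨pre _, hpre _⟩ ⟨⟨z, hzc⟩, hzj⟩).1 (hpre' _)).trans ?_
      exact Subtype.ext (congrArg (E.toH m p) (Subtype.ext hz))
  have h0 : ∀ a : R', a ∈ 𝒜' 0 → φ a ∈ 𝒜 0 := fun a ha => by
    have h := map_mem q φ hdeg ha
    rwa [zero_mul] at h
  let i0 : GrLC.deg0 𝒜' → GrLC.deg0 𝒜 := fun a => ⟨φ a.1, h0 _ a.2⟩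
  have hi0 : Function.Bijective i0 := by
    refine ⟨fun a b h => Subtype.ext (hφ (congrArg Subtype.val h)), fun b => ?_⟩
    obtain ⟨a, ha, hab⟩ := (hdeg 0).ge (show (b : R) ∈ 𝒜 (0 * q) by rw [zero_mul]; exact b.2)
    exact ⟨⟨a, ha⟩, Subtype.ext hab⟩
  refine congrArg Cardinal.toNat (rank_eq_of_equiv_equiv i0 (AddEquiv.ofBijective f hfb) hi0 fun a x => ?_)
  show β ⟨pre (a • x), hpre _⟩ = i0 a • β ⟨pre x, hpre x⟩
  have hmem : ((a.1 • pre x : r.cocyc p) : (r.A p).carrier) ∈ (r.A p).gr j := by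
    have h := SetLike.GradedSMul.smul_mem (B := (r.A p).gr) (show (a : R') ∈ 𝒜' 0 from a.2) (hpre x)
    rwa [vadd_eq_add, zero_add] at h
  rw [(hβ ⟨pre (a • x), hpre _⟩ ⟨a.1 • pre x, hmem⟩).1 (by rw [map_smul, hpre', hpre']; rfl)]
  exact Subtype.ext ((congrArg (E.toH m p) (Subtype.ext (val_smul q φ hdeg hq (E.X p) a.1 (pre x).1))).trans
    (map_smul (E.toH m p) (φ a.1) _))

end Groth.Agent.GrLib8.Vero
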