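import Groth.Agent.GrLib8.RegTop
import Groth.Agent.GrLib8.CanonLocal
import Groth.Agent.GrLib8.CanonDual
import Groth.Agent.LC.GorRing
import Groth.Agent.SmoothDim.Basic
import Groth.Agent.PlLib.CMFinite

/-!
# Weighted polynomial rings
-/

set_option autoImplicit false
set_option linter.unusedSectionVars false
set_option linter.style.haveILetI false
set_option maxHeartbeats 1000000

universe u

open DirectSum MvPolynomial

attribute [local instance] MvPolynomial.weightedGradedAlgebra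

namespace Groth.Agent.GrLib8.Weighted

variable (k : Type u) [Field k] {N : ℕ} (w : Fin N → ℤ)

local notation "𝕎" => MvPolynomial.weightedHomogeneousSubmodule k w

theorem weight_nonneg (hw : ∀ i, 0 < w i) (d : Fin N →₀ ℕ) : 0 ≤ Finsupp.weight w d := by
  rw [Finsupp.weight_apply]
  exact Finsupp.sum_nonneg fun i _ => nsmul_nonneg (hw i).le _

theorem eq_zero_of_weight (hw : ∀ i, 0 < w i) {d : Fin N →₀ ℕ} (h : Finsupp.weight w d ≤ 0) : d = 0 := by
  ext i
  by_contra hi
  have h1 : w i ≤ Finsupp.weight w d := by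
    rw [Finsupp.weight_apply, Finsupp.sum]
    refine le_trans ?_ (Finset.single_le_sum (f := fun j => d j • w j) (fun j _ => nsmul_nonneg (hw j).le _)
      (Finsupp.mem_support_iff.2 hi))
    have : (1 : ℤ) ≤ (d i : ℤ) := by exact_mod_cast Nat.one_le_iff_ne_zero.2 hi
    rw [nsmul_eq_mul]
    nlinarith [hw i]
  have := hw i
  omega

theorem nonneg (hw : ∀ i, 0 < w i) : ∀ g < 0, ∀ p ∈ 𝕎 g, p = 0 := by
  intro g hg p hp
  ext d
  rw [coeff_zero]
  by_contra h
  have := weight_nonneg w hw d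
  rw [(mem_weightedHomogeneousSubmodule k w g p).1 hp h] at this
  omega

theorem eq_C_of_zero (hw : ∀ i, 0 < w i) {p : MvPolynomial (Fin N) k} (hp : p ∈ 𝕎 0) : p = C (p.coeff 0) := by
  classical
  ext d
  rw [coeff_C]
  split_ifs with h
  · subst h; rfl
  · by_contra hne
    exact h (eq_zero_of_weight w hw ((mem_weightedHomogeneousSubmodule k w 0 p).1 hp hne).le).symm

theorem isField_deg0 (hw : ∀ i, 0 < w i) : IsField (GrLC.deg0 𝕎) := by
  haveI : Nontrivial (GrLC.deg0 𝕎) := ⟨⟨0, 1, fun h => zero_ne_one (congrArg Subtype.val h)⟩⟩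
  refine ⟨exists_pair_ne _, mul_comm, fun {a} ha => ?_⟩
  have hC := eq_C_of_zero k w hw a.2
  have hc : (a : MvPolynomial (Fin N) k).coeff 0 ≠ 0 := fun h => ha (Subtype.ext (by rw [hC, h, map_zero]; rfl))
  refine ⟨⟨C ((a : MvPolynomial (Fin N) k).coeff 0)⁻¹, isWeightedHomogeneous_C w _⟩, Subtype.ext ?_⟩
  show (a : MvPolynomial (Fin N) k) * C _ = 1
  conv_lhs => lhs; rw [hC]
  rw [← map_mul, mul_inv_cancel₀ hc, map_one]

variable (m : HomogeneousIdeal (MvPolynomial.weightedHomogeneousSubmodule k w))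
  (hmsp : m.toIdeal = Ideal.span (⋃ n ∈ Set.Ioi (0 : ℤ),
    (MvPolynomial.weightedHomogeneousSubmodule k w n : Set (MvPolynomial (Fin N) k))))

include hmsp in
theorem toIdeal_eq_ker (hw : ∀ i, 0 < w i) : m.toIdeal = RingHom.ker (constantCoeff (σ := Fin N) (R := k)) := by
  refine le_antisymm ?_ fun p hp => ?_
  · rw [hmsp]
    refine Ideal.span_le.2 fun p hp => ?_
    obtain ⟨n, hn, hp⟩ := Set.mem_iUnion₂.1 hp
    by_contra h
    have h0 := (mem_weightedHomogeneousSubmodule k w n p).1 hp (d := 0)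
      (by rwa [SetLike.mem_coe, RingHom.mem_ker, constantCoeff_eq] at h)
    rw [map_zero] at h0
    exact absurd (Set.mem_Ioi.1 hn) (by omega)
  · rw [RingHom.mem_ker, constantCoeff_eq] at hp
    have : p ∈ Ideal.span (MvPolynomial.X '' (Set.univ : Set (Fin N))) := by
      rw [mem_ideal_span_X_image]
      intro d hd
      by_contra h
      push Not at h
      rw [show d = 0 from Finsupp.ext fun j => h j trivial] at hd
      exact mem_support_iff.1 hd hp
    rw [hmsp]
    refine Ideal.span_mono ?_ this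
    rintro _ ⟨j, -, rfl⟩
    exact Set.mem_biUnion (Set.mem_Ioi.2 (hw j)) (isWeightedHomogeneous_X k w j)

include hmsp in
theorem isMaximal (hw : ∀ i, 0 < w i) : m.toIdeal.IsMaximal := by
  rw [toIdeal_eq_ker k w m hmsp hw]
  exact RingHom.ker_isMaximal_of_surjective _ fun c => ⟨C c, constantCoeff_C _ c⟩

theorem ringKrullDim_atPrime (M : Ideal (MvPolynomial (Fin N) k)) [hM : M.IsMaximal] :
    ringKrullDim (Localization.AtPrime M) = N := by
  rw [IsLocalization.AtPrime.ringKrullDim_eq_height M (Localization.AtPrime M)]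
  have h := (PrimeSpectrum.height_eq_orderHeight ⟨M, hM.isPrime⟩).trans
    (SmoothDim.height_maximal_mvPolynomial k N ⟨M, hM.isPrime⟩ hM)
  exact congrArg _ h

include hmsp in
/-- The top cohomology of a weighted polynomial ring ends in degree `-Σ w`. -/
theorem top_degree (hw : ∀ i, 0 < w i) :
    (∀ g, -(∑ i, w i) < g → HVan m (gmodPieces 𝕎 𝕎) N g) ∧ ¬ HVan m (gmodPieces 𝕎 𝕎) N (-(∑ i, w i)) := by
  classical
  let X := gmodPieces 𝕎 𝕎
  haveI : Module.Finite (MvPolynomial (Fin N) k) X.carrier :=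
    inferInstanceAs (Module.Finite (MvPolynomial (Fin N) k) (MvPolynomial (Fin N) k))
  let l : List (MvPolynomial (Fin N) k × ℤ) := List.ofFn fun i => (MvPolynomial.X i, w i)
  have hfst : l.map Prod.fst = List.ofFn (MvPolynomial.X : Fin N → MvPolynomial (Fin N) k) := by
    simp [l, List.map_ofFn, Function.comp_def]
  have hsnd : (l.map Prod.snd).sum = ∑ i, w i := by
    simp [l, List.map_ofFn, Function.comp_def, List.sum_ofFn]
  have hlen : l.length = N := by simp [l]
  have hspan : (Ideal.ofList (l.map Prod.fst)) • (⊤ : Submodule (MvPolynomial (Fin N) k) (MvPolynomial (Fin N) k)) =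
      m.toIdeal := by
    rw [smul_eq_mul, Ideal.mul_top, hfst, toIdeal_eq_ker k w m hmsp hw]
    refine le_antisymm (Ideal.span_le.2 fun p hp => ?_) fun p hp => ?_
    · obtain ⟨j, rfl⟩ := List.mem_ofFn.1 hp
      exact constantCoeff_X (R := k) j
    · rw [RingHom.mem_ker, constantCoeff_eq] at hp
      have : p ∈ Ideal.span (MvPolynomial.X '' (Set.univ : Set (Fin N))) := by
        rw [mem_ideal_span_X_image]
        intro d hd
        by_contra h
        push Not at h
        rw [show d = 0 from Finsupp.ext fun j => h j trivial] at hd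
        exact mem_support_iff.1 hd hp
      refine Ideal.span_mono ?_ this
      rintro _ ⟨j, -, rfl⟩
      exact List.mem_ofFn.2 ⟨j, rfl⟩
  obtain ⟨-, h2, h3⟩ := hVan_regular_top (a := m) l X
    (fun p hp => by
      obtain ⟨i, rfl⟩ := List.mem_ofFn.1 hp
      exact ⟨isWeightedHomogeneous_X k w i, (hw i).le,
        hmsp.ge (Ideal.subset_span (Set.mem_biUnion (Set.mem_Ioi.2 (hw i)) (isWeightedHomogeneous_X k w i)))⟩)
    (hfst ▸ isWeaklyRegular_X k N)
    (fun (p : MvPolynomial (Fin N) k) => ⟨1, fun r hr => hspan.ge (m.toIdeal.mul_mem_right p (by rwa [pow_one] at hr))⟩) 0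
    (fun g hg p hp => hspan.ge (hmsp.ge (Ideal.subset_span (Set.mem_biUnion (Set.mem_Ioi.2 hg) hp))))
    ⟨(1 : MvPolynomial (Fin N) k), isWeightedHomogeneous_one k w, fun h => by
      have h1 := hspan.le h
      rw [toIdeal_eq_ker k w m hmsp hw, RingHom.mem_ker, map_one] at h1
      exact one_ne_zero h1⟩
  rw [hlen, hsnd, zero_sub] at h2 h3
  exact ⟨h2, h3⟩

include hmsp in
/-- The *canonical module of a weighted polynomial ring. -/
theorem canonical (hw : ∀ i, 0 < w i) (hm : GrLC.IsStarLocal 𝕎 m) (I : GrLC.StarInjRes 𝕎 𝕎)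
    {E' : Type u} [AddCommGroup E'] [Module (MvPolynomial (Fin N) k) E'] {𝓔 : ℤ → AddSubgroup E'}
    [Decomposition 𝓔] [SetLike.GradedSMul 𝕎 𝓔] {e : (MvPolynomial (Fin N) k ⧸ m.toIdeal) →ₗ[MvPolynomial (Fin N) k] E'}
    (he : GrLC.IsStarInjHull 𝕎 (GrLC.quotGr 𝕎 m) 𝓔 e)
    {C' : Type u} [AddCommGroup C'] [Module (MvPolynomial (Fin N) k) C'] {𝒞 : ℤ → AddSubgroup C'} [Decomposition 𝒞]
    [SetLike.GradedSMul 𝕎 𝒞] (hC : GrLC.IsStarCanonical 𝕎 𝒞 𝓔 m N I) :
    ∃ f : MvPolynomial (Fin N) k →ₗ[MvPolynomial (Fin N) k] C',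
      Function.Bijective f ∧ GrLC.IsGrHomDeg 𝕎 𝒞 f (∑ i, w i) := by
  classical
  haveI := isMaximal k w m hmsp hw
  haveI : LocCoh.IsCohenMacaulayRing (MvPolynomial (Fin N) k) := PlLib.isCM_mvPolynomial k N
  haveI := hC.1
  obtain ⟨a, f, hf, hfg⟩ := Canon.exists_shift_equiv' hm (ringKrullDim_atPrime k m.toIdeal) he hC
    (LC.gorensteinRing_of_isRegularRing _)
  have hp := nonneg k w hw
  have hF := isField_deg0 k w hw
  have hinj := (isInjectiveHull_of_isStarInjHull_maximal m 𝓔 e he).isInjective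
  obtain ⟨h2, h3⟩ := top_degree k w m hmsp hw
  refine ⟨f, hf, ?_⟩
  suffices a = ∑ i, w i by rwa [← this]
  have h1a : f 1 ∈ 𝒞 a := by simpa using hfg 0 1 (SetLike.one_mem_graded 𝕎)
  refine le_antisymm ?_ ?_
  · -- the top degree is reached
    by_contra hlt
    refine h3 (hVan_of_pieces_res I |>.2 ?_)
    obtain ⟨E₂⟩ := Canon.exists_comp_dual hp hmsp hF he hC hinj (-(∑ i, w i))
    have hsub : ∀ c : GrLC.comp 𝕎 𝒞 (-(-(∑ i, w i))), c = 0 := fun c => by
      have hc : (c : C') ∈ 𝒞 (∑ i, w i) := (show 𝒞 (-(-(∑ i, w i))) = 𝒞 (∑ i, w i) by rw [neg_neg]) ▸ (c.2 : (c : C') ∈ 𝒞 (-(-(∑ i, w i))))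
      obtain ⟨p, hp'⟩ := hf.2 (c : C')
      refine Subtype.ext ?_
      obtain ⟨q, hq, hqc⟩ := exists_preimage_mem (ℳ := 𝕎) (𝒩 := 𝒞) f hfg hc ⟨p, hp'⟩
      rw [← hqc, hp _ (by omega) q hq, map_zero]
      rfl
    refine (Submodule.eq_bot_iff _).2 fun y hy => ?_
    have h0 : E₂ ⟨y, hy⟩ = 0 := LinearMap.ext fun c => by rw [hsub c, map_zero, map_zero]
    exact congrArg Subtype.val (E₂.map_eq_zero_iff.1 h0)
  · by_contra hlt
    have hbot : I.Hcomp m N (-a) = ⊥ := (hVan_of_pieces_res I).1 (h2 _ (by omega))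
    letI := hF.toField
    haveI := finite_comp 𝕎 hp 𝒞 (- -a)
    have h := Canon.finrank_comp_eq hp hmsp hF he hC hinj (-a)
    rw [hbot, finrank_bot, eq_comm, Module.finrank_zero_iff] at h
    have h1 : (⟨f 1, show f 1 ∈ 𝒞 (- -a) by rwa [neg_neg]⟩ : GrLC.comp 𝕎 𝒞 (- -a)) = 0 := h.elim _ _
    exact one_ne_zero (hf.1 ((congrArg Subtype.val h1).trans (map_zero f).symm))

end Groth.Agent.GrLib8.Weighted
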